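import Cfsg.Agent.Lib.HallJankoType.Alt5

/-!
Groups of `J₃` type: facts on the even permutations of five points.
-/

set_option autoImplicit false
set_option maxRecDepth 100000

namespace CfsgLib.J3Type

open Equiv
open CfsgLib.HallJankoType (IsInv5)

/-- An even permutation of order `n`, `n` prime. -/
def IsRot (n : ℕ) (σ : Perm (Fin 5)) : Prop := Perm.sign σ = 1 ∧ σ ^ n = 1 ∧ σ ≠ 1

instance (n : ℕ) (σ : Perm (Fin 5)) : Decidable (IsRot n σ) := by unfold IsRot; infer_instance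

theorem even_orders : ∀ σ : Perm (Fin 5), Perm.sign σ = 1 → σ * σ = 1 ∨ σ ^ 3 = 1 ∨ σ ^ 5 = 1 := by decide +kernel

theorem inv_prod : ∀ σ : Perm (Fin 5), IsInv5 σ → ∀ τ, IsInv5 τ → σ * τ ≠ τ * σ →
    IsRot 3 (σ * τ) ∨ IsRot 5 (σ * τ) := by decide +kernel

theorem exists_inv_prod : (∃ σ : Perm (Fin 5), IsInv5 σ ∧ ∃ τ, IsInv5 τ ∧ IsRot 3 (σ * τ)) ∧
    (∃ σ : Perm (Fin 5), IsInv5 σ ∧ ∃ τ, IsInv5 τ ∧ IsRot 5 (σ * τ)) := by decide +kernel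

theorem rot3_cent : ∀ a : Perm (Fin 5), IsRot 3 a → ∀ ρ, Perm.sign ρ = 1 → ρ * a = a * ρ →
    ρ = 1 ∨ ρ = a ∨ ρ = a * a := by decide +kernel

theorem rot5_cent : ∀ a : Perm (Fin 5), IsRot 5 a → ∀ ρ, Perm.sign ρ = 1 → ρ * a = a * ρ →
    ρ = 1 ∨ ρ = a ∨ ρ = a * a ∨ ρ = a * a * a ∨ ρ = a * a * a * a := by decide +kernel

theorem rot_inverter : (∀ a : Perm (Fin 5), IsRot 3 a → ∃ σ, IsInv5 σ ∧ σ * a * σ = a⁻¹) ∧
    (∀ a : Perm (Fin 5), IsRot 5 a → ∃ σ, IsInv5 σ ∧ σ * a * σ = a⁻¹) := by decide +kernel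

theorem rot5_norm : ∀ a : Perm (Fin 5), IsRot 5 a → ∀ ρ, Perm.sign ρ = 1 →
    ρ * a * ρ⁻¹ ≠ a * a ∧ ρ * a * ρ⁻¹ ≠ a * a * a := by decide +kernel

theorem no_fifteen : ∀ a : Perm (Fin 5), IsRot 3 a → ∀ b, IsRot 5 b →
    a * b * a⁻¹ ≠ b ∧ a * b * a⁻¹ ≠ b * b ∧ a * b * a⁻¹ ≠ b * b * b ∧ a * b * a⁻¹ ≠ b * b * b * b := by decide +kernel

set_option synthInstance.maxSize 2000 in
set_option synthInstance.maxHeartbeats 400000 in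
theorem three_four_gen : ∀ a : Perm (Fin 5), IsRot 3 a → ∀ σ, IsInv5 σ → σ * a * σ = a⁻¹ → ∀ τ, IsInv5 τ →
    σ * τ = τ * σ → σ ≠ τ → IsRot 5 (a * τ) ∨ IsRot 5 (a * σ * τ) ∨ IsRot 5 (a * a * τ) := by decide +kernel

end CfsgLib.J3Type
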