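import Cfsg.Agent.Lib.J3Type.A5
import Cfsg.Agent.Lib.Triangle235

/-!
Lifting a relation of `A₅` through an elementary abelian kernel without fixed points of elements of order five.
-/

set_option autoImplicit false
set_option maxRecDepth 100000

namespace CfsgLib.J3Type.A5Lift

open Equiv
open CfsgLib.HallJankoType (IsInv5)

/-- The position of the generators in `A₅`. -/
def Pattern (a w e : Perm (Fin 5)) : Prop :=
  IsInv5 a ∧ IsInv5 w ∧ IsRot 3 e ∧ w * e * w = e⁻¹ ∧ (a * w) ^ 3 = 1 ∧ (e * a) ^ 3 = 1 ∧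
    IsRot 5 (a * (w * e)) ∧ IsRot 5 ((e * a)⁻¹ * w) ∧ IsRot 3 (e * a)

instance (a w e : Perm (Fin 5)) : Decidable (Pattern a w e) := by unfold Pattern; infer_instance

variable {M : Type*} [Group M] [Finite M]

theorem range_top {p : M →* Perm (Fin 5)} (hsign : ∀ x, Perm.sign (p x) = 1) (Y : Subgroup M) {x y w : M}
    (hx : x ∈ Y) (hy : y ∈ Y) (hw : w ∈ Y) (h3 : IsRot 3 (p x)) (h5 : IsRot 5 (p y)) (h2 : IsInv5 (p w)) :
    Y.map p = alternatingGroup (Fin 5) := by
  have hle : Y.map p ≤ alternatingGroup (Fin 5) := by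
    rintro _ ⟨g, -, rfl⟩
    exact Perm.mem_alternatingGroup.mpr (hsign g)
  have hdvd : ∀ {g : M} {n : ℕ}, n.Prime → g ∈ Y → p g ^ n = 1 → p g ≠ 1 → n ∣ Nat.card ↥(Y.map p) :=
    fun {g n} hn hg h1 h2 => by
    haveI : Fact n.Prime := ⟨hn⟩
    rw [← orderOf_eq_prime h1 h2]
    exact Subgroup.orderOf_dvd_natCard _ ⟨g, hg, rfl⟩
  have d3 := hdvd Nat.prime_three hx h3.2.1 h3.2.2
  have d5 := hdvd Nat.prime_five hy h5.2.1 h5.2.2
  have d2 := hdvd Nat.prime_two hw (by rw [pow_two]; exact h2.2.1) h2.2.2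
  have hA : Nat.card (alternatingGroup (Fin 5)) = 60 := by rw [Nat.card_eq_fintype_card]; rfl
  have hcard := Subgroup.card_dvd_of_le hle
  rw [hA] at hcard
  have h30 : 30 ∣ Nat.card ↥(Y.map p) := Nat.Coprime.mul_dvd_of_dvd_of_dvd (by norm_num : Nat.Coprime 6 5)
    (Nat.Coprime.mul_dvd_of_dvd_of_dvd (by norm_num : Nat.Coprime 2 3) d2 d3) d5
  refine Subgroup.eq_of_le_of_card_ge hle ?_
  rw [hA]
  by_contra hlt
  have h30' : Nat.card ↥(Y.map p) = 30 := by
    obtain ⟨k, hk⟩ := h30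
    obtain ⟨j, hj⟩ := hcard
    have : 0 < k := Nat.pos_of_ne_zero fun e => by rw [e, mul_zero] at hk; exact Nat.card_pos.ne' hk
    omega
  have hidx : ((Y.map p).subgroupOf (alternatingGroup (Fin 5))).index = 2 := by
    have := Subgroup.card_mul_index ((Y.map p).subgroupOf (alternatingGroup (Fin 5)))
    rw [hA, Nat.card_congr (Subgroup.subgroupOfEquivOfLe hle).toEquiv, h30'] at this
    omega
  haveI := Subgroup.normal_of_index_eq_two hidx
  haveI := alternatingGroup.isSimpleGroup_five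
  rcases IsSimpleGroup.eq_bot_or_eq_top_of_normal ((Y.map p).subgroupOf (alternatingGroup (Fin 5))) inferInstance
    with hb | ht
  · rw [hb, Subgroup.index_bot, hA] at hidx
    omega
  · rw [ht, Subgroup.index_top] at hidx
    omega

/-- The lifted relation. -/
theorem lift_three (p : M →* Perm (Fin 5)) (hsign : ∀ x, Perm.sign (p x) = 1)
    (hker : ∀ x, p x = 1 → x * x = 1) (hfive : ∀ y, IsRot 5 (p y) → y ^ 5 = 1)
    (hfree : ∀ y x, IsRot 5 (p y) → p x = 1 → y * x = x * y → x = 1)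
    {a w e : M} (ha : a * a = 1) (hw : w * w = 1) (he : e ^ 3 = 1) (hea : (e * a) ^ 3 = 1)
    (hwe : w * e * w = e⁻¹) (hP : Pattern (p a) (p w) (p e)) : (a * w) ^ 3 = 1 := by
  obtain ⟨pa, pw, pe, pwe, paw, -, pawe, pyw, pr⟩ := hP
  rw [← map_mul] at pr
  rw [← map_mul, ← map_inv, ← map_mul] at pyw
  set r := e * a with hr
  set y := r⁻¹ * w with hy
  set Y := Subgroup.closure ({r, w} : Set M) with hY
  have hrY : r ∈ Y := Subgroup.subset_closure (by simp)
  have hwY : w ∈ Y := Subgroup.subset_closure (by simp)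
  have hyY : y ∈ Y := mul_mem (inv_mem hrY) hwY
  have himg := range_top hsign Y hrY hyY hwY pr pyw pw
  -- the triangle group
  have hcard : Nat.card ↥Y ≤ 60 := by
    obtain ⟨-, hle⟩ := CfsgLib.Triangle235.card_le (⟨r, hrY⟩ : ↥Y) ⟨y, hyY⟩ ⊥ bot_le
      (fun T hx hy' _ => by
        rw [eq_top_iff]
        rintro ⟨g, hg⟩ -
        have hsub : Y ≤ T.map Y.subtype := by
          refine (Subgroup.closure_le _).mpr ?_
          intro g' hg'
          rcases hg' with e1 | e1
          · exact ⟨_, hx, e1.symm⟩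
          · exact ⟨_, mul_mem hx hy', (show r * (r⁻¹ * w) = g' by rw [mul_inv_cancel_left]; exact e1.symm)⟩
        obtain ⟨g', hg', e'⟩ := hsub hg
        rwa [show (⟨g, hg⟩ : ↥Y) = g' from Subtype.ext e'.symm])
      (Subgroup.mem_bot.mpr (Subtype.ext hea)) (Subtype.ext (hfive y pyw))
      (Subgroup.mem_bot.mpr (Subtype.ext (by
        show (r * (r⁻¹ * w)) ^ 2 = 1
        rw [mul_inv_cancel_left, pow_two, hw])))
    rwa [Subgroup.card_bot, mul_one] at hle
  have hinj : ∀ g ∈ Y, p g = 1 → g = 1 := by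
    let q : ↥Y →* Perm (Fin 5) := p.comp Y.subtype
    have hrange : q.range = alternatingGroup (Fin 5) := by
      rw [MonoidHom.range_comp, Subgroup.range_subtype, himg]
    have hA : Nat.card q.range = 60 := by rw [hrange, Nat.card_eq_fintype_card]; rfl
    have hk : q.ker = ⊥ := by
      refine Subgroup.eq_bot_of_card_le _ ?_
      have := Subgroup.card_mul_index q.ker
      rw [Subgroup.index_ker, hA] at this
      omega
    intro g hg e'
    have : (⟨g, hg⟩ : ↥Y) ∈ q.ker := e'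
    rw [hk, Subgroup.mem_bot] at this
    exact congrArg Subtype.val this
  obtain ⟨ê, hêY, hpê⟩ : p e ∈ Y.map p := himg ▸ Perm.mem_alternatingGroup.mpr (hsign e)
  set â := ê⁻¹ * r with hâ
  have hâY : â ∈ Y := mul_mem (inv_mem hêY) hrY
  have hpâ : p â = p a := by rw [hâ, map_mul, map_inv, hpê, hr, map_mul, inv_mul_cancel_left]
  have hââ : â * â = 1 := hinj _ (mul_mem hâY hâY) (by rw [map_mul, hpâ, pa.2.1])
  have hâw : (â * w) ^ 3 = 1 := hinj _ (pow_mem (mul_mem hâY hwY) 3) (by rw [map_pow, map_mul, hpâ, paw])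
  have hêw : w * ê * w = ê⁻¹ := by
    refine eq_inv_of_mul_eq_one_left (hinj _ (mul_mem (mul_mem (mul_mem hwY hêY) hwY) hêY) ?_)
    rw [map_mul, map_mul, map_mul, hpê, pwe, inv_mul_cancel]
  set μ := ê⁻¹ * e with hμ
  have hpμ : p μ = 1 := by rw [hμ, map_mul, map_inv, hpê, inv_mul_cancel]
  have hμμ := hker μ hpμ
  have hμi : μ⁻¹ = μ := inv_eq_of_mul_eq_one_right hμμ
  have haμ : a = μ⁻¹ * â := by rw [hμ, hâ, hr]; group
  have c1 : Commute â μ := by
    have h1 : μ * â * μ * â = 1 := by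
      calc μ * â * μ * â = μ⁻¹ * â * (μ⁻¹ * â) := by rw [hμi]; group
        _ = 1 := by rw [← haμ, ha]
    show â * μ = μ * â
    calc â * μ = μ * (μ * â * μ * â) * â⁻¹ := by rw [show μ * (μ * â * μ * â) = (μ * μ) * â * μ * â by group, hμμ]; group
      _ = μ * â := by rw [h1, mul_one, inv_eq_of_mul_eq_one_right hââ]
  have c2 : Commute (w * ê) μ := by
    have hwμ : w * μ * w = ê * μ * ê⁻¹ := by
      have h2 : w * (ê * μ) * w = (ê * μ)⁻¹ := by rw [hμ, mul_inv_cancel_left]; exact hwe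
      rw [mul_inv_rev, hμi] at h2
      calc w * μ * w = (w * ê * w)⁻¹ * (w * (ê * μ) * w) := by
            rw [mul_inv_rev, mul_inv_rev, inv_eq_of_mul_eq_one_right hw]
            rw [show w * (ê⁻¹ * w) * (w * (ê * μ) * w) = w * ê⁻¹ * (w * w) * (ê * μ) * w by group, hw]; group
        _ = ê * μ * ê⁻¹ := by rw [hêw, h2, inv_inv, ← mul_assoc]
    show w * ê * μ = μ * (w * ê)
    calc w * ê * μ = w * (ê * μ * ê⁻¹) * ê := by group
      _ = w * (w * μ * w) * ê := by rw [hwμ]
      _ = w * w * μ * (w * ê) := by group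
      _ = μ * (w * ê) := by rw [hw, one_mul]
  have hμ1 : μ = 1 := hfree (â * (w * ê)) μ
    (by rw [map_mul p â, map_mul p w, hpâ, hpê]; exact pawe) hpμ (c1.mul_left c2).eq
  rw [haμ, hμ1, inv_one, one_mul]
  exact hâw

end CfsgLib.J3Type.A5Lift
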