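import Mathlib

/-!
Groups of `J₃` type: facts on the even permutations of six points.
-/

set_option autoImplicit false
set_option maxRecDepth 100000

namespace CfsgLib.J3Type.AltSix

open Equiv

/-- A double transposition. -/
abbrev u₀ : Perm (Fin 6) := swap 0 1 * swap 2 3

/-- A five-cycle. -/
abbrev f₀ : Perm (Fin 6) := swap 0 1 * swap 1 2 * swap 2 3 * swap 3 4

/-- A three-cycle. -/
abbrev e₀ : Perm (Fin 6) := swap 0 1 * swap 1 2

/-- A product of two three-cycles. -/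
abbrev d₀ : Perm (Fin 6) := swap 0 1 * swap 1 2 * (swap 3 4 * swap 4 5)

theorem rep_types : u₀.cycleType = {2, 2} ∧ f₀.cycleType = {5} ∧ e₀.cycleType = {3} ∧ d₀.cycleType = {3, 3} := by
  decide +kernel

theorem two_cases {u : Perm (Fin 6)} (hu : u * u = 1) (h1 : u ≠ 1) (hs : Perm.sign u = 1) : IsConj u₀ u := by
  have ho : orderOf u = 2 := orderOf_eq_prime (by rw [pow_two, hu]) h1
  obtain ⟨k, hk⟩ := Perm.cycleType_prime_order (σ := u) (ho ▸ Nat.prime_two)
  rw [ho] at hk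
  have hsum : (Multiset.replicate (k + 1) 2).sum ≤ 6 := by
    rw [← hk, Perm.sum_cycleType]
    simpa using u.support.card_le_univ
  rw [Perm.sign_of_cycleType, hk] at hs
  simp only [Multiset.sum_replicate, Multiset.card_replicate, smul_eq_mul] at hsum hs
  have hk3 : k ≤ 2 := by omega
  rw [Perm.isConj_iff_cycleType_eq, rep_types.1, hk]
  interval_cases k
  · revert hs; decide
  · rfl
  · revert hs; decide

theorem five_cases {f : Perm (Fin 6)} (hf : f ^ 5 = 1) (h1 : f ≠ 1) : IsConj f₀ f := by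
  haveI : Fact (Nat.Prime 5) := ⟨Nat.prime_five⟩
  have ho : orderOf f = 5 := orderOf_eq_prime hf h1
  obtain ⟨k, hk⟩ := Perm.cycleType_prime_order (σ := f) (ho ▸ Nat.prime_five)
  rw [ho] at hk
  have hsum : (Multiset.replicate (k + 1) 5).sum ≤ 6 := by
    rw [← hk, Perm.sum_cycleType]
    simpa using f.support.card_le_univ
  simp only [Multiset.sum_replicate, smul_eq_mul] at hsum
  rw [Perm.isConj_iff_cycleType_eq, rep_types.2.1, hk, show k = 0 by omega]
  rfl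

theorem three_cases {e : Perm (Fin 6)} (he : e ^ 3 = 1) (h1 : e ≠ 1) : IsConj e₀ e ∨ IsConj d₀ e := by
  haveI : Fact (Nat.Prime 3) := ⟨Nat.prime_three⟩
  have ho : orderOf e = 3 := orderOf_eq_prime he h1
  obtain ⟨k, hk⟩ := Perm.cycleType_prime_order (σ := e) (ho ▸ Nat.prime_three)
  rw [ho] at hk
  have hsum : (Multiset.replicate (k + 1) 3).sum ≤ 6 := by
    rw [← hk, Perm.sum_cycleType]
    simpa using e.support.card_le_univ
  simp only [Multiset.sum_replicate, smul_eq_mul] at hsum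
  simp only [Perm.isConj_iff_cycleType_eq, rep_types.2.2.1, rep_types.2.2.2, hk]
  rcases (show k = 0 ∨ k = 1 by omega) with rfl | rfl
  · exact Or.inl rfl
  · exact Or.inr rfl

theorem inv_count : ((Finset.univ : Finset (Perm (Fin 6))).filter fun u =>
    (∀ i, u (u i) = i) ∧ (∃ i, u i ≠ i) ∧ Perm.sign u = 1).card = 45 := by decide +kernel

theorem five_inverted : ((Finset.univ : Finset (Perm (Fin 6))).filter fun x =>
    (∀ i, u₀ (x (u₀ (x i))) = i) ∧ (∃ i, x i ≠ i) ∧ ∀ i, x (x (x (x (x i)))) = i).card = 16 := by decide +kernel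

theorem three_inverted : ((Finset.univ : Finset (Perm (Fin 6))).filter fun x =>
    (∀ i, u₀ (x (u₀ (x i))) = i) ∧ (∃ i, x i ≠ i) ∧ ∀ i, x (x (x i)) = i).card = 16 := by decide +kernel

theorem five_cent : ∀ g : Perm (Fin 6), (∀ i, g (f₀ i) = f₀ (g i)) →
    g = 1 ∨ g = f₀ ∨ g = f₀ * f₀ ∨ g = f₀ * f₀ * f₀ ∨ g = f₀ * f₀ * f₀ * f₀ := by decide +kernel

theorem five_norm : ∀ g : Perm (Fin 6), ((∀ i, g (f₀ i) = f₀ (f₀ (g i))) ∨ ∀ i, g (f₀ i) = f₀ (f₀ (f₀ (g i)))) →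
    Perm.sign g ≠ 1 := by decide +kernel

theorem three_cent : (((Finset.univ : Finset (Perm (Fin 6))).filter fun g =>
      (∀ i, g (e₀ i) = e₀ (g i)) ∧ Perm.sign g = 1).card = 9) ∧
    ((Finset.univ : Finset (Perm (Fin 6))).filter fun g =>
      (∀ i, g (d₀ i) = d₀ (g i)) ∧ Perm.sign g = 1).card = 9 := by decide +kernel

theorem inverters_count : (((Finset.univ : Finset (Perm (Fin 6))).filter fun u =>
      (∀ i, u (e₀ (u (e₀ i))) = i) ∧ (∀ i, u (u i) = i) ∧ Perm.sign u = 1).card = 9) ∧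
    ((Finset.univ : Finset (Perm (Fin 6))).filter fun u =>
      (∀ i, u (d₀ (u (d₀ i))) = i) ∧ (∀ i, u (u i) = i) ∧ Perm.sign u = 1).card = 9 := by decide +kernel

theorem cent_inverted : ∀ u : Perm (Fin 6), (∀ i, u (u i) = i) → ((∀ i, u (e₀ (u (e₀ i))) = i) ∨ ∀ i, u (d₀ (u (d₀ i))) = i) →
    Perm.sign u = 1 → ∀ g : Perm (Fin 6), ((∀ i, g (e₀ i) = e₀ (g i)) ∧ (∀ i, u (e₀ (u (e₀ i))) = i) ∨
      (∀ i, g (d₀ i) = d₀ (g i)) ∧ ∀ i, u (d₀ (u (d₀ i))) = i) → Perm.sign g = 1 →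
    (∀ i, g (g (g i)) = i) ∧ ∀ i, u (g (u (g i))) = i := by decide +kernel

theorem orders : ∀ g : Perm (Fin 6), Perm.sign g = 1 →
    (∀ i, g (g (g i)) = i) ∨ (∀ i, g (g (g (g i))) = i) ∨ ∀ i, g (g (g (g (g i)))) = i := by decide +kernel

end CfsgLib.J3Type.AltSix
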