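import Mathlib.Tactic
import Mathlib.Algebra.Order.BigOperators.Group.List

/-!
Groups of `J₃` type: the arithmetic of the counting equation for the index of the centraliser.

An item `(a, u)` stands for one orbit of inverted abelian subgroups: the order `a` and the number `u` of
subgroups in the orbit, so that it contributes `u * (a - 1)` to the index.
-/

set_option autoImplicit false
set_option maxRecDepth 100000

namespace CfsgLib.J3Type.Arith

/-- The divisors `1920 / k` of `1920` for even `k`. -/
def multA : List ℕ := [1, 2, 3, 4, 5, 6, 8, 10, 12, 15, 16, 20, 24, 30, 32, 40, 48, 60, 64, 80, 96, 120, 160, 192, 240, 320, 480, 960]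

/-- The divisors `1920 / k` of `1920` for `k` divisible by six. -/
def multM : List ℕ := [1, 2, 4, 5, 8, 10, 16, 20, 32, 40, 64, 80, 160, 320]

/-- The part of `a` prime to three. -/
def threeFree : ℕ → ℕ → ℕ
  | 0, a => a
  | fuel + 1, a => if a % 3 = 0 then threeFree fuel (a / 3) else a

theorem threeFree_spec : ∀ (fuel a : ℕ), 0 < a → a ≤ fuel →
    ∃ v : ℕ, a = 3 ^ v * threeFree fuel a ∧ ¬ 3 ∣ threeFree fuel a
  | 0, a, h1, h2 => absurd h1 (by omega)
  | fuel + 1, a, h1, h2 => by
    rw [threeFree]
    split_ifs with h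
    · obtain ⟨v, hv, hn⟩ := threeFree_spec fuel (a / 3) (by omega) (by omega)
      refine ⟨v + 1, ?_, hn⟩
      rw [pow_succ', mul_assoc, ← hv]
      omega
    · exact ⟨0, by simp, by omega⟩

/-- All numbers in a range satisfy a condition. -/
def rangeAll (f : ℕ → Bool) : ℕ → ℕ → Bool
  | 0, _ => true
  | k + 1, s => f s && rangeAll f k (s + 1)

theorem rangeAll_spec {f : ℕ → Bool} : ∀ {k s : ℕ}, rangeAll f k s = true → ∀ {c : ℕ}, s ≤ c → c < s + k → f c = true
  | 0, _, _, _, h1, h2 => absurd h1 (by omega)
  | k + 1, s, h, c, h1, h2 => by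
    rw [rangeAll, Bool.and_eq_true] at h
    rcases h1.lt_or_eq with h3 | rfl
    · exact rangeAll_spec h.2 h3 (by omega)
    · exact h.1

/-- The static condition on an item prime to `bad`. -/
def okA (bad a u : ℕ) : Bool :=
  Nat.ble 7 a && Nat.beq (a % 2) 1 && Nat.beq (Nat.gcd a bad) 1 && Nat.beq (u * (a - 1) % 1920) 0

/-- The static condition on the item with order divisible by three. -/
def okM (a u : ℕ) : Bool :=
  Nat.ble 3 a && Nat.beq (a % 3) 0 && Nat.beq (a % 2) 1 && !(Nat.beq (a % 5) 0) &&
    Nat.beq (u * (a - 1) % 1920) 640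

/-- The candidate multiplicities. -/
def mults : Bool → List ℕ
  | true => multM
  | false => multA

/-- The static condition, by kind. -/
def ok (bad : ℕ) : Bool → ℕ → ℕ → Bool
  | true, a, u => okM a u
  | false, a, u => okA bad a u

/-- The kinds of a next item. -/
def kinds : Bool → List Bool
  | true => [true, false]
  | false => [false]

/-- The modulus of the congruence of an item. -/
def modulus : Bool → ℕ → ℕ
  | true, a => threeFree a a
  | false, a => a

/-- The congruence condition of an item at the index `n`. -/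
def congr (n : ℕ) (m : Bool) (a u : ℕ) : Bool :=
  Nat.beq (n % a) 0 && Nat.beq (n / a * u % modulus m a) (1 % modulus m a)

/-- The leaf: a candidate index is the expected one or fails a condition. -/
def leaf (extra : ℕ → Bool) (n : ℕ) (items : List (Bool × ℕ × ℕ)) : Bool :=
  !(extra n && items.all fun i => congr n i.1 i.2.1 i.2.2) || Nat.beq n 26163

/-- The search over increasing lists of items. -/
def search (bad : ℕ) (extra : ℕ → Bool) : ℕ → Bool → ℕ → ℕ → ℕ → List (Bool × ℕ × ℕ) → Bool
  | 0, _, _, _, _, _ => true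
  | left + 1, needM, S, Q, lo, items =>
    ((mults needM).all fun u => rangeAll (fun c =>
      !(Nat.ble (u + 1) (Q * c) && Nat.beq ((S - u) % (Q * c - u)) 0) ||
        !(Nat.ble lo ((S - u) / (Q * c - u)) && ok bad needM ((S - u) / (Q * c - u)) u) ||
          leaf extra (S + u * ((S - u) / (Q * c - u) - 1)) ((needM, (S - u) / (Q * c - u), u) :: items))
        (((S - u) / lo + u) / Q - u / Q) (u / Q + 1)) &&
    (Nat.beq left 0 || rangeAll (fun a =>
      !(Nat.beq (a % 2) 1 && Nat.ble (Q * a) (S / a + 1920) && items.all (fun i => Nat.beq (Nat.gcd a i.2.1) 1)) ||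
        (kinds needM).all fun m => (mults m).all fun u =>
          !(ok bad m a u) || search bad extra left (needM && !m) (S + u * (a - 1)) (Q * a) (a + 1) ((m, a, u) :: items))
      ((S / lo + 1920) / Q + 1 - lo) lo)

/-- A list of items with increasing orders, each satisfying the static conditions, `n` being the index. -/
def Sys (bad n : ℕ) (extra : ℕ → Bool) (L : List (Bool × ℕ × ℕ)) : Prop :=
  L.Pairwise (fun i j => i.2.1 < j.2.1 ∧ Nat.gcd i.2.1 j.2.1 = 1) ∧
    (∀ i ∈ L, i.2.2 ∈ mults i.1 ∧ ok bad i.1 i.2.1 i.2.2 = true ∧ congr n i.1 i.2.1 i.2.2 = true) ∧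
    extra n = true

/-- The contribution of a list of items. -/
def total (L : List (Bool × ℕ × ℕ)) : ℕ := (L.map fun i => i.2.2 * (i.2.1 - 1)).sum

/-- The product of the orders. -/
def prodA (L : List (Bool × ℕ × ℕ)) : ℕ := (L.map fun i => i.2.1).prod

theorem total_cons (i : Bool × ℕ × ℕ) (L : List (Bool × ℕ × ℕ)) : total (i :: L) = i.2.2 * (i.2.1 - 1) + total L := rfl

theorem prodA_cons (i : Bool × ℕ × ℕ) (L : List (Bool × ℕ × ℕ)) : prodA (i :: L) = i.2.1 * prodA L := rfl

theorem mult_bounds {m : Bool} {u : ℕ} (h : u ∈ mults m) : 0 < u ∧ u ≤ 960 := by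
  cases m <;> simp only [mults, multA, multM, List.mem_cons, List.not_mem_nil, or_false] at h <;> omega

theorem mults_false : (mults false).toFinset = Nat.divisors 960 := by decide +kernel

theorem mults_true : (mults true).toFinset = Nat.divisors 320 := by decide +kernel

theorem mem_mults_false {u : ℕ} : u ∈ mults false ↔ u ∣ 960 := by
  rw [← List.mem_toFinset, mults_false, Nat.mem_divisors]
  exact and_iff_left (by norm_num)

theorem mem_mults_true {u : ℕ} : u ∈ mults true ↔ u ∣ 320 := by
  rw [← List.mem_toFinset, mults_true, Nat.mem_divisors]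
  exact and_iff_left (by norm_num)

theorem ok_iff_false {bad a u : ℕ} : ok bad false a u = true ↔
    7 ≤ a ∧ a % 2 = 1 ∧ Nat.gcd a bad = 1 ∧ u * (a - 1) % 1920 = 0 := by
  simp only [ok, okA, Bool.and_eq_true, Nat.ble_eq, Nat.beq_eq, and_assoc]

theorem ok_iff_true {bad a u : ℕ} : ok bad true a u = true ↔
    3 ≤ a ∧ a % 3 = 0 ∧ a % 2 = 1 ∧ a % 5 ≠ 0 ∧ u * (a - 1) % 1920 = 640 := by
  simp only [ok, okM, Bool.and_eq_true, Nat.ble_eq, Nat.beq_eq, Bool.not_eq_true', and_assoc,
    Bool.eq_false_iff, ne_eq]

theorem ok_three {bad : ℕ} {m : Bool} {a u : ℕ} (h : ok bad m a u = true) : 3 ≤ a := by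
  cases m
  · exact le_trans (by norm_num) (ok_iff_false.mp h).1
  · exact (ok_iff_true.mp h).1

theorem ok_odd {bad : ℕ} {m : Bool} {a u : ℕ} (h : ok bad m a u = true) : a % 2 = 1 := by
  cases m
  · exact (ok_iff_false.mp h).2.1
  · exact (ok_iff_true.mp h).2.2.1

/-- An upper bound for the contribution by the largest order. -/
theorem total_le {L : List (Bool × ℕ × ℕ)} {b : ℕ} (hu : ∀ i ∈ L, i.2.2 ≤ 960) (hb : ∀ i ∈ L, i.2.1 ≤ b) :
    total L ≤ 960 * L.length * b := by
  induction L with
  | nil => simp [total]
  | cons i L ih =>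
    have h1 := ih (fun j hj => hu j (List.mem_cons_of_mem _ hj)) (fun j hj => hb j (List.mem_cons_of_mem _ hj))
    have h2 : i.2.2 * (i.2.1 - 1) ≤ 960 * b :=
      Nat.mul_le_mul (hu i List.mem_cons_self) ((Nat.sub_le _ _).trans (hb i List.mem_cons_self))
    rw [total_cons, List.length_cons]
    calc i.2.2 * (i.2.1 - 1) + total L ≤ 960 * b + 960 * L.length * b := Nat.add_le_add h2 h1
      _ = 960 * (L.length + 1) * b := by ring

/-- A lower bound for the product of orders by the largest one. -/
theorem prod_ge {L : List (Bool × ℕ × ℕ)} {a : ℕ} (ha : ∀ i ∈ L, a ≤ i.2.1) {b : Bool × ℕ × ℕ} (hb : b ∈ L) :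
    b.2.1 * a ^ (L.length - 1) ≤ prodA L := by
  induction L with
  | nil => simp at hb
  | cons i L ih =>
    rw [prodA_cons, List.length_cons, Nat.add_sub_cancel]
    have hpow : ∀ M : List (Bool × ℕ × ℕ), (∀ x ∈ M, a ≤ x.2.1) → a ^ M.length ≤ prodA M := fun M hM => by
      induction M with
      | nil => simp [prodA]
      | cons x M ihM =>
        rw [prodA_cons, List.length_cons, pow_succ, Nat.mul_comm]
        exact Nat.mul_le_mul (hM x List.mem_cons_self) (ihM fun y hy => hM y (List.mem_cons_of_mem _ hy))
    rcases List.mem_cons.mp hb with rfl | hb'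
    · exact Nat.mul_le_mul_left _ (hpow L fun x hx => ha x (List.mem_cons_of_mem _ hx))
    · obtain ⟨r, hr⟩ : ∃ r, L.length = r + 1 := Nat.exists_eq_add_one.mpr (List.length_pos_of_mem hb')
      have := ih (fun x hx => ha x (List.mem_cons_of_mem _ hx)) hb'
      rw [hr, Nat.add_sub_cancel] at this
      rw [hr, pow_succ, show b.2.1 * (a ^ r * a) = a * (b.2.1 * a ^ r) by ring]
      exact Nat.mul_le_mul (ha i List.mem_cons_self) this

/-- The search is sound. -/
theorem search_sound {bad n : ℕ} {extra : ℕ → Bool} : ∀ (left : ℕ) (needM : Bool) (S Q lo : ℕ)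
    (items L : List (Bool × ℕ × ℕ)), search bad extra left needM S Q lo items = true → L ≠ [] → L.length ≤ left →
    (∀ i ∈ L, lo ≤ i.2.1) → (L.countP (fun i => i.1) = if needM then 1 else 0) →
    Sys bad n extra L → (∀ i ∈ items, congr n i.1 i.2.1 i.2.2 = true) →
    (∀ i ∈ L, ∀ j ∈ items, Nat.gcd i.2.1 j.2.1 = 1) →
    n = S + total L → Q * prodA L ∣ n → 0 < Q → 960 < S → 0 < lo → n = 26163 := by
  intro left
  induction left with
  | zero =>
    intro needM S Q lo items L _ hne hlen
    exact absurd (List.eq_nil_of_length_eq_zero (Nat.le_zero.mp hlen)) hne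
  | succ left ih =>
    intro needM S Q lo items L hs hne hlen hlo hM hsys hit hcop hn hdvd hQ hS hlo0
    simp only [search, Bool.and_eq_true, Bool.or_eq_true, List.all_eq_true, Nat.beq_eq] at hs
    obtain ⟨hlast, hmid⟩ := hs
    match L, hne with
    | [i], _ =>
      obtain ⟨m, b, u⟩ := i
      obtain ⟨hu, hok, hcg⟩ := hsys.2.1 _ List.mem_cons_self
      have hm : m = needM := by
        cases m <;> cases needM <;> simp at hM ⊢
      subst hm
      simp only [total_cons, total, List.map_nil, List.sum_cons, List.sum_nil, Nat.add_zero, prodA, List.map_cons, List.prod_cons,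
        List.prod_nil, Nat.mul_one] at hn hdvd
      obtain ⟨c, hc⟩ := hdvd
      have hb3 : 3 ≤ b := ok_three hok
      have hlob : lo ≤ b := hlo _ List.mem_cons_self
      have hub := mult_bounds hu
      simp only at hub
      obtain ⟨k, rfl⟩ := Nat.exists_eq_add_of_le (show 1 ≤ b by omega)
      simp only [Nat.add_sub_cancel_left] at hn
      have huc : u < Q * c := by
        by_contra hle
        have := Nat.mul_le_mul_right (1 + k) (Nat.le_of_not_lt hle)
        rw [show Q * c * (1 + k) = n by rw [hc]; ring, hn] at this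
        nlinarith
      obtain ⟨d, hd⟩ := Nat.exists_eq_add_of_le huc.le
      have key : S - u = d * (1 + k) := by
        have h1 : (u + d) * (1 + k) = S + u * k := by rw [← hd, ← hn, hc]; ring
        have h2 : u + d * (1 + k) = S := by
          have : u * k + (u + d * (1 + k)) = u * k + S := by rw [Nat.add_comm (u * k) S, ← h1]; ring
          omega
        omega
      have hd0 : 0 < d := by omega
      have hsub : Q * c - u = d := by omega
      have h1 : d ≤ (S - u) / lo := by
        rw [Nat.le_div_iff_mul_le hlo0, key]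
        exact Nat.mul_le_mul_left d hlob
      have hc1 : u / Q + 1 ≤ c := Nat.div_lt_of_lt_mul huc
      have hc2 : c ≤ ((S - u) / lo + u) / Q := by
        rw [Nat.le_div_iff_mul_le hQ, Nat.mul_comm]
        omega
      have hdiv : (S - u) / (Q * c - u) = 1 + k := by
        rw [hsub, key, Nat.mul_comm, Nat.mul_div_cancel _ hd0]
      have := rangeAll_spec (hlast u hu) hc1 (by omega)
      rw [hdiv, Nat.ble_eq.mpr huc, show Nat.beq ((S - u) % (Q * c - u)) 0 = true from
          Nat.beq_eq.mpr (by rw [hsub, key]; exact Nat.mul_mod_right _ _),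
        Nat.ble_eq.mpr hlob, hok, Nat.add_sub_cancel_left, ← hn] at this
      simp only [Bool.and_self, Bool.not_true, Bool.false_or, leaf, Bool.or_eq_true, Bool.not_eq_true',
        Bool.and_eq_false_imp, Nat.beq_eq] at this
      rcases this with hf | hf
      · have := hf hsys.2.2
        rw [List.all_eq_false] at this
        obtain ⟨j, hj, hjf⟩ := this
        rcases List.mem_cons.mp hj with rfl | hj'
        · exact absurd hcg hjf
        · exact absurd (hit j hj') hjf
      · exact hf
    | i :: j :: L', _ =>
      obtain ⟨m, a, u⟩ := i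
      have hleft : left ≠ 0 := fun e => by simp [e] at hlen
      have hmid' := hmid.resolve_left hleft
      obtain ⟨hu, hok, hcg⟩ := hsys.2.1 _ List.mem_cons_self
      have hp := List.pairwise_cons.mp hsys.1
      have hloa : lo ≤ a := hlo _ List.mem_cons_self
      have h3 : ∀ x ∈ (m, a, u) :: j :: L', 3 ≤ x.2.1 := fun x hx => ok_three (hsys.2.1 x hx).2.1
      obtain ⟨b, hbmem, hbmax⟩ : ∃ b ∈ j :: L', ∀ x ∈ j :: L', x.2.1 ≤ b.2.1 := by
        obtain ⟨b, hb, hbm⟩ := (j :: L').toFinset.exists_max_image (fun x => x.2.1) ⟨j, by simp⟩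
        exact ⟨b, List.mem_toFinset.mp hb, fun x hx => hbm x (List.mem_toFinset.mpr hx)⟩
      have hab : a < b.2.1 := (hp.1 b hbmem).1
      have hbound : Q * a ≤ S / a + 1920 := by
        have hr : 1 ≤ (j :: L').length := Nat.succ_pos _
        have h1 : Q * a * (b.2.1 * a ^ ((j :: L').length - 1)) ≤ n := by
          refine le_trans ?_ (Nat.le_of_dvd (by omega) hdvd)
          rw [prodA_cons, show Q * ((m, a, u).2.1 * prodA (j :: L')) = Q * a * prodA (j :: L') from (Nat.mul_assoc _ _ _).symm]
          exact Nat.mul_le_mul_left _ (prod_ge (a := a) (fun x hx => (hp.1 x hx).1.le) hbmem)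
        have h2 : total ((m, a, u) :: j :: L') ≤ 960 * ((j :: L').length + 1) * b.2.1 := by
          refine total_le (fun x hx => (mult_bounds (hsys.2.1 x hx).1).2) (b := b.2.1) fun x hx => ?_
          rcases List.mem_cons.mp hx with rfl | hx'
          · exact hab.le
          · exact hbmax x hx'
        by_contra hlt
        have ha1 : 1 < a := by have := h3 _ List.mem_cons_self; simp only at this; omega
        have h5 : S < (S / a + 1) * a := Nat.lt_mul_of_div_lt (Nat.lt_succ_self _) (by omega)
        have hpw : (j :: L').length + 1 ≤ 2 * a ^ ((j :: L').length - 1) := by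
          obtain ⟨r, hr'⟩ := Nat.exists_eq_add_of_le hr
          rw [hr', Nat.add_sub_cancel_left]
          have := Nat.lt_pow_self (n := r) ha1
          omega
        have hA : 1 ≤ a ^ ((j :: L').length - 1) := Nat.one_le_pow _ _ (by omega)
        generalize a ^ ((j :: L').length - 1) = A at h1 hpw hA
        have h6 : (S / a + 1921) * A ≤ Q * a * A := Nat.mul_le_mul_right _ (by omega)
        have h7 : (S / a + 1 + 960 * ((j :: L').length + 1)) ≤ Q * a * A := by nlinarith
        have h8 := Nat.mul_le_mul_right b.2.1 h7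
        nlinarith
      have hhi : a < lo + ((S / lo + 1920) / Q + 1 - lo) := by
        have : a ≤ (S / lo + 1920) / Q := by
          rw [Nat.le_div_iff_mul_le hQ, Nat.mul_comm]
          exact hbound.trans (Nat.add_le_add_right (Nat.div_le_div_left hloa hlo0) _)
        omega
      have hcop' : (items.all fun x => Nat.beq (Nat.gcd a x.2.1) 1) = true :=
        List.all_eq_true.mpr fun x hx => Nat.beq_eq.mpr (hcop _ List.mem_cons_self x hx)
      have := rangeAll_spec hmid' hloa hhi
      rw [show Nat.beq (a % 2) 1 = true from Nat.beq_eq.mpr (ok_odd hok), Nat.ble_eq.mpr hbound, hcop'] at this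
      simp only [Bool.and_self, Bool.not_true, Bool.false_or, List.all_eq_true] at this
      have hmin : m ∈ kinds needM := by
        cases m <;> cases needM <;> simp [kinds] at hM ⊢
      have := this m hmin u hu
      rw [hok, Bool.not_true, Bool.false_or] at this
      refine ih (needM && !m) (S + u * (a - 1)) (Q * a) (a + 1) ((m, a, u) :: items) (j :: L') this
        (List.cons_ne_nil _ _) (Nat.le_of_succ_le_succ hlen) (fun x hx => (hp.1 x hx).1) ?_
        ⟨hp.2, fun x hx => hsys.2.1 x (List.mem_cons_of_mem _ hx), hsys.2.2⟩ ?_ ?_ ?_ ?_ ?_ ?_ (Nat.succ_pos _)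
      · rw [List.countP_cons] at hM
        clear this
        cases m <;> cases needM <;>
          simp only [Bool.false_eq_true, if_false, if_true, Bool.and_false, Bool.and_true, Bool.not_false,
            Bool.not_true, Bool.false_and, Bool.true_and, Nat.add_zero] at hM ⊢ <;> omega
      · intro x hx
        rcases List.mem_cons.mp hx with rfl | hx'
        · exact hcg
        · exact hit x hx'
      · intro x hx y hy
        rcases List.mem_cons.mp hy with rfl | hy'
        · exact (Nat.gcd_comm _ _).trans (hp.1 x hx).2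
        · exact hcop x (List.mem_cons_of_mem _ hx) y hy'
      · rw [hn, total_cons]
        ring
      · rwa [Nat.mul_assoc, ← prodA_cons (m, a, u)]
      · exact Nat.mul_pos hQ (by have := h3 _ List.mem_cons_self; simp only at this; omega)
      · omega

end CfsgLib.J3Type.Arith
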