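import Cfsg.Agent.Lib.J3Type.Arith

/-!
Groups of `J₃` type: the searches for the counting equation.
-/

set_option autoImplicit false
set_option maxRecDepth 1000000
set_option maxHeartbeats 2000000

namespace CfsgLib.J3Type.Arith

/-- The condition in the case of an elementary Sylow three-subgroup of order nine. -/
def condL (n : ℕ) : Bool := n % 21 == 0 && (1920 * n / 126) % 7 == 1

theorem cert_one : ((List.range 13).all fun m =>
    search 30 (fun n => n % 27 == 0) 5 false (16563 + 1920 * m) 27 7 []) = true := by decide +kernel

theorem cert_three : search 30 (fun n => n % 9 == 0) 5 false 16563 9 7 [] = true := by decide +kernel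

theorem cert_M : search 30 (fun n => n % 9 == 0) 5 true 15923 1 7 [] = true := by decide +kernel

theorem cert_L : search 210 condL 5 false 19251 21 7 [] = true := by decide +kernel

theorem cert_L5 : ((List.range 3).all fun j => search 210 condL 5 false (17715 + 1920 * j) 21 7 []) = true := by
  decide +kernel

end CfsgLib.J3Type.Arith
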