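import Mathlib

/-!
Five commuting involutions with product one cannot all braid with one involution.
-/

set_option autoImplicit false

namespace CfsgLib.J3Type.Braid

variable {G : Type*} [Group G] {v : G}

theorem conj_comm' (g : G) {x y : G} (h : Commute x y) : Commute (g * x * g⁻¹) (g * y * g⁻¹) := by
  show g * x * g⁻¹ * (g * y * g⁻¹) = g * y * g⁻¹ * (g * x * g⁻¹)
  rw [show g * x * g⁻¹ * (g * y * g⁻¹) = g * (x * y) * g⁻¹ by group, h.eq]; group

theorem inv_of_sq {x : G} (h : x * x = 1) : x⁻¹ = x := inv_eq_of_mul_eq_one_right h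

theorem sq_mul {x y : G} (hx : x * x = 1) (hy : y * y = 1) (h : Commute x y) : x * y * (x * y) = 1 := by
  calc x * y * (x * y) = x * (y * x) * y := by group
    _ = x * (x * y) * y := by rw [h.eq]
    _ = x * x * (y * y) := by group
    _ = 1 := by rw [hx, hy, one_mul]

theorem comm_of_sq {x y : G} (hx : x * x = 1) (hy : y * y = 1) (h : x * y * (x * y) = 1) : Commute x y := by
  show x * y = y * x
  rw [← inv_of_sq h, mul_inv_rev, inv_of_sq hx, inv_of_sq hy]

/-- The product of two commuting involutions braiding with `v` commutes with its conjugate by `v`. -/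
theorem comm_conj {x y : G} (hv : v * v = 1) (hx : x * x = 1) (hy : y * y = 1) (hxy : Commute x y)
    (bx : v * x * v = x * v * x) (by' : v * y * v = y * v * y) : Commute (x * y) (v * (x * y) * v) := by
  have hn := sq_mul hx hy hxy
  have hn' : v * (x * y) * v * (v * (x * y) * v) = 1 := by
    calc v * (x * y) * v * (v * (x * y) * v) = v * (x * y) * (v * v) * (x * y) * v := by group
      _ = v * (x * y * (x * y)) * v := by rw [hv]; group
      _ = 1 := by rw [hn, mul_one, hv]
  refine comm_of_sq hn hn' ?_
  have h1 : v * (x * y) * v = x * v * (x * y) * v * y := by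
    calc v * (x * y) * v = v * x * (v * v) * y * v := by rw [hv]; group
      _ = (v * x * v) * (v * y * v) := by group
      _ = (x * v * x) * (y * v * y) := by rw [bx, by']
      _ = x * v * (x * y) * v * y := by group
  have h2 : x * y * (v * (x * y) * v) = y * (v * (x * y) * v) * y := by
    conv_lhs => rw [h1]
    calc x * y * (x * v * (x * y) * v * y) = x * (y * x) * v * (x * y) * v * y := by group
      _ = x * (x * y) * v * (x * y) * v * y := by rw [hxy.eq]
      _ = x * x * y * (v * (x * y) * v) * y := by group
      _ = y * (v * (x * y) * v) * y := by rw [hx, one_mul]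
  rw [h2]
  calc y * (v * (x * y) * v) * y * (y * (v * (x * y) * v) * y)
      = y * (v * (x * y) * v) * (y * y) * (v * (x * y) * v) * y := by group
    _ = y * (v * (x * y) * v * (v * (x * y) * v)) * y := by rw [hy]; group
    _ = 1 := by rw [hn', mul_one, hy]

theorem no_braid {a b c p q : G} (hv : v * v = 1) (ha : a * a = 1) (hb : b * b = 1) (hc : c * c = 1)
    (hp : p * p = 1) (hq : q * q = 1) (hab : Commute a b) (hac : Commute a c) (hbc : Commute b c)
    (hpq : Commute p q) (ba : v * a * v = a * v * a) (bb : v * b * v = b * v * b) (bc : v * c * v = c * v * c)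
    (bp : v * p * v = p * v * p) (bq : v * q * v = q * v * q) (hprod : a * b * c = p * q) (hne : p ≠ q) : False := by
  set n := a * c with hn
  set g := v * b with hg
  have hvi := inv_of_sq hv
  have hbi := inv_of_sq hb
  have hnn : n * n = 1 := sq_mul ha hc hac
  have hbn : Commute b n := (hab.symm).mul_right hbc
  have g3 : g * g * g = 1 := by
    calc g * g * g = (v * b * v) * (b * v * b) := by rw [hg]; group
      _ = (b * v * b) * (b * v * b) := by rw [bb]
      _ = b * v * (b * b) * v * b := by group
      _ = b * (v * v) * b := by rw [hb]; group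
      _ = 1 := by rw [hv, mul_one, hb]
  set n' := v * n * v with hn'
  set m := g * n' * g⁻¹ with hm
  have c1 : Commute n n' := comm_conj hv ha hc hac ba bc
  have hgn : g * n * g⁻¹ = n' := by
    calc g * n * g⁻¹ = v * (b * n) * b⁻¹ * v⁻¹ := by rw [hg]; group
      _ = v * (n * b) * b⁻¹ * v⁻¹ := by rw [hbn.eq]
      _ = n' := by rw [hn', hvi]; group
  have hgm : g * m * g⁻¹ = n := by
    rw [hm, ← hgn]
    calc g * (g * (g * n * g⁻¹) * g⁻¹) * g⁻¹ = (g * g * g) * n * (g * g * g)⁻¹ := by group
      _ = n := by rw [g3]; group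
  have c2 : Commute n' m := by
    have := conj_comm' g c1
    rwa [hgn] at this
  have c3 : Commute m n := by
    have := conj_comm' g c2
    rwa [hgm] at this
  have hn'n' : n' * n' = 1 := by
    rw [← hgn, show g * n * g⁻¹ * (g * n * g⁻¹) = g * (n * n) * g⁻¹ by group, hnn]; group
  have hmm : m * m = 1 := by
    rw [hm, show g * n' * g⁻¹ * (g * n' * g⁻¹) = g * (n' * n') * g⁻¹ by group, hn'n']; group
  set d := p * q with hd
  have hd' : d = b * n := by
    rw [← hprod, hn, ← mul_assoc, hab.eq]
  set r := v * d * v with hr
  have hdd : d * d = 1 := sq_mul hp hq hpq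
  have hrr : r * r = 1 := by
    calc r * r = v * d * (v * v) * d * v := by rw [hr]; group
      _ = v * (d * d) * v := by rw [hv]; group
      _ = 1 := by rw [hdd, mul_one, hv]
  have h2 : r * d * (r * d) = 1 := sq_mul hrr hdd (comm_conj hv hp hq hpq bp bq).symm
  have hgn3 : g * n * (g * n) * (g * n) = n' * m * n := by
    calc g * n * (g * n) * (g * n)
        = (g * n * g⁻¹) * (g * (g * n * g⁻¹) * g⁻¹) * (g * g * g) * n := by group
      _ = n' * m * n := by rw [g3, hgn, mul_one, hm]
  have h3 : r * d * (r * d) * (r * d) = 1 := by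
    have e1 : r * d = g * n * (g * n) := by rw [hr, hd', hg]; group
    calc r * d * (r * d) * (r * d) = g * n * (g * n) * (g * n) * (g * n * (g * n) * (g * n)) := by rw [e1]; group
      _ = n' * m * n * (n' * m * n) := by rw [hgn3]
      _ = 1 := sq_mul (sq_mul hn'n' hmm c2) hnn (c1.symm.mul_left c3)
  rw [h2, one_mul] at h3
  have h4 : v * d = d * v := by
    have hrd : r = d := by rw [← inv_of_sq hdd]; exact eq_inv_of_mul_eq_one_left h3
    calc v * d = v * d * (v * v) := by rw [hv, mul_one]
      _ = r * v := by rw [hr]; group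
      _ = d * v := by rw [hrd]
  refine hne ?_
  have h5 : p * (v * d) * v * q = d := by
    calc p * (v * d) * v * q = p * v * p * (q * v * q) := by rw [hd]; group
      _ = (v * p * v) * (v * q * v) := by rw [bp, bq]
      _ = v * p * (v * v) * q * v := by group
      _ = v * (p * q) * v := by rw [hv]; group
      _ = d := by rw [← hd, h4, mul_assoc, hv, mul_one]
  rw [h4, show p * (d * v) * v * q = p * d * (v * v) * q by group, hv, mul_one, hd,
    show p * (p * q) * q = p * p * (q * q) by group, hp, hq, one_mul] at h5
  exact (inv_of_sq hp).symm.trans (inv_eq_of_mul_eq_one_right h5.symm)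

end CfsgLib.J3Type.Braid
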