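import Cfsg.Agent.Lib.J3Type.ClassE
import Cfsg.Agent.Lib.J3Type.ArithCert

/-!
Groups of `J₃` type, alternating case: the index when the inverted part of the centralizer of an element of `clsE` is
a subgroup.
-/

set_option autoImplicit false
set_option linter.unusedSectionVars false
set_option maxHeartbeats 800000

namespace CfsgLib.J3Type

open Cfsg CfsgLargeExtra Equiv
open CfsgLib.HallJankoType (orb mem_cent conj_fix_iff ncard_orb orderOf_conj')

universe u

variable {G : Type u} [Group G] [Finite G] {z : G} {Q : Subgroup G} {pm : G → Perm (Fin 5)}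

/-- An invariant set in which all stabilisers have order dividing `m` has `m * ncard` divisible by the group order. -/
theorem dvd_ncard_mul_of_dvd (H : Subgroup G) {m : ℕ} (F : Set G) (hinv : ∀ c ∈ H, ∀ y ∈ F, c * y * c⁻¹ ∈ F)
    (hm : ∀ y ∈ F, Nat.card ↥(H ⊓ Subgroup.centralizer ({y} : Set G)) ∣ m) : Nat.card ↥H ∣ F.ncard * m := by
  induction hn : F.ncard using Nat.strong_induction_on generalizing F with
  | _ n ih =>
    rcases Set.eq_empty_or_nonempty F with rfl | ⟨y, hy⟩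
    · rw [Set.ncard_empty] at hn
      rw [← hn, zero_mul]
      exact dvd_zero _
    have hsub : orb H y ⊆ F := by
      rintro _ ⟨c, hc, rfl⟩
      exact hinv c hc y hy
    have hyo : y ∈ orb H y := ⟨1, one_mem _, by simp⟩
    have hrest : ∀ c ∈ H, ∀ t ∈ F \ orb H y, c * t * c⁻¹ ∈ F \ orb H y := by
      rintro c hc t ⟨ht, hto⟩
      refine ⟨hinv c hc t ht, ?_⟩
      rintro ⟨c', hc', e⟩
      refine hto ⟨c⁻¹ * c', mul_mem (inv_mem hc) hc', ?_⟩
      rw [show c⁻¹ * c' * y * (c⁻¹ * c')⁻¹ = c⁻¹ * (c' * y * c'⁻¹) * c by group, e]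
      group
    have hcard := Set.ncard_sdiff hsub
    have hle := Set.ncard_le_ncard hsub (Set.toFinite _)
    have hpos : 0 < (orb H y).ncard := (Set.ncard_pos (Set.toFinite _)).mpr ⟨y, hyo⟩
    have := ih (F \ orb H y).ncard (by omega) (F \ orb H y) hrest (fun t ht => hm t ht.1) rfl
    have hF : F.ncard = (F \ orb H y).ncard + (orb H y).ncard := by omega
    rw [← hn, hF, add_mul]
    refine dvd_add this ?_
    rw [← ncard_orb H y]
    exact Nat.mul_dvd_mul_left _ (hm y hy)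

theorem card_cent_conj (g a : G) :
    Nat.card ↥(Subgroup.centralizer ({g * a * g⁻¹} : Set G)) = Nat.card ↥(Subgroup.centralizer ({a} : Set G)) :=
  Nat.card_congr
    { toFun := fun b => ⟨g⁻¹ * b.1 * g, mem_cent.mpr (conj_comm_back (mem_cent.mp b.2).symm).symm⟩
      invFun := fun b => ⟨g * b.1 * g⁻¹, mem_cent.mpr (conj_comm (mem_cent.mp b.2))⟩
      left_inv := fun b => Subtype.ext (by show g * (g⁻¹ * b.1 * g) * g⁻¹ = b.1; group)
      right_inv := fun b => Subtype.ext (by show g⁻¹ * (g * b.1 * g⁻¹) * g = b.1; group) }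

/-- The facts on the subgroup `A` of inverted elements commuting with `e`. -/
structure ClosedData (z e : G) (A : Subgroup G) : Prop where
  he : e ∈ clsE z
  mem : ∀ x, x ∈ A ↔ x ∈ invC z e
  cases : ∀ x ∈ A, x ≠ 1 → x ∈ free z ∨ x ∈ clsE z
  eq : ∀ x ∈ A, x ≠ 1 → ∀ y, y ∈ invC z x ↔ y ∈ A

namespace SixType

variable (hs : SixType G) (h : JT z Q pm) (hone : OneClass G)
include hs h hone

theorem exists_closedData {e : G} (he : e ∈ clsE z)
    (hcl : ∀ x ∈ invC z e, ∀ y ∈ invC z e, x * y ∈ invC z e) : ∃ A : Subgroup G, ClosedData z e A := by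
  let A : Subgroup G :=
    { carrier := invC z e
      one_mem' := ⟨by simp, by simp [Inverts]⟩
      mul_mem' := fun {a b} ha hb => hcl a ha b hb
      inv_mem' := fun {a} ha => ⟨Commute.inv_left ha.1, by
        show z * a⁻¹ * z⁻¹ = a⁻¹⁻¹
        rw [inv_inv]; exact conj_inv_elem ha.2⟩ }
  have hodd : ∀ x ∈ A, Odd (orderOf x) := fun x hx =>
    (hs.clsE_cent h hone he).1.of_dvd_nat (Subgroup.orderOf_dvd_natCard _ (mem_cent.mpr hx.1))
  have hcases : ∀ x ∈ A, x ≠ 1 → x ∈ free z ∨ x ∈ clsE z := fun x hx hx1 =>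
    hs.clsE_comm h hone he ⟨hx1, hodd x hx, hx.2⟩ hx.1
  refine ⟨A, he, fun x => Iff.rfl, hcases, fun x hx hx1 y => ?_⟩
  have hsub : (A : Set G) ⊆ invC z x := fun y hy =>
    ⟨comm_of_inverted (N := A) (v := z) (fun a ha => ha.2) hy hx, hy.2⟩
  rcases hcases x hx hx1 with hf | hf
  · refine ⟨fun hy => ?_, fun hy => hsub hy⟩
    exact ⟨mem_cent.mp (h.free_cent_le hf hx.1.symm (mem_cent.mpr hy.1)), hy.2⟩
  · obtain ⟨c, hc, rfl⟩ := hs.clsE_orbit h hone he hf
    have := Set.eq_of_subset_of_ncard_le hsub (by rw [ncard_invC_conj e hc]; exact le_rfl)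
    exact ⟨fun hy => (this ▸ hy : y ∈ (A : Set G)), fun hy => hsub hy⟩

/-- The orbit item of the closed case. -/
theorem closed_item {e : G} {A : Subgroup G} (D : ClosedData z e A) :
    ∃ u : ℕ, u ∈ Arith.mults true ∧ 3 ∣ Nat.card ↥A ∧ Odd (Nat.card ↥A) ∧ ¬ 5 ∣ Nat.card ↥A ∧
      u * (Nat.card ↥A - 1) = 640 + (freeE z).ncard ∧ 1920 ∣ (freeE z).ncard ∧
      Arith.congr {v : G | v * v = 1 ∧ v ≠ 1}.ncard true (Nat.card ↥A) u = true := by
  set M := Nat.card ↥A with hM
  set n := {v : G | v * v = 1 ∧ v ≠ 1}.ncard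
  set H := Subgroup.centralizer ({z} : Set G) with hH
  obtain ⟨d, X, _, π, -, -, hdz, hdo, -, hed, -, -, -, he9⟩ := hs.clsE_data h hone D.he
  obtain ⟨hEo, -, hEcard⟩ := hs.clsE_cent h hone D.he
  have hMe : (invC z e).ncard = M := by
    rw [hM, ← Nat.card_coe_set_eq]
    exact Nat.card_congr (Equiv.setCongr (Set.ext fun x => (D.mem x).symm))
  rw [hMe] at hEcard
  have hMo : Odd M := hEo.of_dvd_nat (hEcard ▸ dvd_mul_left M 3)
  have heA : e ∈ A := (D.mem e).mpr ⟨rfl, D.he.1.2.2⟩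
  have hinv : ∀ x ∈ A, Inverts z x := fun x hx => ((D.mem x).mp hx).2
  have h3M : 3 ∣ M := by
    have hd := Subgroup.orderOf_dvd_natCard A heA
    have h9 : orderOf e ∈ Nat.divisors 9 := Nat.mem_divisors.mpr ⟨orderOf_dvd_of_pow_eq_one he9, by norm_num⟩
    rw [show Nat.divisors 9 = {1, 3, 9} by decide] at h9
    simp only [Finset.mem_insert, Finset.mem_singleton] at h9
    rcases h9 with e1 | e1 | e1
    · exact absurd (orderOf_eq_one_iff.mp e1) D.he.1.1
    · exact e1 ▸ hd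
    · exact (show 3 ∣ orderOf e by rw [e1]; norm_num).trans hd
  have hnine : ∀ x ∈ clsE z, x ^ 9 = 1 := fun x hx => by
    obtain ⟨_, _, _, _, -, -, -, -, -, -, -, -, -, h9⟩ := hs.clsE_data h hone hx
    exact h9
  have h5M : ¬ 5 ∣ M := by
    intro h5
    haveI : Fact (Nat.Prime 5) := ⟨Nat.prime_five⟩
    obtain ⟨⟨x, hx⟩, hxo⟩ := exists_prime_orderOf_dvd_card' (G := ↥A) 5 h5
    rw [Subgroup.orderOf_mk] at hxo
    have hx1 : x ≠ 1 := fun e => by rw [e, orderOf_one] at hxo; omega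
    rcases D.cases x hx hx1 with hf | hf
    · exact h.invCent_not_free hs.qType hone (Or.inr rfl) (hs.five_invCent h hone hxo) hf
    · have := orderOf_dvd_of_pow_eq_one (hnine x hf)
      rw [hxo] at this; norm_num at this
  set N := normH z A with hN
  set k := Nat.card ↥N with hk
  have hTI : ∀ c : G, c * z = z * c → ∀ x ∈ A, x ≠ 1 → c * x * c⁻¹ ∈ A → c ∈ N := fun c hc x hx hx1 hcx =>
    mem_normH.mpr ⟨hc, fun y => by
      rw [← D.eq x hx hx1 y, ← D.eq _ hcx (fun e => hx1 (conj_eq_one_iff.mp e)), invC_conj_iff hc]⟩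
  have hk1920 : k ∣ 1920 := h.card_C ▸ Subgroup.card_dvd_of_le (h.normH_le A)
  have h2k : 2 ∣ k := h.hz ▸ Subgroup.orderOf_dvd_natCard N (h.z_normH hinv)
  have h3k : 3 ∣ k := hdo ▸ Subgroup.orderOf_dvd_natCard N (mem_normH.mpr ⟨hdz, fun y => by
    rw [D.mem, D.mem, ← invC_conj_iff (c := d) hdz, conj_fix_iff.mpr hed.symm]⟩)
  obtain ⟨u, hu⟩ := hk1920
  have hk0 : 0 < k := Nat.card_pos
  have hU := ncard_conjUnion (H := H) (N := N) (S := (A : Set G) \ {1})
    (h.normH_le A) (fun c hc x hx => ⟨(hc.2 x).mp hx.1, fun e => hx.2 (conj_eq_one_iff.mp e)⟩)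
    fun c hc x hx hm => hTI c (mem_cent.mp hc) x hx.1 hx.2 hm.1
  have hS : ((A : Set G) \ {1}).ncard = M - 1 := by
    rw [Set.ncard_sdiff (by simp [one_mem]), Set.ncard_singleton, ← Nat.card_coe_set_eq]
    rfl
  rw [h.card_C, hS, ← hk, hu, mul_assoc, mul_comm k] at hU
  have hUc := Nat.eq_of_mul_eq_mul_right hk0 hU
  have hUset : conjUnion H ((A : Set G) \ {1}) = clsE z ∪ freeE z := by
    ext y
    constructor
    · rintro ⟨c, hc, hm, hm1⟩
      have hcz : c * z = z * c := mem_cent.mp hc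
      have e1 : c * (c⁻¹ * y * c) * c⁻¹ = y := by group
      rcases D.cases _ hm hm1 with hf | hf
      · refine Or.inr ⟨e1 ▸ free_conj hcz hf, c * e * c⁻¹, ?_, clsE_conj hcz D.he⟩
        have := conj_comm (g := c) ((D.mem _).mp hm).1
        rw [e1] at this
        exact this.symm
      · exact Or.inl (e1 ▸ clsE_conj hcz hf)
    · rintro (hy | ⟨hy, a, hay, ha⟩)
      · obtain ⟨c, hc, rfl⟩ := hs.clsE_orbit h hone D.he hy
        refine ⟨c, mem_cent.mpr hc, ?_⟩
        rw [show c⁻¹ * (c * e * c⁻¹) * c = e by group]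
        exact ⟨heA, D.he.1.1⟩
      · obtain ⟨c, hc, rfl⟩ := hs.clsE_orbit h hone D.he ha
        refine ⟨c, mem_cent.mpr hc, (D.mem _).mpr ⟨?_, ?_⟩, fun e1 => hy.1.1 ?_⟩
        · have := conj_comm (g := c⁻¹) hay.symm
          rwa [inv_inv, show c⁻¹ * (c * e * c⁻¹) * c = e by group] at this
        · have := (free_conj (Commute.inv_left hc) hy).1.2.2
          rwa [inv_inv] at this
        · rw [show y = c * (c⁻¹ * y * c) * c⁻¹ by group, Set.mem_singleton_iff.mp e1]
          group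
  have h640 : u * (M - 1) = 640 + (freeE z).ncard := by
    rw [← hUc, hUset, Set.ncard_union_eq, (hs.nonfree_count h hone).2.2]
    exact Set.disjoint_left.mpr fun y hy hy' => by
      have h1 := hy'.1.2
      rw [hy.2.2] at h1
      omega
  have hdvdE : 1920 ∣ (freeE z).ncard := by
    have := h.dvd_free (freeE z) (k := 1) ?_ ?_
    · rwa [mul_one] at this
    · rintro c hc y ⟨hy, a, hay, ha⟩
      exact ⟨free_conj hc hy, c * a * c⁻¹, conj_comm hay, clsE_conj hc ha⟩
    · rintro y ⟨hy, -⟩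
      rw [inf_comm]
      exact hy.2
  refine ⟨u, Arith.mem_mults_true.mpr ?_, h3M, hMo, h5M, h640, hdvdE, ?_⟩
  · obtain ⟨k', hk'⟩ : 6 ∣ k := Nat.Coprime.mul_dvd_of_dvd_of_dvd (by norm_num : Nat.Coprime 2 3) h2k h3k
    refine ⟨k', ?_⟩
    rw [hk'] at hu
    linarith
  have hG : Nat.card G = 1920 * n := h.card_eq_index hone
  have hMn : M ∣ n := by
    have hd : 3 * M ∣ 1920 * n := hEcard ▸ hG ▸ Subgroup.card_subgroup_dvd_card _
    rw [show 1920 * n = 3 * (640 * n) by ring] at hd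
    refine (Nat.Coprime.dvd_mul_left ?_).mp (Nat.dvd_of_mul_dvd_mul_left (by norm_num) hd)
    have h10 : Nat.Coprime M (2 * 5) := (Nat.coprime_two_right.mpr hMo).mul_right
      ((Nat.prime_five.coprime_iff_not_dvd).mpr h5M).symm
    exact Nat.Coprime.coprime_dvd_right (by norm_num : 640 ∣ (2 * 5) ^ 7) (h10.pow_right 7)
  obtain ⟨q, hq⟩ := hMn
  simp only [Arith.congr, Arith.modulus, Bool.and_eq_true, Nat.beq_eq]
  refine ⟨by rw [hq, Nat.mul_mod_right], ?_⟩
  rw [hq, Nat.mul_div_cancel_left _ hMo.pos]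
  obtain ⟨v, hv, hv3⟩ := Arith.threeFree_spec M M hMo.pos le_rfl
  set R := Arith.threeFree M M with hR
  rcases eq_or_ne R 1 with hR1 | hR1
  · rw [hR1, Nat.mod_one]
  have hRM : R ∣ M := ⟨3 ^ v, by rw [mul_comm]; exact hv⟩
  obtain ⟨p, hp, hpR⟩ := Nat.exists_prime_and_dvd hR1
  haveI : Fact p.Prime := ⟨hp⟩
  obtain ⟨⟨x, hx⟩, hxo⟩ := exists_prime_orderOf_dvd_card' (G := ↥A) p (hpR.trans hRM)
  rw [Subgroup.orderOf_mk] at hxo
  have hx1 : x ≠ 1 := fun e => hp.ne_one (by rw [← hxo, e, orderOf_one])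
  have hfreeC : ∀ t ∈ A, t ∈ free z → Subgroup.centralizer ({t} : Set G) = A := fun t ht hf => by
    ext y
    rw [← D.eq t ht hf.1.1 y]
    exact ⟨fun hy => ⟨mem_cent.mp hy, (h.free_cent hf).2 y hy⟩, fun hy => mem_cent.mpr hy.1⟩
  have hxf : x ∈ free z := by
    refine (D.cases x hx hx1).resolve_right fun hf => hv3 ?_
    have h9 : p ∣ 3 ^ 2 := hxo ▸ orderOf_dvd_of_pow_eq_one (hnine x hf)
    rwa [(Nat.prime_dvd_prime_iff_eq hp Nat.prime_three).mp (hp.dvd_of_dvd_pow h9)] at hpR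
  have hCx := hfreeC x hx hxf
  have horb : (orb ⊤ x).ncard = 1920 * q := by
    have e1 := ncard_orb (⊤ : Subgroup G) x
    rw [top_inf_eq, Subgroup.card_top, hG, hCx, ← hM, hq, mul_left_comm 1920, mul_comm M] at e1
    exact Nat.eq_of_mul_eq_mul_right hMo.pos e1
  have hfix : ∀ c ∈ A, c * z = z * c → c = 1 := fun c hc e1 =>
    inverts_comm_eq_one (hinv c hc) e1.symm (hMo.of_dvd_nat (Subgroup.orderOf_dvd_natCard A hc))
  have hin : orb ⊤ x ∩ (A : Set G) = orb N x := by
    ext t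
    constructor
    · rintro ⟨⟨g, -, rfl⟩, hgx⟩
      have hgx1 : g * x * g⁻¹ ≠ 1 := fun e => hx1 (conj_eq_one_iff.mp e)
      have hgf : g * x * g⁻¹ ∈ free z := by
        refine (D.cases _ hgx hgx1).resolve_right fun hf => ?_
        obtain ⟨c, hc, e1⟩ := hs.clsE_orbit h hone D.he hf
        have e2 : Nat.card ↥(Subgroup.centralizer ({c * e * c⁻¹} : Set G)) = 3 * M := by
          rw [card_cent_conj, hEcard]
        rw [e1, card_cent_conj, hCx] at e2
        have := hMo.pos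
        omega
      have hCg := hfreeC _ hgx hgf
      set w := g * z * g⁻¹ with hw
      have hwi : Inverts w (g * x * g⁻¹) := inverts_conj (hinv x hx)
      have hzw : z * w ∈ A := by
        rw [← hCg]
        refine mem_cent.mpr (conj_fix_iff.mp ?_)
        rw [show z * w * (g * x * g⁻¹) * (z * w)⁻¹ = z * (w * (g * x * g⁻¹) * w⁻¹) * z⁻¹ by group,
          show w * (g * x * g⁻¹) * w⁻¹ = (g * x * g⁻¹)⁻¹ from hwi]
        exact conj_inv_elem (hinv _ hgx)
      obtain ⟨c, hc, hcc⟩ := exists_sqrt (hMo.of_dvd_nat (Subgroup.orderOf_dvd_natCard A hzw))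
      have hcA : c ∈ A := Subgroup.zpowers_le.mpr hzw hc
      have hcz : c * z = z * c⁻¹ := by
        have h1 : z * c⁻¹ * z⁻¹ = c := conj_inv_elem (hinv c hcA)
        calc c * z = z * c⁻¹ * z⁻¹ * z := by rw [h1]
          _ = z * c⁻¹ := by group
      have hcw : c * w * c⁻¹ = z := by
        rw [show w = z * (c * c) by rw [hcc, ← mul_assoc, h.zz, one_mul], ← mul_assoc c z, hcz]
        group
      have hcgz : c * g * z = z * (c * g) := by
        calc c * g * z = c * w * c⁻¹ * (c * g) := by rw [hw]; group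
          _ = z * (c * g) := by rw [hcw]
      have hconj : c * g * x * (c * g)⁻¹ = g * x * g⁻¹ := by
        rw [show c * g * x * (c * g)⁻¹ = c * (g * x * g⁻¹) * c⁻¹ by group]
        exact conj_fix_iff.mpr (comm_of_inverted hinv hcA hgx)
      exact ⟨c * g, hTI _ hcgz x hx hx1 (by rw [hconj]; exact hgx), hconj⟩
    · rintro ⟨c, hc, rfl⟩
      exact ⟨⟨c, Subgroup.mem_top c, rfl⟩, (hc.2 x).mp hx⟩
  have hinc : (orb N x).ncard = k := by
    have e1 := ncard_orb N x
    rwa [show Nat.card ↥(N ⊓ Subgroup.centralizer ({x} : Set G)) = 1 from ?_, mul_one] at e1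
    rw [Subgroup.card_eq_one, Subgroup.eq_bot_iff_forall]
    rintro c ⟨hc, hcx⟩
    exact hfix c (hCx ▸ hcx) hc.1
  have hdiv : R ∣ (orb ⊤ x \ (A : Set G)).ncard := by
    have := dvd_ncard_mul_of_dvd A (orb ⊤ x \ (A : Set G)) (m := 3 ^ v) ?_ ?_
    · rw [← hM, hv, mul_comm (Set.ncard _)] at this
      exact Nat.dvd_of_mul_dvd_mul_left (by positivity) this
    · rintro c hc t ⟨⟨g, -, rfl⟩, ht⟩
      refine ⟨⟨c * g, Subgroup.mem_top _, by group⟩, fun hm => ht ?_⟩
      exact (A.mul_mem_cancel_left hc).mp ((A.mul_mem_cancel_right (A.inv_mem hc)).mp hm)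
    · rintro t ⟨-, ht⟩
      haveI : Fact (Nat.Prime 3) := ⟨Nat.prime_three⟩
      have hpg : IsPGroup 3 ↥(A ⊓ Subgroup.centralizer ({t} : Set G)) := fun ⟨c, hc, hct⟩ => by
        refine ⟨2, Subtype.ext ?_⟩
        show c ^ 3 ^ 2 = 1
        rcases eq_or_ne c 1 with rfl | hc1
        · exact one_pow _
        rcases D.cases c hc hc1 with hf | hf
        · exact absurd (hfreeC c hc hf ▸ mem_cent.mpr (mem_cent.mp hct).symm) ht
        · exact hnine c hf
      obtain ⟨i, hi⟩ := IsPGroup.iff_card.mp hpg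
      have hd : 3 ^ i ∣ 3 ^ v * R := by
        rw [← hi, ← hv]
        exact Subgroup.card_dvd_of_le inf_le_left
      rw [hi]
      exact ((Nat.prime_three.coprime_iff_not_dvd.mpr hv3).pow_left i).dvd_of_dvd_mul_right hd
  have hsplit := Set.ncard_inter_add_ncard_sdiff_eq_ncard (orb ⊤ x) (A : Set G) (Set.toFinite _)
  rw [hin, hinc, horb, hu] at hsplit
  have hcop : Nat.gcd R k = 1 := by
    have h30 : Nat.Coprime R (2 * 3 * 5) :=
      ((Nat.coprime_two_right.mpr (hMo.of_dvd_nat hRM)).mul_right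
        (Nat.prime_three.coprime_iff_not_dvd.mpr hv3).symm).mul_right
        ((Nat.prime_five.coprime_iff_not_dvd).mpr fun h5 => h5M (h5.trans hRM)).symm
    exact Nat.Coprime.coprime_dvd_right ((Dvd.intro u hu.symm).trans (by norm_num : 1920 ∣ (2 * 3 * 5) ^ 7))
      (h30.pow_right 7)
  have hmod : k * (q * u) ≡ k * 1 [MOD R] := by
    refine ((Nat.modEq_iff_dvd' (by nlinarith)).mpr ?_).symm
    rwa [show k * (q * u) - k * 1 = (orb ⊤ x \ (A : Set G)).ncard by
      rw [mul_one, mul_comm q u, ← mul_assoc]; omega]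
  exact Nat.ModEq.cancel_left_of_coprime hcop hmod

/-- The pure orbits are prime to the closed one. -/
theorem closed_coprime {e : G} {A : Subgroup G} (D : ClosedData z e A) {y : G} (hy : y ∈ pureF z) :
    Nat.gcd (Nat.card ↥(Subgroup.centralizer ({y} : Set G))) (Nat.card ↥A) = 1 := by
  by_contra hne
  obtain ⟨p, hp, hpY, hpA⟩ := Nat.Prime.not_coprime_iff_dvd.mp hne
  haveI : Fact p.Prime := ⟨hp⟩
  have hp3 : p ≠ 3 := fun e1 => by
    have h30 := h.pure_coprime_thirty hs.qType hone hy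
    have := Nat.dvd_gcd hpY (e1 ▸ (by norm_num : 3 ∣ 30) : p ∣ 30)
    rw [h30] at this
    exact hp.ne_one (Nat.dvd_one.mp this)
  obtain ⟨⟨x, hx⟩, hxo⟩ := exists_prime_orderOf_dvd_card' (G := ↥A) p hpA
  rw [Subgroup.orderOf_mk] at hxo
  have hx1 : x ≠ 1 := fun e => hp.ne_one (by rw [← hxo, e, orderOf_one])
  have hxf : x ∈ free z := by
    refine (D.cases x hx hx1).resolve_right fun hf => hp3 ?_
    obtain ⟨_, _, _, _, -, -, -, -, -, -, -, -, -, h9⟩ := hs.clsE_data h hone hf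
    have h9' : p ∣ 3 ^ 2 := hxo ▸ orderOf_dvd_of_pow_eq_one h9
    exact (Nat.prime_dvd_prime_iff_eq hp Nat.prime_three).mp (hp.dvd_of_dvd_pow h9')
  have hY := h.pure_selfCent hy
  obtain ⟨S, hS⟩ := hY.sylow_le hpY
  obtain ⟨T, hT⟩ := (IsPGroup.of_card (p := p) (G := ↥(Subgroup.zpowers x)) (n := 1)
    (by rw [Nat.card_zpowers, hxo, pow_one])).exists_le_sylow
  obtain ⟨g, hg⟩ := MulAction.exists_smul_eq G T S
  have hmem : g * x * g⁻¹ ∈ Subgroup.centralizer ({y} : Set G) := by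
    refine hS ?_
    rw [← hg, Sylow.coe_subgroup_smul]
    exact Subgroup.smul_mem_pointwise_smul _ _ _ (hT (Subgroup.mem_zpowers x))
  have hgx1 : g * x * g⁻¹ ≠ 1 := fun e => hx1 (conj_eq_one_iff.mp e)
  have heA : e ∈ invC z e := ⟨rfl, D.he.1.2.2⟩
  have hex : e * x = x * e := ((D.mem x).mp hx).1.symm
  have hgem : g * e * g⁻¹ ∈ Subgroup.centralizer ({y} : Set G) := hY.mem_of_comm hmem hgx1 (conj_comm hex)
  have hge1 : g * e * g⁻¹ ≠ 1 := fun e1 => D.he.1.1 (conj_eq_one_iff.mp e1)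
  have e2 := congrArg (fun K : Subgroup G => Nat.card ↥K)
    ((hY _ hgem hge1).trans (hY _ hmem hgx1).symm)
  simp only [card_cent_conj] at e2
  rw [(hs.clsE_cent h hone D.he).2.2] at e2
  have hCx : Nat.card ↥(Subgroup.centralizer ({x} : Set G)) = (invC z e).ncard := by
    rw [← Nat.card_coe_set_eq]
    refine Nat.card_congr (Equiv.setCongr (Set.ext fun t => ?_))
    rw [← D.mem t, ← D.eq x hx hx1 t]
    exact ⟨fun ht => ⟨mem_cent.mp ht, (h.free_cent hxf).2 t ht⟩, fun ht => mem_cent.mpr ht.1⟩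
  have hpos : 0 < (invC z e).ncard := (Set.ncard_pos (Set.toFinite _)).mpr ⟨e, heA⟩
  omega

/-- The index in the closed case. -/
theorem index_closed {e : G} (he : e ∈ clsE z) (hcl : ∀ x ∈ invC z e, ∀ y ∈ invC z e, x * y ∈ invC z e) :
    {v : G | v * v = 1 ∧ v ≠ 1}.ncard = 26163 := by
  obtain ⟨A, D⟩ := hs.exists_closedData h hone he hcl
  obtain ⟨u, hu, h3, hodd, h5, h640, hdvd, hcg⟩ := hs.closed_item h hone D
  have hn := hs.involutions_count h hone
  have h9 := hs.nine_dvd h hone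
  obtain ⟨L, hL, hLp, hLi⟩ := h.pure_items hone (fun y hy => h.pure_coprime_thirty hs.qType hone hy) (pureF z)
    subset_rfl (fun c hc y hy => pureF_conj hc hy) fun y hy a ha ha1 => ⟨hy.2 a ha ha1, fun b hb hb1 => by
      have hb' : b ∈ Subgroup.centralizer ({y} : Set G) := by
        rw [← h.free_cent_eq hy.1 (hy.2 a ha ha1) ha]; exact mem_cent.mpr hb
      exact hy.2 b (mem_cent.mp hb') hb1⟩
  set n := {v : G | v * v = 1 ∧ v ≠ 1}.ncard
  set M := Nat.card ↥A with hMdef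
  have hext : (fun n => n % 9 == 0) n = true := by simpa using Nat.mod_eq_zero_of_dvd h9
  have hok : ∀ i ∈ L, i.2.2 ∈ Arith.mults i.1 ∧ Arith.ok 30 i.1 i.2.1 i.2.2 = true ∧
      Arith.congr n i.1 i.2.1 i.2.2 = true ∧ Nat.gcd i.2.1 30 = 1 := fun i hi => by
    obtain ⟨h1, h7, ho, hm, h0, hc, y, hy, e1⟩ := hLi i hi
    have h30 : Nat.gcd i.2.1 30 = 1 := e1 ▸ h.pure_coprime_thirty hs.qType hone hy
    rw [h1]
    exact ⟨hm, Arith.ok_iff_false.mpr ⟨h7, ho, h30, h0⟩, hc, h30⟩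
  have hM3 : 3 ≤ M := Nat.le_of_dvd hodd.pos h3
  rcases eq_or_ne M 3 with hM | hM
  · have hu' := (Arith.mult_bounds hu).1
    have hu320 : u ≤ 320 := Nat.le_of_dvd (by norm_num) (Arith.mem_mults_true.mp hu)
    rw [hM] at h640
    have hfe : (freeE z).ncard = 0 := by omega
    refine Arith.index_eq Arith.cert_three ?_ (fun i hi => (hLi i hi).2.1) ?_ hLp
      (fun i hi => ⟨(hok i hi).1, (hok i hi).2.1, (hok i hi).2.2.1⟩) hext (by rw [hL]; omega) h9 ?_ (by norm_num)
      (by norm_num) (by norm_num) (by norm_num)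
    · rintro rfl
      have : (pureF z).ncard = 0 := by rw [← hL]; rfl
      omega
    · rw [List.countP_eq_zero.mpr fun i hi => by simp [(hLi i hi).1]]
      rfl
    · intro i hi
      exact Nat.Coprime.coprime_dvd_left (show 9 ∣ 30 ^ 2 by norm_num) ((Nat.Coprime.symm (hok i hi).2.2.2).pow_left 2)
  · refine Arith.index_eq (L := (true, M, u) :: L) Arith.cert_M (List.cons_ne_nil _ _) ?_ ?_ ?_ ?_ hext ?_
      (one_dvd _) (fun i _ => Nat.gcd_one_left _) (by norm_num) (by norm_num) (by norm_num) (by norm_num)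
    · intro i hi
      rcases List.mem_cons.mp hi with rfl | hi
      · show 7 ≤ M
        obtain ⟨r, hr⟩ := hodd
        omega
      · exact (hLi i hi).2.1
    · rw [List.countP_cons, List.countP_eq_zero.mpr fun i hi => by simp [(hLi i hi).1]]
      rfl
    · refine List.pairwise_cons.mpr ⟨fun i hi => ?_, hLp⟩
      obtain ⟨-, -, -, -, -, -, y, hy, e1⟩ := hLi i hi
      show Nat.gcd M i.2.1 = 1
      rw [Nat.gcd_comm, e1]
      exact hs.closed_coprime h hone D hy
    · intro i hi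
      rcases List.mem_cons.mp hi with rfl | hi
      · refine ⟨hu, Arith.ok_iff_true.mpr ⟨hM3, Nat.mod_eq_zero_of_dvd h3, Nat.odd_iff.mp hodd,
          fun e1 => h5 (Nat.dvd_of_mod_eq_zero e1), ?_⟩, hcg⟩
        show u * (M - 1) % 1920 = 640
        rw [h640]
        omega
      · exact ⟨(hok i hi).1, (hok i hi).2.1, (hok i hi).2.2.1⟩
    · rw [Arith.total_cons, hL]
      show n = 15923 + (u * (M - 1) + (pureF z).ncard)
      generalize u * (M - 1) = m at h640 ⊢
      omega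

end SixType

end CfsgLib.J3Type
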