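import Cfsg.Agent.Lib.J3Type.FiveCent
import Mathlib.Dynamics.PeriodicPts.Lemmas

/-!
Groups of `J₃` type: an involution acting on a group of odd order, and on an abelian three-group together with an
automorphism that it inverts.
-/

set_option autoImplicit false
set_option linter.unusedSectionVars false

namespace CfsgLib.J3Type

open CfsgLib.HallJankoType (mem_cent conj_fix_iff)

universe u

variable {G : Type u} [Group G] [Finite G]

/-- A subgroup normalised by an involution which centralizes none of its involutions has odd order. -/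
theorem odd_of_fixed_free {K : Subgroup G} {z : G} (hz : z * z = 1) (hn : ∀ a ∈ K, z * a * z⁻¹ ∈ K)
    (hfix : ∀ a ∈ K, a * a = 1 → z * a = a * z → a = 1) : Odd (Nat.card ↥K) := by
  classical
  by_contra hev
  rw [Nat.not_odd_iff_even] at hev
  haveI : Fact (Nat.Prime 2) := ⟨Nat.prime_two⟩
  haveI : Fintype ↥K := Fintype.ofFinite _
  set J : Set G := {a | a ∈ K ∧ a * a = 1}
  have hJ : Even J.ncard := by
    have hφ : (Equiv.inv ↥K) ^ 2 ^ 1 = 1 :=
      Equiv.ext fun a => by rw [pow_one, pow_two, Equiv.Perm.mul_apply]; exact inv_inv a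
    have h1 := Equiv.Perm.card_compl_support_modEq hφ
    rw [← Nat.card_eq_fintype_card, ← Nat.card_eq_finsetCard] at h1
    have e : Nat.card ↥((Equiv.inv ↥K).supportᶜ) = J.ncard := by
      rw [← Nat.card_coe_set_eq]
      refine Nat.card_congr
        { toFun := fun a => ⟨((a : ↥K) : G), (a : ↥K).2, ?_⟩
          invFun := fun a => ⟨⟨a, a.2.1⟩, ?_⟩
          left_inv := fun a => rfl
          right_inv := fun a => rfl }
      · have ha := a.2
        simp only [Finset.mem_compl, Equiv.Perm.notMem_support, Equiv.inv_apply] at ha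
        have := congrArg Subtype.val ha
        rw [InvMemClass.coe_inv] at this
        exact eq_inv_iff_mul_eq_one.mp this.symm
      · simp only [Finset.mem_compl, Equiv.Perm.notMem_support, Equiv.inv_apply]
        exact Subtype.ext (inv_eq_of_mul_eq_one_left a.2.2)
    rw [e] at h1
    exact even_iff_two_dvd.mpr ((Nat.ModEq.dvd_iff h1 (dvd_refl 2)).mpr (even_iff_two_dvd.mp hev))
  have hmap : ∀ a ∈ J, z * a * z⁻¹ ∈ J := fun a ha => ⟨hn a ha.1, by
    rw [show z * a * z⁻¹ * (z * a * z⁻¹) = z * (a * a) * z⁻¹ by group, ha.2]; group⟩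
  have hmod := fixed_set_modEq (p := 2) J (s := z) (by rw [pow_two, hz]) fun a =>
    ⟨hmap a, fun ha => by
      have := hmap _ ha
      rwa [show z * (z * a * z⁻¹) * z⁻¹ = (z * z) * a * (z * z)⁻¹ by group, hz, one_mul, inv_one, mul_one] at this⟩
  have hone : {a | a ∈ J ∧ z * a = a * z} = {1} := by
    ext a
    refine ⟨fun ha => hfix a ha.1.1 ha.1.2 ha.2, ?_⟩
    rintro rfl
    exact ⟨⟨one_mem _, one_mul 1⟩, by simp⟩
  rw [hone, Set.ncard_singleton] at hmod
  obtain ⟨m, hm⟩ := hJ
  unfold Nat.ModEq at hmod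
  omega

/-- An element is an inverted one times a fixed one. -/
theorem exists_split {E : Subgroup G} {z : G} (hz : z * z = 1) (ho : Odd (Nat.card ↥E))
    (hn : ∀ a ∈ E, z * a * z⁻¹ ∈ E) {a : G} (ha : a ∈ E) :
    ∃ i ∈ E, Inverts z i ∧ ∃ c ∈ E, c * z = z * c ∧ a = i * c := by
  set w := a * (z * a⁻¹ * z⁻¹) with hw
  have hwE : w ∈ E := E.mul_mem ha (hn _ (E.inv_mem ha))
  have hzz : z⁻¹ = z := inv_eq_of_mul_eq_one_right hz
  have hwi : Inverts z w := by
    show z * w * z⁻¹ = w⁻¹
    calc z * w * z⁻¹ = z * a * z⁻¹ * ((z * z) * a⁻¹ * (z * z)⁻¹) := by rw [hw]; group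
      _ = w⁻¹ := by rw [hz, hw]; group
  obtain ⟨i, hi, hii⟩ := exists_sqrt (ho.of_dvd_nat (Subgroup.orderOf_dvd_natCard E hwE))
  have hiE : i ∈ E := Subgroup.zpowers_le.mpr hwE hi
  have hiz := inverts_mem_zpowers hwi hi
  refine ⟨i, hiE, hiz, i⁻¹ * a, E.mul_mem (E.inv_mem hiE) ha, ?_, by group⟩
  refine (conj_fix_iff.mp ?_).symm
  calc z * (i⁻¹ * a) * z⁻¹ = z * i⁻¹ * z⁻¹ * (z * a * z⁻¹) := by group
    _ = i * (z * a * z⁻¹) := by rw [conj_inv_elem hiz]
    _ = i⁻¹ * (i * i) * (z * a * z⁻¹) := by group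
    _ = i⁻¹ * a := by rw [hii, hw]; group

/-- The factorisation is unique. -/
theorem split_eq {z i j c : G} (hi : Inverts z i) (hj : Inverts z j) (hio : Odd (orderOf i))
    (hc : c * z = z * c) (hco : Odd (orderOf c)) (e : j = i * c) : c = 1 := by
  have h1 : (i * c)⁻¹ = i⁻¹ * c := by
    rw [← e, ← show z * j * z⁻¹ = j⁻¹ from hj, e, show z * (i * c) * z⁻¹ = z * i * z⁻¹ * (z * c * z⁻¹) by group,
      show z * i * z⁻¹ = i⁻¹ from hi, conj_fix_iff.mpr hc.symm]
  -- `i * c * i⁻¹ = c⁻¹`, so the square of `i` centralizes `c`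
  have h2 : Inverts i c := by
    show i * c * i⁻¹ = c⁻¹
    have h := congrArg (·⁻¹) h1
    simp only [inv_inv, mul_inv_rev] at h
    rw [h]; group
  have h3 : i ^ 2 * c = c * i ^ 2 := by
    refine conj_fix_iff.mp ?_
    rw [show i ^ 2 * c * (i ^ 2)⁻¹ = i * (i * c * i⁻¹) * i⁻¹ by rw [pow_two]; group, show i * c * i⁻¹ = c⁻¹ from h2]
    exact conj_inv_elem h2
  obtain ⟨m, hm⟩ := hio
  have hic : i * c = c * i := by
    have hi' : i = (i ^ 2) ^ (m + 1) := by
      rw [← pow_mul, show 2 * (m + 1) = orderOf i + 1 by omega, pow_succ, pow_orderOf_eq_one, one_mul]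
    rw [hi']
    exact Commute.pow_left h3 _
  exact inverts_comm_eq_one h2 hic hco

/-- The order is the number of inverted elements times the number of fixed ones. -/
theorem card_split {E : Subgroup G} {z : G} (hz : z * z = 1) (ho : Odd (Nat.card ↥E))
    (hn : ∀ a ∈ E, z * a * z⁻¹ ∈ E) :
    Nat.card ↥E = {i | i ∈ E ∧ Inverts z i}.ncard * Nat.card ↥(E ⊓ Subgroup.centralizer ({z} : Set G)) := by
  rw [← Nat.card_coe_set_eq, ← Nat.card_prod]
  refine (Nat.card_eq_of_bijective (fun p => (⟨p.1.1 * p.2.1, E.mul_mem p.1.2.1 p.2.2.1⟩ : ↥E)) ⟨?_, ?_⟩).symm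
  · rintro ⟨⟨i, hiE, hi⟩, ⟨c, hcE, hc⟩⟩ ⟨⟨j, hjE, hj⟩, ⟨c', hc'E, hc'⟩⟩ e
    have e' : i * c = j * c' := congrArg Subtype.val e
    have hcc : c * c'⁻¹ = 1 := split_eq hi hj (ho.of_dvd_nat (Subgroup.orderOf_dvd_natCard E hiE))
      (Commute.mul_left (mem_cent.mp hc) (Commute.inv_left (mem_cent.mp hc')))
      (ho.of_dvd_nat (Subgroup.orderOf_dvd_natCard E (E.mul_mem hcE (E.inv_mem hc'E))))
      (by rw [← mul_assoc, e', mul_inv_cancel_right])
    obtain rfl : c = c' := mul_inv_eq_one.mp hcc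
    obtain rfl : i = j := mul_right_cancel e'
    rfl
  · rintro ⟨a, ha⟩
    obtain ⟨i, hi, hiz, c, hc, hcz, e⟩ := exists_split hz ho hn ha
    exact ⟨⟨⟨i, hi, hiz⟩, ⟨c, hc, mem_cent.mpr hcz⟩⟩, Subtype.ext e.symm⟩

/-- An automorphism of order prime to six of an abelian three-group, inverted by an involutive automorphism whose
fixed points are the powers of an element of order three, is trivial. -/
theorem fix_of_dihedral {V : Type*} [CommGroup V] [Finite V] (θ τ : V ≃* V) (hθ : ∀ v, θ (θ v) = v)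
    (hθτ : ∀ v, θ (τ v) = τ.symm (θ v)) {d : V} (hd3 : d ^ 3 = 1) (hd : θ d = d)
    (hfix : ∀ v, θ v = v → v ∈ Subgroup.zpowers d) (h3 : ∀ v : V, ∃ k, v ^ 3 ^ k = 1) {q : ℕ}
    (hq : Nat.Coprime q 24) (hτ : ∀ v, τ^[q] v = v) : ∀ v, τ v = v := by
  have hqodd : Odd q := Nat.coprime_two_right.mp (Nat.Coprime.coprime_dvd_right (by norm_num) hq)
  have hper : ∀ v, Function.IsPeriodicPt τ q v := hτ
  have htwo : ∀ v, τ (τ v) = v → τ v = v := by
    intro v h2
    have := (hper v).gcd (show Function.IsPeriodicPt τ 2 v from h2)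
    rwa [Nat.coprime_two_right.mpr hqodd] at this
  have hθs : ∀ v, θ (τ.symm v) = τ (θ v) := fun v => by
    have := hθτ (τ.symm v)
    rw [τ.apply_symm_apply] at this
    rw [this, τ.apply_symm_apply]
  set S : V → V := fun v => τ v / τ.symm v with hS
  have hSmul : ∀ a b, S (a * b) = S a * S b := fun a b => by
    simp only [hS, map_mul]
    exact mul_div_mul_comm _ _ _ _
  have hSinv : ∀ a, S a⁻¹ = (S a)⁻¹ := fun a => by simp only [hS, map_inv, inv_div_inv, inv_div]
  have hθS : ∀ v, θ (S v) = (S (θ v))⁻¹ := fun v => by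
    simp only [hS, map_div, hθτ, hθs, inv_div]
  have hSpow : ∀ a (n : ℕ), S (a ^ n) = S a ^ n := fun a n => by simp only [hS, map_pow, div_pow]
  have hodd3 : ∀ v : V, v * v = 1 → v = 1 := fun v hv => by
    obtain ⟨k, hk⟩ := h3 v
    have ho : Odd (orderOf v) := (Odd.pow (show Odd 3 by decide)).of_dvd_nat (orderOf_dvd_of_pow_eq_one hk)
    have hd2 : orderOf v ∣ 2 := orderOf_dvd_of_pow_eq_one (by rw [pow_two, hv])
    rcases (Nat.dvd_prime Nat.prime_two).mp hd2 with e | e
    · exact orderOf_eq_one_iff.mp e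
    · rw [e] at ho; exact absurd ho (by decide)
  have hmem : ∀ v, θ v = v → ∃ n : ℕ, v = d ^ n := fun v hv => by
    obtain ⟨n, hn⟩ := (isOfFinOrder_of_finite d).mem_powers_iff_mem_zpowers.mpr (hfix v hv)
    exact ⟨n, hn.symm⟩
  by_cases hSd : S d = 1
  · -- the square of `S` is trivial
    have hSS : ∀ v, S (S v) = 1 := fun v => by
      refine hodd3 _ ?_
      have h1 : S (S (v * θ v)) = 1 := by
        obtain ⟨n, hn⟩ := hmem (v * θ v) (by rw [map_mul, hθ, mul_comm])
        rw [hn, hSpow, hSd, one_pow]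
        simp [hS]
      have h2 : S (S (v * (θ v)⁻¹)) = 1 := by
        obtain ⟨n, hn⟩ := hmem (S (v * (θ v)⁻¹)) (by
          rw [hθS, map_mul, map_inv, hθ, hSmul, hSinv, hSmul, hSinv, mul_inv_rev, inv_inv, mul_comm])
        rw [hn, hSpow, hSd, one_pow]
      rw [hSmul, hSmul] at h1
      rw [hSmul, hSinv, hSmul, hSinv] at h2
      calc S (S v) * S (S v) = S (S v) * S (S (θ v)) * (S (S v) * (S (S (θ v)))⁻¹) := by
            rw [mul_mul_mul_comm, mul_inv_cancel, mul_one]
        _ = 1 := by rw [h1, h2, one_mul]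
    intro v
    refine htwo v ?_
    set σ : V ≃* V := τ.trans τ
    set c := σ v / v with hc
    have hcc : σ c = c := by
      have h := hSS (τ (τ v))
      simp only [hS, map_div, τ.symm_apply_apply] at h
      rw [div_eq_one] at h
      show τ (τ (τ (τ v) / v)) = τ (τ v) / v
      rw [map_div, map_div]
      exact h
    have hit : ∀ n : ℕ, σ^[n] v = v * c ^ n := by
      intro n
      induction n with
      | zero => simp
      | succ n ih =>
        rw [Function.iterate_succ_apply', ih, map_mul, map_pow, hcc, pow_succ', ← mul_assoc, hc, mul_div_cancel]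
    have hq' : σ^[q] v = v := by
      have e : (σ : V → V) = (τ : V → V)^[2] := rfl
      rw [e, ← Function.iterate_mul, mul_comm, Function.iterate_mul]
      exact Function.iterate_fixed (hτ v) 2
    have hcq : c ^ q = 1 := by
      have := hit q
      rwa [hq', left_eq_mul] at this
    obtain ⟨k, hk⟩ := h3 c
    have hc1 : c = 1 := orderOf_eq_one_iff.mp (Nat.eq_one_of_dvd_coprimes
      ((Nat.Coprime.coprime_dvd_right (by norm_num : 3 ∣ 24) hq).pow_right k)
      (orderOf_dvd_of_pow_eq_one hcq) (orderOf_dvd_of_pow_eq_one hk))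
    exact div_eq_one.mp hc1
  · exfalso
    refine hSd ?_
    have hSSfix : θ (S (S d)) = S (S d) := by
      have h1 : θ (S d) = (S d)⁻¹ := by rw [hθS, hd]
      rw [hθS, h1, hSinv, inv_inv]
    obtain ⟨j, hj⟩ := hmem _ hSSfix
    set σ : V ≃* V := τ.trans τ
    have hσ : ∀ v, σ v = τ (τ v) := fun v => rfl
    have key : σ (σ d) * d = σ d ^ (2 + j) := by
      have h : τ (τ d) / (d * d) * τ.symm (τ.symm d) = d ^ j := by
        rw [← hj]
        simp only [hS, map_div, τ.symm_apply_apply, τ.apply_symm_apply, div_div_eq_mul_div, div_mul_eq_mul_div,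
          div_div]
      have h' := congrArg (fun v => τ (τ v)) h
      simp only [map_mul, map_div, map_pow, τ.apply_symm_apply] at h'
      rw [pow_add, pow_two, hσ, hσ, ← h', ← mul_assoc, mul_div_cancel]
    have h3' : σ d ^ 3 = 1 := by rw [← map_pow, hd3, map_one]
    set m := (2 + j) % 3 with hm
    rw [show σ d ^ (2 + j) = σ d ^ m by rw [hm, ← pow_eq_pow_mod _ h3']] at key
    have hinv : d⁻¹ = d ^ 2 := inv_eq_of_mul_eq_one_right (by rw [← pow_succ', hd3])
    have h12 : σ^[12] d = d := by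
      have hm3 : m = 0 ∨ m = 1 ∨ m = 2 := by omega
      rcases hm3 with e | e | e <;> rw [e] at key
      · rw [pow_zero] at key
        have h2 : σ (σ d) = d⁻¹ := eq_inv_of_mul_eq_one_left key
        have h4 : σ^[4] d = d := by
          show σ (σ (σ (σ d))) = d
          rw [h2, map_inv, map_inv, h2, inv_inv]
        rw [show 12 = 4 * 3 from rfl, Function.iterate_mul]
        exact Function.iterate_fixed h4 3
      · rw [pow_one] at key
        have h2 : σ (σ d) = σ d * d⁻¹ := eq_mul_inv_of_mul_eq key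
        have h6 : σ^[6] d = d := by
          show σ (σ (σ (σ (σ (σ d))))) = d
          have h3 : σ (σ (σ d)) = d⁻¹ := by
            rw [h2, map_mul, map_inv, h2, mul_right_comm, mul_inv_cancel, one_mul]
          rw [h3, map_inv, map_inv, map_inv, h3, inv_inv]
        rw [show 12 = 6 * 2 from rfl, Function.iterate_mul]
        exact Function.iterate_fixed h6 2
      · have h2 : σ (σ d) = σ d ^ 2 * d⁻¹ := eq_mul_inv_of_mul_eq key
        have h3 : σ^[3] d = d := by
          show σ (σ (σ d)) = d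
          rw [h2, map_mul, map_pow, map_inv, h2, mul_pow, ← pow_mul, hinv, ← pow_mul,
            show σ d ^ (2 * 2) = σ d by rw [pow_succ (σ d) 3, h3', one_mul],
            show d ^ (2 * 2) = d by rw [pow_succ d 3, hd3, one_mul], mul_right_comm, mul_inv_cancel, one_mul]
        rw [show 12 = 3 * 4 from rfl, Function.iterate_mul]
        exact Function.iterate_fixed h3 4
    have h24 : Function.IsPeriodicPt τ 24 d := by
      show τ^[2 * 12] d = d
      rw [Function.iterate_mul]
      exact h12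
    have hfixd := (hper d).gcd h24
    rw [show Nat.gcd q 24 = 1 from hq] at hfixd
    have hd1 : τ d = d := hfixd
    show τ d / τ.symm d = 1
    rw [hd1, (τ.symm_apply_eq).mpr hd1.symm, div_self']

end CfsgLib.J3Type
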