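import Cfsg.Agent.Lib.J3Type.SixSpecial
import Cfsg.Agent.Lib.J3Type.OddAction

/-!
Groups of `J₃` type, alternating case: the centralizers of the inverted elements with stabiliser of order three.
-/

set_option autoImplicit false
set_option linter.unusedSectionVars false
set_option maxHeartbeats 800000

namespace CfsgLib.J3Type

open Cfsg CfsgLargeExtra Equiv
open CfsgLib.HallJankoType (orb mem_cent conj_fix_iff ncard_orb orderOf_conj')

universe u

variable {G : Type u} [Group G] [Finite G] {z : G} {Q : Subgroup G} {pm : G → Perm (Fin 5)}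

/-- The elements inverted by `z` commuting with `x`. -/
def invC (z x : G) : Set G := {y | y * x = x * y ∧ Inverts z y}

theorem invC_conj {c x y : G} (hc : c * z = z * c) (hy : y ∈ invC z x) : c * y * c⁻¹ ∈ invC z (c * x * c⁻¹) := by
  refine ⟨conj_comm hy.1, ?_⟩
  have := inverts_conj (c := c) hy.2
  rwa [conj_fix_iff.mpr hc] at this

theorem invC_conj_iff {c x y : G} (hc : c * z = z * c) :
    c * y * c⁻¹ ∈ invC z (c * x * c⁻¹) ↔ y ∈ invC z x := by
  refine ⟨fun hy => ?_, invC_conj hc⟩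
  have := invC_conj (c := c⁻¹) (Commute.inv_left hc) hy
  rwa [inv_inv, show c⁻¹ * (c * x * c⁻¹) * c = x by group, show c⁻¹ * (c * y * c⁻¹) * c = y by group] at this

theorem ncard_invC_conj {c : G} (x : G) (hc : c * z = z * c) :
    (invC z (c * x * c⁻¹)).ncard = (invC z x).ncard := by
  rw [← Set.ncard_image_of_injective (invC z x) (show Function.Injective fun y : G => c * y * c⁻¹ from
    fun a b e => mul_left_cancel (mul_right_cancel e))]
  congr 1
  ext y
  refine ⟨fun hy => ⟨c⁻¹ * y * c, (invC_conj_iff hc).mp ?_, by show c * (c⁻¹ * y * c) * c⁻¹ = y; group⟩, ?_⟩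
  · rwa [show c * (c⁻¹ * y * c) * c⁻¹ = y by group]
  · rintro ⟨t, ht, rfl⟩
    exact invC_conj hc ht

theorem clsE_conj {c y : G} (hc : c * z = z * c) (hy : y ∈ clsE z) : c * y * c⁻¹ ∈ clsE z := by
  refine ⟨oddInverted_conj hc hy.1, ?_, by rw [card_CC_fix hc]; exact hy.2.2⟩
  rintro ⟨u, hu, hu1, huz, huy⟩
  refine hy.2.1 ⟨c⁻¹ * u * c, ?_, fun e => hu1 ?_, ?_, ?_⟩
  · rw [show c⁻¹ * u * c * (c⁻¹ * u * c) = c⁻¹ * (u * u) * c by group, hu]; group
  · rw [show u = c * (c⁻¹ * u * c) * c⁻¹ by group, e]; group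
  · exact Commute.mul_left (Commute.mul_left (Commute.inv_left hc) huz) hc
  · have := conj_comm (g := c⁻¹) huy
    rwa [inv_inv, show c⁻¹ * (c * y * c⁻¹) * c = y by group] at this

theorem ThreeQ.card_cent {d : G} {X : Type*} [Group X] {π : G → X} (hπ : ThreeQ d π) :
    Nat.card ↥(Subgroup.centralizer ({d} : Set G)) = orderOf d * Nat.card X := by
  let φ : ↥(Subgroup.centralizer ({d} : Set G)) →* X :=
    MonoidHom.mk' (fun a => π a) fun a b => hπ.mul _ _ (mem_cent.mp a.2) (mem_cent.mp b.2)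
  have hr : Function.Surjective φ := fun x => by
    obtain ⟨a, ha, rfl⟩ := hπ.surj x
    exact ⟨⟨a, mem_cent.mpr ha⟩, rfl⟩
  have hk : Nat.card φ.ker = orderOf d := by
    rw [← Nat.card_zpowers]
    exact Nat.card_congr
      { toFun := fun a => ⟨(a.1 : G), (hπ.ker _ (mem_cent.mp a.1.2)).mp a.2⟩
        invFun := fun q => ⟨⟨q.1, mem_cent.mpr (comm_mem_zpowers rfl q.2).symm⟩,
          (hπ.ker _ (comm_mem_zpowers rfl q.2).symm).mpr q.2⟩
        left_inv := fun a => rfl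
        right_inv := fun q => rfl }
  rw [← Subgroup.card_mul_index φ.ker, Subgroup.index_ker, hk, MonoidHom.range_eq_top.mpr hr, Subgroup.card_top]

namespace SixType

variable (hs : SixType G) (h : JT z Q pm) (hone : OneClass G)
include hs h hone

/-- Every element of order five is centralized by an involution. -/
theorem five_invCent {x : G} (hx : orderOf x = 5) : IsInvCent 5 x := by
  haveI : Fact (Nat.Prime 5) := ⟨Nat.prime_five⟩
  obtain ⟨v, -, f, hfz, hfo, -⟩ := h.exists_inverted (n := 5) (Or.inr rfl)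
  have hpg : ∀ {y : G}, orderOf y = 5 → IsPGroup 5 ↥(Subgroup.zpowers y) := fun hy =>
    IsPGroup.of_card (n := 1) (by rw [Nat.card_zpowers, hy, pow_one])
  obtain ⟨P, hP⟩ := (hpg hx).exists_le_sylow
  obtain ⟨T, hT⟩ := (hpg hfo).exists_le_sylow
  obtain ⟨g, hg⟩ := MulAction.exists_smul_eq G T P
  have hxP : x ∈ (P : Subgroup G) := hP (Subgroup.mem_zpowers x)
  set f₁ := g * f * g⁻¹ with hf₁
  have hf₁P : f₁ ∈ (P : Subgroup G) := by
    rw [← hg, Sylow.coe_subgroup_smul]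
    exact Subgroup.smul_mem_pointwise_smul _ _ _ (hT (Subgroup.mem_zpowers f))
  have hi : IsInvCent 5 f₁ := (h.isInvCent hfz hfo).conj g
  obtain ⟨O, e, heo, -, hef, ho15, hgen, hfO, -, hmem, -⟩ := hs.five_group h hone hi
  -- an element of the Sylow subgroup commuting with `f₁` is a power of it
  have hcomm : ∀ c ∈ (P : Subgroup G), c * f₁ = f₁ * c → c ∈ Subgroup.zpowers f₁ := by
    intro c hc hcf
    obtain ⟨k, hk⟩ := P.2 ⟨c, hc⟩
    have hk' : c ^ 5 ^ k = 1 := congrArg Subtype.val hk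
    have hcO := hmem c hcf ((Odd.pow (show Odd 5 by decide)).of_dvd_nat (orderOf_dvd_of_pow_eq_one hk'))
    obtain ⟨m, hm⟩ := (isOfFinOrder_of_finite (e * f₁)).mem_powers_iff_mem_zpowers.mpr (hgen ▸ hcO)
    have hm' : c = e ^ m * f₁ ^ m := by rw [← (show Commute e f₁ from hef).mul_pow]; exact hm.symm
    have hc15 : orderOf c ∣ 15 := by
      rw [← ho15, ← Nat.card_zpowers (e * f₁), ← hgen]; exact Subgroup.orderOf_dvd_natCard O hcO
    have hc5 : orderOf c ∣ 5 := (Nat.Coprime.dvd_mul_left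
      (Nat.Coprime.coprime_dvd_left (orderOf_dvd_of_pow_eq_one hk')
        ((show Nat.Coprime 5 3 by norm_num).pow_left k))).mp (show orderOf c ∣ 3 * 5 from hc15)
    have h5 := orderOf_dvd_iff_pow_eq_one.mp hc5
    have hem : e ^ m = 1 := by
      rw [hm', (Commute.pow_pow hef m m).mul_pow, show (f₁ ^ m) ^ 5 = 1 by
        rw [← pow_mul, mul_comm, pow_mul, ← hi.1, pow_orderOf_eq_one, one_pow], mul_one, ← pow_mul] at h5
      have h3 : 3 ∣ m * 5 := heo ▸ orderOf_dvd_of_pow_eq_one h5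
      obtain ⟨r, hr⟩ : 3 ∣ m := by omega
      rw [hr, pow_mul, ← heo, pow_orderOf_eq_one, one_pow]
    rw [hm', hem, one_mul]
    exact Subgroup.pow_mem _ (Subgroup.mem_zpowers _) m
  haveI : Nontrivial ↥(P : Subgroup G) := ⟨⟨⟨x, hxP⟩, 1, fun e => by
    rw [show x = 1 from congrArg Subtype.val e, orderOf_one] at hx; omega⟩⟩
  haveI := IsPGroup.center_nontrivial P.2
  obtain ⟨⟨⟨c, hcP⟩, hc⟩, hc1⟩ := exists_ne (1 : Subgroup.center ↥(P : Subgroup G))
  have hcc : ∀ b ∈ (P : Subgroup G), b * c = c * b := fun b hb =>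
    congrArg Subtype.val (Subgroup.mem_center_iff.mp hc ⟨b, hb⟩)
  have hc1' : c ≠ 1 := fun e => hc1 (Subtype.ext (Subtype.ext e))
  have hcf : c ∈ Subgroup.zpowers f₁ := hcomm c hcP (hcc f₁ hf₁P).symm
  have hfc : f₁ ∈ Subgroup.zpowers c := by
    have e : Subgroup.zpowers c = Subgroup.zpowers f₁ := by
      refine Subgroup.eq_of_le_of_card_ge (Subgroup.zpowers_le.mpr hcf) (le_of_eq ?_)
      have hd := Subgroup.orderOf_dvd_natCard _ hcf
      rw [Nat.card_zpowers, hi.1] at hd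
      rw [Nat.card_zpowers, Nat.card_zpowers, hi.1,
        (Nat.prime_five.eq_one_or_self_of_dvd _ hd).resolve_left fun e => hc1' (orderOf_eq_one_iff.mp e)]
    exact e.symm ▸ Subgroup.mem_zpowers f₁
  obtain ⟨i, hi'⟩ := (isOfFinOrder_of_finite f₁).mem_powers_iff_mem_zpowers.mpr
    (hcomm x hxP (comm_mem_zpowers (hcc x hxP) hfc))
  have hx1 : x ≠ 1 := fun e => by rw [e, orderOf_one] at hx; omega
  have hi'' : f₁ ^ i = x := hi'
  rw [← hi'']
  exact hi.pow Nat.prime_five (by rw [hi'']; exact hx1)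

theorem clsE_of_nonfree {a : G} (ha : a ∈ nonfree z) (hi : ¬ InvY z a) : a ∈ clsE z := by
  rcases h.card_free_invol ha.1 hi with e | e | e
  · exact absurd e ha.2
  · exact ⟨ha.1, hi, e⟩
  · exfalso
    haveI : Fact (Nat.Prime 5) := ⟨Nat.prime_five⟩
    obtain ⟨⟨f, hf⟩, hfo⟩ := exists_prime_orderOf_dvd_card' (G := ↥(CC a z)) 5 (by rw [e])
    rw [Subgroup.orderOf_mk] at hfo
    obtain ⟨hfa, hfz⟩ := mem_CC.mp hf
    obtain ⟨O, C⟩ := h.exists_fiveCore hfz hfo
    exact hi (hs.comm_five h hone C (C.mem_odd a hfa.symm ha.1.2.1) ha.1.1 ha.1.2.2).2.1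

/-- The elements of `clsE` form one orbit. -/
theorem clsE_orbit {e e' : G} (he : e ∈ clsE z) (he' : e' ∈ clsE z) :
    ∃ c : G, c * z = z * c ∧ c * e * c⁻¹ = e' := by
  have hsub : orb (Subgroup.centralizer ({z} : Set G)) e ⊆ clsE z := by
    rintro _ ⟨c, hc, rfl⟩
    exact clsE_conj (mem_cent.mp hc) he
  have hcard := ncard_orb (Subgroup.centralizer ({z} : Set G)) e
  rw [inf_comm, show Nat.card ↥(Subgroup.centralizer ({e} : Set G) ⊓ Subgroup.centralizer ({z} : Set G)) = 3 from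
    he.2.2, h.card_C] at hcard
  have heq := Set.eq_of_subset_of_ncard_le hsub (by rw [(hs.nonfree_count h hone).2.2]; omega)
  obtain ⟨c, hc, e1⟩ : e' ∈ orb (Subgroup.centralizer ({z} : Set G)) e := heq ▸ he'
  exact ⟨c, mem_cent.mp hc, e1⟩

/-- The element of order three fixed by `z` and commuting with an element of `clsE`. -/
theorem clsE_data {e : G} (he : e ∈ clsE z) :
    ∃ (d : G) (X : Type) (_ : Group X) (π : G → X), XSix X ∧ ThreeQ d π ∧ d * z = z * d ∧ orderOf d = 3 ∧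
      IsInvCent 3 d ∧ e * d = d * e ∧ CC e z = Subgroup.zpowers d ∧ π e ^ 3 = 1 ∧ π e ≠ 1 ∧ e ^ 9 = 1 := by
  haveI : Fact (Nat.Prime 3) := ⟨Nat.prime_three⟩
  obtain ⟨⟨d, hd⟩, hdo⟩ := exists_prime_orderOf_dvd_card' (G := ↥(CC e z)) 3 (by rw [he.2.2])
  rw [Subgroup.orderOf_mk] at hdo
  obtain ⟨hde, hdz⟩ := mem_CC.mp hd
  have hd3 : d ^ 3 = 1 := hdo ▸ pow_orderOf_eq_one d
  have hCC : CC e z = Subgroup.zpowers d :=
    (Subgroup.eq_of_le_of_card_ge (Subgroup.zpowers_le.mpr hd) (by rw [he.2.2, Nat.card_zpowers, hdo])).symm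
  obtain ⟨X, _, π, hX, hπ⟩ := hs d (h.isInvCent hdz hdo)
  haveI : Finite X := Finite.of_surjective π fun s => (hπ.surj s).imp fun b hb => hb.2
  have hed := hde.symm
  have hs1 : π e ≠ 1 := fun e1 => he.1.1
    (inverts_comm_eq_one he.1.2.2 (comm_mem_zpowers hdz.symm ((hπ.ker e hed).mp e1)) he.1.2.1)
  have hso : Odd (orderOf (π e)) := he.1.2.1.of_dvd_nat (orderOf_dvd_of_pow_eq_one (by
    rw [← hπ.map_pow hed, pow_orderOf_eq_one, hπ.map_one']))
  have hp3 : π e ^ 3 = 1 := by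
    rcases hX.orders (π e) with e1 | e1 | e1
    · exact e1
    · exfalso
      have h2 : π e * π e = 1 := by
        rw [← pow_two]
        exact eq_one_of_sq_odd (by rw [← pow_add]; exact e1) (hso.of_dvd_nat (orderOf_pow_dvd _))
      exact hs1 (eq_one_of_sq_odd h2 hso)
    · exact absurd (h.invY_of_three hone hdz hdo hX.toXBase hπ he.1 hed e1).1 he.2.1
  obtain ⟨i, hi⟩ := (isOfFinOrder_of_finite d).mem_powers_iff_mem_zpowers.mpr
    ((hπ.ker _ (Commute.pow_left hed 3)).mp (by rw [hπ.map_pow hed]; exact hp3))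
  have hi' : d ^ i = e ^ 3 := hi
  have h9 : e ^ 9 = 1 := by
    rw [show 9 = 3 * 3 from rfl, pow_mul, ← hi', ← pow_mul, mul_comm, pow_mul, hd3, one_pow]
  exact ⟨d, X, _, π, hX, hπ, hdz, hdo, h.isInvCent hdz hdo, hed, hCC, hp3, hs1, h9⟩

/-- The centralizer of an element of `clsE` has odd order and is normalised by `z`. -/
theorem clsE_cent {e : G} (he : e ∈ clsE z) :
    Odd (Nat.card ↥(Subgroup.centralizer ({e} : Set G))) ∧
      (∀ a ∈ Subgroup.centralizer ({e} : Set G), z * a * z⁻¹ ∈ Subgroup.centralizer ({e} : Set G)) ∧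
      Nat.card ↥(Subgroup.centralizer ({e} : Set G)) = 3 * (invC z e).ncard := by
  have hn : ∀ a ∈ Subgroup.centralizer ({e} : Set G), z * a * z⁻¹ ∈ Subgroup.centralizer ({e} : Set G) :=
    fun a ha => mem_cent.mpr (ThreeQ.comm_of_inverts he.1.2.2 (mem_cent.mp ha))
  have ho := odd_of_fixed_free h.zz hn fun a ha haa hza => by
    by_contra ha1
    exact he.2.1 ⟨a, haa, ha1, hza.symm, mem_cent.mp ha⟩
  refine ⟨ho, hn, ?_⟩
  rw [card_split h.zz ho hn, show Nat.card ↥(Subgroup.centralizer ({e} : Set G) ⊓ Subgroup.centralizer ({z} : Set G)) = 3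
    from he.2.2, mul_comm]
  congr 2
  ext y
  exact and_congr_left' mem_cent

/-- The elements centralizing `e` and `d`. -/
theorem clsE_T {e d : G} {X : Type} [Group X] {π : G → X} (hX : XSix X) (hπ : ThreeQ d π)
    (hdz : d * z = z * d) (hdo : orderOf d = 3) (hed : e * d = d * e) (he : Inverts z e) (h3 : π e ^ 3 = 1)
    (h1 : π e ≠ 1) : (∀ g ∈ CC e d, g ^ 9 = 1) ∧ Nat.card ↥(CC e d) ≤ 27 := by
  classical
  have hd3 : d ^ 3 = 1 := hdo ▸ pow_orderOf_eq_one d
  constructor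
  · intro g hg
    obtain ⟨hge, hgd⟩ := mem_CC.mp hg
    obtain ⟨hw, hw1⟩ := hπ.invol_map hd3 h.zz h.es.ne hdz.symm
    have hg3 := (hX.cent_inverted (π e) (π z) (π g) h3 h1 hw hw1 (hπ.map_inverts hdz.symm hed he)
      (by rw [← hπ.mul _ _ hgd hed, hge, hπ.mul _ _ hed hgd])).1
    obtain ⟨i, hi⟩ := (isOfFinOrder_of_finite d).mem_powers_iff_mem_zpowers.mpr
      ((hπ.ker _ (Commute.pow_left hgd 3)).mp (by rw [hπ.map_pow hgd]; exact hg3))
    have hi' : d ^ i = g ^ 3 := hi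
    rw [show 9 = 3 * 3 from rfl, pow_mul, ← hi', ← pow_mul, mul_comm, pow_mul, hd3, one_pow]
  · choose lift hlift hlπ using hπ.surj
    haveI : Finite X := Finite.of_surjective π fun s => (hπ.surj s).imp fun b hb => hb.2
    set S : Set X := {g | g * π e = π e * g}
    have hsub : (CC e d : Set G) ⊆ (fun p : X × Fin 3 => lift p.1 * d ^ (p.2 : ℕ)) '' (S ×ˢ Set.univ) := by
      intro g hg
      obtain ⟨hge, hgd⟩ := mem_CC.mp hg
      obtain ⟨j, hj⟩ := (hπ.eq_iff hd3 (hlift (π g)) hgd).mp (hlπ (π g))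
      refine ⟨(π g, ⟨j % 3, Nat.mod_lt _ (by norm_num)⟩), ⟨?_, Set.mem_univ _⟩, ?_⟩
      · show π g * π e = π e * π g
        rw [← hπ.mul _ _ hgd hed, hge, hπ.mul _ _ hed hgd]
      · show lift (π g) * d ^ (j % 3) = g
        rw [← pow_eq_pow_mod _ hd3, ← hj]
    refine (Nat.card_coe_set_eq _).trans_le ((Set.ncard_le_ncard hsub (Set.toFinite _)).trans
      ((Set.ncard_image_le (Set.toFinite _)).trans (le_of_eq ?_)))
    rw [Set.ncard_prod, hX.three_cent _ h3 h1, Set.ncard_univ, Nat.card_fin]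

/-- The inverted elements commuting with an element of `clsE` are free or in `clsE`. -/
theorem clsE_comm {e x : G} (he : e ∈ clsE z) (hx : x ∈ oddInverted z) (hc : x * e = e * x) :
    x ∈ free z ∨ x ∈ clsE z := by
  by_cases hf : Nat.card ↥(CC x z) = 1
  · exact Or.inl ⟨hx, hf⟩
  refine Or.inr (hs.clsE_of_nonfree h hone ⟨hx, hf⟩ fun hi => he.2.1 ?_)
  obtain ⟨d, X, _, π, hX, hπ, hdz, hdo, -, hed, -, -, -, he9⟩ := hs.clsE_data h hone he
  rcases h.invY_order hone hx hi with hx3 | hx5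
  · have hx10 : x ∈ cls z 10 := by
      rcases hs.vals h hone hx hi with ⟨-, e'⟩ | ⟨e', -⟩
      · exact ⟨hx, hi, e'⟩
      · have := hx3.1; omega
    obtain ⟨Y, _, σ, hY, hσ⟩ := hs x hx3
    have h9 : σ e ^ 9 = 1 := by rw [← hσ.map_pow hc.symm, he9, hσ.map_one']
    have h3 : σ e ^ 3 = 1 := by
      have key : ∀ k : ℕ, Nat.Coprime 9 k → σ e ^ k = 1 → σ e ^ 3 = 1 := fun k hk e1 => by
        rw [show σ e = 1 from orderOf_eq_one_iff.mp (Nat.eq_one_of_dvd_coprimes hk
          (orderOf_dvd_of_pow_eq_one h9) (orderOf_dvd_of_pow_eq_one e1)), one_pow]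
      rcases hY.orders (σ e) with e1 | e1 | e1
      exacts [e1, key 4 (by norm_num) e1, key 5 (by norm_num) e1]
    by_cases h1 : σ e = 1
    · obtain ⟨i, hi'⟩ := (isOfFinOrder_of_finite x).mem_powers_iff_mem_zpowers.mpr ((hσ.ker e hc.symm).mp h1)
      have hi'' : x ^ i = e := hi'
      exact h.invY_of_invCent hs.qType hone (Or.inl rfl)
        (hi'' ▸ hx3.pow Nat.prime_three (hi''.symm ▸ he.1.1)) he.1.2.2
    · exact (hs.ten_three h hone hx10 he.1 hc.symm hY hσ h3 h1).elim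
  · obtain ⟨O, e', heo, heD, hea, ho15, hgen, hxO, -, hmem, -⟩ := hs.five_group h hone hx5
    have heO := hmem e hc.symm he.1.2.1
    obtain ⟨k, hk⟩ := (isOfFinOrder_of_finite (e' * x)).mem_powers_iff_mem_zpowers.mpr (hgen ▸ heO)
    have hk' : e = e' ^ k * x ^ k := by rw [← (show Commute e' x from hea).mul_pow]; exact hk.symm
    have hxk : x ^ k = 1 := by
      have h1 := he9
      rw [hk', (Commute.pow_pow hea k k).mul_pow, ← pow_mul e', show k * 9 = 3 * (k * 3) by ring, pow_mul,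
        show e' ^ 3 = 1 from heo ▸ pow_orderOf_eq_one e', one_pow, one_mul, ← pow_mul] at h1
      have h5 : 5 ∣ k * 9 := hx5.1 ▸ orderOf_dvd_of_pow_eq_one h1
      obtain ⟨m, hm⟩ : 5 ∣ k := by omega
      rw [hm, pow_mul, (hx5.odd (Or.inr rfl)).2.1, one_pow]
    rw [hxk, mul_one] at hk'
    exact h.invY_of_invCent hs.qType hone (Or.inl rfl)
      (hk' ▸ heD.pow Nat.prime_three (by rw [← hk']; exact he.1.1)) he.1.2.2

/-- The index is divisible by nine. -/
theorem nine_dvd : 9 ∣ {v : G | v * v = 1 ∧ v ≠ 1}.ncard := by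
  obtain ⟨v, -, d, hdz, hdo, -⟩ := h.exists_inverted (n := 3) (Or.inl rfl)
  obtain ⟨X, _, π, hX, hπ⟩ := hs d (h.isInvCent hdz hdo)
  have hd := Subgroup.card_subgroup_dvd_card (Subgroup.centralizer ({d} : Set G))
  rw [hπ.card_cent, hdo, hX.card, h.card_eq_index hone] at hd
  omega

end SixType

end CfsgLib.J3Type
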