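import Cfsg.Agent.Lib.J3Type.Pair

/-!
Groups of `J₃` type: the involutions of the centralizer, following `HallJankoType.Classes`.
-/

set_option autoImplicit false
set_option linter.unusedSectionVars false

namespace CfsgLib.J3Type

open Cfsg CfsgLargeExtra Equiv
open CfsgLib.HallJankoType (orb mem_cent conj_fix_iff ncard_orb IsInv5 four_closed inv5_conj inv5_cent_card inv5_count)

universe u

variable {G : Type u} [Group G] [Finite G] {z x t t' : G} {Q Q' : Subgroup G} {pm pm' : G → Perm (Fin 5)}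

theorem orderOf_two_of {y : G} (h : y * y = 1) (h1 : y ≠ 1) : orderOf y = 2 :=
  orderOf_eq_prime (by rw [pow_two, h]) h1

theorem conj_sq (c y : G) (h : y * y = 1) : c * y * c⁻¹ * (c * y * c⁻¹) = 1 := by
  rw [show c * y * c⁻¹ * (c * y * c⁻¹) = c * (y * y) * c⁻¹ by group, h]; group

theorem conj_back {c a b : G} (h : c * a * c⁻¹ = b) : c⁻¹ * b * c = a := by rw [← h]; group

theorem exists_cfg_of_JT (h : JT z Q pm) :
    ∃ (x t t' : G) (Q' : Subgroup G) (pm' : G → Perm (Fin 5)), Cfg z x t t' Q Q' pm pm' := by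
  obtain ⟨x, Q', pm', P⟩ := h.exists_pair
  obtain ⟨t, t', K⟩ := P.exists_cfg
  exact ⟨x, t, t', Q', pm', K⟩

namespace Cfg

variable (K : Cfg z x t t' Q Q' pm pm')
include K

theorem t_not_Q : t ∉ Q := fun hq => K.inv.2.2 (K.P.h.pm_Q hq)

theorem t_ne : t ≠ 1 := fun e => K.t_not_Q (e ▸ one_mem _)

theorem ht : orderOf t = 2 := orderOf_two_of K.tt K.t_ne

theorem U_comm_t {u : G} (hu : u ∈ K.P.U) : u * t = t * u := K.P.U_central hu K.tz K.tx

theorem U_comm_t' {u : G} (hu : u ∈ K.P.U) : u * t' = t' * u := K.P.U_central hu K.tz' K.tx'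

/-- The centralizer of `z` and `t`. -/
def E (_K : Cfg z x t t' Q Q' pm pm') : Subgroup G :=
  Subgroup.centralizer ({z} : Set G) ⊓ Subgroup.centralizer ({t} : Set G)

theorem mem_E {e : G} : e ∈ K.E ↔ e * z = z * e ∧ e * t = t * e :=
  ⟨fun h => ⟨mem_cent.mp h.1, mem_cent.mp h.2⟩, fun h => ⟨mem_cent.mpr h.1, mem_cent.mpr h.2⟩⟩

theorem U_le_E : K.P.U ≤ K.E := fun u hu =>
  K.mem_E.mpr ⟨K.P.h.es.comm u (K.P.U_mem hu).1, K.U_comm_t hu⟩

theorem t_mem_E : t ∈ K.E := K.mem_E.mpr ⟨K.tz, rfl⟩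

theorem t'_mem_E : t' ∈ K.E := K.mem_E.mpr ⟨K.tz', K.comm.symm⟩

theorem pm_tt' : pm (t * t') = pm t * pm t' := K.P.h.pm_mul _ _ K.tz K.tz'

theorem pm_comm : pm t * pm t' = pm t' * pm t := by
  rw [← K.pm_tt', K.comm, K.P.h.pm_mul _ _ K.tz' K.tz]

theorem E_cases {e : G} (he : e ∈ K.E) :
    ∃ u ∈ K.P.U, e = u ∨ e = t * u ∨ e = t' * u ∨ e = t * t' * u := by
  obtain ⟨hez, het⟩ := K.mem_E.mp he
  have key : ∀ g ∈ K.E, pm g = 1 → g ∈ K.P.U := fun g hg h1 => by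
    obtain ⟨hgz, hgt⟩ := K.mem_E.mp hg
    exact K.centQ g ((K.P.h.pm_ker g hgz).mp h1) hgt
  have hsolve : ∀ w ∈ K.E, pm e = pm w → ∃ u ∈ K.P.U, e = w * u := by
    intro w hw hp
    refine ⟨w⁻¹ * e, key _ (mul_mem (inv_mem hw) he) ?_, by group⟩
    have hwz := (K.mem_E.mp hw).1
    rw [K.P.h.pm_mul _ _ (Commute.inv_left hwz) hez, K.P.h.pm_inv hwz, hp, inv_mul_cancel]
  have hc : pm e * pm t = pm t * pm e := by
    rw [← K.P.h.pm_mul _ _ hez K.tz, het, K.P.h.pm_mul _ _ K.tz hez]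
  rcases four_closed _ K.inv _ K.inv' K.pm_comm K.pm_ne _ (K.P.h.pm_sign e hez) hc with h | h | h | h
  · exact ⟨e, key e he h, Or.inl rfl⟩
  · obtain ⟨u, hu, e'⟩ := hsolve t K.t_mem_E h
    exact ⟨u, hu, Or.inr (Or.inl e')⟩
  · obtain ⟨u, hu, e'⟩ := hsolve t' K.t'_mem_E h
    exact ⟨u, hu, Or.inr (Or.inr (Or.inl e'))⟩
  · obtain ⟨u, hu, e'⟩ := hsolve (t * t') (mul_mem K.t_mem_E K.t'_mem_E) (h.trans K.pm_tt'.symm)
    exact ⟨u, hu, Or.inr (Or.inr (Or.inr e'))⟩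

theorem E_comm_x {e : G} (he : e ∈ K.E) : e * x = x * e := by
  obtain ⟨u, hu, rfl | rfl | rfl | rfl⟩ := K.E_cases he
  · exact (K.P.U_mem hu).2.1
  · exact Commute.mul_left K.tx (K.P.U_mem hu).2.1
  · exact Commute.mul_left K.tx' (K.P.U_mem hu).2.1
  · exact Commute.mul_left (Commute.mul_left K.tx K.tx') (K.P.U_mem hu).2.1

theorem E_sq {e : G} (he : e ∈ K.E) : e * e = 1 := by
  have h2 : ∀ w : G, ∀ u ∈ K.P.U, w * z = z * w → w * x = x * w → w * w = 1 → w * u * (w * u) = 1 := by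
    intro w u hu hwz hwx hww
    rw [show w * u * (w * u) = w * (u * w) * u by group, K.P.U_central hu hwz hwx,
      show w * (w * u) * u = w * w * (u * u) by group, hww, (K.P.U_mem hu).2.2, one_mul]
  obtain ⟨u, hu, rfl | rfl | rfl | rfl⟩ := K.E_cases he
  · exact (K.P.U_mem hu).2.2
  · exact h2 t u hu K.tz K.tx K.tt
  · exact h2 t' u hu K.tz' K.tx' K.tt'
  · refine h2 _ u hu (Commute.mul_left K.tz K.tz') (Commute.mul_left K.tx K.tx') ?_
    rw [show t * t' * (t * t') = t * (t' * t) * t' by group, ← K.comm,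
      show t * (t * t') * t' = t * t * (t' * t') by group, K.tt, K.tt', one_mul]

theorem E_inv {a : G} (ha : a ∈ K.E) : a⁻¹ = a := inv_eq_of_mul_eq_one_right (K.E_sq ha)

theorem E_comm {a b : G} (ha : a ∈ K.E) (hb : b ∈ K.E) : a * b = b * a := by
  have e := inv_eq_of_mul_eq_one_right (K.E_sq (mul_mem ha hb))
  rw [mul_inv_rev, K.E_inv ha, K.E_inv hb] at e
  exact e.symm

theorem E_inter_Q {e : G} (he : e ∈ K.E) (hq : e ∈ Q) : e ∈ K.P.U := K.centQ e hq (K.mem_E.mp he).2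

theorem card_E : Nat.card ↥K.E = 16 := by
  classical
  let φ : ↥K.E →* Perm (Fin 5) :=
    MonoidHom.mk' (fun a => pm a) fun a b => K.P.h.pm_mul _ _ (K.mem_E.mp a.2).1 (K.mem_E.mp b.2).1
  have hr : (φ.range : Set (Perm (Fin 5))) = {1, pm t, pm t', pm t * pm t'} := by
    ext σ
    constructor
    · rintro ⟨⟨a, ha⟩, rfl⟩
      have haz := (K.mem_E.mp ha).1
      refine Set.mem_insert_iff.mpr ?_
      show pm a = 1 ∨ pm a ∈ ({pm t, pm t', pm t * pm t'} : Set (Perm (Fin 5)))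
      obtain ⟨u, hu, rfl | rfl | rfl | rfl⟩ := K.E_cases ha
      · exact Or.inl (K.P.h.pm_Q (K.P.U_mem hu).1)
      · have huz := K.P.h.es.comm u (K.P.U_mem hu).1
        right; left; rw [K.P.h.pm_mul _ _ K.tz huz, K.P.h.pm_Q (K.P.U_mem hu).1, mul_one]
      · have huz := K.P.h.es.comm u (K.P.U_mem hu).1
        right; right; left; rw [K.P.h.pm_mul _ _ K.tz' huz, K.P.h.pm_Q (K.P.U_mem hu).1, mul_one]
      · have huz := K.P.h.es.comm u (K.P.U_mem hu).1
        right; right; right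
        show pm (t * t' * u) = pm t * pm t'
        rw [K.P.h.pm_mul _ _ (Commute.mul_left K.tz K.tz') huz, K.P.h.pm_Q (K.P.U_mem hu).1, mul_one, K.pm_tt']
    · rintro (rfl | rfl | rfl | rfl)
      exacts [⟨1, map_one φ⟩, ⟨⟨t, K.t_mem_E⟩, rfl⟩, ⟨⟨t', K.t'_mem_E⟩, rfl⟩,
        ⟨⟨t * t', mul_mem K.t_mem_E K.t'_mem_E⟩, K.pm_tt'⟩]
  have hr4 : Nat.card φ.range = 4 := by
    rw [show Nat.card φ.range = (φ.range : Set (Perm (Fin 5))).ncard from Nat.card_coe_set_eq _, hr,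
      Set.ncard_insert_of_notMem, Set.ncard_insert_of_notMem, Set.ncard_pair]
    · exact fun e => K.inv.2.2 (mul_eq_right.mp e.symm)
    · rintro (e | e)
      exacts [K.pm_ne e, K.inv'.2.2 (mul_eq_left.mp e.symm)]
    · rintro (e | e | e)
      · exact K.inv.2.2 e.symm
      · exact K.inv'.2.2 e.symm
      · exact K.pm_ne ((eq_inv_of_mul_eq_one_left e.symm).trans (inv_eq_of_mul_eq_one_right K.inv'.2.1))
  have hk : Nat.card φ.ker = 4 := by
    rw [← K.P.card_U]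
    exact Nat.card_congr
      { toFun := fun a => ⟨(a.1 : G),
          K.E_inter_Q a.1.2 ((K.P.h.pm_ker _ (K.mem_E.mp a.1.2).1).mp a.2)⟩
        invFun := fun u => ⟨⟨u.1, K.U_le_E u.2⟩, K.P.h.pm_Q (K.P.U_mem u.2).1⟩
        left_inv := fun a => rfl
        right_inv := fun u => rfl }
  rw [← Subgroup.card_mul_index φ.ker, Subgroup.index_ker, hk, hr4]

/-- All involutions of the coset `tQ` are conjugate under `Q`. -/
theorem coset_orbit {y : G} (hy : y * y = 1) (hq : t⁻¹ * y ∈ Q) : ∃ q ∈ Q, q * t * q⁻¹ = y := by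
  classical
  set T := {w : G | t⁻¹ * w ∈ Q ∧ w * w = 1} with hT
  have hsub : orb Q t ⊆ T := by
    rintro w ⟨q, hq', rfl⟩
    refine ⟨?_, conj_sq q t K.tt⟩
    rw [show t⁻¹ * (q * t * q⁻¹) = t⁻¹ * q * t⁻¹⁻¹ * q⁻¹ by group]
    exact mul_mem (K.P.h.nor_mem (Commute.inv_left K.tz) hq') (inv_mem hq')
  have hcond : ∀ q ∈ Q, t * q * (t * q) = 1 → q * t = t * q ∨ q * t = z * (t * q) := by
    intro q hq' h2
    have e1 : t * q * t = q⁻¹ := eq_inv_of_mul_eq_one_left (by rw [mul_assoc]; exact h2)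
    have e2 : q * t = t * q⁻¹ := by rw [← e1, ← mul_assoc, ← mul_assoc, K.tt, one_mul]
    rcases K.P.h.es.inv_cases hq' with e | e <;> rw [e] at e2
    · exact Or.inl e2
    · right; rw [e2, ← mul_assoc]; exact Commute.mul_left K.tz (K.P.h.es.comm q hq')
  have hU4 : (K.P.U : Set G).ncard = 4 := by rw [← Nat.card_coe_set_eq]; exact K.P.card_U
  have hT8 : T.ncard ≤ 8 := by
    have hmem : ∀ w ∈ T, t⁻¹ * w ∈ Q ∧
        (t⁻¹ * w * t = t * (t⁻¹ * w) ∨ t⁻¹ * w * t = z * (t * (t⁻¹ * w))) := fun w hw =>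
      ⟨hw.1, hcond _ hw.1 (by rw [mul_inv_cancel_left]; exact hw.2)⟩
    by_cases hall : ∀ w ∈ T, t⁻¹ * w ∈ K.P.U
    · have h4 : T.ncard ≤ 4 := by
        rw [← hU4]
        exact Set.ncard_le_ncard_of_injOn (fun w => t⁻¹ * w) hall (fun a _ b _ e => mul_left_cancel e)
          (Set.toFinite _)
      omega
    · push Not at hall
      obtain ⟨w₀, hw₀, hn⟩ := hall
      obtain ⟨hq₀, hc₀⟩ := hmem w₀ hw₀
      rcases K.flip _ hq₀ hc₀ with hU | hall'
      · exact absurd hU hn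
      have hsub' : T ⊆ (fun u => t * u) '' (K.P.U : Set G) ∪
          (fun u => t * (u * (t⁻¹ * w₀)⁻¹)) '' (K.P.U : Set G) := by
        intro w hw
        obtain ⟨hwq, hwc⟩ := hmem w hw
        rcases hall' _ hwq hwc with hU | hU
        · exact Or.inl ⟨_, hU, by simp⟩
        · exact Or.inr ⟨_, hU, by group⟩
      have := Set.ncard_le_ncard hsub' (Set.toFinite _)
      have := Set.ncard_union_le ((fun u => t * u) '' (K.P.U : Set G))
        ((fun u => t * (u * (t⁻¹ * w₀)⁻¹)) '' (K.P.U : Set G))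
      have := Set.ncard_image_le (f := fun u => t * u) (Set.toFinite (K.P.U : Set G))
      have := Set.ncard_image_le (f := fun u => t * (u * (t⁻¹ * w₀)⁻¹)) (Set.toFinite (K.P.U : Set G))
      omega
  have hc : Nat.card ↥(Q ⊓ Subgroup.centralizer ({t} : Set G)) = 4 := by
    rw [← K.P.card_U]
    congr 2
    ext q
    exact ⟨fun hq' => K.centQ q hq'.1 (mem_cent.mp hq'.2),
      fun hu => ⟨(K.P.U_mem hu).1, mem_cent.mpr (K.U_comm_t hu)⟩⟩
  have ho := ncard_orb Q t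
  rw [hc, K.P.h.card] at ho
  have heq : orb Q t = T := Set.eq_of_subset_of_ncard_le hsub (by omega) (Set.toFinite _)
  have hmem : y ∈ orb Q t := by rw [heq]; exact ⟨hq, hy⟩
  exact hmem

/-- The involutions outside `Q` form one class of `C(z)`. -/
theorem exists_conj_t {y : G} (hyz : y * z = z * y) (hy : y * y = 1) (hyQ : y ∉ Q) :
    ∃ c : G, c * z = z * c ∧ c * t * c⁻¹ = y := by
  have hinv : IsInv5 (pm y) := ⟨K.P.h.pm_sign y hyz, by rw [← K.P.h.pm_mul _ _ hyz hyz, hy, K.P.h.pm_one],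
    fun e => hyQ ((K.P.h.pm_ker y hyz).mp e)⟩
  obtain ⟨σ, hσ, hconj⟩ := inv5_conj K.inv hinv
  obtain ⟨c, hc, rfl⟩ := K.P.h.pm_surj σ hσ
  have hctz : c * t * c⁻¹ * z = z * (c * t * c⁻¹) :=
    Commute.mul_left (Commute.mul_left hc K.tz) (Commute.inv_left hc)
  have hq : t⁻¹ * (c⁻¹ * y * c) ∈ Q := by
    have hyz' : c⁻¹ * y * c * z = z * (c⁻¹ * y * c) :=
      Commute.mul_left (Commute.mul_left (Commute.inv_left hc) hyz) hc
    refine (K.P.h.pm_ker _ (Commute.mul_left (Commute.inv_left K.tz) hyz')).mp ?_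
    have e : pm (c⁻¹ * y * c) = pm t := by
      have := K.P.h.pm_conj (Commute.inv_left hc) hyz
      rw [inv_inv, K.P.h.pm_inv hc, inv_inv] at this
      rw [this, ← hconj]; group
    rw [K.P.h.pm_mul _ _ (Commute.inv_left K.tz) hyz', e, K.P.h.pm_inv K.tz, inv_mul_cancel]
  have hsq : c⁻¹ * y * c * (c⁻¹ * y * c) = 1 := by
    rw [show c⁻¹ * y * c * (c⁻¹ * y * c) = c⁻¹ * (y * y) * c by group, hy]; group
  obtain ⟨q, hqQ, e⟩ := K.coset_orbit hsq hq
  refine ⟨c * q, Commute.mul_left hc (K.P.h.es.comm q hqQ), ?_⟩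
  rw [show c * q * t * (c * q)⁻¹ = c * (q * t * q⁻¹) * c⁻¹ by group, e]; group

theorem orb_t : orb (Subgroup.centralizer ({z} : Set G)) t = {y | y * z = z * y ∧ y * y = 1 ∧ y ∉ Q} := by
  ext y
  constructor
  · rintro ⟨c, hc, rfl⟩
    have hc' := mem_cent.mp hc
    exact ⟨Commute.mul_left (Commute.mul_left hc' K.tz) (Commute.inv_left hc'), conj_sq c t K.tt,
      fun hq => K.t_not_Q ((K.P.h.nor_mem_iff hc').mp hq)⟩
  · rintro ⟨h1, h2, h3⟩
    obtain ⟨c, hc, e⟩ := K.exists_conj_t h1 h2 h3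
    exact ⟨c, mem_cent.mpr hc, e⟩

theorem ncard_out : {y : G | y * z = z * y ∧ y * y = 1 ∧ y ∉ Q}.ncard = 120 := by
  have e := ncard_orb (Subgroup.centralizer ({z} : Set G)) t
  rw [K.orb_t, K.P.h.card_C, show Nat.card ↥(Subgroup.centralizer ({z} : Set G) ⊓
    Subgroup.centralizer ({t} : Set G)) = 16 from K.card_E] at e
  omega

end Cfg

end CfsgLib.J3Type
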