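import Mathlib.Data.Set.Card
import Mathlib.Algebra.Order.BigOperators.Group.Finset
import Mathlib.Combinatorics.Enumerative.DoubleCounting
import Mathlib.GroupTheory.Perm.Cycle.Type
import Mathlib.Tactic

/-!
Groups of `J₃` type: counting helpers.
-/

set_option autoImplicit false

namespace CfsgLib.J3Type

/-- Double counting of a relation between two finite sets. -/
theorem double_count {α β : Type*} [Finite α] [Finite β] (A : Set α) (B : Set β) (R : α → β → Prop) {a b : ℕ}
    (hA : ∀ x ∈ A, {y | y ∈ B ∧ R x y}.ncard = a) (hB : ∀ y ∈ B, {x | x ∈ A ∧ R x y}.ncard = b) :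
    A.ncard * a = B.ncard * b := by
  classical
  haveI := Fintype.ofFinite α
  haveI := Fintype.ofFinite β
  have h := Finset.card_nsmul_le_card_nsmul (R := ℕ) (r := R) (s := A.toFinset) (t := B.toFinset) (m := a) (n := b)
    (fun x hx => by
      rw [← hA x (Set.mem_toFinset.mp hx), Set.ncard_eq_toFinset_card']
      refine Finset.card_le_card fun y hy => ?_
      simp only [Set.mem_toFinset, Set.mem_ofPred_eq] at hy
      simp [Finset.bipartiteAbove, hy.1, hy.2])
    (fun y hy => by
      rw [← hB y (Set.mem_toFinset.mp hy), Set.ncard_eq_toFinset_card']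
      refine Finset.card_le_card fun x hx => ?_
      simp only [Finset.bipartiteBelow, Finset.mem_filter, Set.mem_toFinset] at hx
      simp [hx.1, hx.2])
  have h' := Finset.card_nsmul_le_card_nsmul (R := ℕ) (r := fun y x => R x y) (s := B.toFinset) (t := A.toFinset)
    (m := b) (n := a)
    (fun y hy => by
      rw [← hB y (Set.mem_toFinset.mp hy), Set.ncard_eq_toFinset_card']
      refine Finset.card_le_card fun x hx => ?_
      simp only [Set.mem_toFinset, Set.mem_ofPred_eq] at hx
      simp [Finset.bipartiteAbove, hx.1, hx.2])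
    (fun x hx => by
      rw [← hA x (Set.mem_toFinset.mp hx), Set.ncard_eq_toFinset_card']
      refine Finset.card_le_card fun y hy => ?_
      simp only [Finset.bipartiteBelow, Finset.mem_filter, Set.mem_toFinset] at hy
      simp [hy.1, hy.2])
  rw [smul_eq_mul, smul_eq_mul, ← Set.ncard_eq_toFinset_card', ← Set.ncard_eq_toFinset_card'] at h h'
  exact le_antisymm h h'

/-- The fixed points of an element of prime order on a set that it leaves invariant. -/
theorem fixed_set_modEq {G : Type*} [Group G] [Finite G] {p : ℕ} [hp : Fact p.Prime] (A : Set G) {s : G}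
    (hs : s ^ p = 1) (hA : ∀ a, a ∈ A ↔ s * a * s⁻¹ ∈ A) :
    {a | a ∈ A ∧ s * a = a * s}.ncard ≡ A.ncard [MOD p] := by
  classical
  haveI : Fintype ↥A := Fintype.ofFinite _
  let φ : Equiv.Perm ↥A :=
    { toFun := fun a => ⟨s * a * s⁻¹, (hA _).mp a.2⟩
      invFun := fun a => ⟨s⁻¹ * a * s, (hA _).mpr (by
        rw [show s * (s⁻¹ * (a : G) * s) * s⁻¹ = a by group]; exact a.2)⟩
      left_inv := fun a => Subtype.ext (by simp [mul_assoc])
      right_inv := fun a => Subtype.ext (by simp [mul_assoc]) }
  have hpw : ∀ (k : ℕ) (a : ↥A), ((φ ^ k) a : G) = s ^ k * a * (s ^ k)⁻¹ := by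
    intro k
    induction k with
    | zero => intro a; simp
    | succ k ih =>
      intro a
      rw [pow_succ', Equiv.Perm.mul_apply]
      show s * ((φ ^ k) a : G) * s⁻¹ = _
      rw [ih, pow_succ']; group
  have hφ : φ ^ p ^ 1 = 1 := by
    rw [pow_one]
    exact Equiv.Perm.ext fun a => Subtype.ext (by rw [hpw, hs]; simp)
  have h1 := Equiv.Perm.card_compl_support_modEq hφ
  rw [← Nat.card_eq_fintype_card, Nat.card_coe_set_eq] at h1
  convert h1 using 1
  rw [← Nat.card_eq_finsetCard, ← Nat.card_coe_set_eq]
  exact Nat.card_congr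
    { toFun := fun a => ⟨⟨(a : G), a.2.1⟩, by
        simp only [Finset.mem_compl, Equiv.Perm.notMem_support]
        exact Subtype.ext (mul_inv_eq_iff_eq_mul.mpr a.2.2)⟩
      invFun := fun a => ⟨((a : ↥A) : G), (a : ↥A).2, mul_inv_eq_iff_eq_mul.mp
        (congrArg Subtype.val (Equiv.Perm.notMem_support.mp (Finset.mem_compl.mp a.2)))⟩
      left_inv := fun a => rfl
      right_inv := fun a => rfl }

end CfsgLib.J3Type
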