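import Cfsg.Agent.Lib.J3Type.Pairs
import Cfsg.Agent.Lib.Involutions

/-!
Groups of `J₃` type: the involutions are counted by the products with the central one.
-/

set_option autoImplicit false
set_option linter.unusedSectionVars false

namespace CfsgLib.J3Type

open Cfsg CfsgLargeExtra Equiv
open CfsgLib.HallJankoType (orb mem_cent conj_fix_iff ncard_orb IsInv5 orderOf_conj')

universe u

variable {G : Type u} [Group G] [Finite G] {z : G} {Q : Subgroup G} {pm : G → Perm (Fin 5)}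

/-- All involutions are conjugate. -/
def OneClass (G : Type u) [Group G] : Prop := ∀ a b : G, orderOf a = 2 → orderOf b = 2 → IsConj a b

/-- The nontrivial elements of odd order inverted by `z`. -/
def oddInverted (z : G) : Set G := {y | y ≠ 1 ∧ Odd (orderOf y) ∧ Inverts z y}

theorem orderOf_two {y : G} (h : y * y = 1) (h1 : y ≠ 1) : orderOf y = 2 := orderOf_eq_prime (by rw [pow_two, h]) h1

theorem OneClass.move (hone : OneClass G) (h : JT z Q pm) {j : G} (hj : j * j = 1) (hj1 : j ≠ 1) :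
    ∃ g : G, g * j * g⁻¹ = z :=
  isConj_iff.mp (hone j z (orderOf_two hj hj1) h.hz)

theorem mem_zpowers_conj {a b : G} (g : G) (hm : a ∈ Subgroup.zpowers b) :
    g * a * g⁻¹ ∈ Subgroup.zpowers (g * b * g⁻¹) := by
  obtain ⟨i, hi⟩ := Subgroup.mem_zpowers_iff.mp hm
  exact Subgroup.mem_zpowers_iff.mpr ⟨i, by rw [conj_zpow, hi]⟩

namespace JT

variable (h : JT z Q pm)
include h

theorem fibre_move {j g : G} (hj : j * z = z * j) (hg : g * j * g⁻¹ = z) :
    {v : G | (v * v = 1 ∧ v ≠ 1) ∧ j ∈ Subgroup.zpowers (z * v)}.ncard =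
      {u | u ∈ invs z ∧ z ∈ Subgroup.zpowers (g * z * g⁻¹ * u)}.ncard := by
  rw [show {u | u ∈ invs z ∧ z ∈ Subgroup.zpowers (g * z * g⁻¹ * u)} =
    (fun v => g * v * g⁻¹) '' {v : G | (v * v = 1 ∧ v ≠ 1) ∧ j ∈ Subgroup.zpowers (z * v)} from ?_]
  · exact (Set.ncard_image_of_injective _ fun a b e => mul_left_cancel (mul_right_cancel e)).symm
  ext u
  constructor
  · rintro ⟨⟨-, hu, hu1⟩, hm⟩
    refine ⟨g⁻¹ * u * g, ⟨⟨?_, fun e => hu1 ?_⟩, ?_⟩, by show g * (g⁻¹ * u * g) * g⁻¹ = u; group⟩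
    · rw [show g⁻¹ * u * g * (g⁻¹ * u * g) = g⁻¹ * (u * u) * g by group, hu]; group
    · rw [show u = g * (g⁻¹ * u * g) * g⁻¹ by group, e]; group
    · have := mem_zpowers_conj g⁻¹ hm
      rwa [inv_inv, show g⁻¹ * z * g = j by rw [← hg]; group,
        show g⁻¹ * (g * z * g⁻¹ * u) * g = z * (g⁻¹ * u * g) by group] at this
  · rintro ⟨v, ⟨⟨hv, hv1⟩, hm⟩, rfl⟩
    have hjv : j * v = v * j := by
      obtain ⟨i, hi⟩ := Subgroup.mem_zpowers_iff.mp hm
      have h1 : j * (z * v) = z * v * j := hi ▸ (Commute.zpow_self (z * v) i).eq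
      calc j * v = z * (z * (j * v)) := by rw [← mul_assoc z z, h.zz, one_mul]
        _ = z * (j * (z * v)) := by rw [← mul_assoc z j, ← hj, mul_assoc j z]
        _ = z * (z * v * j) := by rw [h1]
        _ = v * j := by rw [mul_assoc z v, ← mul_assoc z z, h.zz, one_mul]
    refine ⟨⟨?_, conj_sq g v hv, fun e => hv1 (conj_eq_one_iff.mp e)⟩, ?_⟩
    · show g * v * g⁻¹ * z = z * (g * v * g⁻¹)
      rw [← hg]
      exact conj_comm hjv.symm
    · have := mem_zpowers_conj g hm
      rwa [hg, show g * (z * v) * g⁻¹ = g * z * g⁻¹ * (g * v * g⁻¹) by group] at this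

theorem ncard_fibre_j (hone : OneClass G) {j : G} (hj : j ∈ invs z) (hjz : j ≠ z) :
    (j ∈ h.S → {v : G | (v * v = 1 ∧ v ≠ 1) ∧ j ∈ Subgroup.zpowers (z * v)}.ncard = 105) ∧
      (j ∈ h.T → {v : G | (v * v = 1 ∧ v ≠ 1) ∧ j ∈ Subgroup.zpowers (z * v)}.ncard = 69) := by
  obtain ⟨g, hg⟩ := hone.move h hj.2.1 hj.2.2
  refine ⟨fun hs => ?_, fun ht => ?_⟩ <;> rw [h.fibre_move hj.1 hg]
  exacts [h.pairs_S (h.type_S hs hg), h.pairs_T (h.type_T ht hg)]

theorem even_mem {v : G} (hv : v * v = 1) (hv1 : v ≠ 1) (heven : Even (orderOf (z * v))) :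
    (z * v) ^ (orderOf (z * v) / 2) ∈ (h.S ∪ h.T) ∧
      (z * v) ^ (orderOf (z * v) / 2) ∈ Subgroup.zpowers (z * v) := by
  have ho := CfsgLib.Involutions.orderOf_half (x := z) (y := v) heven
  have hc := CfsgLib.Involutions.central_half (x := z) (y := v) h.zz hv heven
  refine ⟨?_, Subgroup.pow_mem _ (Subgroup.mem_zpowers _) _⟩
  generalize hj : (z * v) ^ (orderOf (z * v) / 2) = j at ho hc
  have hjj : j * j = 1 := by have := pow_orderOf_eq_one j; rwa [ho, pow_two] at this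
  have hj1 : j ≠ 1 := fun e => by rw [e, orderOf_one] at ho; omega
  have hjz : j * z = z * j := hc.1
  rcases h.inv_cases hjz hjj hj1 with e | e | e
  · exfalso
    have hzv : z * v = v * z := by
      have : z * (z * v) = z * v * z := by
        have h0 := (Commute.pow_self (z * v) (orderOf (z * v) / 2)).eq
        rw [hj, e] at h0
        exact h0
      rw [← mul_assoc, h.zz, one_mul] at this
      calc z * v = z * (z * v * z) := by rw [← this]
        _ = v * z := by rw [mul_assoc z v, ← mul_assoc z z, h.zz, one_mul]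
    have h2 : (z * v) ^ 2 = 1 := by
      rw [pow_two, show z * v * (z * v) = z * (v * z) * v by group, ← hzv,
        show z * (z * v) * v = z * z * (v * v) by group, h.zz, hv, one_mul]
    have hd := orderOf_dvd_of_pow_eq_one h2
    have hpos := orderOf_pos (z * v)
    have hle := Nat.le_of_dvd (by norm_num) hd
    obtain ⟨k, hk⟩ := heven
    have : orderOf (z * v) / 2 = 1 := by omega
    rw [this, pow_one, e] at hj
    exact hv1 (mul_eq_left.mp hj)
  · exact Or.inl e
  · exact Or.inr e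

theorem ncard_even (hone : OneClass G) :
    {v : G | (v * v = 1 ∧ v ≠ 1) ∧ Even (orderOf (z * v))}.ncard = 9330 := by
  classical
  haveI := Fintype.ofFinite G
  set A := {v : G | (v * v = 1 ∧ v ≠ 1) ∧ Even (orderOf (z * v))} with hA
  let f : G → G := fun v => (z * v) ^ (orderOf (z * v) / 2)
  have hmaps : ∀ v ∈ A.toFinset, f v ∈ (h.S ∪ h.T).toFinset := fun v hv => by
    rw [Set.mem_toFinset] at hv ⊢
    exact (h.even_mem hv.1.1 hv.1.2 hv.2).1
  have hfib : ∀ j ∈ h.S ∪ h.T, ((A.toFinset.filter fun v => f v = j).card) =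
      {v : G | (v * v = 1 ∧ v ≠ 1) ∧ j ∈ Subgroup.zpowers (z * v)}.ncard := by
    intro j hj
    have hj2 : j * j = 1 ∧ j ≠ 1 := by
      rcases hj with hs | ht
      exacts [⟨hs.2.1, hs.2.2.1⟩, ⟨ht.2.1, h.T_ne_one ht⟩]
    rw [Set.ncard_eq_toFinset_card']
    congr 1
    ext v
    simp only [Finset.mem_filter, Set.mem_toFinset, Set.mem_ofPred_eq, hA]
    constructor
    · rintro ⟨hv, rfl⟩
      exact ⟨hv.1, (h.even_mem hv.1.1 hv.1.2 hv.2).2⟩
    · rintro ⟨hv, hm⟩
      have hd := Subgroup.orderOf_dvd_natCard _ hm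
      rw [Nat.card_zpowers, orderOf_two hj2.1 hj2.2] at hd
      have heven : Even (orderOf (z * v)) := even_iff_two_dvd.mpr hd
      refine ⟨⟨hv, heven⟩, ?_⟩
      obtain ⟨i, hi⟩ := (isOfFinOrder_of_finite (z * v)).mem_powers_iff_mem_zpowers.mpr hm
      have hi' : (z * v) ^ i = j := hi
      obtain ⟨m, hm2⟩ := hd
      have h1 : (z * v) ^ (i + i) = 1 := by rw [pow_add, hi', hj2.1]
      obtain ⟨q, hq⟩ := orderOf_dvd_of_pow_eq_one h1
      have hnd : ¬ orderOf (z * v) ∣ i := fun hdi => hj2.2 (by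
        rw [← hi', orderOf_dvd_iff_pow_eq_one.mp hdi])
      rw [hm2] at hq hnd
      have hiq : i = m * q := by
        have : i + i = 2 * (m * q) := by rw [hq]; ring
        omega
      obtain ⟨k, hk⟩ : Odd q := Nat.not_even_iff_odd.mp fun ⟨k, hk⟩ => hnd ⟨k, by rw [hiq, hk]; ring⟩
      show (z * v) ^ (orderOf (z * v) / 2) = j
      rw [← hi', pow_eq_pow_iff_modEq, hm2, show 2 * m / 2 = m by omega, hiq, hk,
        show m * (2 * k + 1) = m + 2 * m * k by ring]
      simp [Nat.ModEq, Nat.add_mul_mod_self_left]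
  have hjz : ∀ j ∈ h.S ∪ h.T, j ∈ invs z ∧ j ≠ z := by
    rintro j (hs | ht)
    · exact ⟨⟨h.es.comm j hs.1, hs.2.1, hs.2.2.1⟩, hs.2.2.2⟩
    · exact ⟨⟨ht.1, ht.2.1, h.T_ne_one ht⟩, h.T_ne_z ht⟩
  rw [Set.ncard_eq_toFinset_card', Finset.card_eq_sum_card_fiberwise hmaps, Set.toFinset_union,
    Finset.sum_union (Set.disjoint_toFinset.mpr (Set.disjoint_left.mpr fun a ha => h.S_not_T ha)),
    Finset.sum_const_nat (m := 105), Finset.sum_const_nat (m := 69), ← Set.ncard_eq_toFinset_card',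
    ← Set.ncard_eq_toFinset_card', h.ncard_S, h.ncard_T]
  · intro j hj
    rw [Set.mem_toFinset] at hj
    rw [hfib j (Or.inr hj)]
    exact (h.ncard_fibre_j hone (hjz j (Or.inr hj)).1 (hjz j (Or.inr hj)).2).2 hj
  · intro j hj
    rw [Set.mem_toFinset] at hj
    rw [hfib j (Or.inl hj)]
    exact (h.ncard_fibre_j hone (hjz j (Or.inl hj)).1 (hjz j (Or.inl hj)).2).1 hj

theorem card_eq_index (hone : OneClass G) :
    Nat.card G = 1920 * {v : G | v * v = 1 ∧ v ≠ 1}.ncard := by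
  have hset : {v : G | v * v = 1 ∧ v ≠ 1} = orb (⊤ : Subgroup G) z := by
    ext v
    constructor
    · rintro ⟨hv, hv1⟩
      obtain ⟨g, hg⟩ := hone.move h hv hv1
      exact ⟨g⁻¹, Subgroup.mem_top _, by rw [← hg]; group⟩
    · rintro ⟨g, -, rfl⟩
      exact ⟨conj_sq g z h.zz, fun e => h.es.ne (conj_eq_one_iff.mp e)⟩
  have e := ncard_orb (⊤ : Subgroup G) z
  rw [← hset, top_inf_eq, Subgroup.card_top, h.card_C] at e
  omega

/-- The number of involutions in terms of the inverted elements of odd order. -/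
theorem ncard_involutions (hone : OneClass G) :
    {v : G | v * v = 1 ∧ v ≠ 1}.ncard = 9331 + (oddInverted z).ncard := by
  have hzi : z⁻¹ = z := inv_eq_of_mul_eq_one_right h.zz
  have hodd : {v : G | ((v * v = 1 ∧ v ≠ 1) ∧ Odd (orderOf (z * v))) ∧ v ≠ z}.ncard = (oddInverted z).ncard := by
    rw [← Nat.card_coe_set_eq, ← Nat.card_coe_set_eq]
    refine Nat.card_congr
      { toFun := fun v => ⟨z * v.1, fun e => v.2.2 ?_, v.2.1.2, inverts_prod h.zz v.2.1.1.1⟩
        invFun := fun y => ⟨z * y.1, ⟨⟨?_, fun e => ?_⟩, ?_⟩, fun e => y.2.1 (mul_eq_left.mp e)⟩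
        left_inv := fun v => Subtype.ext (by show z * (z * v.1) = v.1; rw [← mul_assoc, h.zz, one_mul])
        right_inv := fun y => Subtype.ext (by show z * (z * y.1) = y.1; rw [← mul_assoc, h.zz, one_mul]) }
    · rw [eq_inv_of_mul_eq_one_right e, hzi]
    · rw [show z * y.1 * (z * y.1) = z * y.1 * z⁻¹ * y.1 by rw [hzi]; group,
        show z * y.1 * z⁻¹ = y.1⁻¹ from y.2.2.2, inv_mul_cancel]
    · have hy : y.1 = z := by rw [eq_inv_of_mul_eq_one_right e, hzi]
      have := y.2.2.1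
      rw [hy, h.hz] at this
      exact absurd this (by decide)
    · rw [← mul_assoc, h.zz, one_mul]; exact y.2.2.1
  have hsplit : {v : G | v * v = 1 ∧ v ≠ 1} = {v : G | (v * v = 1 ∧ v ≠ 1) ∧ Even (orderOf (z * v))} ∪
      insert z {v : G | ((v * v = 1 ∧ v ≠ 1) ∧ Odd (orderOf (z * v))) ∧ v ≠ z} := by
    ext v
    constructor
    · intro hv
      rcases Nat.even_or_odd (orderOf (z * v)) with e | e
      · exact Or.inl ⟨hv, e⟩
      · exact Or.inr ((eq_or_ne v z).imp id fun hne => ⟨⟨hv, e⟩, hne⟩)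
    · rintro (hv | rfl | hv)
      exacts [hv.1, ⟨h.zz, h.es.ne⟩, hv.1.1]
  rw [hsplit, Set.ncard_union_eq, h.ncard_even hone, Set.ncard_insert_of_notMem (fun hm => hm.2 rfl), hodd]
  · ring
  · rw [Set.disjoint_left]
    rintro v hv (rfl | hv')
    · have := hv.2
      rw [h.zz, orderOf_one] at this
      exact absurd this (by decide)
    · exact (Nat.not_even_iff_odd.mpr hv'.1.2) hv.2

end JT

end CfsgLib.J3Type
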