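import Cfsg.Agent.Lib.J3Type.SevenInverted
import Cfsg.Agent.Lib.J3Type.CaseClosed

/-!
Groups of `J₃` type: the quotient of order 168 does not occur.
-/

set_option autoImplicit false
set_option linter.unusedSectionVars false
set_option maxHeartbeats 800000

namespace CfsgLib.J3Type

open Cfsg CfsgLargeExtra Equiv
open CfsgLib.HallJankoType (orb mem_cent conj_fix_iff ncard_orb orderOf_conj')

universe u

variable {G : Type u} [Group G] [Finite G] {z : G} {Q : Subgroup G} {pm : G → Perm (Fin 5)}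

/-- The free elements commuting with some element of `cls z 6`. -/
def freeSix (z : G) : Set G := {y | y ∈ free z ∧ ∃ a, a * y = y * a ∧ a ∈ cls z 6}

theorem CC_eq_of_gen {a b : G} (hab : a ∈ Subgroup.zpowers b) (hba : b ∈ Subgroup.zpowers a) :
    CC a z = CC b z := by
  ext c
  rw [mem_CC, mem_CC]
  exact ⟨fun hc => ⟨comm_mem_zpowers hc.1 hba, hc.2⟩, fun hc => ⟨comm_mem_zpowers hc.1 hab, hc.2⟩⟩

namespace SevenType

variable (hs : SevenType G) (h : JT z Q pm) (hone : OneClass G)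
include hs h hone

/-- A free element commuting with `a` has image of order seven. -/
theorem six_free {a y : G} (ha : a ∈ cls z 6) (hy : y ∈ free z) (hc : y * a = a * y) {X : Type} [Group X] {π : G → X}
    (hX : XSeven X) (hπ : ThreeQ a π) : y ∈ sevenElems a π := by
  haveI : Fact (Nat.Prime 3) := ⟨Nat.prime_three⟩
  have haI := hs.cls_six h hone ha
  have ha3 : a ^ 3 = 1 := (haI.odd (Or.inl rfl)).2.1
  haveI : Finite X := Finite.of_surjective π fun s => (hπ.surj s).imp fun b hb => hb.2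
  have hso : Odd (orderOf (π y)) := hy.1.2.1.of_dvd_nat (orderOf_dvd_of_pow_eq_one (by
    rw [← hπ.map_pow hc, pow_orderOf_eq_one, hπ.map_one']))
  have hs1 : π y ≠ 1 := by
    intro e
    obtain ⟨i, hi⟩ := (isOfFinOrder_of_finite a).mem_powers_iff_mem_zpowers.mpr ((hπ.ker y hc).mp e)
    have hi' : a ^ i = y := hi
    have hle : CC a z ≤ CC y z := fun b hb =>
      mem_CC.mpr ⟨hi' ▸ Commute.pow_right (mem_CC.mp hb).1 i, (mem_CC.mp hb).2⟩
    have := Subgroup.card_dvd_of_le hle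
    rw [ha.2.2, hy.2] at this
    norm_num at this
  rcases hX.orders (π y) with e | e | e | e
  · exact absurd (eq_one_of_sq_odd (by rw [← pow_two]; exact e) hso) hs1
  · exfalso
    obtain ⟨b, w, v, hba, hπb, hb3, -, -, -, -, -, -, -, -⟩ := hπ.cent_lift hX.toXBase h hone haI e hs1
    obtain ⟨j, hj⟩ := (hπ.eq_iff ha3 hba hc).mp hπb
    have hy3 : y ^ 3 = 1 := by
      rw [hj, (Commute.pow_right hba j).mul_pow, hb3, one_mul, ← pow_mul, mul_comm, pow_mul, ha3, one_pow]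
    exact h.invCent_not_free hs.qType hone (Or.inl rfl)
      (hs.all_three h hone (orderOf_eq_prime hy3 hy.1.1)) hy
  · exfalso
    refine hs1 (eq_one_of_sq_odd ?_ hso)
    rw [← pow_two]
    exact eq_one_of_sq_odd (by rw [← pow_add]; exact e) (hso.of_dvd_nat (orderOf_pow_dvd _))
  · exact ⟨hc, e, hs1⟩

/-- An inverted element with image of order seven is free. -/
theorem free_of_seven {a y : G} (ha : IsInvCent 3 a) {X : Type} [Group X] {π : G → X} (hX : XSeven X) (hπ : ThreeQ a π)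
    (hy : y ∈ sevenElems a π) (hzy : Inverts z y) : y ∈ free z := by
  obtain ⟨h21, h3⟩ := hs.seven_pow h hone ha hX hπ hy
  have hy1 : y ≠ 1 := fun e => h3 (by rw [e, one_pow])
  have hY : y ∈ oddInverted z := ⟨hy1, odd_orderOf_of_pow (show Odd 21 by decide) h21, hzy⟩
  refine ⟨hY, ?_⟩
  by_contra hne
  rcases hs.vals h hone hY (hs.nonfree_invY h hone ⟨hY, hne⟩) with ⟨e, -⟩ | ⟨e, -⟩
  · exact h3 (by rw [← e, pow_orderOf_eq_one])
  · have := orderOf_dvd_of_pow_eq_one h21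
    rw [e] at this
    norm_num at this

/-- The centralizer of a free element commuting with an element of `cls z 6`. -/
theorem six_cent {a y : G} (ha : a ∈ cls z 6) (hy : y ∈ free z) (hc : y * a = a * y) :
    Nat.card ↥(Subgroup.centralizer ({y} : Set G)) = 21 ∧
      ∀ o ∈ Subgroup.centralizer ({y} : Set G), o ^ 3 = 1 → o ∈ Subgroup.zpowers a := by
  have haI := hs.cls_six h hone ha
  obtain ⟨X, _, π, hX, hπ⟩ := hs a haI
  haveI : Finite X := Finite.of_surjective π fun s => (hπ.surj s).imp fun b hb => hb.2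
  have hyS := hs.six_free h hone ha hy hc hX hπ
  have heq : Subgroup.centralizer ({y} : Set G) = CC a y := by
    refine le_antisymm (fun b hb => mem_CC.mpr ⟨mem_cent.mp (h.free_cent_le hy hc.symm hb), mem_cent.mp hb⟩) ?_
    exact inf_le_right
  refine ⟨by rw [heq]; exact hs.card_seven_cent h hone haI hX hπ hyS, fun o ho ho3 => ?_⟩
  rw [heq] at ho
  obtain ⟨hoa, hoy⟩ := mem_CC.mp ho
  refine (hπ.ker o hoa).mp ?_
  have hm := hX.seven_zpowers hyS.2.1 hyS.2.2 (g := π o)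
    (by rw [← hπ.mul _ _ hoa hc, hoy, hπ.mul _ _ hc hoa])
  haveI : Fact (Nat.Prime 7) := ⟨by norm_num⟩
  have h7 := Subgroup.orderOf_dvd_natCard _ hm
  rw [Nat.card_zpowers, orderOf_eq_prime hyS.2.1 hyS.2.2] at h7
  exact orderOf_eq_one_iff.mp (Nat.eq_one_of_dvd_coprimes (by norm_num : Nat.Coprime 3 7)
    (orderOf_dvd_of_pow_eq_one (by rw [← hπ.map_pow hoa, ho3, hπ.map_one'])) h7)

theorem cls_six_count : (cls z 6).ncard = 320 := by
  rw [← hs.ncard_inverted_three h hone]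
  congr 1
  ext a
  exact ⟨fun ha => ⟨hs.cls_six h hone ha, ha.1.2.2⟩, fun ha =>
    hs.cls_six_of_invCent h hone ha.1 ha.2 (h.invY_of_invCent hs.qType hone (Or.inl rfl) ha.1 ha.2)⟩

theorem freeSix_count : (freeSix z).ncard = 5760 := by
  have e := double_count (cls z 6) (freeSix z) (fun a y => y * a = a * y) (a := 36) (b := 2) ?_ ?_
  · rw [hs.cls_six_count h hone] at e
    omega
  · intro a ha
    have haI := hs.cls_six h hone ha
    obtain ⟨X, _, π, hX, hπ⟩ := hs a haI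
    rw [← hs.ncard_seven_inverted h hone haI hX hπ ha.1.2.2 ha.2.2]
    congr 1
    ext y
    refine ⟨fun hy => ⟨hs.six_free h hone ha hy.1.1 hy.2 hX hπ, hy.1.1.1.2.2⟩, fun hy => ?_⟩
    exact ⟨⟨hs.free_of_seven h hone haI hX hπ hy.1 hy.2, a, hy.1.1.symm, ha⟩, hy.1.1⟩
  · rintro y ⟨hy, a, hay, ha⟩
    obtain ⟨-, hthree⟩ := hs.six_cent h hone ha hy hay.symm
    have haI := hs.cls_six h hone ha
    have ha3 : a ^ 3 = 1 := (haI.odd (Or.inl rfl)).2.1
    have hne : a ≠ a⁻¹ := fun e1 => ha.1.1 (eq_one_of_sq_odd (inv_eq_iff_mul_eq_one.mp e1.symm) ha.1.2.1)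
    have hinv : a⁻¹ ∈ cls z 6 := by
      obtain ⟨u, hu, hu1, huz, hua⟩ := ha.2.1
      refine ⟨⟨fun e1 => ha.1.1 (inv_eq_one.mp e1), by rw [orderOf_inv]; exact ha.1.2.1, ?_⟩,
        ⟨u, hu, hu1, huz, (Commute.inv_right hua).eq⟩, ?_⟩
      · show z * a⁻¹ * z⁻¹ = a⁻¹⁻¹
        rw [inv_inv]; exact conj_inv_elem ha.1.2.2
      · rw [CC_eq_of_gen (Subgroup.inv_mem _ (Subgroup.mem_zpowers a))
          (by simpa using Subgroup.inv_mem _ (Subgroup.mem_zpowers a⁻¹))]
        exact ha.2.2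
    rw [show {x | x ∈ cls z 6 ∧ y * x = x * y} = {a, a⁻¹} from ?_, Set.ncard_pair hne]
    ext x
    constructor
    · rintro ⟨hx, hxy⟩
      have hxI := hs.cls_six h hone hx
      have hx3 : x ^ 3 = 1 := (hxI.odd (Or.inl rfl)).2.1
      obtain ⟨i, hi⟩ := (isOfFinOrder_of_finite a).mem_powers_iff_mem_zpowers.mpr
        (hthree x (mem_cent.mpr hxy.symm) hx3)
      have hi' : a ^ (i % 3) = x := by rw [← pow_eq_pow_mod i ha3]; exact hi
      have hlt : i % 3 < 3 := Nat.mod_lt _ (by norm_num)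
      interval_cases (i % 3)
      · exact absurd (by rw [← hi', pow_zero]) hx.1.1
      · exact Or.inl (by rw [← hi', pow_one])
      · exact Or.inr (by rw [← hi']; exact eq_inv_of_mul_eq_one_left (by rw [← pow_succ, ha3]))
    · rintro (rfl | rfl)
      · exact ⟨ha, hay.symm⟩
      · exact ⟨hinv, (Commute.inv_left hay).symm⟩

/-- The odd part of the centralizer of an element of order five. -/
theorem five_group {f : G} (hf : IsInvCent 5 f) {c : ℕ} (hc : c = 5 ∨ c = 25)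
    (hall : ∀ (g : G) (O : Subgroup G), FiveCore h g O → Nat.card ↥O = c) :
    ∃ (O R : Subgroup G) (v : G), v * v = 1 ∧ v ≠ 1 ∧ Nat.card ↥O = c ∧ f ∈ O ∧ (∀ r ∈ R, r ∈ O ∧ v * r = r * v) ∧
      (∀ b : G, b * f = f * b → Odd (orderOf b) → b ∈ O) ∧ (∀ b ∈ O, ∀ b' ∈ O, b * b' = b' * b) ∧
      Inverts v f ∧ Nat.card ↥R * 5 = c := by
  obtain ⟨ho, t, ht, ht1, htf⟩ := hf
  obtain ⟨Q', pm', h'⟩ := h.atInv hone ht ht1
  obtain ⟨O, C⟩ := h'.exists_fiveCore htf.symm ho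
  obtain ⟨g, hg⟩ := hone.move h ht ht1
  have hfz : g * f * g⁻¹ * z = z * (g * f * g⁻¹) := by rw [← hg]; exact conj_comm htf.symm
  obtain ⟨O', C'⟩ := h.exists_fiveCore hfz (by rw [orderOf_conj', ho])
  have hO : Nat.card ↥O = c := by
    have e1 := C'.card
    rw [card_cent_conj, C.card, hall _ _ C'] at e1
    omega
  obtain ⟨v, hv, hvf, h1, -, -⟩ := hs.five_shape h' hone C
  have e2 := C.card_eq hv.1 hv.2.1 hvf
  rw [h1, mul_one, hO] at e2
  refine ⟨O, O ⊓ Subgroup.centralizer ({v} : Set G), v, hv.2.1, h'.T_ne_one hv, hO, C.f_mem,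
    fun r hr => ⟨hr.1, (mem_cent.mp hr.2).symm⟩, C.mem_odd, ?_, hvf, by rw [mul_comm]; exact e2.symm⟩
  intro b hb b' hb'
  haveI : Fact (Nat.Prime 5) := ⟨Nat.prime_five⟩
  rcases hc with rfl | rfl
  · haveI : IsCyclic ↥O := isCyclic_of_prime_card hO
    exact congrArg Subtype.val ((IsCyclic.commGroup (α := ↥O)).mul_comm ⟨b, hb⟩ ⟨b', hb'⟩)
  · exact congrArg Subtype.val
      ((IsPGroup.isMulCommutative_of_card_eq_prime_sq (p := 5) hO).is_comm.comm (⟨b, hb⟩ : ↥O) ⟨b', hb'⟩)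

theorem cls_five {k : ℕ} (hk : k = 2 ∨ k = 10) {a : G} (ha : a ∈ cls z k) : IsInvCent 5 a := by
  rcases h.invY_order hone ha.1 ha.2.1 with e | e
  · rcases hs.vals h hone ha.1 ha.2.1 with ⟨-, e'⟩ | ⟨e', -⟩
    · rw [ha.2.2] at e'; omega
    · have := e.1; omega
  · exact e

/-- No free element commutes with an element of `cls z 10`. -/
theorem ten_no_free {c : ℕ} (hc : c = 5 ∨ c = 25)
    (hall : ∀ (g : G) (O : Subgroup G), FiveCore h g O → Nat.card ↥O = c) {a y : G} (ha : a ∈ cls z 10)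
    (hy : y ∈ free z) (hya : y * a = a * y) : False := by
  haveI : Fact (Nat.Prime 5) := ⟨Nat.prime_five⟩
  obtain ⟨O, R, v, -, -, -, -, -, hmem, hcomm, -, -⟩ :=
    hs.five_group h hone (hs.cls_five h hone (Or.inr rfl) ha) hc hall
  obtain ⟨⟨o, ho⟩, hoo⟩ := exists_prime_orderOf_dvd_card' (G := ↥(CC a z)) 5 (by rw [ha.2.2]; norm_num)
  rw [Subgroup.orderOf_mk] at hoo
  obtain ⟨hoa, hoz⟩ := mem_CC.mp ho
  have hoy := hcomm o (hmem o hoa (by rw [hoo]; decide)) y (hmem y hya hy.1.2.1)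
  have : o = 1 := Subgroup.mem_bot.mp
    (Subgroup.eq_bot_of_card_eq _ hy.2 ▸ (mem_CC.mpr ⟨hoy, hoz⟩ : o ∈ CC y z))
  rw [this, orderOf_one] at hoo
  omega

/-- The special free elements. -/
theorem special_split {c : ℕ} (hc : c = 5 ∨ c = 25)
    (hall : ∀ (g : G) (O : Subgroup G), FiveCore h g O → Nat.card ↥O = c) :
    (specialF z).ncard = 5760 + (freeTwo z).ncard := by
  rw [← hs.freeSix_count h hone, ← Set.ncard_union_eq]
  · congr 1
    ext y
    constructor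
    · rintro ⟨hy, a, hay, ha⟩
      have hi := hs.nonfree_invY h hone ha
      rcases hs.vals h hone ha.1 hi with ⟨-, e⟩ | ⟨-, e | e⟩
      · exact Or.inl ⟨hy, a, hay, ha.1, hi, e⟩
      · exact Or.inr ⟨hy, a, hay, ha.1, hi, e⟩
      · exact (hs.ten_no_free h hone hc hall ⟨ha.1, hi, e⟩ hy hay.symm).elim
    · rintro (⟨hy, a, hay, ha⟩ | ⟨hy, a, hay, ha⟩)
      · exact ⟨hy, a, hay, nonfree_of_card ha.1 ha.2.2 (by norm_num)⟩
      · exact ⟨hy, a, hay, nonfree_of_card ha.1 ha.2.2 (by norm_num)⟩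
  · rw [Set.disjoint_left]
    rintro y ⟨hy, a, hay, ha⟩ ⟨-, b, hby, hb⟩
    have hd := Subgroup.orderOf_dvd_natCard _ (mem_cent.mpr hby)
    rw [(hs.six_cent h hone ha hy hay.symm).1, (hs.cls_five h hone (Or.inl rfl) hb).1] at hd
    norm_num at hd

theorem freeTwo_small (hall : ∀ (g : G) (O : Subgroup G), FiveCore h g O → Nat.card ↥O = 5) :
    (freeTwo z).ncard = 0 := by
  rw [Set.ncard_eq_zero (Set.toFinite _), Set.eq_empty_iff_forall_notMem]
  rintro y ⟨hy, a, hay, ha⟩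
  have haI := hs.cls_five h hone (Or.inl rfl) ha
  obtain ⟨O, R, v, -, -, hO, haO, -, hmem, -, -, -⟩ := hs.five_group h hone haI (Or.inl rfl) hall
  have heq : Subgroup.zpowers a = O :=
    Subgroup.eq_of_le_of_card_ge (Subgroup.zpowers_le.mpr haO) (by rw [hO, Nat.card_zpowers, haI.1])
  have hm := hmem y hay.symm hy.1.2.1
  rw [← heq] at hm
  have hle : CC a z ≤ CC y z := fun b hb =>
    mem_CC.mpr ⟨comm_mem_zpowers (mem_CC.mp hb).1 hm, (mem_CC.mp hb).2⟩
  have := Subgroup.card_dvd_of_le hle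
  rw [ha.2.2, hy.2] at this
  norm_num at this

theorem freeTwo_bound (hnf : (nonfree z).ncard = 2624)
    (hall : ∀ (g : G) (O : Subgroup G), FiveCore h g O → Nat.card ↥O = 25) :
    ∃ j, j < 3 ∧ (freeTwo z).ncard = 1920 * j := by
  have hdvd : 1920 ∣ (freeTwo z).ncard := by
    have := h.dvd_free (freeTwo z) (k := 1) ?_ ?_
    · rwa [mul_one] at this
    · rintro c hc y ⟨hy, a, hay, ⟨hY, ⟨u, hu, hu1, huz, hua⟩, hk⟩⟩
      refine ⟨free_conj hc hy, c * a * c⁻¹, conj_comm hay, oddInverted_conj hc hY, ⟨c * u * c⁻¹, conj_sq c u hu,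
        fun e => hu1 (conj_eq_one_iff.mp e), ?_, conj_comm hua⟩, by rw [card_CC_fix hc]; exact hk⟩
      exact Commute.mul_left (Commute.mul_left hc huz) (Commute.inv_left hc)
    · rintro y ⟨hy, -⟩
      rw [inf_comm]
      exact hy.2
  have hle : (cls z 2).ncard ≤ 2624 :=
    hnf ▸ Set.ncard_le_ncard (fun a ha => nonfree_of_card ha.1 ha.2.2 (by norm_num)) (Set.toFinite _)
  have hrules : ∀ a ∈ cls z 2, ∃ S : Set G, 8 ≤ S.ncard ∧ {y | y ∈ freeTwo z ∧ y * a = a * y}.ncard ≤ 16 ∧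
      ∀ y ∈ free z, y * a = a * y → ∀ x ∈ S, x ∈ cls z 2 ∧ y * x = x * y := by
    intro a ha
    have haI := hs.cls_five h hone (Or.inl rfl) ha
    have ha5 : a ^ 5 = 1 := (haI.odd (Or.inr rfl)).2.1
    obtain ⟨O, R, v, hv, hv1, hO, haO, hR, hmem, hcomm, hva, hR5⟩ := hs.five_group h hone haI (Or.inr rfl) hall
    haveI : Fact (Nat.Prime 5) := ⟨Nat.prime_five⟩
    have hodd : ∀ b ∈ O, Odd (orderOf b) := fun b hb =>
      (show Odd 25 by decide).of_dvd_nat (hO ▸ Subgroup.orderOf_dvd_natCard O hb)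
    have hzn : ∀ b ∈ O, z * b * z⁻¹ ∈ O := fun b hb =>
      hmem _ (inverter_preserves ha.1.2.2 (hcomm b hb a haO)) (by rw [orderOf_conj']; exact hodd b hb)
    have hinv := inverts_of_fixed_free h.zz hzn fun b hb hbz => by
      have hd : orderOf b ∣ 2 := ha.2.2 ▸
        Subgroup.orderOf_dvd_natCard _ (mem_CC.mpr ⟨hcomm b hb a haO, hbz.symm⟩)
      exact eq_one_of_sq_odd (by rw [← pow_two]; exact orderOf_dvd_iff_pow_eq_one.mp hd) (hodd b hb)
    set S : Set G := ((Subgroup.zpowers a : Set G) \ {1}) ∪ ((R : Set G) \ {1}) with hS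
    have hsz : ∀ K : Subgroup G, Nat.card ↥K = 5 → ((K : Set G) \ {1}).ncard = 4 := fun K hK => by
      rw [Set.ncard_sdiff (by simp [one_mem]), Set.ncard_singleton, ← Nat.card_coe_set_eq, SetLike.coe_sort_coe, hK]
    have hS8 : S.ncard = 8 := by
      rw [hS, Set.ncard_union_eq, hsz _ (by rw [Nat.card_zpowers, haI.1]), hsz R (by omega)]
      rw [Set.disjoint_left]
      rintro r ⟨hra, hr1⟩ ⟨hrR, -⟩
      exact hr1 (inverts_comm_eq_one (inverts_mem_zpowers hva hra) (hR r hrR).2 (hodd r (hR r hrR).1))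
    have hSO : ∀ x ∈ S, x ∈ O ∧ x ≠ 1 ∧ IsInvCent 5 x := by
      rintro x (⟨hx, hx1⟩ | ⟨hx, hx1⟩)
      · refine ⟨Subgroup.zpowers_le.mpr haO hx, hx1, ?_⟩
        obtain ⟨i, hi⟩ := (isOfFinOrder_of_finite a).mem_powers_iff_mem_zpowers.mpr hx
        have hi' : a ^ i = x := hi
        exact hi' ▸ haI.pow Nat.prime_five (by rw [hi']; exact hx1)
      · refine ⟨(hR x hx).1, hx1, ?_, v, hv, hv1, (hR x hx).2⟩
        have hd := Subgroup.orderOf_dvd_natCard R hx
        rw [show Nat.card ↥R = 5 by omega] at hd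
        exact (Nat.prime_five.eq_one_or_self_of_dvd _ hd).resolve_left fun e => hx1 (orderOf_eq_one_iff.mp e)
    have hSY : ∀ x ∈ S, x ∈ oddInverted z ∧ InvY z x := fun x hx => by
      obtain ⟨hxO, hx1, hxI⟩ := hSO x hx
      exact ⟨⟨hx1, hodd x hxO, hinv x hxO⟩, h.invY_of_invCent hs.qType hone (Or.inr rfl) hxI (hinv x hxO)⟩
    refine ⟨S, hS8.ge, ?_, fun y hy hya x hx => ?_⟩
    · have hsub : {y | y ∈ freeTwo z ∧ y * a = a * y} ⊆ (O : Set G) \ (insert 1 S) := fun y hy =>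
        ⟨hmem y hy.2 hy.1.1.1.2.1, fun hm => by
          rcases hm with e | hm
          · exact hy.1.1.1.1 e
          · exact free_not_invY hy.1.1 (hSY y hm).2⟩
      have h1S : (1 : G) ∉ S := fun hm => (hSO 1 hm).2.1 rfl
      refine (Set.ncard_le_ncard hsub (Set.toFinite _)).trans ?_
      rw [Set.ncard_sdiff (Set.insert_subset O.one_mem fun x hx => (hSO x hx).1),
        Set.ncard_insert_of_notMem h1S, hS8, ← Nat.card_coe_set_eq, SetLike.coe_sort_coe, hO]
    · have hxy : y * x = x * y := hcomm y (hmem y hya hy.1.2.1) x (hSO x hx).1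
      obtain ⟨hxY, hxi⟩ := hSY x hx
      refine ⟨⟨hxY, hxi, ?_⟩, hxy⟩
      rcases hs.vals h hone hxY hxi with ⟨e, -⟩ | ⟨-, e | e⟩
      · have := (hSO x hx).2.2.1; omega
      · exact e
      · exact (hs.ten_no_free h hone (Or.inr rfl) hall ⟨hxY, hxi, e⟩ hy hxy).elim
  have hd := double_count_le (freeTwo z) (cls z 2) (fun y a => y * a = a * y) (a := 8) (b := 16) ?_ ?_
  · obtain ⟨j, hj⟩ := hdvd
    exact ⟨j, by omega, hj⟩
  · rintro y ⟨hy, a, hay, ha⟩
    obtain ⟨S, hS, -, hS'⟩ := hrules a ha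
    exact hS.trans (Set.ncard_le_ncard (fun x hx => hS' y hy hay.symm x hx) (Set.toFinite _))
  · intro a ha
    obtain ⟨S, -, h16, -⟩ := hrules a ha
    exact h16

/-- The condition on the index coming from the elements of order seven. -/
theorem condL_index : Arith.condL {v : G | v * v = 1 ∧ v ≠ 1}.ncard = true := by
  haveI : Fact (Nat.Prime 7) := ⟨by norm_num⟩
  obtain ⟨a, ha⟩ : (cls z 6).Nonempty :=
    Set.nonempty_of_ncard_ne_zero (by rw [hs.cls_six_count h hone]; norm_num)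
  have haI := hs.cls_six h hone ha
  obtain ⟨X, _, π, hX, hπ⟩ := hs a haI
  haveI : Finite X := Finite.of_surjective π fun s => (hπ.surj s).imp fun c hc => hc.2
  have hG := h.card_eq_index hone
  set n := {v : G | v * v = 1 ∧ v ≠ 1}.ncard
  have h21n : 21 ∣ n := by
    have hd := Subgroup.card_subgroup_dvd_card (Subgroup.centralizer ({a} : Set G))
    rw [hπ.card_cent, haI.1, hX.card, hG] at hd
    omega
  have ha3 : a ^ 3 = 1 := (haI.odd (Or.inl rfl)).2.1
  obtain ⟨y, hyS, hzy⟩ := hs.exists_seven_inverted h hone haI hX hπ ha.1.2.2 ha.2.2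
  obtain ⟨h21, h31⟩ := hs.seven_pow h hone haI hX hπ hyS
  set b₀ := y ^ 3 with hb₀
  have hb7 : b₀ ^ 7 = 1 := by rw [hb₀, ← pow_mul]; exact h21
  have hbo : orderOf b₀ = 7 := orderOf_eq_prime hb7 h31
  have hba : b₀ * a = a * b₀ := Commute.pow_left hyS.1 3
  have hbS : b₀ ∈ sevenElems a π := by
    refine ⟨hba, by rw [← hπ.map_pow hba, hb7, hπ.map_one'], fun e => hyS.2.2 ?_⟩
    rw [hb₀, hπ.map_pow hyS.1] at e
    exact orderOf_eq_one_iff.mp (Nat.eq_one_of_dvd_coprimes (by norm_num : Nat.Coprime 3 7)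
      (orderOf_dvd_of_pow_eq_one e) (orderOf_dvd_of_pow_eq_one hyS.2.1))
  have hbz : Inverts z b₀ := inverts_pow hzy 3
  have hbf := hs.free_of_seven h hone haI hX hπ hbS hbz
  have hC := hs.six_cent h hone ha hbf hba
  -- an element squaring `b₀` or its inverse
  obtain ⟨g, m, hm24, hgm⟩ : ∃ (g : G) (m : ℕ), (m = 2 ∨ m = 4) ∧ g * b₀ * g⁻¹ = b₀ ^ m := by
    obtain ⟨c, hc, hsm⟩ : ∃ c : X, c ^ 3 = 1 ∧ (c * π b₀ * c⁻¹ = π b₀ ^ 2 ∨ c * π b₀ * c⁻¹ = π b₀ ^ 4) := by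
      obtain ⟨β, hβ⟩ := exists_prime_orderOf_dvd_card' (G := X) (hp := ⟨Nat.prime_three⟩) 3
        (by rw [hX.card]; norm_num)
      have hβ3 : β ^ 3 = 1 := hβ ▸ pow_orderOf_eq_one β
      have hT := hX.seven_norm β hβ3 (fun e => by rw [e, orderOf_one] at hβ; omega)
      obtain ⟨s, ⟨hs7, hs1⟩, hsm⟩ :=
        Set.nonempty_of_ncard_ne_zero (show _ ≠ 0 by rw [hT]; norm_num :
          {s : X | (s ^ 7 = 1 ∧ s ≠ 1) ∧ (β * s * β⁻¹ = s ^ 2 ∨ β * s * β⁻¹ = s ^ 4)}.ncard ≠ 0)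
      obtain ⟨c, -, hm⟩ := CfsgLib.HallJankoType.conj_of_sylow_prime (p := 7) (H := (⊤ : Subgroup X)) (a := s)
        (b := π b₀) (by rw [Subgroup.card_top, hX.card]; norm_num) (by rw [Subgroup.card_top, hX.card]; norm_num)
        (Subgroup.mem_top _) (Subgroup.mem_top _) (orderOf_eq_prime hs7 hs1) (orderOf_eq_prime hbS.2.1 hbS.2.2)
      obtain ⟨k, hk⟩ := (isOfFinOrder_of_finite s).mem_powers_iff_mem_zpowers.mpr hm
      have hk' : s ^ k = c * π b₀ * c⁻¹ := hk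
      refine ⟨c⁻¹ * β * c, ?_, ?_⟩
      · rw [show c⁻¹ * β * c = c⁻¹ * β * c⁻¹⁻¹ by group, conj_pow, hβ3]; group
      have e1 : c⁻¹ * β * c * π b₀ * (c⁻¹ * β * c)⁻¹ = c⁻¹ * (β * s * β⁻¹) ^ k * c := by
        rw [conj_pow, hk']; group
      have e2 : ∀ r : ℕ, β * s * β⁻¹ = s ^ r → c⁻¹ * β * c * π b₀ * (c⁻¹ * β * c)⁻¹ = π b₀ ^ r := fun r hr => by
        rw [e1, hr, ← pow_mul, mul_comm, pow_mul, hk', conj_pow]; group
      exact hsm.imp (e2 2) (e2 4)
    obtain ⟨g, hga, rfl⟩ := hπ.surj c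
    obtain ⟨m, hm24, hgm⟩ : ∃ m : ℕ, (m = 2 ∨ m = 4) ∧ π g * π b₀ * (π g)⁻¹ = π b₀ ^ m := by
      rcases hsm with e | e
      exacts [⟨2, Or.inl rfl, e⟩, ⟨4, Or.inr rfl, e⟩]
    obtain ⟨i, hi⟩ := (hπ.eq_iff ha3 (Commute.pow_left hba m)
      (Commute.mul_left (Commute.mul_left hga hba) (Commute.inv_left hga))).mp (by
      rw [hπ.map_conj hga hba, hπ.map_pow hba, hgm])
    refine ⟨g, m, hm24, ?_⟩
    have h7 : (g * b₀ * g⁻¹) ^ 7 = 1 := by rw [conj_pow, hb7]; group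
    rw [hi, (Commute.pow_pow hba m i).mul_pow, ← pow_mul b₀, mul_comm m, pow_mul, hb7, one_pow, one_mul,
      ← pow_mul] at h7
    have h3i : 3 ∣ i * 7 := haI.1 ▸ orderOf_dvd_of_pow_eq_one h7
    obtain ⟨r, hr⟩ : 3 ∣ i := by omega
    rw [hi, hr, pow_mul, ha3, one_pow, mul_one]
  set P := Subgroup.zpowers b₀ with hP
  set N := Subgroup.normalizer (P : Set G) with hN
  have hnor : ∀ (x : G) (r : ℕ), x * b₀ * x⁻¹ = b₀ ^ r → (∃ r' : ℕ, x⁻¹ * b₀ * x = b₀ ^ r') → x ∈ N := by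
    rintro x r hx ⟨r', hr'⟩
    rw [hN, Subgroup.mem_normalizer_iff]
    intro t
    constructor
    · rintro ⟨i, rfl⟩
      refine ⟨(r : ℤ) * i, ?_⟩
      simp only [zpow_mul, zpow_natCast, ← hx, conj_zpow]
    · rintro ⟨i, hi⟩
      refine ⟨(r' : ℤ) * i, ?_⟩
      simp only [zpow_mul, zpow_natCast, ← hr'] at hi ⊢
      rw [show (x⁻¹ * b₀ * x) ^ i = x⁻¹ * b₀ ^ i * x by
        rw [show x⁻¹ * b₀ * x = x⁻¹ * b₀ * x⁻¹⁻¹ by group, conj_zpow, inv_inv], hi]
      group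
  have hmm : (b₀ ^ m) ^ (m * m) = b₀ := by
    rw [← pow_mul]
    rcases hm24 with rfl | rfl
    · rw [show 2 * (2 * 2) = 7 + 1 from rfl, pow_succ, hb7, one_mul]
    · rw [show 4 * (4 * 4) = 7 * 9 + 1 from rfl, pow_succ, pow_mul, hb7, one_pow, one_mul]
  have hgN : g ∈ N := hnor g m hgm ⟨m * m, by
    rw [← show g⁻¹ * (g * b₀ * g⁻¹) ^ (m * m) * g = b₀ ^ (m * m) by rw [conj_pow]; group, hgm, hmm]⟩
  have hz6 : z * b₀ * z⁻¹ = b₀ ^ 6 := by
    rw [show z * b₀ * z⁻¹ = b₀⁻¹ from hbz]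
    exact inv_eq_of_mul_eq_one_right (by rw [← pow_succ', hb7])
  have hzN : z ∈ N := hnor z 6 hz6 ⟨6, by
    rw [← hz6, inv_eq_of_mul_eq_one_right h.zz]⟩
  have horb : orb N b₀ = (fun k : Fin 7 => b₀ ^ (k : ℕ)) '' {k : Fin 7 | k ≠ 0} := by
    ext x
    constructor
    · rintro ⟨c, hc, rfl⟩
      have hm := (Subgroup.mem_normalizer_iff.mp hc b₀).mp (Subgroup.mem_zpowers b₀)
      obtain ⟨k, hk⟩ := (isOfFinOrder_of_finite b₀).mem_powers_iff_mem_zpowers.mpr hm
      have hk' : b₀ ^ k = c * b₀ * c⁻¹ := hk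
      refine ⟨⟨k % 7, Nat.mod_lt _ (by norm_num)⟩, fun e => h31 ?_, ?_⟩
      · have e' : k % 7 = 0 := congrArg Fin.val e
        rw [pow_eq_pow_mod k hb7, e', pow_zero] at hk'
        exact conj_eq_one_iff.mp hk'.symm
      · show b₀ ^ (k % 7) = c * b₀ * c⁻¹
        rw [← pow_eq_pow_mod k hb7, hk']
    · rintro ⟨k, hk, rfl⟩
      have hg2 : g * g * b₀ * (g * g)⁻¹ = b₀ ^ (m * m) := by
        rw [show g * g * b₀ * (g * g)⁻¹ = g * (g * b₀ * g⁻¹) * g⁻¹ by group, hgm, ← conj_pow, hgm, ← pow_mul]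
      have hzc : ∀ x : G, ∀ r : ℕ, x * b₀ * x⁻¹ = b₀ ^ r → z * x * b₀ * (z * x)⁻¹ = b₀ ^ (6 * r) := fun x r hx => by
        rw [show z * x * b₀ * (z * x)⁻¹ = z * (x * b₀ * x⁻¹) * z⁻¹ by group, hx, ← conj_pow, hz6, ← pow_mul]
      have hpts : ∀ (x : G) (r : ℕ), x ∈ N → x * b₀ * x⁻¹ = b₀ ^ r → r % 7 = (k : ℕ) → b₀ ^ (k : ℕ) ∈ orb N b₀ :=
        fun x r hx e er => ⟨x, hx, by rw [e, pow_eq_pow_mod r hb7, er]⟩
      have hk7 := k.isLt
      have hk0 : (k : ℕ) ≠ 0 := fun e => hk (Fin.ext e)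
      show b₀ ^ (k : ℕ) ∈ orb N b₀
      by_cases c1 : 1 % 7 = (k : ℕ)
      · exact hpts 1 1 N.one_mem (by simp) c1
      by_cases c2 : m % 7 = (k : ℕ)
      · exact hpts g m hgN hgm c2
      by_cases c3 : m * m % 7 = (k : ℕ)
      · exact hpts _ _ (N.mul_mem hgN hgN) hg2 c3
      by_cases c4 : 6 % 7 = (k : ℕ)
      · exact hpts z 6 hzN hz6 c4
      by_cases c5 : 6 * m % 7 = (k : ℕ)
      · exact hpts _ _ (N.mul_mem hzN hgN) (hzc g m hgm) c5
      by_cases c6 : 6 * (m * m) % 7 = (k : ℕ)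
      · exact hpts _ _ (N.mul_mem hzN (N.mul_mem hgN hgN)) (hzc _ _ hg2) c6
      exfalso
      rcases hm24 with rfl | rfl <;> omega
  have hN126 : Nat.card ↥N = 126 := by
    have e := ncard_orb N b₀
    rw [horb, Set.ncard_image_of_injective _ (fun i j e => Fin.ext (pow_injOn_Iio_orderOf (by rw [hbo]; exact i.2)
      (by rw [hbo]; exact j.2) e)), Set.ncard_eq_toFinset_card'] at e
    have hCN : N ⊓ Subgroup.centralizer ({b₀} : Set G) = Subgroup.centralizer ({b₀} : Set G) :=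
      inf_eq_right.mpr fun x hx => hnor x 1 (by rw [pow_one]; exact conj_fix_iff.mpr (mem_cent.mp hx))
        ⟨1, by rw [pow_one, mul_assoc, ← mem_cent.mp hx, inv_mul_cancel_left]⟩
    rw [hCN, hC.1] at e
    rw [← e]
    rfl
  -- the Sylow subgroup
  obtain ⟨S, hS⟩ := (IsPGroup.of_card (p := 7) (G := ↥P) (n := 1) (by rw [Nat.card_zpowers, hbo, pow_one])).exists_le_sylow
  have hbS' : b₀ ∈ (S : Subgroup G) := hS (Subgroup.mem_zpowers b₀)
  haveI : Nontrivial ↥(S : Subgroup G) := ⟨⟨⟨b₀, hbS'⟩, 1, fun e => h31 (congrArg Subtype.val e)⟩⟩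
  haveI := IsPGroup.center_nontrivial S.2
  obtain ⟨⟨⟨c, hcS⟩, hc⟩, hc1⟩ := exists_ne (1 : Subgroup.center ↥(S : Subgroup G))
  have hcc : ∀ b ∈ (S : Subgroup G), b * c = c * b := fun b hb =>
    congrArg Subtype.val (Subgroup.mem_center_iff.mp hc ⟨b, hb⟩)
  have hc1' : c ≠ 1 := fun e => hc1 (Subtype.ext (Subtype.ext e))
  have hsev : ∀ x ∈ (S : Subgroup G), x * b₀ = b₀ * x → x ∈ P := by
    intro x hx hxb
    obtain ⟨k, hk⟩ := S.2 ⟨x, hx⟩
    have hk' : x ^ 7 ^ k = 1 := congrArg Subtype.val hk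
    have hd : orderOf x ∣ 21 := hC.1 ▸ Subgroup.orderOf_dvd_natCard _ (mem_cent.mpr hxb)
    have hd7 : orderOf x ∣ 7 := (Nat.Coprime.dvd_mul_left (Nat.Coprime.coprime_dvd_left (orderOf_dvd_of_pow_eq_one hk')
      ((show Nat.Coprime 7 3 by norm_num).pow_left k))).mp (show orderOf x ∣ 3 * 7 from hd)
    have hxa : x * a = a * x := mem_cent.mp (h.free_cent_le hbf hba.symm (mem_cent.mpr hxb))
    obtain ⟨i, j, hij⟩ := hs.seven_cent_a h hone haI hX hπ hbS hxa hxb
    have h7 := orderOf_dvd_iff_pow_eq_one.mp hd7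
    rw [hij, (Commute.pow_pow hba i j).mul_pow, ← pow_mul b₀, mul_comm i, pow_mul, hb7, one_pow, one_mul,
      ← pow_mul] at h7
    have h3j : 3 ∣ j * 7 := haI.1 ▸ orderOf_dvd_of_pow_eq_one h7
    obtain ⟨r, hr⟩ : 3 ∣ j := by omega
    rw [hij, hr, pow_mul, ha3, one_pow, mul_one]
    exact Subgroup.pow_mem _ (Subgroup.mem_zpowers _) i
  have hcP : c ∈ P := hsev c hcS (hcc b₀ hbS').symm
  have hPS : P = (S : Subgroup G) := by
    refine le_antisymm hS fun x hx => hsev x hx ?_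
    have hgen : b₀ ∈ Subgroup.zpowers c := by
      have e : Subgroup.zpowers c = P := by
        refine Subgroup.eq_of_le_of_card_ge (Subgroup.zpowers_le.mpr hcP) (le_of_eq ?_)
        have hd := Subgroup.orderOf_dvd_natCard _ hcP
        rw [Nat.card_zpowers, hbo] at hd
        rw [Nat.card_zpowers, Nat.card_zpowers, hbo,
          ((by norm_num : Nat.Prime 7).eq_one_or_self_of_dvd _ hd).resolve_left fun e =>
            hc1' (orderOf_eq_one_iff.mp e)]
      exact e.symm ▸ Subgroup.mem_zpowers b₀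
    exact comm_mem_zpowers (hcc x hx) hgen
  have hmod := card_sylow_modEq_one 7 G
  have hidx := S.card_eq_index_normalizer
  replace hidx : Nat.card (Sylow 7 G) = N.index := by rw [hidx, hN, hPS]; rfl
  have hlag := Subgroup.card_mul_index N
  rw [hN126, ← hidx, hG] at hlag
  simp only [Arith.condL, Bool.and_eq_true, beq_iff_eq]
  refine ⟨Nat.mod_eq_zero_of_dvd h21n, ?_⟩
  rw [← hlag, Nat.mul_div_cancel_left _ (by norm_num)]
  exact hmod

/-- The pure orbits have orders prime to `210`. -/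
theorem pure_coprime {y : G} (hy : y ∈ pureF z) :
    Nat.gcd (Nat.card ↥(Subgroup.centralizer ({y} : Set G))) 210 = 1 := by
  haveI : Fact (Nat.Prime 7) := ⟨by norm_num⟩
  have h30 := h.pure_coprime_thirty hs.qType hone hy
  have h7 : ¬ 7 ∣ Nat.card ↥(Subgroup.centralizer ({y} : Set G)) := by
    intro hd
    obtain ⟨v, -, d, hdz, hdo, -⟩ := h.exists_inverted (n := 3) (Or.inl rfl)
    have hdI := h.isInvCent hdz hdo
    obtain ⟨X, _, π, hX, hπ⟩ := hs d hdI
    obtain ⟨x, hxd, hπx⟩ : ∃ x : G, x * d = d * x ∧ orderOf x = 7 := by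
      haveI : Finite X := Finite.of_surjective π fun s => (hπ.surj s).imp fun c hc => hc.2
      obtain ⟨s, hs'⟩ := exists_prime_orderOf_dvd_card' (G := X) 7 (by rw [hX.card]; norm_num)
      obtain ⟨c, hc, rfl⟩ := hπ.surj s
      have hs1 : π c ≠ 1 := fun e => by rw [e, orderOf_one] at hs'; omega
      have hcS : c ∈ sevenElems d π := ⟨hc, by rw [← hs', pow_orderOf_eq_one], hs1⟩
      obtain ⟨h21, h3⟩ := hs.seven_pow h hone hdI hX hπ hcS
      exact ⟨c ^ 3, Commute.pow_left hc 3, orderOf_eq_prime (by rw [← pow_mul]; exact h21) h3⟩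
    have hY := h.pure_selfCent hy
    obtain ⟨S, hS⟩ := hY.sylow_le hd
    obtain ⟨T, hT⟩ := (IsPGroup.of_card (p := 7) (G := ↥(Subgroup.zpowers x)) (n := 1)
      (by rw [Nat.card_zpowers, hπx, pow_one])).exists_le_sylow
    obtain ⟨g, hg⟩ := MulAction.exists_smul_eq G T S
    have hmem : g * x * g⁻¹ ∈ Subgroup.centralizer ({y} : Set G) := by
      refine hS ?_
      rw [← hg, Sylow.coe_subgroup_smul]
      exact Subgroup.smul_mem_pointwise_smul _ _ _ (hT (Subgroup.mem_zpowers x))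
    have hgx1 : g * x * g⁻¹ ≠ 1 := fun e => by
      rw [conj_eq_one_iff] at e
      rw [e, orderOf_one] at hπx
      omega
    have hdmem := hY.mem_of_comm hmem hgx1 (conj_comm (g := g) hxd.symm)
    exact h.invCent_not_free hs.qType hone (Or.inl rfl) (hdI.conj g)
      (hy.2 _ (mem_cent.mp hdmem) ((hdI.conj g).odd (Or.inl rfl)).2.2)
  show Nat.Coprime _ (30 * 7)
  exact Nat.Coprime.mul_right h30 ((by norm_num : Nat.Prime 7).coprime_iff_not_dvd.mpr h7).symm

/-- The quotient of order 168 does not occur. -/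
theorem absurd_type : False := by
  obtain ⟨L, hL, hLp, hLi⟩ := h.pure_items hone (fun y hy => h.pure_coprime_thirty hs.qType hone hy) (pureF z)
    subset_rfl (fun c hc y hy => pureF_conj hc hy) fun y hy a ha ha1 => ⟨hy.2 a ha ha1, fun b hb hb1 => by
      have hb' : b ∈ Subgroup.centralizer ({y} : Set G) := by
        rw [← h.free_cent_eq hy.1 (hy.2 a ha ha1) ha]; exact mem_cent.mpr hb
      exact hy.2 b (mem_cent.mp hb') hb1⟩
  have hcond := hs.condL_index h hone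
  have hn := h.ncard_involutions hone
  rw [h.oddInverted_split] at hn
  set n := {v : G | v * v = 1 ∧ v ≠ 1}.ncard
  have h21 : 21 ∣ n := by
    simp only [Arith.condL, Bool.and_eq_true, beq_iff_eq] at hcond
    exact Nat.dvd_of_mod_eq_zero hcond.1
  have key : ∀ S : ℕ, Arith.search 210 Arith.condL 5 false S 21 7 [] = true → Arith.condL S = false → 960 < S →
      S ≤ 50000 → n = S + (pureF z).ncard → False := by
    intro S hsearch hS hS1 hS2 hnS
    by_cases hLe : L = []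
    · have h0 : (pureF z).ncard = 0 := by rw [← hL, hLe]; rfl
      rw [hnS, h0, add_zero, hS] at hcond
      exact Bool.false_ne_true hcond
    have := Arith.index_eq hsearch hLe (fun i hi => (hLi i hi).2.1)
      (by rw [List.countP_eq_zero.mpr fun i hi => by simp [(hLi i hi).1]]; rfl) hLp ?_ hcond
      (by rw [hL]; exact hnS) h21 ?_ (by norm_num) hS1 hS2 (by norm_num)
    · omega
    · intro i hi
      obtain ⟨h1, h7, ho, hmu, h0, hc, y, hy, e1⟩ := hLi i hi
      rw [h1]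
      exact ⟨hmu, Arith.ok_iff_false.mpr ⟨h7, ho, e1 ▸ hs.pure_coprime h hone hy, h0⟩, hc⟩
    · intro i hi
      obtain ⟨-, -, -, -, -, -, y, hy, e1⟩ := hLi i hi
      rw [e1]
      exact Nat.Coprime.coprime_dvd_left (show 21 ∣ 210 by norm_num) (Nat.Coprime.symm (hs.pure_coprime h hone hy))
  rcases hs.nonfree_count h hone with ⟨hnf, hall⟩ | ⟨hnf, hall⟩
  · rw [hs.special_split h hone (Or.inl rfl) hall, hs.freeTwo_small h hone hall, hnf] at hn
    exact key 19251 Arith.cert_L (by decide +kernel) (by norm_num) (by norm_num) (by omega)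
  · obtain ⟨j, hj, hft⟩ := hs.freeTwo_bound h hone hnf hall
    rw [hs.special_split h hone (Or.inr rfl) hall, hft, hnf] at hn
    have hsearch := List.all_eq_true.mp Arith.cert_L5 j (List.mem_range.mpr hj)
    refine key _ hsearch ?_ (by omega) (by omega) (by omega)
    interval_cases j <;> decide +kernel

end SevenType

end CfsgLib.J3Type
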