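import Cfsg.Agent.Lib.J3Type.OddAction
import Cfsg.Agent.Lib.OddOrder.FeitThompson
import Mathlib.GroupTheory.Abelianization.Defs
import Mathlib.GroupTheory.Nilpotent

/-!
Groups of `J₃` type: a group of odd order with an involutive automorphism whose fixed points form a subgroup of order
three with small centralizer, and whose inverted elements do not form a subgroup, is a three-group of order at most
`3^5`.
-/

set_option autoImplicit false
set_option linter.unusedSectionVars false
set_option maxHeartbeats 800000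

namespace CfsgLib.J3Type

open scoped commutatorElement

universe u

variable {W : Type u} [Group W] [Finite W]

/-- The setting of an involutive automorphism with fixed points of order three. -/
structure ThreeFix (θ : W ≃* W) (d : W) : Prop where
  odd : Odd (Nat.card W)
  inv : ∀ w, θ (θ w) = w
  od : orderOf d = 3
  fix_d : θ d = d
  fix : ∀ w, θ w = w → w ∈ Subgroup.zpowers d
  nine : ∀ w, w * d = d * w → w ^ 9 = 1
  cent : {w : W | w * d = d * w}.ncard ≤ 27
  prod : ∃ x y : W, θ x = x⁻¹ ∧ θ y = y⁻¹ ∧ θ (x * y) ≠ (x * y)⁻¹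

namespace ThreeFix

variable {θ : W ≃* W} {d : W} (F : ThreeFix θ d)
include F

theorem oddOrder (w : W) : Odd (orderOf w) := F.odd.of_dvd_nat (orderOf_dvd_natCard w)

theorem d3 : d ^ 3 = 1 := F.od ▸ pow_orderOf_eq_one d

theorem sq_mem {K : Subgroup W} {w : W} (h : w * w ∈ K) : w ∈ K := by
  obtain ⟨m, hm⟩ := F.oddOrder w
  have : w = (w * w) ^ (m + 1) := by
    rw [← pow_two, ← pow_mul, show 2 * (m + 1) = orderOf w + 1 by omega, pow_succ, pow_orderOf_eq_one, one_mul]
  rw [this]
  exact K.pow_mem h _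

theorem fix_pow {w : W} (h : w ∈ Subgroup.zpowers d) : θ w = w := by
  obtain ⟨k, rfl⟩ := h
  simp only [map_zpow, F.fix_d]

theorem inv_pow {a w : W} (hw : θ w = w⁻¹) (ha : a ∈ Subgroup.zpowers w) : θ a = a⁻¹ := by
  obtain ⟨k, rfl⟩ := ha
  simp only [map_zpow, hw, inv_zpow]

/-- Every element is an inverted one times a fixed one, in any invariant subgroup. -/
theorem split (w : W) : ∃ i f : W, θ i = i⁻¹ ∧ f ∈ Subgroup.zpowers d ∧ w = i * f ∧
    ∀ K : Subgroup W, (∀ a ∈ K, θ a ∈ K) → w ∈ K → i ∈ K ∧ f ∈ K := by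
  set t := w * θ w⁻¹ with ht
  have hti : θ t = t⁻¹ := by rw [ht, map_mul, F.inv, mul_inv_rev, ← map_inv, inv_inv]
  obtain ⟨i, hi, hii⟩ := exists_sqrt (F.oddOrder t)
  have hθi := F.inv_pow hti hi
  refine ⟨i, i⁻¹ * w, hθi, F.fix _ ?_, by group, fun K hK hw => ?_⟩
  · rw [map_mul, map_inv, hθi, inv_inv]
    calc i * θ w = i⁻¹ * (i * i) * θ w := by group
      _ = i⁻¹ * w := by rw [hii, ht, map_inv]; group
  · have hiK : i ∈ K := Subgroup.zpowers_le.mpr (K.mul_mem hw (hK _ (K.inv_mem hw))) hi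
    exact ⟨hiK, K.mul_mem (K.inv_mem hiK) hw⟩

/-- The element `d` is a product of inverted elements. -/
theorem d_gen : ∃ x y i : W, θ x = x⁻¹ ∧ θ y = y⁻¹ ∧ θ i = i⁻¹ ∧ i⁻¹ * (x * y) ≠ 1 ∧
    i⁻¹ * (x * y) ∈ Subgroup.zpowers d ∧ d ∈ Subgroup.zpowers (i⁻¹ * (x * y)) := by
  haveI : Fact (Nat.Prime 3) := ⟨Nat.prime_three⟩
  obtain ⟨x, y, hx, hy, hxy⟩ := F.prod
  obtain ⟨i, f, hi, hf, e, -⟩ := F.split (x * y)
  have hfe : i⁻¹ * (x * y) = f := by rw [e]; group
  have hf1 : f ≠ 1 := fun e1 => hxy (by rw [e, e1, mul_one]; exact hi)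
  refine ⟨x, y, i, hx, hy, hi, hfe ▸ hf1, hfe ▸ hf, hfe.symm ▸ ?_⟩
  have : Subgroup.zpowers f = Subgroup.zpowers d := by
    refine Subgroup.eq_of_le_of_card_ge (Subgroup.zpowers_le.mpr hf) (le_of_eq ?_)
    rw [Nat.card_zpowers, Nat.card_zpowers, F.od]
    exact (orderOf_eq_prime (orderOf_dvd_iff_pow_eq_one.mp
      ((Subgroup.orderOf_dvd_natCard _ hf).trans (by rw [Nat.card_zpowers, F.od]))) hf1).symm
  exact this.symm ▸ Subgroup.mem_zpowers d

theorem d_mem_commutator : d ∈ commutator W := by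
  obtain ⟨x, y, i, hx, hy, hi, -, hf, hd⟩ := F.d_gen
  refine Subgroup.zpowers_le.mpr (F.sq_mem ?_) hd
  set f := i⁻¹ * (x * y) with hfdef
  rw [← Abelianization.ker_of, MonoidHom.mem_ker]
  have e : f = i * (x⁻¹ * y⁻¹) :=
    calc f = θ f := (F.fix_pow hf).symm
      _ = i * (x⁻¹ * y⁻¹) := by rw [hfdef, map_mul, map_mul, map_inv, hi, hx, hy, inv_inv]
  rw [map_mul]
  nth_rewrite 1 [hfdef]
  rw [e]
  simp only [map_mul, map_inv]
  rw [mul_mul_mul_comm, inv_mul_cancel, one_mul, mul_mul_mul_comm, mul_inv_cancel, mul_inv_cancel, one_mul]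

/-- A normal inverted subgroup is central. -/
theorem inverted_central {V : Subgroup W} [hV : V.Normal] (hinv : ∀ v ∈ V, θ v = v⁻¹) {v : W} (hv : v ∈ V) (w : W) :
    w * v = v * w := by
  have hi : ∀ i : W, θ i = i⁻¹ → i * v = v * i := fun i hi => by
    have h1 := hinv _ (hV.conj_mem v hv i)
    rw [map_mul, map_mul, map_inv, hi, hinv v hv, inv_inv] at h1
    have h2 : i * i * v = v * (i * i) := by
      have h3 := congrArg (fun a => i * a * i) (congrArg (·⁻¹) h1)
      simp only [mul_inv_rev, inv_inv] at h3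
      calc i * i * v = i * (i * v * i⁻¹) * i := by group
        _ = i * (i⁻¹ * (v * i)) * i := h3.symm
        _ = v * (i * i) := by group
    have hm : i ∈ Subgroup.centralizer ({v} : Set W) :=
      F.sq_mem (Subgroup.mem_centralizer_singleton_iff.mpr h2)
    exact Subgroup.mem_centralizer_singleton_iff.mp hm
  obtain ⟨x, y, j, hx, hy, hj, -, -, hd⟩ := F.d_gen
  have hdv : d * v = v * d :=
    (comm_mem_zpowers (v := v) (Commute.mul_right (Commute.inv_right (hi j hj).symm)
      (Commute.mul_right (hi x hx).symm (hi y hy).symm)).eq hd).symm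
  obtain ⟨i, f, hθi, hf, rfl, -⟩ := F.split w
  exact Commute.mul_left (hi i hθi) (comm_mem_zpowers hdv.symm hf).symm

/-- An invariant subgroup without fixed points is inverted. -/
theorem inverted_of_fix_free {V : Subgroup W} (hθ : ∀ a ∈ V, θ a ∈ V) (hd : d ∉ V) : ∀ v ∈ V, θ v = v⁻¹ := by
  haveI : Fact (Nat.Prime 3) := ⟨Nat.prime_three⟩
  intro v hv
  obtain ⟨i, f, hi, hf, e, hK⟩ := F.split v
  obtain ⟨-, hfV⟩ := hK V hθ hv
  obtain rfl : f = 1 := by
    by_contra hf1
    refine hd (Subgroup.zpowers_le.mpr hfV ?_)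
    have : Subgroup.zpowers f = Subgroup.zpowers d := by
      refine Subgroup.eq_of_le_of_card_ge (Subgroup.zpowers_le.mpr hf) (le_of_eq ?_)
      rw [Nat.card_zpowers, Nat.card_zpowers, F.od]
      exact (orderOf_eq_prime (orderOf_dvd_iff_pow_eq_one.mp
        ((Subgroup.orderOf_dvd_natCard _ hf).trans (by rw [Nat.card_zpowers, F.od]))) hf1).symm
    exact this.symm ▸ Subgroup.mem_zpowers d
  rw [e, mul_one]; exact hi

/-- The commutator subgroup is a three-group, `θ` inverts the quotient by it, and the derived subgroup of the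
commutator subgroup is central without `d`. -/
theorem commutator_data : (∀ a ∈ commutator W, ∃ k, a ^ 3 ^ k = 1) ∧ (∀ w, w * θ w ∈ commutator W) ∧
    ∀ n ∈ ⁅commutator W, commutator W⁆, (∀ w, w * n = n * w) ∧ n ^ 9 = 1 := by
  classical
  haveI : Fact (Nat.Prime 3) := ⟨Nat.prime_three⟩
  haveI := CfsgLib.OddOrder.feitThompson F.odd
  have hex : ∃ m, d ∉ derivedSeries W m := by
    obtain ⟨m, hm⟩ := (Group.isSolvable_def W).mp inferInstance
    refine ⟨m, fun h => ?_⟩
    rw [hm, Subgroup.mem_bot] at h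
    have := F.od
    rw [h, orderOf_one] at this
    omega
  have h1 : d ∈ derivedSeries W 1 := by rw [derivedSeries_one]; exact F.d_mem_commutator
  obtain ⟨m, hm⟩ : ∃ m, Nat.find hex = m + 1 := Nat.exists_eq_add_one.mpr (Nat.pos_of_ne_zero fun e => by
    have := Nat.find_spec hex
    rw [e] at this
    exact this (Subgroup.mem_top d))
  have hout : d ∉ derivedSeries W (m + 1) := hm ▸ Nat.find_spec hex
  have hin : d ∈ derivedSeries W m := not_not.mp (Nat.find_min hex (by omega))
  have hθ : ∀ k, ∀ a ∈ derivedSeries W k, θ a ∈ derivedSeries W k := fun k a ha =>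
    map_derivedSeries_le_derivedSeries θ.toMonoidHom k (Subgroup.mem_map_of_mem _ ha)
  have hm1 : 1 ≤ m := Nat.one_le_iff_ne_zero.mpr fun e => by subst e; exact hout h1
  set D := derivedSeries W m with hD
  have hN : derivedSeries W (m + 1) = ⁅D, D⁆ := derivedSeries_succ W m
  haveI : (derivedSeries W (m + 1)).Normal := derivedSeries_normal W (m + 1)
  haveI hDn : D.Normal := derivedSeries_normal W m
  have hcent : ∀ n ∈ ⁅D, D⁆, (∀ w, w * n = n * w) ∧ n ^ 9 = 1 := fun n hn => by
    rw [← hN] at hn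
    have hc := fun w => F.inverted_central (F.inverted_of_fix_free (hθ (m + 1)) hout) hn w
    exact ⟨hc, F.nine n (hc d).symm⟩
  have hD3 : ∀ a ∈ D, ∃ k, a ^ 3 ^ k = 1 := by
    intro a ha
    obtain ⟨k, r, hr, hord⟩ := Nat.exists_eq_pow_mul_and_not_dvd (orderOf_pos a).ne' 3 (by norm_num)
    refine ⟨k, ?_⟩
    set b := a ^ 3 ^ k
    have hbr : b ^ r = 1 := by rw [← pow_mul, ← hord, pow_orderOf_eq_one]
    obtain ⟨hc, h9⟩ := hcent _ (Subgroup.commutator_mem_commutator hin (D.pow_mem ha (3 ^ k) : b ∈ D))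
    set n := ⁅d, b⁆ with hn
    have hconj : d * b * d⁻¹ = n * b := by rw [hn, commutatorElement_def]; group
    have hnr : n ^ r = 1 := by
      have h2 := congrArg (· ^ r) hconj
      simp only [conj_pow, (show Commute n b from (hc b).symm).mul_pow, hbr, mul_one, mul_inv_cancel] at h2
      exact h2.symm
    have hn1 : n = 1 := orderOf_eq_one_iff.mp (Nat.eq_one_of_dvd_coprimes
      ((Nat.prime_three.coprime_iff_not_dvd.mpr hr).pow_left 2) (orderOf_dvd_of_pow_eq_one h9)
      (orderOf_dvd_of_pow_eq_one hnr))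
    rw [hn1, one_mul] at hconj
    have hb9 := F.nine b (mul_inv_eq_iff_eq_mul.mp hconj).symm
    exact orderOf_eq_one_iff.mp (Nat.eq_one_of_dvd_coprimes
      ((Nat.prime_three.coprime_iff_not_dvd.mpr hr).pow_left 2) (orderOf_dvd_of_pow_eq_one hb9)
      (orderOf_dvd_of_pow_eq_one hbr))
  have hquot : ∀ w, w * θ w ∈ D := fun w => by
    obtain ⟨i, f, hi, hf, rfl, -⟩ := F.split w
    rw [map_mul, hi, F.fix_pow hf, show i * f * (i⁻¹ * f) = i * f * i⁻¹ * f by group]
    have hfD : f ∈ D := Subgroup.zpowers_le.mpr hin hf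
    exact D.mul_mem (hDn.conj_mem f hfD i) hfD
  have hDeq : D = commutator W := by
    refine le_antisymm (by rw [← derivedSeries_one]; exact derivedSeries_antitone W hm1) ?_
    rw [commutator_def, Subgroup.commutator_le]
    intro a _ b _
    have hq : ∀ w, (QuotientGroup.mk' D) (θ w) = ((QuotientGroup.mk' D) w)⁻¹ := fun w => by
      refine eq_inv_of_mul_eq_one_right ?_
      rw [← map_mul]
      exact (QuotientGroup.eq_one_iff _).mpr (hquot w)
    refine (QuotientGroup.eq_one_iff (N := D) _).mp ?_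
    show QuotientGroup.mk' D ⁅a, b⁆ = 1
    rw [map_commutatorElement, commutatorElement_eq_one_iff_mul_comm]
    have h2 := hq (b * a)
    rw [map_mul θ, map_mul (QuotientGroup.mk' D), hq, hq, map_mul, ← mul_inv_rev, inv_inj] at h2
    exact h2
  exact ⟨fun a ha => hD3 a (hDeq ▸ ha), fun w => hDeq ▸ hquot w, fun n hn => hcent n (by rwa [hDeq])⟩

theorem conj_mem_commutator (i a : W) (ha : a ∈ commutator W) : i * a * i⁻¹ ∈ commutator W :=
  Subgroup.Normal.conj_mem inferInstance a ha i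

theorem map_mem_commutator {a : W} (ha : a ∈ commutator W) : θ a ∈ commutator W := by
  rw [← derivedSeries_one] at ha ⊢
  exact map_derivedSeries_le_derivedSeries θ.toMonoidHom 1 (Subgroup.mem_map_of_mem _ ha)

/-- An inverted element of order prime to six is trivial. -/
theorem inverted_prime_six {i : W} (hi : θ i = i⁻¹) (h3 : ¬ 3 ∣ orderOf i) : i = 1 := by
  haveI : Fact (Nat.Prime 3) := ⟨Nat.prime_three⟩
  obtain ⟨hD3, -, hN⟩ := F.commutator_data
  set P := commutator W with hP
  let θP : ↥P ≃* ↥P :=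
    { toFun := fun a => ⟨θ a, F.map_mem_commutator a.2⟩
      invFun := fun a => ⟨θ a, F.map_mem_commutator a.2⟩
      left_inv := fun a => Subtype.ext (F.inv a)
      right_inv := fun a => Subtype.ext (F.inv a)
      map_mul' := fun a b => Subtype.ext (map_mul θ (a : W) b) }
  let τP : ↥P ≃* ↥P :=
    { toFun := fun a => ⟨i * a * i⁻¹, F.conj_mem_commutator i _ a.2⟩
      invFun := fun a => ⟨i⁻¹ * a * i⁻¹⁻¹, F.conj_mem_commutator i⁻¹ _ a.2⟩
      left_inv := fun a => Subtype.ext (by show i⁻¹ * (i * (a : W) * i⁻¹) * i⁻¹⁻¹ = a; group)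
      right_inv := fun a => Subtype.ext (by show i * (i⁻¹ * (a : W) * i⁻¹⁻¹) * i⁻¹ = a; group)
      map_mul' := fun a b => Subtype.ext (by
        show i * ((a : W) * b) * i⁻¹ = i * (a : W) * i⁻¹ * (i * (b : W) * i⁻¹)
        group) }
  have hsurj : ∀ v : Abelianization ↥P, ∃ a : ↥P, Abelianization.of a = v := fun v => by
    obtain ⟨a, rfl⟩ := QuotientGroup.mk_surjective v
    exact ⟨a, rfl⟩
  haveI : Finite (Abelianization ↥P) := Finite.of_surjective _ hsurj
  let θV := θP.abelianizationCongr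
  let τV := τP.abelianizationCongr
  have hθof : ∀ a : ↥P, θV (Abelianization.of a) = Abelianization.of (θP a) := fun a => rfl
  have hτof : ∀ a : ↥P, τV (Abelianization.of a) = Abelianization.of (τP a) := fun a => rfl
  have hτsof : ∀ a : ↥P, τV.symm (Abelianization.of a) = Abelianization.of (τP.symm a) := fun a => rfl
  have hdP : d ∈ P := F.d_mem_commutator
  set dV := Abelianization.of (⟨d, hdP⟩ : ↥P) with hdV
  have h3V : ∀ v : Abelianization ↥P, ∃ k, v ^ 3 ^ k = 1 := fun v => by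
    obtain ⟨a, rfl⟩ := hsurj v
    obtain ⟨k, hk⟩ := hD3 a a.2
    exact ⟨k, by rw [← map_pow, show a ^ 3 ^ k = 1 from Subtype.ext (by
      rw [SubmonoidClass.coe_pow]; exact hk), map_one]⟩
  have key := fix_of_dihedral θV τV (fun v => by
      obtain ⟨a, rfl⟩ := hsurj v
      rw [hθof, hθof]
      exact congrArg _ (Subtype.ext (F.inv a)))
    (fun v => by
      obtain ⟨a, rfl⟩ := hsurj v
      rw [hτof, hθof, hθof, hτsof]
      refine congrArg _ (Subtype.ext ?_)
      show θ (i * a * i⁻¹) = i⁻¹ * θ a * i⁻¹⁻¹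
      rw [map_mul, map_mul, map_inv, hi]) (d := dV)
    (by rw [hdV, ← map_pow, show (⟨d, hdP⟩ : ↥P) ^ 3 = 1 from Subtype.ext F.d3, map_one])
    (by rw [hdV, hθof]; exact congrArg _ (Subtype.ext F.fix_d))
    (fun v hv => by
      obtain ⟨a, rfl⟩ := hsurj v
      obtain ⟨j, f, hj, hf, e, hK⟩ := F.split (a : W)
      obtain ⟨hjP, hfP⟩ := hK P (fun b hb => F.map_mem_commutator hb) a.2
      obtain rfl : a = ⟨j, hjP⟩ * ⟨f, hfP⟩ := Subtype.ext e
      rw [hθof, map_mul θP, show θP ⟨f, hfP⟩ = ⟨f, hfP⟩ from Subtype.ext (F.fix_pow hf),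
        show θP ⟨j, hjP⟩ = ⟨j, hjP⟩⁻¹ from Subtype.ext hj, map_mul, map_mul, mul_left_inj, map_inv,
        inv_eq_iff_mul_eq_one] at hv
      obtain ⟨k, hk⟩ := h3V (Abelianization.of (⟨j, hjP⟩ : ↥P))
      have hj1 : Abelianization.of (⟨j, hjP⟩ : ↥P) = 1 := eq_one_of_sq_odd hv
        ((Odd.pow (show Odd 3 by decide)).of_dvd_nat (orderOf_dvd_of_pow_eq_one hk))
      rw [map_mul, hj1, one_mul]
      obtain ⟨r, rfl⟩ := hf
      exact ⟨r, by
        show Abelianization.of (⟨d, hdP⟩ : ↥P) ^ r = _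
        rw [← map_zpow]
        exact congrArg _ (Subtype.ext (by simp))⟩)
    h3V (q := orderOf i) (by
      rw [show (24 : ℕ) = 2 ^ 3 * 3 from rfl]
      exact ((Nat.coprime_two_right.mpr (F.oddOrder i)).pow_right 3).mul_right
        (Nat.prime_three.coprime_iff_not_dvd.mpr h3).symm)
    (fun v => by
      obtain ⟨a, rfl⟩ := hsurj v
      have hit : ∀ k : ℕ, ∃ hm : i ^ k * (a : W) * (i ^ k)⁻¹ ∈ P,
          τV^[k] (Abelianization.of a) = Abelianization.of ⟨_, hm⟩ := by
        intro k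
        induction k with
        | zero => exact ⟨by simp, by simp⟩
        | succ k ih =>
          obtain ⟨hm, e⟩ := ih
          refine ⟨F.conj_mem_commutator _ _ a.2, ?_⟩
          rw [Function.iterate_succ_apply', e, hτof]
          refine congrArg _ (Subtype.ext ?_)
          show i * (i ^ k * (a : W) * (i ^ k)⁻¹) * i⁻¹ = i ^ (k + 1) * a * (i ^ (k + 1))⁻¹
          rw [pow_succ' i k]; group
      obtain ⟨hm, e⟩ := hit (orderOf i)
      rw [e]
      exact congrArg _ (Subtype.ext (by simp [pow_orderOf_eq_one])))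
  -- so `i` centralizes `d`
  have hd := key dV
  rw [hdV, hτof, ← inv_mul_eq_one, ← map_inv, ← map_mul, ← MonoidHom.mem_ker, Abelianization.ker_of] at hd
  set nP : ↥P := (τP ⟨d, hdP⟩)⁻¹ * ⟨d, hdP⟩ with hnP
  obtain ⟨hc, h9⟩ := hN (nP : W) (by
    rw [← Subgroup.map_subtype_commutator]; exact Subgroup.mem_map_of_mem _ hd)
  set n := (nP : W) with hn
  have hn' : n = (i * d * i⁻¹)⁻¹ * d := rfl
  have hstep : i * d * i⁻¹ = d * n⁻¹ := by rw [hn']; group
  have hpow : ∀ k : ℕ, i ^ k * d * (i ^ k)⁻¹ = d * (n⁻¹) ^ k := by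
    intro k
    induction k with
    | zero => simp
    | succ k ih =>
      rw [pow_succ' i k, show i * i ^ k * d * (i * i ^ k)⁻¹ = i * (i ^ k * d * (i ^ k)⁻¹) * i⁻¹ by group, ih,
        show i * (d * n⁻¹ ^ k) * i⁻¹ = i * d * i⁻¹ * (i * n⁻¹ ^ k * i⁻¹) by group, hstep,
        mul_inv_eq_iff_eq_mul.mpr (Commute.pow_right (Commute.inv_right (hc i)) k).eq, mul_assoc, ← pow_succ']
  have hnr : n⁻¹ ^ orderOf i = 1 := by
    have := hpow (orderOf i)
    rw [pow_orderOf_eq_one, one_mul, inv_one, mul_one] at this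
    exact left_eq_mul.mp this
  have hn1 : n = 1 := orderOf_eq_one_iff.mp (Nat.eq_one_of_dvd_coprimes
    ((Nat.prime_three.coprime_iff_not_dvd.mpr h3).pow_left 2) (orderOf_dvd_of_pow_eq_one h9)
    (by rw [← orderOf_inv]; exact orderOf_dvd_of_pow_eq_one hnr))
  rw [hn1, inv_one, mul_one] at hstep
  have hi9 := F.nine i (mul_inv_eq_iff_eq_mul.mp hstep)
  exact orderOf_eq_one_iff.mp (Nat.eq_one_of_dvd_coprimes
    ((Nat.prime_three.coprime_iff_not_dvd.mpr h3).pow_left 2) (orderOf_dvd_of_pow_eq_one hi9) dvd_rfl)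

/-- The group is a three-group. -/
theorem isPGroup : IsPGroup 3 W := by
  intro w
  obtain ⟨hD3, -, -⟩ := F.commutator_data
  have hinv3 : ∀ i, θ i = i⁻¹ → ∃ k, i ^ 3 ^ k = 1 := fun i hi => by
    obtain ⟨k, r, hr, hord⟩ := Nat.exists_eq_pow_mul_and_not_dvd (orderOf_pos i).ne' 3 (by norm_num)
    refine ⟨k, F.inverted_prime_six (by rw [map_pow, hi, _root_.inv_pow]) fun h3 => hr ?_⟩
    exact h3.trans (orderOf_dvd_of_pow_eq_one (by rw [← pow_mul, ← hord, pow_orderOf_eq_one]))
  obtain ⟨i, f, hi, hf, rfl, -⟩ := F.split w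
  obtain ⟨k, hk⟩ := hinv3 i hi
  have hfD : f ∈ commutator W := Subgroup.zpowers_le.mpr F.d_mem_commutator hf
  have hm : (i * f) ^ 3 ^ k ∈ commutator W := by
    rw [← Abelianization.ker_of, MonoidHom.mem_ker, map_pow, map_mul,
      show Abelianization.of f = 1 from MonoidHom.mem_ker.mp (by rw [Abelianization.ker_of]; exact hfD), mul_one,
      ← map_pow, hk, map_one]
  obtain ⟨l, hl⟩ := hD3 _ hm
  exact ⟨k + l, by rw [pow_add, pow_mul]; exact hl⟩

/-- The bounds. -/
theorem bounds {c : W} (hc : ∀ w, w * c = c * w) (hc1 : c ≠ 1) (hcθ : θ c = c⁻¹)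
    (hI : Nat.card W = 3 * {w : W | θ w = w⁻¹}.ncard) :
    81 ∣ Nat.card W ∧ {w : W | θ w = w⁻¹ ∧ w * d ≠ d * w}.ncard ≤ 72 ∧ (Nat.card W = 81 ∨ Nat.card W = 243) ∧
      (∀ k ∈ Subgroup.center W, θ k = k⁻¹) ∧ (Nat.card W = 243 → 9 ≤ Nat.card ↥(Subgroup.center W)) := by
  haveI : Fact (Nat.Prime 3) := ⟨Nat.prime_three⟩
  obtain ⟨-, hquot, -⟩ := F.commutator_data
  set P := commutator W with hP
  set L := ⁅P, (⊤ : Subgroup W)⁆ with hL
  haveI : L.Normal := inferInstance
  set q := QuotientGroup.mk' L with hq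
  have hLP : L ≤ P := Subgroup.commutator_le_left _ _
  have hθL : ∀ a ∈ L, θ a ∈ L := by
    intro a ha
    have hm : θ a ∈ L.map θ.toMonoidHom := Subgroup.mem_map_of_mem _ ha
    rw [hL, Subgroup.map_commutator] at hm
    exact Subgroup.commutator_mono (show P.map θ.toMonoidHom ≤ P by
      rintro _ ⟨b, hb, rfl⟩; exact F.map_mem_commutator hb) le_top hm
  -- elements of `P` are central modulo `L`
  have hqc : ∀ a ∈ P, ∀ b : W, Commute (q a) (q b) := fun a ha b => by
    refine commutatorElement_eq_one_iff_mul_comm.mp ?_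
    rw [← map_commutatorElement]
    exact (QuotientGroup.eq_one_iff _).mpr (Subgroup.commutator_mem_commutator ha (Subgroup.mem_top b))
  have hfixq : ∀ a ∈ P, q (θ a) = q a := by
    have hle : P ≤ MonoidHom.eqLocus (q.comp θ.toMonoidHom) q := by
      rw [hP, commutator_def, Subgroup.commutator_le]
      intro a _ b _
      show q (θ ⁅a, b⁆) = q ⁅a, b⁆
      rw [map_commutatorElement θ, map_commutatorElement q, map_commutatorElement q]
      have ea : q (θ a) = (q a)⁻¹ * q (a * θ a) := by rw [map_mul]; group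
      have eb : q (θ b) = (q b)⁻¹ * q (b * θ b) := by rw [map_mul]; group
      have hpa : ∀ w, Commute (q (a * θ a)) w := fun w => by
        obtain ⟨w, rfl⟩ := QuotientGroup.mk'_surjective L w
        exact hqc _ (hquot a) w
      have hpb : ∀ w, Commute (q (b * θ b)) w := fun w => by
        obtain ⟨w, rfl⟩ := QuotientGroup.mk'_surjective L w
        exact hqc _ (hquot b) w
      set A := q a
      set B := q b
      set p := q (a * θ a)
      set p' := q (b * θ b)
      have hcm : ∀ w, Commute ⁅A, B⁆ w := fun w => by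
        obtain ⟨w, rfl⟩ := QuotientGroup.mk'_surjective L w
        rw [← map_commutatorElement]
        exact hqc _ (Subgroup.commutator_mem_commutator (Subgroup.mem_top a) (Subgroup.mem_top b)) w
      rw [ea, eb]
      calc ⁅A⁻¹ * p, B⁻¹ * p'⁆
            = A⁻¹ * p * (B⁻¹ * p') * (p⁻¹ * A) * (p'⁻¹ * B) := by rw [commutatorElement_def]; group
        _ = A⁻¹ * (p * (B⁻¹ * p')) * p⁻¹ * (A * p'⁻¹) * B := by group
        _ = A⁻¹ * ((B⁻¹ * p') * p) * p⁻¹ * (p'⁻¹ * A) * B := by
            rw [(hpa _).eq, ((hpb A).inv_left.eq).symm]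
        _ = (B * A)⁻¹ * (A * B) := by group
        _ = (B * A)⁻¹ * (⁅A, B⁆ * (B * A)) := by rw [commutatorElement_def]; group
        _ = ⁅A, B⁆ := by rw [(hcm (B * A)).eq]; group
    exact fun a ha => hle ha
  have hdL : d ∉ L := by
    intro hd
    have hPL : P ≤ L := fun a ha => by
      obtain ⟨i, f, hi, hf, rfl, hK⟩ := F.split a
      have hfL : f ∈ L := Subgroup.zpowers_le.mpr hd hf
      have h2 := hfixq _ ha
      have hqf : q f = 1 := (QuotientGroup.eq_one_iff _).mpr hfL
      rw [map_mul θ, hi, F.fix_pow hf, map_mul, map_mul, hqf, mul_one, mul_one, map_inv, inv_eq_iff_mul_eq_one,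
        ← map_mul] at h2
      exact L.mul_mem (F.sq_mem ((QuotientGroup.eq_one_iff _).mp h2)) hfL
    haveI : Group.IsNilpotent W := F.isPGroup.isNilpotent
    have hall : ∀ k, P ≤ (⊤ : Subgroup W).lowerCentralSeries k := by
      intro k
      induction k with
      | zero => exact le_top
      | succ k ih => exact hPL.trans (Subgroup.commutator_mono ih le_rfl)
    obtain ⟨k, hk⟩ := (Subgroup.nilpotent_iff_lowerCentralSeries (G := W)).mp inferInstance
    have h0 : d ∈ (⊥ : Subgroup W) := hk ▸ hall k F.d_mem_commutator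
    have := F.od
    rw [Subgroup.mem_bot.mp h0, orderOf_one] at this
    omega
  have hLinv := F.inverted_of_fix_free hθL hdL
  have hLc : ∀ l ∈ L, ∀ w, w * l = l * w := fun l hl w => F.inverted_central hLinv hl w
  set IT := {w : W | θ w = w⁻¹ ∧ w * d = d * w} with hIT
  have hLIT : (L : Set W) ⊆ IT := fun l hl => ⟨hLinv l hl, (hLc l hl d).symm⟩
  set C := Subgroup.centralizer ({d} : Set W) with hC
  have hCset : (C : Set W) = {w : W | w * d = d * w} := Set.ext fun w => Subgroup.mem_centralizer_singleton_iff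
  have hC27 : Nat.card ↥C ≤ 27 := by
    rw [← SetLike.coe_sort_coe, Nat.card_coe_set_eq, hCset]
    exact F.cent
  have hIT3 : 3 * IT.ncard ≤ Nat.card ↥C := by
    rw [← F.od, ← Nat.card_zpowers, mul_comm, ← Nat.card_coe_set_eq, ← Nat.card_prod]
    refine Nat.card_le_card_of_injective (fun p : ↥IT × ↥(Subgroup.zpowers d) =>
      (⟨p.1.1 * p.2.1, C.mul_mem (Subgroup.mem_centralizer_singleton_iff.mpr p.1.2.2)
        (Subgroup.mem_centralizer_singleton_iff.mpr (comm_mem_zpowers rfl p.2.2).symm)⟩ : ↥C)) ?_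
    rintro ⟨⟨a, ha, had⟩, ⟨f, hf⟩⟩ ⟨⟨b, hb, hbd⟩, ⟨g, hg⟩⟩ e
    have e1 : a * f = b * g := congrArg Subtype.val e
    have e2 := congrArg θ e1
    rw [map_mul, map_mul, ha, hb, F.fix_pow hf, F.fix_pow hg] at e2
    have e3 : a * a = b * b := by
      calc a * a = (a * f) * (a⁻¹ * f)⁻¹ := by group
        _ = (b * g) * (b⁻¹ * g)⁻¹ := by rw [e1, e2]
        _ = b * b := by group
    obtain rfl : a = b := by
      have h10 : ∀ w : W, w * d = d * w → w = (w * w) ^ 5 := fun w hw => by
        rw [← pow_two, ← pow_mul, show 2 * 5 = 9 + 1 from rfl, pow_succ, F.nine w hw, one_mul]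
      rw [h10 a had, e3, ← h10 b hbd]
    obtain rfl : f = g := mul_left_cancel e1
    rfl
  let φ : W →* ↥L := MonoidHom.mk' (fun w => ⟨⁅d, w⁆, Subgroup.commutator_mem_commutator F.d_mem_commutator
      (Subgroup.mem_top w)⟩) fun a b => Subtype.ext (by
    show ⁅d, a * b⁆ = ⁅d, a⁆ * ⁅d, b⁆
    have hcb := hLc _ (Subgroup.commutator_mem_commutator F.d_mem_commutator (Subgroup.mem_top b)) a
    calc ⁅d, a * b⁆ = ⁅d, a⁆ * (a * ⁅d, b⁆ * a⁻¹) := by simp only [commutatorElement_def]; group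
      _ = ⁅d, a⁆ * ⁅d, b⁆ := by rw [mul_inv_eq_iff_eq_mul.mpr hcb])
  have hker : φ.ker = C := by
    ext w
    rw [MonoidHom.mem_ker, Subgroup.mem_centralizer_singleton_iff]
    show (⟨⁅d, w⁆, _⟩ : ↥L) = 1 ↔ _
    rw [Subtype.ext_iff]
    exact commutatorElement_eq_one_iff_mul_comm.trans eq_comm
  have hW : Nat.card W = Nat.card ↥C * Nat.card ↥φ.range := by
    rw [← hker, ← Subgroup.card_mul_index φ.ker, Subgroup.index_ker]
  have hr : Nat.card ↥φ.range ≤ Nat.card ↥L := Subgroup.card_le_card_group _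
  have hLle : Nat.card ↥L ≤ IT.ncard := by
    rw [← SetLike.coe_sort_coe, Nat.card_coe_set_eq]
    exact Set.ncard_le_ncard hLIT (Set.toFinite _)
  have h243 : Nat.card W ≤ 243 := by
    rw [hW]
    calc Nat.card ↥C * Nat.card ↥φ.range ≤ 27 * 9 := Nat.mul_le_mul hC27 (by omega)
      _ = 243 := rfl
  obtain ⟨e, he⟩ := IsPGroup.iff_card.mp F.isPGroup
  have he5 : e ≤ 5 := by
    by_contra hlt
    have h6 := Nat.pow_le_pow_right (show 1 ≤ 3 by norm_num) (show 6 ≤ e by omega)
    have : (3 : ℕ) ^ 6 = 729 := rfl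
    omega
  have hd1 : d ≠ 1 := fun e => by
    have := F.od
    rw [e, orderOf_one] at this
    omega
  have he4 : 4 ≤ e := by
    by_contra hlt
    set Z := Subgroup.center W with hZ
    have hcZ : c ∈ Z := Subgroup.mem_center_iff.mpr hc
    obtain ⟨j, hj⟩ := IsPGroup.iff_card.mp (F.isPGroup.to_subgroup Z)
    have hlag := Subgroup.card_mul_index Z
    rw [hj, he] at hlag
    have hj1 : 1 ≤ j := by
      by_contra h0
      rw [show j = 0 by omega, pow_zero, Subgroup.card_eq_one] at hj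
      exact hc1 (Subgroup.mem_bot.mp (hj ▸ hcZ))
    obtain ⟨i, hie, hi⟩ := (Nat.dvd_prime_pow Nat.prime_three).mp (Dvd.intro_left _ hlag)
    rw [hi, ← pow_add] at hlag
    have hij := Nat.pow_right_injective (show 2 ≤ 3 by norm_num) hlag
    have hab : ∀ a b : W ⧸ Z, a * b = b * a := by
      have hcardq : Nat.card (W ⧸ Z) = 3 ^ i := by rw [← hi]; rfl
      rcases (show i = 0 ∨ i = 1 ∨ i = 2 by omega) with rfl | rfl | rfl
      · intro a b
        haveI : Subsingleton (W ⧸ Z) := (Nat.card_eq_one_iff_unique.mp (by rw [hcardq]; rfl)).1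
        exact Subsingleton.elim _ _
      · exact fun a b => (isCyclic_of_prime_card (p := 3) (by rw [hcardq, pow_one])).commGroup.mul_comm a b
      · exact (IsPGroup.isMulCommutative_of_card_eq_prime_sq hcardq).is_comm.comm
    have hPZ : P ≤ Z := by
      rw [hP, commutator_def, Subgroup.commutator_le]
      intro a _ b _
      refine (QuotientGroup.eq_one_iff (N := Z) _).mp ?_
      show QuotientGroup.mk' Z ⁅a, b⁆ = 1
      rw [map_commutatorElement, commutatorElement_eq_one_iff_mul_comm]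
      exact hab _ _
    have hdZ : d ∈ Z := hPZ F.d_mem_commutator
    have h9Z : 3 < 3 ^ j := by
      by_contra hle
      have hsub : Subgroup.zpowers d = Z :=
        Subgroup.eq_of_le_of_card_ge (Subgroup.zpowers_le.mpr hdZ) (by rw [hj, Nat.card_zpowers, F.od]; omega)
      have h1 := F.fix_pow (show c ∈ Subgroup.zpowers d from hsub.symm ▸ hcZ)
      rw [hcθ, inv_eq_iff_mul_eq_one] at h1
      exact hc1 (eq_one_of_sq_odd h1 (F.oddOrder c))
    have hj2 : 2 ≤ j := by
      by_contra h2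
      rw [show j = 1 by omega] at h9Z
      omega
    have hcyc : IsCyclic (W ⧸ Z) := by
      have hcardq : Nat.card (W ⧸ Z) = 3 ^ i := by rw [← hi]; rfl
      rcases (show i = 0 ∨ i = 1 by omega) with rfl | rfl
      · haveI : Subsingleton (W ⧸ Z) := (Nat.card_eq_one_iff_unique.mp (by rw [hcardq]; rfl)).1
        infer_instance
      · exact isCyclic_of_prime_card (p := 3) (by rw [hcardq, pow_one])
    have hcomm : ∀ a b : W, a * b = b * a :=
      commutative_of_cyclic_center_quotient (QuotientGroup.mk' Z) (by rw [QuotientGroup.ker_mk'])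
    have hbot : P = ⊥ := by
      rw [hP, commutator_def, Subgroup.commutator_eq_bot_iff_le_centralizer]
      exact fun a _ b _ => hcomm b a
    exact hd1 (Subgroup.mem_bot.mp (hbot ▸ F.d_mem_commutator))
  refine ⟨he ▸ pow_dvd_pow 3 he4, ?_, ?_, ?_, fun h243 => ?_⟩
  rotate_left
  · rcases (show e = 4 ∨ e = 5 by omega) with rfl | rfl <;> omega
  · refine F.inverted_of_fix_free (fun a ha => Subgroup.mem_center_iff.mpr fun b => θ.symm.injective ?_) fun hd => ?_
    · simpa using Subgroup.mem_center_iff.mp ha (θ.symm b)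
    · have hall : C = ⊤ := eq_top_iff.mpr fun w _ =>
        Subgroup.mem_centralizer_singleton_iff.mpr (Subgroup.mem_center_iff.mp hd w)
      rw [hall, Subgroup.card_top, he] at hC27
      have := Nat.pow_le_pow_right (show 1 ≤ 3 by norm_num) he4
      omega
  · have h27 := Nat.mul_le_mul_right (Nat.card ↥φ.range) hC27
    have hLZ : L ≤ Subgroup.center W := fun l hl => Subgroup.mem_center_iff.mpr (hLc l hl)
    have := Subgroup.card_le_of_le hLZ
    omega
  have hsplit : {w : W | θ w = w⁻¹}.ncard = IT.ncard + {w : W | θ w = w⁻¹ ∧ w * d ≠ d * w}.ncard := by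
    rw [← Set.ncard_union_eq]
    · congr 1
      ext w
      by_cases hw : w * d = d * w <;> simp [hIT, hw]
    · exact Set.disjoint_left.mpr fun w h1 h2 => h2.2 h1.2
  have h3IT : 3 ≤ IT.ncard := by
    have hcc : c⁻¹ ≠ c := fun e1 => hc1
      (eq_one_of_sq_odd (inv_eq_iff_mul_eq_one.mp e1) (F.oddOrder c))
    have hsub : ({1, c, c⁻¹} : Set W) ⊆ IT := by
      rintro w (rfl | rfl | rfl)
      · exact ⟨by simp, by simp⟩
      · exact ⟨hcθ, (hc d).symm⟩
      · exact ⟨by rw [map_inv, hcθ], Commute.inv_left ((hc d).symm : c * d = d * c)⟩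
    refine le_trans (le_of_eq ?_) (Set.ncard_le_ncard hsub (Set.toFinite _))
    rw [Set.ncard_insert_of_notMem (by simp [eq_comm, hc1]), Set.ncard_pair (Ne.symm hcc)]
  rcases (show e = 4 ∨ e = 5 by omega) with rfl | rfl <;> norm_num at he
  · omega
  · have hr9 : 9 ≤ Nat.card ↥φ.range := by
      have h27 := Nat.mul_le_mul_right (Nat.card ↥φ.range) hC27
      omega
    omega

end ThreeFix

end CfsgLib.J3Type
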