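import Cfsg.Agent.Lib.J3Type.CaseClosed
import Cfsg.Agent.Lib.J3Type.OddCore

/-!
Groups of `J₃` type, alternating case: the number of involutions is `26163`.
-/

set_option autoImplicit false
set_option linter.unusedSectionVars false
set_option maxHeartbeats 800000

namespace CfsgLib.J3Type

open Cfsg CfsgLargeExtra Equiv
open CfsgLib.HallJankoType (orb mem_cent conj_fix_iff ncard_orb orderOf_conj')

universe u

variable {G : Type u} [Group G] [Finite G] {z : G} {Q : Subgroup G} {pm : G → Perm (Fin 5)}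

theorem clsE_inv {a : G} (ha : a ∈ clsE z) : a⁻¹ ∈ clsE z := by
  refine ⟨⟨fun e => ha.1.1 (inv_eq_one.mp e), by rw [orderOf_inv]; exact ha.1.2.1, ?_⟩, ?_, ?_⟩
  · show z * a⁻¹ * z⁻¹ = a⁻¹⁻¹
    rw [inv_inv]; exact conj_inv_elem ha.1.2.2
  · rintro ⟨u, hu, hu1, huz, hua⟩
    exact ha.2.1 ⟨u, hu, hu1, huz, by simpa using (Commute.inv_right hua).eq⟩
  · rw [← ha.2.2]
    refine congrArg (fun K : Subgroup G => Nat.card ↥K) ?_
    ext b
    rw [mem_CC, mem_CC]
    exact ⟨fun hb => ⟨by simpa using (Commute.inv_right hb.1).eq, hb.2⟩,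
      fun hb => ⟨Commute.inv_right hb.1, hb.2⟩⟩

namespace SixType

variable (hs : SixType G) (h : JT z Q pm) (hone : OneClass G)
include hs h hone

/-- The centralizer of an element of `clsE` when its inverted part is not a subgroup. -/
theorem general_case {e : G} (he : e ∈ clsE z)
    (hne : ¬ ∀ x ∈ invC z e, ∀ y ∈ invC z e, x * y ∈ invC z e) :
    81 ∣ Nat.card G ∧ {y | y ∈ free z ∧ y * e = e * y}.ncard ≤ 72 ∧
      (Nat.card ↥(Subgroup.centralizer ({e} : Set G)) = 81 ∨ Nat.card ↥(Subgroup.centralizer ({e} : Set G)) = 243) ∧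
      (∀ k ∈ Subgroup.centralizer ({e} : Set G), (∀ a ∈ Subgroup.centralizer ({e} : Set G), a * k = k * a) →
        Inverts z k) ∧
      (Nat.card ↥(Subgroup.centralizer ({e} : Set G)) = 243 →
        9 ≤ Nat.card ↥(Subgroup.center ↥(Subgroup.centralizer ({e} : Set G)))) := by
  obtain ⟨d, X, _, π, hX, hπ, hdz, hdo, -, hed, hCC, h3, h1, -⟩ := hs.clsE_data h hone he
  obtain ⟨ho, hn, hcard⟩ := hs.clsE_cent h hone he
  obtain ⟨hnine, h27⟩ := hs.clsE_T h hone hX hπ hdz hdo hed he.1.2.2 h3 h1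
  set E := Subgroup.centralizer ({e} : Set G) with hE
  have hzz : ∀ a : G, z * (z * a * z⁻¹) * z⁻¹ = a := fun a => by
    rw [show z * (z * a * z⁻¹) * z⁻¹ = (z * z) * a * (z * z)⁻¹ by group, h.zz]; group
  let θ : ↥E ≃* ↥E :=
    { toFun := fun a => ⟨z * a * z⁻¹, hn a a.2⟩
      invFun := fun a => ⟨z * a * z⁻¹, hn a a.2⟩
      left_inv := fun a => Subtype.ext (hzz a)
      right_inv := fun a => Subtype.ext (hzz a)
      map_mul' := fun a b => Subtype.ext (by
        show z * ((a : G) * b) * z⁻¹ = z * (a : G) * z⁻¹ * (z * (b : G) * z⁻¹)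
        group) }
  have hdE : d ∈ E := mem_cent.mpr hed.symm
  have hθi : ∀ a : ↥E, θ a = a⁻¹ ↔ Inverts z (a : G) := fun a =>
    ⟨fun e1 => congrArg Subtype.val e1, fun e1 => Subtype.ext e1⟩
  have hcomm : ∀ a : ↥E, a * ⟨d, hdE⟩ = ⟨d, hdE⟩ * a ↔ (a : G) * d = d * a := fun a =>
    ⟨fun e1 => congrArg Subtype.val e1, fun e1 => Subtype.ext e1⟩
  have F : ThreeFix θ ⟨d, hdE⟩ := by
    refine ⟨ho, fun a => Subtype.ext (hzz a), by rw [Subgroup.orderOf_mk, hdo],
      Subtype.ext (conj_fix_iff.mpr hdz.symm), fun a ha => ?_, fun a ha => ?_, ?_, ?_⟩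
    · have hm : (a : G) ∈ CC e z :=
        mem_CC.mpr ⟨mem_cent.mp a.2, (conj_fix_iff.mp (congrArg Subtype.val ha)).symm⟩
      rw [hCC] at hm
      obtain ⟨k, hk⟩ := hm
      exact ⟨k, Subtype.ext (by simpa using hk)⟩
    · exact Subtype.ext (by
        rw [SubmonoidClass.coe_pow]
        exact hnine a (mem_CC.mpr ⟨mem_cent.mp a.2, (hcomm a).mp ha⟩))
    · refine le_trans (le_of_eq ?_) h27
      rw [← Nat.card_coe_set_eq]
      exact Nat.card_congr
        { toFun := fun a => ⟨(a.1 : G), mem_CC.mpr ⟨mem_cent.mp a.1.2, (hcomm a.1).mp a.2⟩⟩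
          invFun := fun b => ⟨⟨b.1, mem_cent.mpr (mem_CC.mp b.2).1⟩, (hcomm _).mpr (mem_CC.mp b.2).2⟩
          left_inv := fun a => rfl
          right_inv := fun b => rfl }
    · push Not at hne
      obtain ⟨x, hx, y, hy, hxy⟩ := hne
      refine ⟨⟨x, mem_cent.mpr hx.1⟩, ⟨y, mem_cent.mpr hy.1⟩, (hθi _).mpr hx.2, (hθi _).mpr hy.2,
        fun e1 => hxy ⟨Commute.mul_left hx.1 hy.1, (hθi _).mp e1⟩⟩
  have hee : e ∈ E := mem_cent.mpr rfl
  obtain ⟨h81, h72, hc, hi, h9⟩ := F.bounds (c := ⟨e, hee⟩) (fun a => Subtype.ext (mem_cent.mp a.2))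
    (fun e1 => he.1.1 (congrArg Subtype.val e1)) ((hθi _).mpr he.1.2.2) (by
      rw [hcard]
      congr 1
      rw [← Nat.card_coe_set_eq, ← Nat.card_coe_set_eq]
      exact Nat.card_congr
        { toFun := fun y => ⟨⟨y.1, mem_cent.mpr y.2.1⟩, (hθi _).mpr y.2.2⟩
          invFun := fun a => ⟨(a.1 : G), mem_cent.mp a.1.2, (hθi _).mp a.2⟩
          left_inv := fun a => rfl
          right_inv := fun a => rfl })
  refine ⟨h81.trans (Subgroup.card_subgroup_dvd_card E), le_trans ?_ h72, hc,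
    fun k hk hkc => (hθi ⟨k, hk⟩).mp (hi _ (Subgroup.mem_center_iff.mpr fun a => Subtype.ext (hkc a a.2))), h9⟩
  refine le_trans (Set.ncard_le_ncard (t := Subtype.val '' {w : ↥E | θ w = w⁻¹ ∧ w * ⟨d, hdE⟩ ≠ ⟨d, hdE⟩ * w}) ?_
    (Set.toFinite _)) (Set.ncard_image_le (Set.toFinite _))
  rintro y ⟨hy, hye⟩
  refine ⟨⟨y, mem_cent.mpr hye⟩, ⟨(hθi _).mpr hy.1.2.2, fun e1 => ?_⟩, rfl⟩
  have hd1 : d = 1 := Subgroup.mem_bot.mp (Subgroup.eq_bot_of_card_eq _ hy.2 ▸
    (mem_CC.mpr ⟨((hcomm _).mp e1).symm, hdz⟩ : d ∈ CC y z))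
  rw [hd1, orderOf_one] at hdo
  omega

/-- The number of involutions in the alternating case. -/
theorem index_eq : {v : G | v * v = 1 ∧ v ≠ 1}.ncard = 26163 := by
  obtain ⟨e₀, he₀⟩ : (clsE z).Nonempty :=
    Set.nonempty_of_ncard_ne_zero (by rw [(hs.nonfree_count h hone).2.2]; norm_num)
  by_cases hcl : ∃ e ∈ clsE z, ∀ x ∈ invC z e, ∀ y ∈ invC z e, x * y ∈ invC z e
  · obtain ⟨e, he, hc⟩ := hcl
    exact hs.index_closed h hone he hc
  replace hcl : ∀ e ∈ clsE z, ¬ ∀ x ∈ invC z e, ∀ y ∈ invC z e, x * y ∈ invC z e := fun e he hc => hcl ⟨e, he, hc⟩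
  obtain ⟨h81, -⟩ := hs.general_case h hone he₀ (hcl e₀ he₀)
  rw [h.card_eq_index hone] at h81
  have hdvd : 1920 ∣ (freeE z).ncard := by
    have := h.dvd_free (freeE z) (k := 1) ?_ ?_
    · rwa [mul_one] at this
    · rintro c hc y ⟨hy, a, hay, ha⟩
      exact ⟨free_conj hc hy, c * a * c⁻¹, conj_comm hay, clsE_conj hc ha⟩
    · rintro y ⟨hy, -⟩
      rw [inf_comm]
      exact hy.2
  have hle := double_count_le (freeE z) (clsE z) (fun y a => y * a = a * y) (a := 2) (b := 72) ?_ ?_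
  rotate_left
  · rintro y ⟨hy, a, hay, ha⟩
    have hne : a ≠ a⁻¹ := fun e1 =>
      ha.1.1 (eq_one_of_sq_odd (inv_eq_iff_mul_eq_one.mp e1.symm) ha.1.2.1)
    rw [← Set.ncard_pair hne]
    refine Set.ncard_le_ncard ?_ (Set.toFinite _)
    rintro t (rfl | rfl)
    · exact ⟨ha, hay.symm⟩
    · exact ⟨clsE_inv ha, (Commute.inv_left hay).symm⟩
  · intro a ha
    refine le_trans (Set.ncard_le_ncard ?_ (Set.toFinite _)) (hs.general_case h hone ha (hcl a ha)).2.1
    exact fun y hy => ⟨hy.1.1, hy.2⟩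
  rw [(hs.nonfree_count h hone).2.2] at hle
  obtain ⟨m, hm⟩ := hdvd
  have hm13 : m < 13 := by omega
  have hn := hs.involutions_count h hone
  obtain ⟨L, hL, hLp, hLi⟩ := h.pure_items hone (fun y hy => h.pure_coprime_thirty hs.qType hone hy) (pureF z)
    subset_rfl (fun c hc y hy => pureF_conj hc hy) fun y hy a ha ha1 => ⟨hy.2 a ha ha1, fun b hb hb1 => by
      have hb' : b ∈ Subgroup.centralizer ({y} : Set G) := by
        rw [← h.free_cent_eq hy.1 (hy.2 a ha ha1) ha]; exact mem_cent.mpr hb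
      exact hy.2 b (mem_cent.mp hb') hb1⟩
  set n := {v : G | v * v = 1 ∧ v ≠ 1}.ncard
  have h27 : 27 ∣ n := by omega
  by_cases hLe : L = []
  · have : (pureF z).ncard = 0 := by rw [← hL, hLe]; rfl
    omega
  have hsearch := List.all_eq_true.mp Arith.cert_one m (List.mem_range.mpr hm13)
  refine Arith.index_eq hsearch hLe (fun i hi => (hLi i hi).2.1) ?_ hLp ?_
    (by simpa using Nat.mod_eq_zero_of_dvd h27) (by rw [hL]; omega) h27 ?_ (by norm_num) (by omega) (by omega)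
    (by norm_num)
  · rw [List.countP_eq_zero.mpr fun i hi => by simp [(hLi i hi).1]]
    rfl
  · intro i hi
    obtain ⟨h1, h7, ho, hmu, h0, hc, y, hy, e1⟩ := hLi i hi
    rw [h1]
    exact ⟨hmu, Arith.ok_iff_false.mpr ⟨h7, ho, e1 ▸ h.pure_coprime_thirty hs.qType hone hy, h0⟩, hc⟩
  · intro i hi
    obtain ⟨-, -, -, -, -, -, y, hy, e1⟩ := hLi i hi
    rw [e1]
    exact Nat.Coprime.coprime_dvd_left (show 27 ∣ 30 ^ 3 by norm_num)
      ((Nat.Coprime.symm (h.pure_coprime_thirty hs.qType hone hy)).pow_left 3)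

end SixType

end CfsgLib.J3Type
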