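import Cfsg.Agent.Lib.J3Type.FromSimple
import Cfsg.Agent.Lib.J3Type.SixIndex
import Cfsg.Agent.Lib.J3Type.SevenIndex

/-!
Groups of `J₃` type: the order.
-/

set_option autoImplicit false
set_option linter.unusedSectionVars false

namespace CfsgLib.J3Type

open Equiv

universe u

variable {G : Type u} [Group G] [Finite G] {z : G} {Q : Subgroup G} {pm : G → Perm (Fin 5)}

/-- A group of `J₃` type with one class of involutions has order `50232960`. -/
theorem card_eq_of_JT (h : JT z Q pm) (hone : OneClass G) : Nat.card G = 50232960 := by
  rcases h.type_cases hone with hs | hs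
  · rw [h.card_eq_index hone, hs.index_eq h hone]
  · exact (hs.absurd_type h hone).elim

end CfsgLib.J3Type
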