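import Cfsg.Agent.Lib.J3Type.Three

/-!
Groups of `J₃` type: the elements of order five of the centralizer and the involutions inverting them.
-/

set_option autoImplicit false
set_option linter.unusedSectionVars false

namespace CfsgLib.J3Type

open Cfsg CfsgLargeExtra Equiv
open CfsgLib.HallJankoType (orb mem_cent conj_fix_iff ncard_orb IsInv5 orderOf_conj')

universe u

variable {G : Type u} [Group G] [Finite G] {z : G} {Q : Subgroup G} {pm : G → Perm (Fin 5)}

theorem inverts_back {v a c : G} (hv : Inverts (c * v * c⁻¹) a) : Inverts v (c⁻¹ * a * c) := by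
  have := inverts_conj (c := c⁻¹) hv
  rwa [inv_inv, show c⁻¹ * (c * v * c⁻¹) * c = v by group] at this

namespace JT

variable (h : JT z Q pm)
include h

theorem five_not_mem {f : G} (hf : f * z = z * f) (ho : orderOf f = 5) : f ∉ Q := fun hq =>
  (h.pm_rot hf (Or.inr rfl) ho).2.2 (h.pm_Q hq)

/-- The centralizer of an element of order five in `C(z)`. -/
theorem five_cent {f a : G} (hf : f * z = z * f) (ho : orderOf f = 5) (ha : a * z = z * a) (haf : a * f = f * a) :
    ∃ i : ℕ, i < 5 ∧ (a = f ^ i ∨ a = z * f ^ i) := by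
  obtain ⟨i, hi, hpi⟩ : ∃ i : ℕ, i < 5 ∧ pm a = pm (f ^ i) := by
    rcases rot5_cent _ (h.pm_rot hf (Or.inr rfl) ho) _ (h.pm_sign a ha)
      (by rw [← h.pm_mul _ _ ha hf, haf, h.pm_mul _ _ hf ha]) with e | e | e | e | e
    · exact ⟨0, by norm_num, by rw [e, pow_zero, h.pm_one]⟩
    · exact ⟨1, by norm_num, by rw [e, pow_one]⟩
    · exact ⟨2, by norm_num, by rw [e, h.pm_pow hf, pow_two]⟩
    · exact ⟨3, by norm_num, by rw [e, h.pm_pow hf, pow_succ, pow_two]⟩
    · exact ⟨4, by norm_num, by rw [e, h.pm_pow hf, pow_succ, pow_succ, pow_two]⟩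
  have hiz : (f ^ i)⁻¹ * z = z * (f ^ i)⁻¹ := Commute.inv_left (Commute.pow_left hf i)
  have hq : a * (f ^ i)⁻¹ ∈ Q := (h.pm_ker _ (Commute.mul_left ha hiz)).mp (by
    rw [h.pm_mul _ _ ha hiz, h.pm_inv (Commute.pow_left hf i), hpi, mul_inv_cancel])
  rcases h.five_fix hf ho (h.five_not_mem hf ho) hq
    (Commute.mul_right (haf.symm : Commute f a) (Commute.self_pow f i).inv_right) with e | e
  · exact ⟨i, hi, Or.inl (mul_inv_eq_one.mp e)⟩
  · exact ⟨i, hi, Or.inr (mul_inv_eq_iff_eq_mul.mp e)⟩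

theorem five_pow_inj {f : G} (hf : f * z = z * f) (ho : orderOf f = 5) {i j : ℕ} (hi : i < 5) (hj : j < 5) :
    f ^ i ≠ z * f ^ j ∧ (f ^ i = f ^ j → i = j) := by
  refine ⟨fun e => ?_, fun e => pow_injOn_Iio_orderOf (by rw [Set.mem_Iio, ho]; exact hi)
    (by rw [Set.mem_Iio, ho]; exact hj) e⟩
  have hz : f ^ i * (f ^ j)⁻¹ = z := by rw [e, mul_inv_cancel_right]
  have h5 : f ^ 5 = 1 := ho ▸ pow_orderOf_eq_one f
  have : z ^ 5 = 1 := by
    rw [← hz, (Commute.pow_pow_self f i j).inv_right.mul_pow, inv_pow, ← pow_mul, ← pow_mul, mul_comm i,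
      mul_comm j, pow_mul, pow_mul, h5, one_pow, one_pow, inv_one, mul_one]
  rw [show (5 : ℕ) = 2 + 2 + 1 from rfl, pow_succ, pow_add, pow_two, h.zz, one_mul, one_mul] at this
  exact h.es.ne this

theorem card_cent_five {f : G} (hf : f * z = z * f) (ho : orderOf f = 5) :
    Nat.card ↥(Subgroup.centralizer ({z} : Set G) ⊓ Subgroup.centralizer ({f} : Set G)) = 10 := by
  let g : Bool × Fin 5 → ↥(Subgroup.centralizer ({z} : Set G) ⊓ Subgroup.centralizer ({f} : Set G)) := fun p =>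
    ⟨(bif p.1 then z else 1) * f ^ (p.2 : ℕ), mem_cent.mpr (by
        refine Commute.mul_left ?_ (Commute.pow_left hf _)
        cases p.1
        · exact Commute.one_left z
        · exact Commute.refl z), mem_cent.mpr (by
        refine Commute.mul_left ?_ (Commute.pow_self f _)
        cases p.1
        · exact Commute.one_left f
        · exact hf.symm)⟩
  have hg : Function.Bijective g := by
    refine ⟨?_, fun a => ?_⟩
    · rintro ⟨b, i⟩ ⟨b', j⟩ e
      have e' := congrArg Subtype.val e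
      simp only [g] at e'
      cases b <;> cases b' <;> simp only [cond_true, cond_false, one_mul] at e'
      · rw [Fin.ext ((h.five_pow_inj hf ho i.isLt j.isLt).2 e')]
      · exact absurd e' (h.five_pow_inj hf ho i.isLt j.isLt).1
      · exact absurd e'.symm (h.five_pow_inj hf ho j.isLt i.isLt).1
      · rw [Fin.ext ((h.five_pow_inj hf ho i.isLt j.isLt).2 (mul_left_cancel e'))]
    · obtain ⟨i, hi, e | e⟩ := h.five_cent hf ho (mem_cent.mp a.2.1) (mem_cent.mp a.2.2)
      · exact ⟨(false, ⟨i, hi⟩), Subtype.ext (by simp [g, e])⟩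
      · exact ⟨(true, ⟨i, hi⟩), Subtype.ext (by simp [g, e])⟩
  rw [← Nat.card_eq_of_bijective g hg, Nat.card_prod, Nat.card_fin, Nat.card_eq_fintype_card, Fintype.card_bool]

/-- The involutions inverting an element of order five. -/
theorem five_inverters_eq {f v w : G} (hf : f * z = z * f) (ho : orderOf f = 5) (hv : v ∈ h.T) (hvf : Inverts v f) :
    (w * z = z * w ∧ w * w = 1 ∧ Inverts w f) ↔
      w * z = z * w ∧ v * w * f = f * (v * w) := by
  have hback : v * f⁻¹ * v⁻¹ = f := by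
    rw [show v * f⁻¹ * v⁻¹ = (v * f * v⁻¹)⁻¹ by group, show v * f * v⁻¹ = f⁻¹ from hvf, inv_inv]
  constructor
  · rintro ⟨hwz, -, hwf⟩
    refine ⟨hwz, conj_fix_iff.mp ?_⟩
    rw [show v * w * f * (v * w)⁻¹ = v * (w * f * w⁻¹) * v⁻¹ by group, show w * f * w⁻¹ = f⁻¹ from hwf, hback]
  · rintro ⟨hwz, hc⟩
    have hvwz : v * w * z = z * (v * w) := Commute.mul_left hv.1 hwz
    obtain ⟨i, -, e⟩ := h.five_cent hf ho hvwz hc
    have hflip : v * (v * w) * v⁻¹ = (v * w)⁻¹ := by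
      have h1 : v * f ^ i * v⁻¹ = (f ^ i)⁻¹ := inverts_pow hvf i
      rcases e with e | e <;> rw [e]
      · exact h1
      · rw [show v * (z * f ^ i) * v⁻¹ = v * z * v⁻¹ * (v * f ^ i * v⁻¹) by group, conj_fix_iff.mpr hv.1, h1,
          mul_inv_rev z, inv_eq_of_mul_eq_one_right h.zz]
        exact (Commute.inv_left (Commute.pow_left hf i)).eq.symm
    have hw : w = v * (v * w) := by rw [← mul_assoc, hv.2.1, one_mul]
    refine ⟨hwz, ?_, ?_⟩
    · have hvi : v⁻¹ = v := inv_eq_of_mul_eq_one_right hv.2.1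
      calc w * w = v * (v * w) * v⁻¹ * (v * w) := by
            rw [hvi, ← mul_assoc v v, hv.2.1, one_mul, mul_assoc w v, ← mul_assoc v v, hv.2.1, one_mul]
        _ = 1 := by rw [hflip, inv_mul_cancel]
    · show w * f * w⁻¹ = f⁻¹
      rw [show w * f * w⁻¹ = v⁻¹ * ((v * w) * f * (v * w)⁻¹) * v by group, conj_fix_iff.mpr hc,
        inv_eq_of_mul_eq_one_right hv.2.1]
      have := show v * f * v⁻¹ = f⁻¹ from hvf
      rwa [inv_eq_of_mul_eq_one_right hv.2.1] at this

theorem five_ncard_inverters {f v : G} (hf : f * z = z * f) (ho : orderOf f = 5) (hv : v ∈ h.T) (hvf : Inverts v f) :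
    {w | w * z = z * w ∧ w * w = 1 ∧ Inverts w f}.ncard = 10 := by
  rw [← h.card_cent_five hf ho, ← Nat.card_coe_set_eq]
  exact Nat.card_congr
    { toFun := fun w => ⟨v * w.1, mem_cent.mpr (Commute.mul_left hv.1 w.2.1),
        mem_cent.mpr ((h.five_inverters_eq hf ho hv hvf).mp w.2).2⟩
      invFun := fun c => ⟨v * c.1, (h.five_inverters_eq hf ho hv hvf).mpr
        ⟨Commute.mul_left hv.1 (mem_cent.mp c.2.1), by rw [← mul_assoc, hv.2.1, one_mul]; exact mem_cent.mp c.2.2⟩⟩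
      left_inv := fun w => Subtype.ext (by show v * (v * w.1) = w.1; rw [← mul_assoc, hv.2.1, one_mul])
      right_inv := fun c => Subtype.ext (by show v * (v * c.1) = c.1; rw [← mul_assoc, hv.2.1, one_mul]) }

/-- An element of order five is not conjugate to its square in `C(z)`. -/
theorem five_not_conj_sq {f c : G} (hf : f * z = z * f) (ho : orderOf f = 5) (hc : c * z = z * c) :
    c * f * c⁻¹ ≠ f ^ 2 := by
  intro e
  apply (rot5_norm _ (h.pm_rot hf (Or.inr rfl) ho) _ (h.pm_sign c hc)).1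
  rw [← h.pm_conj hc hf, e, h.pm_pow hf, pow_two]

theorem ncard_five : {a : G | a * z = z * a ∧ orderOf a = 5}.ncard = 384 := by
  obtain ⟨v, hv, f, hf, ho, hvf⟩ := h.exists_inverted (Or.inr rfl)
  have h5 : f ^ 5 = 1 := ho ▸ pow_orderOf_eq_one f
  have hf2 : f ^ 2 * z = z * f ^ 2 := Commute.pow_left hf 2
  have ho2 : orderOf (f ^ 2) = 5 := by
    rw [orderOf_pow' f (by norm_num : (2 : ℕ) ≠ 0), ho]; rfl
  have hset : {a : G | a * z = z * a ∧ orderOf a = 5} = orb (Subgroup.centralizer ({z} : Set G)) f ∪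
      orb (Subgroup.centralizer ({z} : Set G)) (f ^ 2) := by
    ext a
    constructor
    · rintro ⟨ha, hoa⟩
      obtain ⟨c, hc, hm⟩ := h.prime_sylow (Or.inr rfl) hf ha ho hoa
      obtain ⟨i, hi⟩ := (isOfFinOrder_of_finite f).mem_powers_iff_mem_zpowers.mpr hm
      have hi5 : f ^ (i % 5) = c * a * c⁻¹ := by rw [← ho, pow_mod_orderOf]; exact hi
      have hvv : v⁻¹ = v := inv_eq_of_mul_eq_one_right hv.2.1
      have hlt : i % 5 < 5 := Nat.mod_lt _ (by norm_num)
      interval_cases (i % 5)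
      · rw [pow_zero] at hi5
        rw [conj_eq_one_iff.mp hi5.symm, orderOf_one] at hoa
        omega
      · exact Or.inl ⟨c⁻¹, inv_mem (mem_cent.mpr hc), by rw [← pow_one f, hi5]; group⟩
      · exact Or.inr ⟨c⁻¹, inv_mem (mem_cent.mpr hc), by rw [hi5]; group⟩
      · refine Or.inr ⟨c⁻¹ * v, mul_mem (inv_mem (mem_cent.mpr hc)) (mem_cent.mpr hv.1), ?_⟩
        rw [show c⁻¹ * v * f ^ 2 * (c⁻¹ * v)⁻¹ = c⁻¹ * (v * f ^ 2 * v⁻¹) * c by group,
          show v * f ^ 2 * v⁻¹ = (f ^ 2)⁻¹ from inverts_pow hvf 2,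
          show (f ^ 2)⁻¹ = f ^ 3 from inv_eq_of_mul_eq_one_right (by rw [← pow_add, h5]), hi5]
        group
      · refine Or.inl ⟨c⁻¹ * v, mul_mem (inv_mem (mem_cent.mpr hc)) (mem_cent.mpr hv.1), ?_⟩
        rw [show c⁻¹ * v * f * (c⁻¹ * v)⁻¹ = c⁻¹ * (v * f * v⁻¹) * c by group,
          show v * f * v⁻¹ = f⁻¹ from hvf,
          show f⁻¹ = f ^ 4 from inv_eq_of_mul_eq_one_right (by rw [← pow_succ', h5]), hi5]
        group
    · rintro (⟨c, hc, rfl⟩ | ⟨c, hc, rfl⟩)
      · exact ⟨Commute.mul_left (Commute.mul_left (mem_cent.mp hc) hf) (Commute.inv_left (mem_cent.mp hc)),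
          by rw [orderOf_conj', ho]⟩
      · exact ⟨Commute.mul_left (Commute.mul_left (mem_cent.mp hc) hf2) (Commute.inv_left (mem_cent.mp hc)),
          by rw [orderOf_conj', ho2]⟩
  have hdisj : Disjoint (orb (Subgroup.centralizer ({z} : Set G)) f)
      (orb (Subgroup.centralizer ({z} : Set G)) (f ^ 2)) := by
    rw [Set.disjoint_left]
    rintro _ ⟨a, ha, rfl⟩ ⟨b, hb, e⟩
    refine h.five_not_conj_sq hf ho (Commute.mul_left (Commute.inv_left (mem_cent.mp hb)) (mem_cent.mp ha) :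
      b⁻¹ * a * z = z * (b⁻¹ * a)) ?_
    rw [show b⁻¹ * a * f * (b⁻¹ * a)⁻¹ = b⁻¹ * (a * f * a⁻¹) * b by group, ← e]
    group
  have e1 := ncard_orb (Subgroup.centralizer ({z} : Set G)) f
  have e2 := ncard_orb (Subgroup.centralizer ({z} : Set G)) (f ^ 2)
  rw [h.card_cent_five hf ho, h.card_C] at e1
  rw [h.card_cent_five hf2 ho2, h.card_C] at e2
  rw [hset, Set.ncard_union_eq hdisj]
  omega

theorem inverted_image {c v : G} (hc : c * z = z * c) (n : ℕ) :
    (fun a : G => c * a * c⁻¹) '' {a : G | (a * z = z * a ∧ orderOf a = n) ∧ Inverts v a} =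
      {a : G | (a * z = z * a ∧ orderOf a = n) ∧ Inverts (c * v * c⁻¹) a} := by
  ext a
  constructor
  · rintro ⟨a, ⟨⟨haz, ho⟩, hva⟩, rfl⟩
    exact ⟨⟨Commute.mul_left (Commute.mul_left hc haz) (Commute.inv_left hc), by rw [orderOf_conj', ho]⟩,
      inverts_conj hva⟩
  · rintro ⟨⟨haz, ho⟩, hwa⟩
    refine ⟨c⁻¹ * a * c, ⟨⟨Commute.mul_left (Commute.mul_left (Commute.inv_left hc) haz) hc, ?_⟩,
      inverts_back hwa⟩, by show c * (c⁻¹ * a * c) * c⁻¹ = a; group⟩
    have := orderOf_conj' c⁻¹ a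
    rwa [inv_inv, ho] at this

theorem five_inverter_mem_T {w a : G} (hwz : w * z = z * w) (hw : w * w = 1) (haz : a * z = z * a)
    (ho : orderOf a = 5) (hwa : Inverts w a) : w ∈ h.T := by
  refine ⟨hwz, hw, fun hq => ?_⟩
  have hr := h.pm_rot haz (Or.inr rfl) ho
  have e : pm a = (pm a)⁻¹ := by
    rw [← h.pm_inv haz, ← show w * a * w⁻¹ = a⁻¹ from hwa, h.pm_conj hwz haz, h.pm_Q hq, inv_one, one_mul, mul_one]
  have h2 : pm a ^ 2 = 1 := by
    rw [pow_two]
    nth_rewrite 2 [e]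
    exact mul_inv_cancel _
  have h3 := hr.2.1
  have h4 : pm a ^ (2 * 2 + 1) = 1 := h3
  rw [pow_succ, pow_mul, h2, one_pow, one_mul] at h4
  exact hr.2.2 h4

theorem ncard_five_inverted {v : G} (hv : v ∈ h.T) :
    {a : G | (a * z = z * a ∧ orderOf a = 5) ∧ Inverts v a}.ncard = 32 := by
  have key : ∀ w ∈ h.T, {a : G | (a * z = z * a ∧ orderOf a = 5) ∧ Inverts w a}.ncard =
      {a : G | (a * z = z * a ∧ orderOf a = 5) ∧ Inverts v a}.ncard := fun w hw => by
    obtain ⟨c, hc, rfl⟩ := h.trans_T hv hw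
    rw [← h.inverted_image hc 5]
    exact Set.ncard_image_of_injective _ fun a b e => mul_left_cancel (mul_right_cancel e)
  have hB : ∀ a ∈ {a : G | a * z = z * a ∧ orderOf a = 5}, {w | w ∈ h.T ∧ Inverts w a}.ncard = 10 := by
    rintro a ⟨haz, ho⟩
    obtain ⟨w, hw, hwa⟩ := h.exists_inverter (Or.inr rfl) haz ho
    rw [← h.five_ncard_inverters haz ho hw hwa]
    congr 1
    ext u
    exact ⟨fun hu => ⟨hu.1.1, hu.1.2.1, hu.2⟩,
      fun hu => ⟨h.five_inverter_mem_T hu.1 hu.2.1 haz ho hu.2.2, hu.2.2⟩⟩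
  have e := double_count h.T {a : G | a * z = z * a ∧ orderOf a = 5} Inverts key hB
  rw [h.ncard_T, h.ncard_five] at e
  omega

end JT

end CfsgLib.J3Type
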