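import Cfsg.Agent.Lib.J3Type.ThreeType

/-!
Groups of `J₃` type: the centralizer of an element of order five.
-/

set_option autoImplicit false
set_option linter.unusedSectionVars false

namespace CfsgLib.J3Type

open Cfsg CfsgLargeExtra Equiv
open CfsgLib.HallJankoType (orb mem_cent conj_fix_iff ncard_orb orderOf_conj')

universe u

variable {G : Type u} [Group G] [Finite G] {z : G} {Q : Subgroup G} {pm : G → Perm (Fin 5)}

theorem exists_sqrt {a : G} (ha : Odd (orderOf a)) : ∃ b ∈ Subgroup.zpowers a, b * b = a := by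
  obtain ⟨k, hk⟩ := ha
  refine ⟨a ^ (k + 1), Subgroup.pow_mem _ (Subgroup.mem_zpowers a) _, ?_⟩
  rw [← pow_add, show k + 1 + (k + 1) = 2 * k + 1 + 1 by ring, ← hk, pow_succ, pow_orderOf_eq_one, one_mul]

theorem inverts_mem_zpowers {v a b : G} (hv : Inverts v a) (hb : b ∈ Subgroup.zpowers a) : Inverts v b := by
  obtain ⟨i, hi⟩ := (isOfFinOrder_of_finite a).mem_powers_iff_mem_zpowers.mpr hb
  exact hi ▸ inverts_pow hv i

theorem comm_mem_zpowers {v a b : G} (hv : v * a = a * v) (hb : b ∈ Subgroup.zpowers a) : v * b = b * v := by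
  obtain ⟨i, hi⟩ := Subgroup.mem_zpowers_iff.mp hb
  exact hi ▸ Commute.zpow_right hv i

theorem conj_inv_elem {v a : G} (hv : Inverts v a) : v * a⁻¹ * v⁻¹ = a := by
  rw [show v * a⁻¹ * v⁻¹ = (v * a * v⁻¹)⁻¹ by group, show v * a * v⁻¹ = a⁻¹ from hv, inv_inv]

/-- Conjugation by an inverter of `f` preserves the centralizer of `f`. -/
theorem inverter_preserves {w f b : G} (hwf : Inverts w f) (hb : b * f = f * b) :
    w * b * w⁻¹ * f = f * (w * b * w⁻¹) := by
  have := conj_comm (g := w) (Commute.inv_right hb : b * f⁻¹ = f⁻¹ * b)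
  rwa [conj_inv_elem hwf] at this

/-- The odd part `O` of the centralizer of an element `f` of order five of `C(z)`. -/
structure FiveCore (h : JT z Q pm) (f : G) (O : Subgroup G) : Prop where
  fz : f * z = z * f
  fo : orderOf f = 5
  cent : ∀ a ∈ O, a * f = f * a
  odd : Odd (Nat.card ↥O)
  card : Nat.card ↥(Subgroup.centralizer ({f} : Set G)) = 2 * Nat.card ↥O
  mem_odd : ∀ a : G, a * f = f * a → Odd (orderOf a) → a ∈ O
  norm : ∀ a : G, a * f = f * a → ∀ b ∈ O, a * b * a⁻¹ ∈ O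
  cover : ∀ a : G, a * f = f * a → a ∈ O ∨ z * a ∈ O
  not_mem : z ∉ O

namespace JT

variable (h : JT z Q pm)
include h

theorem exists_fiveCore {f : G} (hf : f * z = z * f) (ho : orderOf f = 5) : ∃ O : Subgroup G, FiveCore h f O := by
  have h4 : ¬ 4 ∣ Nat.card ↥(Subgroup.centralizer ({f} : Set G) ⊓ Subgroup.centralizer ({z} : Set G)) := by
    rw [inf_comm, h.card_cent_five hf ho]
    norm_num
  obtain ⟨N, hNK, hcard, hodd, hzN, hnorm, hmem, hcov⟩ := odd_half (mem_cent.mpr hf.symm) h.zz h.es.ne h4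
  exact ⟨N, hf, ho, fun a ha => mem_cent.mp (hNK ha), hodd, hcard, fun a ha => hmem a (mem_cent.mpr ha),
    fun a ha => hnorm a (mem_cent.mpr ha), fun a ha => hcov a (mem_cent.mpr ha), hzN⟩

end JT

namespace FiveCore

variable {h : JT z Q pm} {f : G} {O : Subgroup G} (C : FiveCore h f O)
include C

theorem odd_order {a : G} (ha : a ∈ O) : Odd (orderOf a) := C.odd.of_dvd_nat (Subgroup.orderOf_dvd_natCard O ha)

theorem f5 : f ^ 5 = 1 := C.fo ▸ pow_orderOf_eq_one f

theorem f_mem : f ∈ O := C.mem_odd f rfl (by rw [C.fo]; decide)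

theorem fpow_mem (k : ℕ) : f ^ k ∈ O := O.pow_mem C.f_mem k

theorem z_norm {a : G} (ha : a ∈ O) : z * a * z⁻¹ ∈ O := C.norm z C.fz.symm a ha

theorem z_fix {a : G} (ha : a ∈ O) (hc : z * a = a * z) : ∃ k : ℕ, a = f ^ k := by
  obtain ⟨i, -, e | e⟩ := h.five_cent C.fz C.fo hc.symm (C.cent a ha)
  · exact ⟨i, e⟩
  · refine absurd ?_ C.not_mem
    rw [show z = a * (f ^ i)⁻¹ by rw [e, mul_inv_cancel_right]]
    exact O.mul_mem ha (O.inv_mem (C.fpow_mem i))

theorem fpow_inverted {k : ℕ} (hi : Inverts z (f ^ k)) : f ^ k = 1 :=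
  inverts_comm_eq_one hi (Commute.pow_right C.fz.symm k).eq (C.odd_order (C.fpow_mem k))

/-- The elements of `O` inverted by `z` represent the cosets of the powers of `f`. -/
theorem split {a : G} (ha : a ∈ O) : ∃ i ∈ O, Inverts z i ∧ ∃ k : ℕ, a = i * f ^ k := by
  have hzi : z⁻¹ = z := inv_eq_of_mul_eq_one_right h.zz
  set s := a * z * a⁻¹ * z with hs
  have hsO : s ∈ O := by
    rw [hs, show a * z * a⁻¹ * z = a * (z * a⁻¹ * z⁻¹) by rw [hzi]; group]
    exact O.mul_mem ha (C.z_norm (O.inv_mem ha))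
  have hsI : Inverts z s := by
    show z * s * z⁻¹ = s⁻¹
    rw [hs, mul_inv_rev, mul_inv_rev, mul_inv_rev, inv_inv, hzi,
      show z * (a * z * a⁻¹ * z) * z = z * a * z * a⁻¹ * (z * z) by group, h.zz, mul_one]
    group
  obtain ⟨i, hi, hii⟩ := exists_sqrt (C.odd_order hsO)
  have hiO : i ∈ O := (Subgroup.zpowers_le.mpr hsO) hi
  have hiI := inverts_mem_zpowers hsI hi
  have hfix : z * (i⁻¹ * a) = i⁻¹ * a * z := by
    refine conj_fix_iff.mp ?_
    rw [show z * (i⁻¹ * a) * z⁻¹ = z * i⁻¹ * z⁻¹ * (z * a * z⁻¹) by group, conj_inv_elem hiI,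
      show z * a * z⁻¹ = (i * i)⁻¹ * a by
        rw [hii, hs, mul_inv_rev, mul_inv_rev, mul_inv_rev, inv_inv, hzi]; group]
    group
  obtain ⟨k, hk⟩ := C.z_fix (O.mul_mem (O.inv_mem hiO) ha) hfix
  exact ⟨i, hiO, hiI, k, by rw [← hk, mul_inv_cancel_left]⟩

theorem split_unique {i j : G} (hi : i ∈ O) (hiz : Inverts z i) (hjz : Inverts z j) {k : ℕ}
    (e : j = i * f ^ k) : f ^ k = 1 := by
  refine eq_one_of_sq_odd ?_ (C.odd_order (C.fpow_mem k))
  have h1 : z * j * z⁻¹ = i⁻¹ * f ^ k := by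
    rw [e, show z * (i * f ^ k) * z⁻¹ = z * i * z⁻¹ * (z * f ^ k * z⁻¹) by group, show z * i * z⁻¹ = i⁻¹ from hiz,
      conj_fix_iff.mpr (Commute.pow_right C.fz.symm k).eq]
  have hc : i⁻¹ * f ^ k = f ^ k * i⁻¹ := (Commute.inv_left (Commute.pow_right (C.cent i hi) k)).eq
  rw [show z * j * z⁻¹ = j⁻¹ from hjz, e, mul_inv_rev, hc] at h1
  have h2 := mul_right_cancel h1
  nth_rewrite 1 [← h2]
  exact inv_mul_cancel _

/-- Commutators of elements of `O` are powers of `f`. -/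
theorem comm_pow {a b : G} (ha : a ∈ O) (hb : b ∈ O) : ∃ m : ℕ, a * b = b * a * f ^ m := by
  obtain ⟨i, hiO, hiI, k, rfl⟩ := C.split ha
  obtain ⟨j, hjO, hjI, l, rfl⟩ := C.split hb
  obtain ⟨t, htO, htI, m, ht⟩ := C.split (O.mul_mem hiO hjO)
  have cf : ∀ {c : G}, c ∈ O → ∀ q : ℕ, Commute c (f ^ q) := fun {c} hc q => Commute.pow_right (C.cent c hc) q
  have h1 : z * (i * j) * z⁻¹ = t⁻¹ * f ^ m := by
    rw [ht, show z * (t * f ^ m) * z⁻¹ = z * t * z⁻¹ * (z * f ^ m * z⁻¹) by group, show z * t * z⁻¹ = t⁻¹ from htI,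
      conj_fix_iff.mpr (Commute.pow_right C.fz.symm m).eq]
  rw [show z * (i * j) * z⁻¹ = z * i * z⁻¹ * (z * j * z⁻¹) by group, show z * i * z⁻¹ = i⁻¹ from hiI,
    show z * j * z⁻¹ = j⁻¹ from hjI] at h1
  have h2 : j * i = t * (f ^ m)⁻¹ := by
    calc j * i = (i⁻¹ * j⁻¹)⁻¹ := by group
      _ = (f ^ m)⁻¹ * t := by rw [h1]; group
      _ = t * (f ^ m)⁻¹ := (cf htO m).inv_right.eq.symm
  refine ⟨m + m, ?_⟩
  have h3 : i * j = j * i * f ^ (m + m) := by
    rw [h2, ht, pow_add]; group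
  have c1 : Commute (f ^ k) (f ^ l) := Commute.pow_pow_self f k l
  calc i * f ^ k * (j * f ^ l) = i * j * (f ^ k * f ^ l) := by
        rw [mul_assoc i, ← mul_assoc (f ^ k), ← (cf hjO k).eq]; group
    _ = j * i * f ^ (m + m) * (f ^ k * f ^ l) := by rw [h3]
    _ = j * i * (f ^ k * f ^ l) * f ^ (m + m) := by
        rw [mul_assoc (j * i), ((Commute.pow_pow_self f (m + m) k).mul_right (Commute.pow_pow_self f (m + m) l)).eq,
          ← mul_assoc]
    _ = j * f ^ l * (i * f ^ k) * f ^ (m + m) := by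
        rw [c1.eq, mul_assoc j (f ^ l), ← mul_assoc (f ^ l) i, ← (cf hiO l).eq]; group

theorem inverter_norm {w : G} (hwf : Inverts w f) {a : G} (ha : a ∈ O) : w * a * w⁻¹ ∈ O :=
  C.mem_odd _ (inverter_preserves hwf (C.cent a ha)) (by rw [orderOf_conj']; exact C.odd_order ha)

variable {v : G}

/-- The elements of `O` centralized by an inverter in `C(z)` are inverted by `z`. -/
theorem fix_inverted (hvz : v * z = z * v) (hvf : Inverts v f) {a : G} (ha : a ∈ O) (hc : v * a = a * v) :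
    Inverts z a := by
  obtain ⟨i, hiO, hiI, k, rfl⟩ := C.split ha
  have hvi : Inverts z (v * i * v⁻¹) := by
    have := inverts_conj (c := v) hiI
    rwa [conj_fix_iff.mpr hvz] at this
  have e : v * (i * f ^ k) * v⁻¹ = i * f ^ k := conj_fix_iff.mpr hc
  rw [show v * (i * f ^ k) * v⁻¹ = v * i * v⁻¹ * (v * f ^ k * v⁻¹) by group,
    show v * f ^ k * v⁻¹ = (f ^ k)⁻¹ from inverts_pow hvf k] at e
  have e' : v * i * v⁻¹ = i * f ^ (k + k) := by rw [pow_add, ← mul_assoc]; exact mul_inv_eq_iff_eq_mul.mp e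
  have h2 := C.split_unique hiO hiI hvi e' 
  rw [pow_add] at h2
  rw [eq_one_of_sq_odd h2 (C.odd_order (C.fpow_mem k)), mul_one]
  exact hiI

theorem vz_props (hvz : v * z = z * v) (hv : v * v = 1) (hvf : Inverts v f) :
    (v * z) * z = z * (v * z) ∧ (v * z) * (v * z) = 1 ∧ Inverts (v * z) f := by
  refine ⟨Commute.mul_left hvz rfl, ?_, ?_⟩
  · rw [show v * z * (v * z) = v * (z * v) * z by group, ← hvz, ← mul_assoc, hv, one_mul, h.zz]
  · show v * z * f * (v * z)⁻¹ = f⁻¹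
    rw [show v * z * f * (v * z)⁻¹ = v * (z * f * z⁻¹) * v⁻¹ by group, conj_fix_iff.mpr C.fz.symm]
    exact hvf

/-- The order of `O` is five times the product of the two fixed-point orders. -/
theorem card_eq (hvz : v * z = z * v) (hv : v * v = 1) (hvf : Inverts v f) :
    Nat.card ↥O = 5 * (Nat.card ↥(O ⊓ Subgroup.centralizer ({v} : Set G)) *
      Nat.card ↥(O ⊓ Subgroup.centralizer ({v * z} : Set G))) := by
  obtain ⟨hwz, -, hwf⟩ := C.vz_props hvz hv hvf
  have hvi : v⁻¹ = v := inv_eq_of_mul_eq_one_right hv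
  have hfpow : ∀ k : ℕ, f ^ (k % 5) = f ^ k := fun k => by rw [← C.fo, pow_mod_orderOf]
  let g : (↥(O ⊓ Subgroup.centralizer ({v} : Set G)) × ↥(O ⊓ Subgroup.centralizer ({v * z} : Set G))) × Fin 5 → ↥O :=
    fun p => ⟨(p.1.2 : G) * (p.1.1 : G) * f ^ (p.2 : ℕ),
      O.mul_mem (O.mul_mem p.1.2.2.1 p.1.1.2.1) (C.fpow_mem _)⟩
  have hg : Function.Bijective g := by
    constructor
    · rintro ⟨⟨a, b⟩, k⟩ ⟨⟨a', b'⟩, k'⟩ e
      have e' : (b : G) * (a : G) * f ^ (k : ℕ) = (b' : G) * (a' : G) * f ^ (k' : ℕ) := congrArg Subtype.val e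
      obtain ⟨m, hm⟩ : ∃ m : ℕ, f ^ (k' : ℕ) * (f ^ (k : ℕ))⁻¹ = f ^ m := by
        refine ⟨k' + 4 * k, ?_⟩
        rw [pow_add]
        congr 1
        refine inv_eq_of_mul_eq_one_right ?_
        rw [← pow_add, show (k : ℕ) + 4 * k = 5 * k by ring, pow_mul, C.f5, one_pow]
      set x := (b' : G)⁻¹ * (b : G) with hx
      set y := (a : G) * (a' : G)⁻¹ with hy
      have hxO : x ∈ O := O.mul_mem (O.inv_mem b'.2.1) b.2.1
      have hyO : y ∈ O := O.mul_mem a.2.1 (O.inv_mem a'.2.1)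
      have hxw : v * z * x = x * (v * z) :=
        (Commute.mul_right (Commute.inv_right (mem_cent.mp b'.2.2).symm) (mem_cent.mp b.2.2).symm).eq
      have hyv : v * y = y * v :=
        (Commute.mul_right (mem_cent.mp a.2.2).symm (Commute.inv_right (mem_cent.mp a'.2.2).symm)).eq
      have hxy : x * y = f ^ m := by
        have cfa : f ^ m * (a' : G) = (a' : G) * f ^ m := (Commute.pow_left (C.cent _ a'.2.1).symm m).eq
        calc x * y = (b' : G)⁻¹ * ((b : G) * (a : G) * f ^ (k : ℕ)) * (f ^ (k : ℕ))⁻¹ * (a' : G)⁻¹ := by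
              rw [hx, hy]; group
          _ = (a' : G) * (f ^ (k' : ℕ) * (f ^ (k : ℕ))⁻¹) * (a' : G)⁻¹ := by rw [e']; group
          _ = f ^ m := by rw [hm, ← cfa, mul_inv_cancel_right]
      have hyz := C.fix_inverted hvz hvf hyO hyv
      have hy2 : v * z * y * (v * z)⁻¹ = y⁻¹ := by
        rw [show v * z * y * (v * z)⁻¹ = v * (z * y * z⁻¹) * v⁻¹ by group, show z * y * z⁻¹ = y⁻¹ from hyz,
          conj_fix_iff.mpr (Commute.inv_right hyv).eq]
      have h1 : f ^ m * f ^ m = y * y := by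
        have h2 : v * z * (x * y) * (v * z)⁻¹ = v * z * f ^ m * (v * z)⁻¹ := by rw [hxy]
        rw [show v * z * (x * y) * (v * z)⁻¹ = v * z * x * (v * z)⁻¹ * (v * z * y * (v * z)⁻¹) by group,
          conj_fix_iff.mpr hxw, hy2, show v * z * f ^ m * (v * z)⁻¹ = (f ^ m)⁻¹ from inverts_pow hwf m] at h2
        have h3 : x = f ^ m * y⁻¹ := eq_mul_inv_of_mul_eq hxy
        rw [h3] at h2
        have cy : y * f ^ m = f ^ m * y := (Commute.pow_right (C.cent y hyO) m).eq
        calc f ^ m * f ^ m = f ^ m * (f ^ m * y⁻¹ * y⁻¹) * (y * y) := by group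
          _ = y * y := by rw [h2, mul_inv_cancel, one_mul]
      have hy1 : y = 1 := by
        refine eq_one_of_sq_odd (inverts_comm_eq_one (v := z) ?_ ?_ (C.odd_order (O.mul_mem hyO hyO))) (C.odd_order hyO)
        · exact inverts_mem_zpowers hyz (mul_mem (Subgroup.mem_zpowers y) (Subgroup.mem_zpowers y))
        · rw [← h1]; exact (Commute.mul_right (Commute.pow_right C.fz.symm m) (Commute.pow_right C.fz.symm m)).eq
      have hm1 : f ^ m = 1 := eq_one_of_sq_odd (by rw [h1, hy1, one_mul]) (C.odd_order (C.fpow_mem m))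
      rw [hy1, mul_one, hm1] at hxy
      have ea : (a : G) = (a' : G) := mul_inv_eq_one.mp hy1
      have eb : (b : G) = (b' : G) := (inv_mul_eq_one.mp hxy).symm
      rw [ea, eb, mul_right_inj] at e'
      refine Prod.ext (Prod.ext (Subtype.ext ea) (Subtype.ext eb)) (Fin.ext ?_)
      exact pow_injOn_Iio_orderOf (by rw [Set.mem_Iio, C.fo]; exact k.isLt) (by rw [Set.mem_Iio, C.fo]; exact k'.isLt) e'
    · rintro ⟨c, hc⟩
      obtain ⟨i, hiO, hiI, k, rfl⟩ := C.split hc
      set j := v * i * v⁻¹ with hj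
      have hjO : j ∈ O := C.inverter_norm hvf hiO
      obtain ⟨t, htO, htI, m, ht⟩ := C.split (O.mul_mem hiO (O.inv_mem hjO))
      have cm : Commute t (f ^ m) := Commute.pow_right (C.cent t htO) m
      have hvt : Inverts v t := by
        obtain ⟨_, _, hw'⟩ := C.vz_props hvz hv hvf
        have hvtz : Inverts z (v * t * v⁻¹) := by
          have := inverts_conj (c := v) htI
          rwa [conj_fix_iff.mpr hvz] at this
        have e1 : v * (i * j⁻¹) * v⁻¹ = (i * j⁻¹)⁻¹ := by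
          rw [hj, show v * (i * (v * i * v⁻¹)⁻¹) * v⁻¹ =
            v * i * v⁻¹ * ((v * v) * i⁻¹ * (v * v)⁻¹) by group, hv]
          group
        rw [ht, show v * (t * f ^ m) * v⁻¹ = v * t * v⁻¹ * (v * f ^ m * v⁻¹) by group,
          show v * f ^ m * v⁻¹ = (f ^ m)⁻¹ from inverts_pow hvf m, mul_inv_rev, cm.inv_inv.eq.symm] at e1
        exact mul_right_cancel e1
      obtain ⟨b, hb, hbb⟩ := exists_sqrt (C.odd_order htO)
      have hbO : b ∈ O := (Subgroup.zpowers_le.mpr htO) hb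
      have hbz := inverts_mem_zpowers htI hb
      have hbv := inverts_mem_zpowers hvt hb
      have hbw : v * z * b = b * (v * z) := by
        refine conj_fix_iff.mp ?_
        rw [show v * z * b * (v * z)⁻¹ = v * (z * b * z⁻¹) * v⁻¹ by group, show z * b * z⁻¹ = b⁻¹ from hbz,
          conj_inv_elem hbv]
      set a := b⁻¹ * i * f ^ (2 * m) with ha
      have haO : a ∈ O := O.mul_mem (O.mul_mem (O.inv_mem hbO) hiO) (C.fpow_mem _)
      have hav : v * a = a * v := by
        refine conj_fix_iff.mp ?_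
        have hjeq : j = (t * f ^ m)⁻¹ * i := by rw [← ht]; group
        rw [ha, show v * (b⁻¹ * i * f ^ (2 * m)) * v⁻¹ = v * b⁻¹ * v⁻¹ * (v * i * v⁻¹) * (v * f ^ (2 * m) * v⁻¹) by
          group, conj_inv_elem hbv, ← hj, hjeq, show v * f ^ (2 * m) * v⁻¹ = (f ^ (2 * m))⁻¹ from inverts_pow hvf _]
        have h5 : (f ^ (2 * m))⁻¹ = f ^ m * f ^ (2 * m) := by
          refine inv_eq_of_mul_eq_one_right ?_
          rw [← pow_add, ← pow_add, show 2 * m + (m + 2 * m) = 5 * m by ring, pow_mul, C.f5, one_pow]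
        rw [h5, mul_inv_rev, ← hbb]
        have ci : Commute (f ^ m) i := (Commute.pow_right (C.cent i hiO) m).symm
        have cb : Commute (f ^ m) b := (Commute.pow_right (C.cent b hbO) m).symm
        calc b * ((f ^ m)⁻¹ * (b * b)⁻¹ * i) * (f ^ m * f ^ (2 * m))
            = b * (f ^ m)⁻¹ * b⁻¹ * b⁻¹ * (i * f ^ m) * f ^ (2 * m) := by group
          _ = b * ((f ^ m)⁻¹ * (b⁻¹ * b⁻¹) * f ^ m) * i * f ^ (2 * m) := by rw [ci.eq.symm]; group
          _ = b⁻¹ * i * f ^ (2 * m) := by rw [(cb.inv_right.mul_right cb.inv_right).inv_mul_cancel]; group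
      refine ⟨⟨⟨⟨a, haO, mem_cent.mpr hav.symm⟩, ⟨b, hbO, mem_cent.mpr hbw.symm⟩⟩,
        ⟨(k + 3 * m) % 5, Nat.mod_lt _ (by norm_num)⟩⟩, Subtype.ext ?_⟩
      show b * a * f ^ ((k + 3 * m) % 5) = i * f ^ k
      rw [hfpow, ha, show b * (b⁻¹ * i * f ^ (2 * m)) * f ^ (k + 3 * m) = i * (f ^ (2 * m) * f ^ (k + 3 * m)) by group,
        ← pow_add, show 2 * m + (k + 3 * m) = k + 5 * m by ring, pow_add, pow_mul, C.f5, one_pow, mul_one]
  rw [← Nat.card_eq_of_bijective g hg, Nat.card_prod, Nat.card_prod, Nat.card_fin, mul_comm]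

theorem fix_card (hone : OneClass G) (hv : v * v = 1) (hv1 : v ≠ 1) :
    Nat.card ↥(O ⊓ Subgroup.centralizer ({v} : Set G)) = 1 ∨
      Nat.card ↥(O ⊓ Subgroup.centralizer ({v} : Set G)) = 3 ∨
      Nat.card ↥(O ⊓ Subgroup.centralizer ({v} : Set G)) = 5 := by
  obtain ⟨Q', pm', h'⟩ := h.atInv hone hv hv1
  exact h'.odd_subgroup (fun a ha => mem_cent.mp ha.2)
    (C.odd.of_dvd_nat (Subgroup.card_dvd_of_le inf_le_left))

/-- The centralizer of `f` and an inverter in `C(z)` is twice the fixed points on `O`. -/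
theorem cent_card (hvz : v * z = z * v) :
    Nat.card ↥(Subgroup.centralizer ({f} : Set G) ⊓ Subgroup.centralizer ({v} : Set G)) =
      2 * Nat.card ↥(O ⊓ Subgroup.centralizer ({v} : Set G)) := by
  let g : Bool × ↥(O ⊓ Subgroup.centralizer ({v} : Set G)) →
      ↥(Subgroup.centralizer ({f} : Set G) ⊓ Subgroup.centralizer ({v} : Set G)) := fun p =>
    ⟨(bif p.1 then z else 1) * p.2, mem_cent.mpr (by
      refine Commute.mul_left ?_ (C.cent _ p.2.2.1)
      cases p.1
      exacts [Commute.one_left f, C.fz.symm]), mem_cent.mpr (by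
      refine Commute.mul_left ?_ (mem_cent.mp p.2.2.2)
      cases p.1
      exacts [Commute.one_left v, hvz.symm])⟩
  have hg : Function.Bijective g := by
    constructor
    · rintro ⟨b, a⟩ ⟨b', a'⟩ e
      have e' := congrArg Subtype.val e
      simp only [g] at e'
      cases b <;> cases b' <;> simp only [cond_true, cond_false, one_mul] at e'
      · rw [Subtype.ext e']
      · exact absurd (show z ∈ O by
          rw [show z = (a : G) * (a' : G)⁻¹ by rw [e', mul_inv_cancel_right]]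
          exact O.mul_mem a.2.1 (O.inv_mem a'.2.1)) C.not_mem
      · exact absurd (show z ∈ O by
          rw [show z = (a' : G) * (a : G)⁻¹ by rw [← e', mul_inv_cancel_right]]
          exact O.mul_mem a'.2.1 (O.inv_mem a.2.1)) C.not_mem
      · rw [Subtype.ext (mul_left_cancel e')]
    · rintro ⟨a, ha⟩
      rcases C.cover a (mem_cent.mp ha.1) with hm | hm
      · exact ⟨(false, ⟨a, hm, ha.2⟩), Subtype.ext (one_mul a)⟩
      · refine ⟨(true, ⟨z * a, hm, mem_cent.mpr (Commute.mul_left hvz.symm (mem_cent.mp ha.2))⟩), Subtype.ext ?_⟩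
        show z * (z * a) = a
        rw [← mul_assoc, h.zz, one_mul]
  rw [← Nat.card_eq_of_bijective g hg, Nat.card_prod, Nat.card_eq_fintype_card, Fintype.card_bool]

/-- Every inverter of `f` is moved into `C(z)` by an element of `O`. -/
theorem inverter_move {w : G} (hw : w * w = 1) (hwf : Inverts w f) :
    ∃ c ∈ O, c * w * c⁻¹ * z = z * (c * w * c⁻¹) ∧ Inverts (c * w * c⁻¹) f := by
  haveI : Fact (Nat.Prime 2) := ⟨Nat.prime_two⟩
  set I := {a : G | a ∈ O ∧ Inverts z a}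
  have hzi : z⁻¹ = z := inv_eq_of_mul_eq_one_right h.zz
  set J := {u : G | u * f = f * u ∧ u * u = 1 ∧ u ≠ 1} with hJ
  have hJI : J.ncard = I.ncard := by
    refine Set.ncard_congr (fun u _ => z * u) ?_ (fun _ _ _ _ e => mul_left_cancel e) ?_
    · rintro u ⟨hu, huu, hu1⟩
      have hmem : z * u ∈ O := (C.cover u hu).resolve_left fun hm => hu1 (eq_one_of_sq_odd huu (C.odd_order hm))
      exact ⟨hmem, inverts_prod h.zz huu⟩
    · rintro a ⟨ha, hai⟩
      refine ⟨z * a, ⟨Commute.mul_left C.fz.symm (C.cent a ha), ?_, fun e => C.not_mem ?_⟩, ?_⟩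
      · rw [show z * a * (z * a) = z * a * z⁻¹ * a by rw [hzi]; group, show z * a * z⁻¹ = a⁻¹ from hai, inv_mul_cancel]
      · rw [eq_inv_of_mul_eq_one_left e]; exact O.inv_mem ha
      · show z * (z * a) = a
        rw [← mul_assoc, h.zz, one_mul]
  have hodd : Odd J.ncard := by
    refine C.odd.of_dvd_nat ⟨5, ?_⟩
    rw [hJI, ← Nat.card_coe_set_eq]
    let g : ↥I × Fin 5 → ↥O := fun p => ⟨p.1.1 * f ^ (p.2 : ℕ), O.mul_mem p.1.2.1 (C.fpow_mem _)⟩
    have hg : Function.Bijective g := by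
      refine ⟨?_, ?_⟩
      · rintro ⟨a, k⟩ ⟨a', k'⟩ e
        have e' : a.1 * f ^ (k : ℕ) = a'.1 * f ^ (k' : ℕ) := congrArg Subtype.val e
        have h5 : f ^ ((k : ℕ) + 4 * k') = 1 := by
          refine C.split_unique a.2.1 a.2.2 a'.2.2 ?_
          rw [pow_add, ← mul_assoc, e', mul_assoc, ← pow_add, show (k' : ℕ) + 4 * k' = 5 * k' by ring, pow_mul, C.f5,
            one_pow, mul_one]
        have hkk : k = k' := by
          have hd := orderOf_dvd_of_pow_eq_one h5
          rw [C.fo] at hd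
          have h1 := k.isLt
          have h2 := k'.isLt
          exact Fin.ext (by omega)
        subst hkk
        rw [Subtype.ext (mul_right_cancel e')]
      · rintro ⟨c, hc⟩
        obtain ⟨i, hi, hiI, k, rfl⟩ := C.split hc
        refine ⟨(⟨i, hi, hiI⟩, ⟨k % 5, Nat.mod_lt _ (by norm_num)⟩), Subtype.ext ?_⟩
        show i * f ^ (k % 5) = i * f ^ k
        rw [← C.fo, pow_mod_orderOf]
    rw [← Nat.card_eq_of_bijective g hg, Nat.card_prod, Nat.card_fin]
  have hmap : ∀ u ∈ J, w * u * w⁻¹ ∈ J := fun u hu =>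
    ⟨inverter_preserves hwf hu.1, conj_sq w u hu.2.1, fun e => hu.2.2 (conj_eq_one_iff.mp e)⟩
  have hmod := fixed_set_modEq (p := 2) J (s := w) (by rw [pow_two, hw]) fun a => ⟨hmap a, fun ha => by
    have := hmap _ ha
    rwa [show w * (w * a * w⁻¹) * w⁻¹ = (w * w) * a * (w * w)⁻¹ by group, hw, one_mul, inv_one, mul_one] at this⟩
  obtain ⟨u, ⟨hu, huu, hu1⟩, hwu⟩ : {a | a ∈ J ∧ w * a = a * w}.Nonempty := by
    refine Set.nonempty_of_ncard_ne_zero fun e => ?_
    rw [e] at hmod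
    have := Nat.odd_iff.mp hodd
    unfold Nat.ModEq at hmod
    omega
  have hmem : z * u ∈ O := (C.cover u hu).resolve_left fun hm => hu1 (eq_one_of_sq_odd huu (C.odd_order hm))
  obtain ⟨c, hc, hcc⟩ := exists_sqrt (C.odd_order hmem)
  have hcO : c ∈ O := (Subgroup.zpowers_le.mpr hmem) hc
  have hcz := inverts_mem_zpowers (inverts_prod h.zz huu) hc
  have hcu : c * u * c⁻¹ = z := by
    have hu' : u = z * (c * c) := by rw [hcc, ← mul_assoc, h.zz, one_mul]
    have hzc : c * z = z * c⁻¹ := by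
      have : z * c⁻¹ * z⁻¹ = c := conj_inv_elem hcz
      calc c * z = z * c⁻¹ * z⁻¹ * z := by rw [this]
        _ = z * c⁻¹ := by group
    rw [hu', ← mul_assoc, hzc]; group
  refine ⟨c, hcO, ?_, ?_⟩
  · rw [← hcu]; exact conj_comm hwu
  · have := inverts_conj (c := c) hwf
    rwa [conj_fix_iff.mpr (C.cent c hcO)] at this

end FiveCore

end CfsgLib.J3Type
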