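import Cfsg.Agent.Lib.J3Type.Arith
import Mathlib.Data.List.Sort

/-!
Groups of `J₃` type: from an unordered list of pairwise coprime orbit items to the index.
-/

set_option autoImplicit false

namespace CfsgLib.J3Type.Arith

/-- A pairwise coprime list of items can be listed with increasing orders. -/
theorem exists_sorted {L : List (Bool × ℕ × ℕ)} (hL : L.Pairwise (fun i j => Nat.gcd i.2.1 j.2.1 = 1))
    (h3 : ∀ i ∈ L, 3 ≤ i.2.1) :
    ∃ L' : List (Bool × ℕ × ℕ), L'.Perm L ∧ L'.Pairwise (fun i j => i.2.1 < j.2.1 ∧ Nat.gcd i.2.1 j.2.1 = 1) := by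
  refine ⟨L.mergeSort (fun i j => decide (i.2.1 ≤ j.2.1)), List.mergeSort_perm _ _, ?_⟩
  have hperm := List.mergeSort_perm L (fun i j => decide (i.2.1 ≤ j.2.1))
  have h1 : (L.mergeSort (fun i j => decide (i.2.1 ≤ j.2.1))).Pairwise (fun i j => i.2.1 ≤ j.2.1) := by
    refine (List.pairwise_mergeSort (fun a b c => ?_) (fun a b => ?_) L).imp (by simp)
    · simp only [decide_eq_true_eq]
      exact le_trans
    · simp only [Bool.or_eq_true, decide_eq_true_eq]
      exact le_total _ _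
  have h2 : (L.mergeSort (fun i j => decide (i.2.1 ≤ j.2.1))).Pairwise (fun i j => Nat.gcd i.2.1 j.2.1 = 1) :=
    (hperm.pairwise_iff fun {i j} e => (Nat.gcd_comm _ _).trans e).mpr hL
  refine (h1.and h2).imp_of_mem fun {i j} hi _ e => ⟨lt_of_le_of_ne e.1 fun e' => ?_, e.2⟩
  have := h3 i (hperm.mem_iff.mp hi)
  have e2 := e.2
  rw [e', Nat.gcd_self] at e2
  omega

theorem total_perm {L L' : List (Bool × ℕ × ℕ)} (hp : L.Perm L') : total L = total L' := (hp.map _).sum_eq

theorem prodA_perm {L L' : List (Bool × ℕ × ℕ)} (hp : L.Perm L') : prodA L = prodA L' := (hp.map _).prod_eq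

/-- Pairwise coprime divisors multiply to a divisor. -/
theorem prodA_dvd {n : ℕ} : ∀ {Q : ℕ} {L : List (Bool × ℕ × ℕ)}, L.Pairwise (fun i j => Nat.gcd i.2.1 j.2.1 = 1) →
    Q ∣ n → (∀ i ∈ L, i.2.1 ∣ n) → (∀ i ∈ L, Nat.gcd Q i.2.1 = 1) → Q * prodA L ∣ n
  | Q, [], _, hQ, _, _ => by simpa [prodA] using hQ
  | Q, i :: L, hp, hQ, hd, hc => by
    rw [prodA_cons, ← mul_assoc]
    obtain ⟨hp1, hp2⟩ := List.pairwise_cons.mp hp
    refine prodA_dvd hp2 (Nat.Coprime.mul_dvd_of_dvd_of_dvd (hc i List.mem_cons_self) hQ (hd i List.mem_cons_self))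
      (fun j hj => hd j (List.mem_cons_of_mem _ hj)) fun j hj => ?_
    exact Nat.Coprime.mul_left (hc j (List.mem_cons_of_mem _ hj)) (hp1 j hj)

/-- There are at most five orbits. -/
theorem length_le {L : List (Bool × ℕ × ℕ)} {S n : ℕ} (hp : L.Pairwise (fun i j => i.2.1 < j.2.1))
    (h3 : ∀ i ∈ L, 3 ≤ i.2.1) (hodd : ∀ i ∈ L, i.2.1 % 2 = 1) (hu : ∀ i ∈ L, i.2.2 ≤ 960) (hn : n = S + total L)
    (hdvd : prodA L ∣ n) (hS : S ≤ 50000) (hS0 : 0 < S) : L.length ≤ 5 := by
  by_contra hlen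
  match L with
  | [] | [_] | [_, _] | [_, _, _] | [_, _, _, _] | [_, _, _, _, _] => simp at hlen
  | a :: b :: c :: d :: e :: f :: rest =>
    simp only [List.pairwise_cons, List.mem_cons] at hp
    obtain ⟨pa, pb, pc, pd, pe, hp⟩ := hp
    have ha := h3 a (by simp)
    have oa := hodd a (by simp)
    have ob := hodd b (by simp)
    have oc := hodd c (by simp)
    have od := hodd d (by simp)
    have oe := hodd e (by simp)
    have hab := pa b (Or.inl rfl)
    have hbc := pb c (Or.inl rfl)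
    have hcd := pc d (Or.inl rfl)
    have hde := pd e (Or.inl rfl)
    have hef : ∀ x ∈ f :: rest, 12 ≤ x.2.1 := fun x hx => by
      have := pe x (List.mem_cons.mp hx)
      omega
    obtain ⟨m, hm, hmax⟩ : ∃ m ∈ f :: rest, ∀ x ∈ f :: rest, x.2.1 ≤ m.2.1 := by
      obtain ⟨m, hm, hmm⟩ := (f :: rest).toFinset.exists_max_image (fun x => x.2.1) ⟨f, by simp⟩
      exact ⟨m, List.mem_toFinset.mp hm, fun x hx => hmm x (List.mem_toFinset.mpr hx)⟩
    have hm12 := hef m hm
    have h5 : 10395 ≤ a.2.1 * b.2.1 * c.2.1 * d.2.1 * e.2.1 :=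
      calc 10395 = 3 * 5 * 7 * 9 * 11 := by norm_num
        _ ≤ _ := by gcongr <;> omega
    have hrest := prod_ge (a := 12) hef hm
    rw [List.length_cons, Nat.add_sub_cancel] at hrest
    have h6 : 10395 * (m.2.1 * 12 ^ rest.length) ≤ prodA (a :: b :: c :: d :: e :: f :: rest) := by
      simp only [prodA_cons (i := a), prodA_cons (i := b), prodA_cons (i := c), prodA_cons (i := d),
        prodA_cons (i := e), ← mul_assoc]
      rw [mul_assoc 10395]
      exact Nat.mul_le_mul h5 hrest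
    have h7 : total (a :: b :: c :: d :: e :: f :: rest) ≤ 960 * (rest.length + 6) * m.2.1 := by
      refine total_le hu fun x hx => ?_
      simp only [List.mem_cons] at hx
      have := pe f (Or.inl rfl)
      have := hmax f List.mem_cons_self
      rcases hx with rfl | rfl | rfl | rfl | rfl | hx
      iterate 5 omega
      exact hmax x (List.mem_cons.mpr hx)
    have h8 := Nat.le_of_dvd (by omega) hdvd
    have h9 : 2 * rest.length + 1 ≤ 12 ^ rest.length := by
      induction rest.length with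
      | zero => simp
      | succ r ih => rw [pow_succ]; omega
    nlinarith

/-- The index from an unordered list of items, by a search. -/
theorem index_eq {bad n : ℕ} {extra : ℕ → Bool} {needM : Bool} {S Q lo : ℕ} {L : List (Bool × ℕ × ℕ)}
    (hs : search bad extra 5 needM S Q lo [] = true) (hne : L ≠ []) (hlo : ∀ i ∈ L, lo ≤ i.2.1)
    (hM : L.countP (fun i => i.1) = if needM then 1 else 0)
    (hp : L.Pairwise (fun i j => Nat.gcd i.2.1 j.2.1 = 1))
    (hit : ∀ i ∈ L, i.2.2 ∈ mults i.1 ∧ ok bad i.1 i.2.1 i.2.2 = true ∧ congr n i.1 i.2.1 i.2.2 = true)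
    (hex : extra n = true) (hn : n = S + total L) (hQ : Q ∣ n) (hQL : ∀ i ∈ L, Nat.gcd Q i.2.1 = 1)
    (hQ0 : 0 < Q) (hS : 960 < S) (hS' : S ≤ 50000) (hlo0 : 0 < lo) : n = 26163 := by
  have hd : ∀ i ∈ L, i.2.1 ∣ n := fun i hi => by
    have := (hit i hi).2.2
    simp only [congr, Bool.and_eq_true, Nat.beq_eq] at this
    exact Nat.dvd_of_mod_eq_zero this.1
  obtain ⟨L', hperm, hsort⟩ := exists_sorted hp fun i hi => ok_three (hit i hi).2.1
  have hmem : ∀ {i}, i ∈ L' → i ∈ L := fun hi => hperm.mem_iff.mp hi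
  have hn' : n = S + total L' := by rw [hn, total_perm hperm]
  have hdvd : Q * prodA L' ∣ n := by
    rw [prodA_perm hperm]
    exact prodA_dvd hp hQ hd hQL
  have hlen : L'.length ≤ 5 := length_le (hsort.imp And.left) (fun i hi => ok_three (hit i (hmem hi)).2.1)
    (fun i hi => ok_odd (hit i (hmem hi)).2.1) (fun i hi => (mult_bounds (hit i (hmem hi)).1).2) hn'
    ((Dvd.intro_left Q rfl).trans hdvd) hS' (by omega)
  refine search_sound 5 needM S Q lo [] L' hs (fun e => hne ?_) hlen (fun i hi => hlo i (hmem hi)) ?_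
    ⟨hsort, fun i hi => hit i (hmem hi), hex⟩ (by simp) (by simp) hn' hdvd hQ0 hS hlo0
  · rw [e] at hperm
    exact List.perm_nil.mp hperm.symm
  · rw [hperm.countP_eq]; exact hM

end CfsgLib.J3Type.Arith
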