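import Cfsg.Agent.Lib.J3Type.SelfCent
import Cfsg.Agent.Lib.J3Type.Items

/-!
Groups of `J₃` type: the orbits of the self-centralizing inverted subgroups.
-/

set_option autoImplicit false
set_option linter.unusedSectionVars false

namespace CfsgLib.J3Type

open Cfsg CfsgLargeExtra Equiv
open CfsgLib.HallJankoType (orb mem_cent conj_fix_iff ncard_orb orderOf_conj')

universe u

variable {G : Type u} [Group G] [Finite G] {z : G} {Q : Subgroup G} {pm : G → Perm (Fin 5)}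

/-- The union of the conjugates of `S` under `H`. -/
def conjUnion (H : Subgroup G) (S : Set G) : Set G := {x | ∃ c ∈ H, c⁻¹ * x * c ∈ S}

theorem conjUnion_conj {H : Subgroup G} {S : Set G} {c x : G} (hc : c ∈ H) (hx : x ∈ conjUnion H S) :
    c * x * c⁻¹ ∈ conjUnion H S := by
  obtain ⟨d, hd, hm⟩ := hx
  exact ⟨c * d, mul_mem hc hd, by rwa [show (c * d)⁻¹ * (c * x * c⁻¹) * (c * d) = d⁻¹ * x * d by group]⟩

/-- The union of the conjugates of a trivial intersection set. -/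
theorem ncard_conjUnion {H N : Subgroup G} {S : Set G} (hNH : N ≤ H) (hN : ∀ c ∈ N, ∀ x ∈ S, c * x * c⁻¹ ∈ S)
    (hTI : ∀ c ∈ H, ∀ x ∈ S, c * x * c⁻¹ ∈ S → c ∈ N) :
    (conjUnion H S).ncard * Nat.card ↥N = Nat.card ↥H * S.ncard := by
  rw [show Nat.card ↥H = ((H : Set G)).ncard from Nat.card_coe_set_eq _]
  refine double_count _ _ (fun x c => c⁻¹ * x * c ∈ S) ?_ ?_
  · rintro x ⟨c₀, hc₀, hx⟩
    rw [show Nat.card ↥N = ((N : Set G)).ncard from Nat.card_coe_set_eq _,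
      ← Set.ncard_image_of_injective (N : Set G) (mul_right_injective c₀)]
    congr 1
    ext c
    constructor
    · rintro ⟨hc, hm⟩
      refine ⟨c₀⁻¹ * c, ?_, mul_inv_cancel_left c₀ c⟩
      have := hTI _ (mul_mem (inv_mem hc) hc₀) _ hx
        (by rwa [show c⁻¹ * c₀ * (c₀⁻¹ * x * c₀) * (c⁻¹ * c₀)⁻¹ = c⁻¹ * x * c by group])
      have h2 := inv_mem this
      rwa [mul_inv_rev, inv_inv] at h2
    · rintro ⟨k, hk, rfl⟩
      refine ⟨mul_mem hc₀ (hNH hk), ?_⟩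
      show (c₀ * k)⁻¹ * x * (c₀ * k) ∈ S
      have := hN _ (inv_mem hk) _ hx
      rwa [inv_inv, show k⁻¹ * (c₀⁻¹ * x * c₀) * k = (c₀ * k)⁻¹ * x * (c₀ * k) by group] at this
  · intro c hc
    rw [← Set.ncard_image_of_injective S (show Function.Injective fun x : G => c * x * c⁻¹ from
      fun a b e => mul_left_cancel (mul_right_cancel e))]
    congr 1
    ext x
    constructor
    · rintro ⟨-, hm⟩
      exact ⟨_, hm, by show c * (c⁻¹ * x * c) * c⁻¹ = x; group⟩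
    · rintro ⟨s, hs, rfl⟩
      have : c⁻¹ * (c * s * c⁻¹) * c = s := by group
      exact ⟨⟨c, hc, by rwa [this]⟩, by show c⁻¹ * (c * s * c⁻¹) * c ∈ S; rwa [this]⟩

namespace JT

variable (h : JT z Q pm)
include h

theorem z_normH {A : Subgroup G} (hA : ∀ a ∈ A, Inverts z a) : z ∈ normH z A := by
  refine ⟨rfl, fun x => ⟨fun hx => ?_, fun hx => ?_⟩⟩
  · rw [show z * x * z⁻¹ = x⁻¹ from hA x hx]; exact A.inv_mem hx
  · have h1 := hA _ hx
    have h2 : z * (z * x * z⁻¹) * z⁻¹ = x := by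
      rw [show z * (z * x * z⁻¹) * z⁻¹ = (z * z) * x * (z * z)⁻¹ by group, h.zz]; group
    rw [Inverts, h2] at h1
    rw [h1]; exact A.inv_mem hx

theorem normH_le (A : Subgroup G) : normH z A ≤ Subgroup.centralizer ({z} : Set G) :=
  fun _ hc => mem_cent.mpr hc.1

/-- The orbit item of a self-centralizing inverted subgroup. -/
theorem selfCent_item (hone : OneClass G) {A : Subgroup G} (hA : SelfCent A) (hAi : ∀ a ∈ A, Inverts z a)
    (hAo : Odd (Nat.card ↥A)) (h30 : Nat.gcd (Nat.card ↥A) 30 = 1) (hA1 : A ≠ ⊥) :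
    ∃ u : ℕ, u ∈ Arith.mults false ∧ 7 ≤ Nat.card ↥A ∧ u * (Nat.card ↥A - 1) % 1920 = 0 ∧
      Arith.congr {v : G | v * v = 1 ∧ v ≠ 1}.ncard false (Nat.card ↥A) u = true ∧
      (conjUnion (Subgroup.centralizer ({z} : Set G)) ((A : Set G) \ {1})).ncard = u * (Nat.card ↥A - 1) := by
  set a := Nat.card ↥A with ha
  set n := {v : G | v * v = 1 ∧ v ≠ 1}.ncard
  have ha2 : 1 < a := by rwa [ha, Subgroup.one_lt_card_iff_ne_bot]
  have ha7 : 7 ≤ a := by
    by_contra hlt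
    obtain ⟨r, hr⟩ := hAo
    interval_cases a <;> first | omega | (norm_num at h30)
  have hS : ((A : Set G) \ {1}).ncard = a - 1 := by
    rw [Set.ncard_sdiff (by simp [one_mem]), Set.ncard_singleton, ← Nat.card_coe_set_eq]
    rfl
  have hfix : ∀ x ∈ A, x * z = z * x → x = 1 := fun x hx e =>
    inverts_comm_eq_one (hAi x hx) e.symm (hAo.of_dvd_nat (Subgroup.orderOf_dvd_natCard A hx))
  set N := normH z A with hN
  set k := Nat.card ↥N with hk
  have hstab : ∀ x ∈ (A : Set G) \ {1}, Nat.card ↥(N ⊓ Subgroup.centralizer ({x} : Set G)) = 1 := by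
    rintro x ⟨hx, hx1⟩
    rw [Subgroup.card_eq_one, Subgroup.eq_bot_iff_forall]
    rintro c ⟨hc, hcx⟩
    exact hfix c (hA.mem_of_comm hx hx1 (mem_cent.mp hcx)) hc.1
  have hkd : k ∣ a - 1 := by
    have := dvd_ncard_mul N ((A : Set G) \ {1})
      (fun c hc x hx => ⟨(hc.2 x).mp hx.1, fun e => hx.2 (conj_eq_one_iff.mp e)⟩) hstab
    rwa [hS, mul_one] at this
  have hk1920 : k ∣ 1920 := h.card_C ▸ Subgroup.card_dvd_of_le (h.normH_le A)
  have h2k : 2 ∣ k := h.hz ▸ Subgroup.orderOf_dvd_natCard N (h.z_normH hAi)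
  obtain ⟨u, hu⟩ := hk1920
  have hk0 : 0 < k := Nat.card_pos
  have hU := ncard_conjUnion (H := Subgroup.centralizer ({z} : Set G)) (N := N) (S := (A : Set G) \ {1})
    (h.normH_le A) (fun c hc x hx => ⟨(hc.2 x).mp hx.1, fun e => hx.2 (conj_eq_one_iff.mp e)⟩)
    fun c hc x hx hm => mem_normH.mpr ⟨mem_cent.mp hc, SelfCent.iff_of_mem hA hA hx.1 hx.2 hm.1⟩
  rw [h.card_C, hS, ← hk, hu, mul_assoc, mul_comm k] at hU
  have hUc := Nat.eq_of_mul_eq_mul_right hk0 hU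
  refine ⟨u, Arith.mem_mults_false.mpr ?_, ha7, ?_, ?_, hUc⟩
  · obtain ⟨k', hk'⟩ := h2k
    refine ⟨k', ?_⟩
    rw [hk'] at hu
    linarith
  · obtain ⟨m, hm⟩ := hkd
    rw [hm, ← mul_assoc, mul_comm u k, ← hu, Nat.mul_mod_right]
  have hG : Nat.card G = 1920 * n := h.card_eq_index hone
  have han : a ∣ n := by
    have hd : a ∣ 1920 * n := hG ▸ Subgroup.card_subgroup_dvd_card A
    refine (Nat.Coprime.dvd_mul_left ?_).mp hd
    have h30' : Nat.Coprime a 30 := h30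
    exact Nat.Coprime.coprime_dvd_right (by norm_num : 1920 ∣ 30 ^ 7) (h30'.pow_right 7)
  obtain ⟨q, hq⟩ := han
  simp only [Arith.congr, Arith.modulus, Bool.and_eq_true, Nat.beq_eq]
  refine ⟨by rw [hq, Nat.mul_mod_right], ?_⟩
  rw [hq, Nat.mul_div_cancel_left _ (by omega)]
  obtain ⟨y, hy, hy1⟩ : ∃ y ∈ A, y ≠ 1 := by
    by_contra hne
    push Not at hne
    exact hA1 ((Subgroup.eq_bot_iff_forall _).mpr hne)
  have horb : (orb ⊤ y).ncard = 1920 * q := by
    have e := ncard_orb (⊤ : Subgroup G) y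
    rw [top_inf_eq, Subgroup.card_top, hG, hA y hy hy1, ← ha, hq, ← mul_assoc 1920, mul_comm (1920 * a),
      mul_comm 1920 a, mul_comm a 1920, ← mul_assoc, mul_comm q 1920] at e
    exact Nat.eq_of_mul_eq_mul_right (by omega) e
  have hin : orb ⊤ y ∩ (A : Set G) = orb N y := by
    ext t
    constructor
    · rintro ⟨⟨g, -, rfl⟩, hgy⟩
      obtain ⟨c, hc, hcA, hiff⟩ := hA.adjust h.zz hAi hAi hAo hA1 (SelfCent.iff_of_mem hA hA hy hy1 hgy)
      refine ⟨c * g, ⟨hc, hiff⟩, ?_⟩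
      rw [show c * g * y * (c * g)⁻¹ = c * (g * y * g⁻¹) * c⁻¹ by group]
      exact conj_fix_iff.mpr (hA.comm hgy hcA)
    · rintro ⟨c, hc, rfl⟩
      exact ⟨⟨c, Subgroup.mem_top c, rfl⟩, (hc.2 y).mp hy⟩
  have hinc : (orb N y).ncard = k := by
    have e := ncard_orb N y
    rwa [hstab y ⟨hy, hy1⟩, mul_one] at e
  have hdiv : a ∣ (orb ⊤ y \ (A : Set G)).ncard := by
    have := dvd_ncard_mul A (orb ⊤ y \ (A : Set G)) (k := 1) ?_ ?_
    · rwa [mul_one] at this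
    · rintro c hc t ⟨⟨g, -, rfl⟩, ht⟩
      refine ⟨⟨c * g, Subgroup.mem_top _, by group⟩, fun hm => ht ?_⟩
      exact (A.mul_mem_cancel_left hc).mp ((A.mul_mem_cancel_right (A.inv_mem hc)).mp hm)
    · rintro t ⟨-, ht⟩
      rw [Subgroup.card_eq_one, Subgroup.eq_bot_iff_forall]
      rintro c ⟨hc, hct⟩
      by_contra hc1
      exact ht (hA.mem_of_comm hc hc1 (mem_cent.mp hct).symm)
  have hsplit := Set.ncard_inter_add_ncard_sdiff_eq_ncard (orb ⊤ y) (A : Set G) (Set.toFinite _)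
  rw [hin, hinc, horb, hu] at hsplit
  have hcop : Nat.gcd a k = 1 := by
    obtain ⟨m, hm⟩ := hkd
    refine Nat.dvd_one.mp ?_
    have h1 : a.gcd k ∣ a - 1 := (Nat.gcd_dvd_right a k).trans ⟨m, hm⟩
    have h2 := Nat.gcd_dvd_left a k
    have := Nat.dvd_sub h2 h1
    rwa [show a - (a - 1) = 1 by omega] at this
  have hmod : k * (q * u) ≡ k * 1 [MOD a] := by
    refine ((Nat.modEq_iff_dvd' (by nlinarith)).mpr ?_).symm
    rwa [show k * (q * u) - k * 1 = (orb ⊤ y \ (A : Set G)).ncard by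
      rw [mul_one, mul_comm q u, ← mul_assoc]; omega]
  exact Nat.ModEq.cancel_left_of_coprime hcop hmod

/-- The pure free elements fall into orbits of items. -/
theorem pure_items (hone : OneClass G) (hbad : ∀ y ∈ pureF z,
    Nat.gcd (Nat.card ↥(Subgroup.centralizer ({y} : Set G))) 30 = 1) (F : Set G) (hF : F ⊆ pureF z)
    (hinv : ∀ c : G, c * z = z * c → ∀ y ∈ F, c * y * c⁻¹ ∈ F)
    (hcl : ∀ y ∈ F, ∀ a, a * y = y * a → a ≠ 1 → a ∈ F) :
    ∃ L : List (Bool × ℕ × ℕ), Arith.total L = F.ncard ∧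
      L.Pairwise (fun i j => Nat.gcd i.2.1 j.2.1 = 1) ∧
      ∀ i ∈ L, i.1 = false ∧ 7 ≤ i.2.1 ∧ i.2.1 % 2 = 1 ∧ i.2.2 ∈ Arith.mults false ∧
        i.2.2 * (i.2.1 - 1) % 1920 = 0 ∧ Arith.congr {v : G | v * v = 1 ∧ v ≠ 1}.ncard false i.2.1 i.2.2 = true ∧
        ∃ y ∈ F, i.2.1 = Nat.card ↥(Subgroup.centralizer ({y} : Set G)) := by
  induction hn : F.ncard using Nat.strong_induction_on generalizing F with
  | _ n ih =>
    rcases Set.eq_empty_or_nonempty F with rfl | ⟨y, hy⟩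
    · exact ⟨[], by rw [← hn, Set.ncard_empty]; rfl, List.Pairwise.nil, by simp⟩
    set A := Subgroup.centralizer ({y} : Set G) with hAdef
    have hA := h.pure_selfCent (hF hy)
    obtain ⟨hAo, hAi⟩ := h.free_cent (hF hy).1
    have hyA : y ∈ A := mem_cent.mpr rfl
    have hy1 : y ≠ 1 := (hF hy).1.1.1
    have hA1 : A ≠ ⊥ := fun e => hy1 (Subgroup.mem_bot.mp (e ▸ hyA))
    obtain ⟨u, hu, h7, h1920, hcg, hU⟩ := h.selfCent_item hone hA hAi hAo (hbad y (hF hy)) hA1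
    set H := Subgroup.centralizer ({z} : Set G) with hH
    set U := conjUnion H ((A : Set G) \ {1}) with hUdef
    have hUF : U ⊆ F := by
      rintro x ⟨c, hc, hm, hm1⟩
      have := hinv c (mem_cent.mp hc) _ (hcl y hy _ (mem_cent.mp hm) hm1)
      rwa [show c * (c⁻¹ * x * c) * c⁻¹ = x by group] at this
    have hyU : y ∈ U := ⟨1, one_mem _, by
      rw [inv_one, one_mul, mul_one]
      exact ⟨hyA, hy1⟩⟩
    have hcard := Set.ncard_sdiff hUF
    have hle := Set.ncard_le_ncard hUF (Set.toFinite _)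
    have hpos : 0 < U.ncard := (Set.ncard_pos (Set.toFinite _)).mpr ⟨y, hyU⟩
    have hinv' : ∀ c : G, c * z = z * c → ∀ x ∈ F \ U, c * x * c⁻¹ ∈ F \ U := by
      rintro c hc x ⟨hx, hxU⟩
      refine ⟨hinv c hc x hx, fun hm => hxU ?_⟩
      have := conjUnion_conj (inv_mem (mem_cent.mpr hc)) hm
      simpa [mul_assoc] using this
    have hcl' : ∀ x ∈ F \ U, ∀ a, a * x = x * a → a ≠ 1 → a ∈ F \ U := by
      rintro x ⟨hx, hxU⟩ a ha ha1
      refine ⟨hcl x hx a ha ha1, fun hm => hxU ?_⟩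
      obtain ⟨c, hc, hm1, hm2⟩ := hm
      refine ⟨c, hc, ?_, fun e => (hF hx).1.1.1 ?_⟩
      · refine hA.mem_of_comm hm1 hm2 ?_
        have := conj_comm (g := c⁻¹) ha
        rw [inv_inv] at this
        exact this.symm
      · rw [show x = c * (c⁻¹ * x * c) * c⁻¹ by group, Set.mem_singleton_iff.mp e]
        group
    obtain ⟨L, hL, hLp, hLi⟩ := ih (F \ U).ncard (by omega) (F \ U) (fun x hx => hF hx.1) hinv' hcl' rfl
    refine ⟨(false, Nat.card ↥A, u) :: L, ?_, List.pairwise_cons.mpr ⟨fun i hi => ?_, hLp⟩, fun i hi => ?_⟩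
    · rw [Arith.total_cons, hL]
      show u * (Nat.card ↥A - 1) + (F \ U).ncard = n
      have hUA : U.ncard = u * (Nat.card ↥A - 1) := hU
      generalize u * (Nat.card ↥A - 1) = m at hUA ⊢
      omega
    · obtain ⟨-, -, -, -, -, -, y', hy', e⟩ := hLi i hi
      show Nat.gcd (Nat.card ↥A) i.2.1 = 1
      by_contra hne
      obtain ⟨q, hq, hqA, hqB⟩ := Nat.Prime.not_coprime_iff_dvd.mp hne
      haveI : Fact q.Prime := ⟨hq⟩
      rw [e] at hqB
      obtain ⟨hBo, hBi⟩ := h.free_cent (hF hy'.1).1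
      obtain ⟨c, hc, hiff⟩ := hA.conj_of_share (h.pure_selfCent (hF hy'.1)) h.zz hAi hBi hBo hqA hqB
      have hc' : c ∈ H := mem_cent.mpr hc
      refine hy'.2 ⟨c, hc', (hiff _).mpr ?_, fun e => (hF hy'.1).1.1.1 ?_⟩
      · rw [show c * (c⁻¹ * y' * c) * c⁻¹ = y' by group]
        exact mem_cent.mpr rfl
      · rw [show y' = c * (c⁻¹ * y' * c) * c⁻¹ by group, Set.mem_singleton_iff.mp e]
        group
    · rcases List.mem_cons.mp hi with rfl | hi
      · exact ⟨rfl, h7, Nat.odd_iff.mp hAo, hu, h1920, hcg, y, hy, rfl⟩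
      · obtain ⟨h1, h2, h3, h4, h5, h6, y', hy', e⟩ := hLi i hi
        exact ⟨h1, h2, h3, h4, h5, h6, y', hy'.1, e⟩

end JT

end CfsgLib.J3Type
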