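import Cfsg.Agent.Lib.HallJankoType.Setup

/-!
Groups of `J₃` type: the centralizer of the involution, following `HallJankoType.Setup` without the hypothesis of two
classes of involutions.
-/

set_option autoImplicit false
set_option linter.unusedSectionVars false

namespace CfsgLib.J3Type

open Cfsg CfsgLargeExtra Equiv
open CfsgLib.HallJankoType (orb mem_cent conj_fix_iff ncard_orb)

universe u

variable {G : Type u} [Group G]

/-- The data of an involution centralizer `2^{1+4}.A5`: `pm` is the action of `C(z)` on five points. -/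
structure JT (z : G) (Q : Subgroup G) (pm : G → Perm (Fin 5)) : Prop where
  es : ES Q z
  card : Nat.card Q = 32
  pm_mul : ∀ a b : G, a * z = z * a → b * z = z * b → pm (a * b) = pm a * pm b
  pm_sign : ∀ a : G, a * z = z * a → Perm.sign (pm a) = 1
  pm_surj : ∀ σ : Perm (Fin 5), Perm.sign σ = 1 → ∃ a : G, a * z = z * a ∧ pm a = σ
  pm_ker : ∀ a : G, a * z = z * a → (pm a = 1 ↔ a ∈ Q)
  fused : ∃ g : G, g * z * g⁻¹ ∈ Q ∧ g * z * g⁻¹ ≠ z

variable {z : G} {Q : Subgroup G} {pm : G → Perm (Fin 5)}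

namespace JT

variable (h : JT z Q pm)
include h

theorem zz : z * z = 1 := h.es.zz

theorem hz : orderOf z = 2 := orderOf_eq_prime (by rw [pow_two, h.zz]) h.es.ne

theorem pm_one : pm 1 = 1 := (h.pm_ker 1 (by simp)).mpr (one_mem _)

theorem pm_z : pm z = 1 := (h.pm_ker z rfl).mpr h.es.mem

theorem pm_Q {q : G} (hq : q ∈ Q) : pm q = 1 := (h.pm_ker q (h.es.comm q hq)).mpr hq

theorem pm_inv {a : G} (ha : a * z = z * a) : pm a⁻¹ = (pm a)⁻¹ := by
  refine eq_inv_of_mul_eq_one_left ?_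
  rw [← h.pm_mul _ _ (Commute.inv_left ha) ha, inv_mul_cancel, h.pm_one]

theorem pm_conj {c a : G} (hc : c * z = z * c) (ha : a * z = z * a) :
    pm (c * a * c⁻¹) = pm c * pm a * (pm c)⁻¹ := by
  rw [h.pm_mul _ _ (Commute.mul_left hc ha) (Commute.inv_left hc), h.pm_mul _ _ hc ha, h.pm_inv hc]

theorem pm_pow {a : G} (ha : a * z = z * a) (n : ℕ) : pm (a ^ n) = pm a ^ n := by
  induction n with
  | zero => simp [h.pm_one]
  | succ n ih => rw [pow_succ, pow_succ, h.pm_mul _ _ (Commute.pow_left ha n) ha, ih]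

theorem nor_mem {c q : G} (hc : c * z = z * c) (hq : q ∈ Q) : c * q * c⁻¹ ∈ Q := h.es.nor c hc q hq

theorem nor_mem_iff {c q : G} (hc : c * z = z * c) : c * q * c⁻¹ ∈ Q ↔ q ∈ Q := by
  refine ⟨fun hm => ?_, h.nor_mem hc⟩
  have := h.nor_mem (Commute.inv_left hc) hm
  simpa [mul_assoc] using this

variable [Finite G]

theorem card_C : Nat.card ↥(Subgroup.centralizer ({z} : Set G)) = 1920 := by
  classical
  let φ : ↥(Subgroup.centralizer ({z} : Set G)) →* Perm (Fin 5) :=
    MonoidHom.mk' (fun a => pm a) fun a b => h.pm_mul _ _ (mem_cent.mp a.2) (mem_cent.mp b.2)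
  have hr : φ.range = alternatingGroup (Fin 5) := by
    ext σ
    rw [Perm.mem_alternatingGroup]
    constructor
    · rintro ⟨a, rfl⟩
      exact h.pm_sign _ (mem_cent.mp a.2)
    · intro hs
      obtain ⟨a, ha, rfl⟩ := h.pm_surj σ hs
      exact ⟨⟨a, mem_cent.mpr ha⟩, rfl⟩
  have hk : Nat.card φ.ker = 32 := by
    rw [← h.card]
    exact Nat.card_congr
      { toFun := fun a => ⟨(a.1 : G), (h.pm_ker _ (mem_cent.mp a.1.2)).mp a.2⟩
        invFun := fun q => ⟨⟨q.1, mem_cent.mpr (h.es.comm _ q.2)⟩, h.pm_Q q.2⟩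
        left_inv := fun a => rfl
        right_inv := fun q => rfl }
  rw [← Subgroup.card_mul_index φ.ker, Subgroup.index_ker, hk, hr,
    show Nat.card (alternatingGroup (Fin 5)) = 60 by rw [Nat.card_eq_fintype_card]; rfl]

theorem Q_le : Q ≤ Subgroup.centralizer ({z} : Set G) := fun q hq => mem_cent.mpr (h.es.comm q hq)

/-- An element of order five centralising `z`. -/
theorem exists_five : ∃ f : G, f * z = z * f ∧ orderOf f = 5 ∧ f ∉ Q := by
  haveI : Fact (Nat.Prime 5) := ⟨by norm_num⟩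
  obtain ⟨⟨f, hf⟩, ho⟩ := exists_prime_orderOf_dvd_card'
    (G := ↥(Subgroup.centralizer ({z} : Set G))) 5 (by rw [h.card_C]; norm_num)
  rw [Subgroup.orderOf_mk] at ho
  refine ⟨f, mem_cent.mp hf, ho, fun hq => ?_⟩
  have := Subgroup.orderOf_dvd_natCard Q hq
  rw [ho, h.card] at this
  norm_num at this

/-- The noncentral involutions of `Q`. -/
def S (_h : JT z Q pm) : Set G := {p | p ∈ Q ∧ p * p = 1 ∧ p ≠ 1 ∧ p ≠ z}

theorem S_conj {c p : G} (hc : c * z = z * c) (hp : p ∈ h.S) : c * p * c⁻¹ ∈ h.S := by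
  obtain ⟨hq, hpp, h1, hpz⟩ := hp
  refine ⟨h.nor_mem hc hq, ?_, fun e => h1 (conj_eq_one_iff.mp e), fun e => hpz ?_⟩
  · rw [show c * p * c⁻¹ * (c * p * c⁻¹) = c * (p * p) * c⁻¹ by group, hpp]; group
  · calc p = c⁻¹ * (c * p * c⁻¹) * c := by group
      _ = c⁻¹ * z * c := by rw [e]
      _ = z := by rw [mul_assoc, ← hc, inv_mul_cancel_left]

theorem five_fix {f q : G} (hf : f * z = z * f) (ho : orderOf f = 5) (hfQ : f ∉ Q) (hq : q ∈ Q)
    (hfq : f * q = q * f) : q = 1 ∨ q = z := by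
  haveI : Fact (Nat.Prime 5) := ⟨by norm_num⟩
  set F := Subgroup.zpowers f with hFdef
  have hFz : ∀ g ∈ F, g * z = z * g := fun g hg => by
    obtain ⟨k, rfl⟩ := Subgroup.mem_zpowers_iff.mp hg
    exact Commute.zpow_left hf k
  letI : MulAction ↥F ↥Q :=
    { smul := fun g p => ⟨(g : G) * p * (g : G)⁻¹, h.nor_mem (hFz _ g.2) p.2⟩
      one_smul := fun p => Subtype.ext (show ((1 : ↥F) : G) * (p : G) * ((1 : ↥F) : G)⁻¹ = p by simp)
      mul_smul := fun a b p => Subtype.ext (show ((a * b : ↥F) : G) * (p : G) * ((a * b : ↥F) : G)⁻¹ =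
        (a : G) * ((b : G) * p * (b : G)⁻¹) * (a : G)⁻¹ by simp [mul_assoc]) }
  have hP : IsPGroup 5 ↥F := IsPGroup.of_card (n := 1) (by rw [Nat.card_zpowers, ho, pow_one])
  have hmod := hP.card_modEq_card_fixedPoints ↥Q
  set P := Q ⊓ Subgroup.centralizer ({f} : Set G)
  have hfix : Nat.card (MulAction.fixedPoints ↥F ↥Q) = Nat.card ↥P := by
    refine Nat.card_congr
      { toFun := fun p => ⟨(p.1 : G), p.1.2, mem_cent.mpr ?_⟩
        invFun := fun p => ⟨⟨p.1, p.2.1⟩, fun g => Subtype.ext ?_⟩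
        left_inv := fun p => rfl
        right_inv := fun p => rfl }
    · have := congrArg Subtype.val (p.2 ⟨f, Subgroup.mem_zpowers f⟩)
      exact (conj_fix_iff.mp this).symm
    · obtain ⟨k, hk⟩ := Subgroup.mem_zpowers_iff.mp g.2
      show (g : G) * p.1 * (g : G)⁻¹ = p.1
      rw [← hk, conj_fix_iff]
      exact (Commute.zpow_left (mem_cent.mp p.2.2).symm k)
  rw [hfix, h.card] at hmod
  have hdvd : Nat.card ↥P ∣ 32 := h.card ▸ Subgroup.card_dvd_of_le inf_le_left
  have hlt : Nat.card ↥P ≠ 32 := fun e => by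
    have hPQ : P = Q := Subgroup.eq_of_le_of_card_ge inf_le_left (by rw [e, h.card])
    have hall : ∀ p ∈ Q, f * p = p * f := fun p hp => (mem_cent.mp (hPQ ▸ hp : p ∈ P).2).symm
    rcases h.es.cen f hall with e | e
    · rw [e, orderOf_one] at ho; omega
    · exact hfQ (e ▸ h.es.mem)
  have hle : Nat.card ↥P ≤ 2 := by
    have h16 : Nat.card ↥P ≤ 32 := Nat.le_of_dvd (by norm_num) hdvd
    rcases (Nat.dvd_prime_pow Nat.prime_two).mp (show Nat.card ↥P ∣ 2 ^ 5 from hdvd) with ⟨i, hi, e⟩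
    unfold Nat.ModEq at hmod
    rw [e] at hmod hlt ⊢
    interval_cases i <;> simp_all
  by_contra hne
  rw [not_or] at hne
  have h1 : ({1, z, q} : Set G) ⊆ (P : Set G) := by
    rintro w (rfl | rfl | rfl)
    · exact one_mem _
    · exact ⟨h.es.mem, mem_cent.mpr hf.symm⟩
    · exact ⟨hq, mem_cent.mpr hfq.symm⟩
  have h2 := Set.ncard_le_ncard h1 (Set.toFinite _)
  rw [← Nat.card_coe_set_eq (P : Set G), Set.ncard_eq_three.mpr
    ⟨1, z, q, h.es.ne.symm, Ne.symm hne.1, Ne.symm hne.2, rfl⟩] at h2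
  exact absurd (h2.trans hle) (by norm_num)

theorem five_shift {f p : G} (hf : f * z = z * f) (ho : orderOf f = 5) (hfQ : f ∉ Q) (hp : p ∈ h.S) {i : ℤ}
    (hi : f ^ i * p * (f ^ i)⁻¹ = p ∨ f ^ i * p * (f ^ i)⁻¹ = p * z) : f ^ i = 1 := by
  by_contra hne
  have h5 : ¬ (5 : ℤ) ∣ i := fun hd => hne (orderOf_dvd_iff_zpow_eq_one.mp (by rw [ho]; exact_mod_cast hd))
  have hfix : ∀ g : G, g * p = p * g → (∃ k : ℤ, g ^ k = f) → False := by
    rintro g hg ⟨k, hk⟩
    have hgf : f * p = p * f := hk ▸ Commute.zpow_left hg k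
    rcases h.five_fix hf ho hfQ hp.1 hgf with e | e
    · exact hp.2.2.1 e
    · exact hp.2.2.2 e
  have hi2 : f ^ (2 * i) * p * (f ^ (2 * i))⁻¹ = p := by
    have e2 : f ^ (2 * i) * p * (f ^ (2 * i))⁻¹ = f ^ i * (f ^ i * p * (f ^ i)⁻¹) * (f ^ i)⁻¹ := by
      rw [two_mul, zpow_add, mul_inv_rev]; group
    rw [e2]
    rcases hi with e | e <;> rw [e]
    · exact e
    · rw [show f ^ i * (p * z) * (f ^ i)⁻¹ = (f ^ i * p * (f ^ i)⁻¹) * (f ^ i * z * (f ^ i)⁻¹) by group, e,
        (Commute.zpow_left hf i).eq, mul_inv_cancel_right, mul_assoc, h.zz, mul_one]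
  have hcop : IsCoprime (2 * i) 5 := by
    refine (Prime.coprime_iff_not_dvd (by norm_num : Prime (5 : ℤ))).mpr ?_ |>.symm
    intro hd
    rcases ((by norm_num : Prime (5 : ℤ)).dvd_mul.mp hd) with hd | hd
    · norm_num at hd
    · exact h5 hd
  obtain ⟨a, b, hab⟩ := hcop
  refine hfix (f ^ (2 * i)) (conj_fix_iff.mp hi2) ⟨a, ?_⟩
  rw [← zpow_mul, show 2 * i * a = 1 + (-b) * 5 by linarith, zpow_add, zpow_one, mul_comm (-b), zpow_mul,
    show f ^ (5 : ℤ) = 1 by rw [← orderOf_dvd_iff_zpow_eq_one, ho]; norm_num, one_zpow, mul_one]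

theorem root_count : CfsgLib.ExtraTwo.rootCount ↥Q = h.S.ncard + 2 := by
  classical
  have e : Nat.card {q : ↥Q // q * q = 1} = ({q : G | q ∈ Q ∧ q * q = 1}).ncard := by
    rw [← Nat.card_coe_set_eq]
    exact Nat.card_congr
      { toFun := fun q => ⟨(q.1 : G), q.1.2, congrArg Subtype.val q.2⟩
        invFun := fun q => ⟨⟨q.1, q.2.1⟩, Subtype.ext q.2.2⟩
        left_inv := fun q => rfl
        right_inv := fun q => rfl }
  have hu : {q : G | q ∈ Q ∧ q * q = 1} = insert 1 (insert z h.S) := by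
    ext q
    simp only [Set.mem_ofPred_eq, Set.mem_insert_iff]
    constructor
    · rintro ⟨hq, hqq⟩
      by_cases h1 : q = 1
      · exact Or.inl h1
      by_cases h2 : q = z
      · exact Or.inr (Or.inl h2)
      exact Or.inr (Or.inr ⟨hq, hqq, h1, h2⟩)
    · rintro (rfl | rfl | hs)
      · exact ⟨one_mem _, mul_one 1⟩
      · exact ⟨h.es.mem, h.zz⟩
      · exact ⟨hs.1, hs.2.1⟩
  unfold CfsgLib.ExtraTwo.rootCount
  rw [e, hu, Set.ncard_insert_of_notMem, Set.ncard_insert_of_notMem]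
  · exact fun hs => hs.2.2.2 rfl
  · rintro (e | hs)
    · exact h.es.ne e.symm
    · exact hs.2.2.1 rfl

theorem ncard_S : h.S.ncard = 10 := by
  classical
  obtain ⟨n, hn, hcase⟩ := CfsgLib.ExtraTwo.invariants _ ↥Q _ rfl h.es.toExt
  rw [h.card] at hn
  have hn2 : n = 2 := by
    have : 2 ^ 5 = 2 ^ (2 * n + 1) := hn
    have := Nat.pow_right_injective le_rfl this
    omega
  subst hn2
  have hroot := h.root_count
  obtain ⟨f, hf, ho, hfQ⟩ := h.exists_five
  haveI : Fact (Nat.Prime 5) := ⟨by norm_num⟩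
  set F := Subgroup.zpowers f with hFdef
  have hFz : ∀ g ∈ F, g * z = z * g := fun g hg => by
    obtain ⟨k, rfl⟩ := Subgroup.mem_zpowers_iff.mp hg
    exact Commute.zpow_left hf k
  letI : MulAction ↥F ↥h.S :=
    { smul := fun g p => ⟨(g : G) * p * (g : G)⁻¹, h.S_conj (hFz _ g.2) p.2⟩
      one_smul := fun p => Subtype.ext (show ((1 : ↥F) : G) * (p : G) * ((1 : ↥F) : G)⁻¹ = p by simp)
      mul_smul := fun a b p => Subtype.ext (show ((a * b : ↥F) : G) * (p : G) * ((a * b : ↥F) : G)⁻¹ =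
        (a : G) * ((b : G) * p * (b : G)⁻¹) * (a : G)⁻¹ by simp [mul_assoc]) }
  have hP : IsPGroup 5 ↥F := IsPGroup.of_card (n := 1) (by rw [Nat.card_zpowers, ho, pow_one])
  have hmod := hP.card_modEq_card_fixedPoints ↥h.S
  have hempty : Nat.card ↥(MulAction.fixedPoints ↥F ↥h.S) = 0 := by
    rw [Nat.card_eq_zero]
    refine Or.inl ⟨fun p => ?_⟩
    have e1 := congrArg Subtype.val (p.2 ⟨f, Subgroup.mem_zpowers f⟩)
    rcases h.five_fix hf ho hfQ p.1.2.1 (conj_fix_iff.mp e1) with e | e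
    · exact p.1.2.2.2.1 e
    · exact p.1.2.2.2.2 e
  rw [hempty, Nat.card_coe_set_eq] at hmod
  unfold Nat.ModEq at hmod
  rcases hcase with ⟨e, -⟩ | ⟨-, e, -⟩ <;> rw [hroot] at e <;> norm_num at e <;> omega

/-- Commuting involutions of `Q` differ by `z`. -/
theorem ea {x p : G} (hx : x ∈ h.S) (hp : p ∈ Q) (hpp : p * p = 1) (hc : p * x = x * p) :
    p = 1 ∨ p = z ∨ p = x ∨ p = z * x := by
  classical
  by_contra hne
  set U := fourGroup z x h.zz hx.2.1 (h.es.comm x hx.1).symm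
  set A := U ⊔ Subgroup.zpowers p with hAdef
  have hUQ : U ≤ Q := by
    rintro y (rfl | rfl | rfl | rfl)
    exacts [one_mem _, h.es.mem, hx.1, mul_mem h.es.mem hx.1]
  have hAQ : A ≤ Q := sup_le hUQ (Subgroup.zpowers_le.mpr hp)
  have hgen : A = Subgroup.closure ({z, x, p} : Set G) := by
    refine le_antisymm (sup_le ?_ (Subgroup.zpowers_le.mpr (Subgroup.subset_closure (by simp)))) ?_
    · have mz : z ∈ Subgroup.closure ({z, x, p} : Set G) := Subgroup.subset_closure (by simp)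
      have mx : x ∈ Subgroup.closure ({z, x, p} : Set G) := Subgroup.subset_closure (by simp)
      rintro y (rfl | rfl | rfl | rfl)
      exacts [one_mem _, mz, mx, mul_mem mz mx]
    · rw [Subgroup.closure_le]
      rintro y (rfl | rfl | rfl)
      exacts [Subgroup.mem_sup_left (Or.inr (Or.inl rfl)), Subgroup.mem_sup_left (Or.inr (Or.inr (Or.inl rfl))),
        Subgroup.mem_sup_right (Subgroup.mem_zpowers _)]
  have hzx := h.es.comm x hx.1
  have hzp := h.es.comm p hp
  have hcomm : IsMulCommutative ↥A := by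
    rw [hgen]
    refine Subgroup.isMulCommutative_closure ?_
    rintro a (rfl | rfl | rfl) b (rfl | rfl | rfl)
    exacts [rfl, hzx.symm, hzp.symm, hzx, rfl, hc.symm, hzp, hc, rfl]
  let P2 : Subgroup G :=
    { carrier := {a | a ∈ A ∧ a * a = 1}
      one_mem' := ⟨one_mem _, mul_one 1⟩
      mul_mem' := by
        rintro a b ⟨ha, ha2⟩ ⟨hb, hb2⟩
        have hab : a * b = b * a := congrArg Subtype.val (hcomm.is_comm.comm ⟨a, ha⟩ ⟨b, hb⟩)
        refine ⟨mul_mem ha hb, ?_⟩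
        calc a * b * (a * b) = a * (b * a) * b := by group
          _ = a * (a * b) * b := by rw [hab]
          _ = a * a * (b * b) := by group
          _ = 1 := by rw [ha2, hb2, mul_one]
      inv_mem' := by
        rintro a ⟨ha, ha2⟩
        refine ⟨inv_mem ha, ?_⟩
        rw [← mul_inv_rev, ha2, inv_one] }
  have h2 : A ≤ P2 := by
    conv_lhs => rw [hgen]
    rw [Subgroup.closure_le]
    have mem : ∀ y ∈ ({z, x, p} : Set G), y ∈ A := fun y hy => hgen ▸ Subgroup.subset_closure hy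
    rintro y (rfl | rfl | rfl)
    exacts [⟨mem _ (by simp), h.zz⟩, ⟨mem _ (by simp), hx.2.1⟩, ⟨mem _ (by simp), hpp⟩]
  have hcAQ : Nat.card ↥(A.subgroupOf Q) = Nat.card ↥A :=
    Nat.card_congr (Subgroup.subgroupOfEquivOfLe hAQ).toEquiv
  have hcom' : IsMulCommutative ↥(A.subgroupOf Q) :=
    ⟨⟨fun a b => Subtype.ext (Subtype.ext (show ((a : ↥Q) : G) * ((b : ↥Q) : G) = ((b : ↥Q) : G) * ((a : ↥Q) : G) from congrArg Subtype.val (hcomm.is_comm.comm ⟨_, a.2⟩ ⟨_, b.2⟩)))⟩⟩
  obtain ⟨hle, heq⟩ := CfsgLib.ExtraTwo.card_elementary_le (n := 2) h.es.toExt (by rw [h.card]; rfl) hcom'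
    (fun a ha => Subtype.ext (by rw [pow_two]; exact (h2 ha).2))
  have hU4 : Nat.card ↥U = 4 := by
    have : (U : Set G) = {1, z, x, z * x} := by
      ext y; exact Iff.rfl
    rw [show Nat.card ↥U = (U : Set G).ncard from Nat.card_coe_set_eq (U : Set G), this, Set.ncard_insert_of_notMem, Set.ncard_insert_of_notMem, Set.ncard_pair]
    · exact fun e => h.es.ne (mul_eq_right.mp e.symm)
    · rintro (e | e)
      · exact hx.2.2.2 e.symm
      · exact hx.2.2.1 (mul_eq_left.mp e.symm)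
    · rintro (e | e | e)
      · exact h.es.ne e.symm
      · exact hx.2.2.1 e.symm
      · exact hx.2.2.2 (inv_eq_of_mul_eq_one_right e.symm ▸ inv_eq_of_mul_eq_one_right h.zz)
  have hdvd : 4 ∣ Nat.card ↥A := hU4 ▸ Subgroup.card_dvd_of_le le_sup_left
  have hne4 : Nat.card ↥A ≠ 4 := fun e => hne (by
    have : U = A := Subgroup.eq_of_le_of_card_ge le_sup_left (by rw [e, hU4])
    have hpU : p ∈ U := this ▸ Subgroup.mem_sup_right (Subgroup.mem_zpowers p)
    exact hpU)
  have hpos : 0 < Nat.card ↥A := Nat.card_pos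
  have h8 : Nat.card ↥A = 8 := by
    rw [hcAQ] at hle
    norm_num at hle
    omega
  have hr := heq (by rw [hcAQ, h8]; rfl)
  rw [h.root_count, h.ncard_S] at hr
  norm_num at hr

/-- `C(z)` is transitive on the noncentral involutions of `Q`. -/
theorem trans_S {x p : G} (hx : x ∈ h.S) (hp : p ∈ h.S) : ∃ c : G, c * z = z * c ∧ c * x * c⁻¹ = p := by
  classical
  obtain ⟨q, hq, hqx⟩ : ∃ q ∈ Q, q * x * q⁻¹ = x * z := by
    by_contra hall
    push Not at hall
    rcases h.es.cen x fun q hq => by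
        rcases h.es.conj_cases hq hx.1 with e | e
        · exact (conj_fix_iff.mp e).symm
        · exact absurd e (hall q hq) with e | e
    · exact hx.2.2.1 e
    · exact hx.2.2.2 e
  obtain ⟨f, hf, ho, hfQ⟩ := h.exists_five
  have hqz : q * z = z * q := h.es.comm q hq
  let φ : Fin 5 × Bool → G := fun t => f ^ (t.1 : ℤ) * (if t.2 then x * z else x) * (f ^ (t.1 : ℤ))⁻¹
  have hφ : ∀ t, φ t ∈ h.S := by
    rintro ⟨i, b⟩
    refine h.S_conj (Commute.zpow_left hf _) ?_
    show (if b then x * z else x) ∈ h.S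
    cases b
    · exact hx
    · simp only [↓reduceIte]
      rw [← hqx]
      exact h.S_conj hqz hx
  have hinj : Function.Injective φ := by
    rintro ⟨i, b⟩ ⟨j, c⟩ e
    have e' : f ^ ((i : ℤ) - (j : ℤ)) * (if b then x * z else x) * (f ^ ((i : ℤ) - (j : ℤ)))⁻¹ =
        (if c then x * z else x) := by
      have := congrArg (fun w => (f ^ (j : ℤ))⁻¹ * w * f ^ (j : ℤ)) e
      simp only [φ] at this
      rw [show (f ^ (j : ℤ))⁻¹ * (f ^ (j : ℤ) * (if c then x * z else x) * (f ^ (j : ℤ))⁻¹) * f ^ (j : ℤ) =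
        (if c then x * z else x) by group] at this
      rw [← this, sub_eq_neg_add, zpow_add, zpow_neg]
      group
    have hb : (if b then x * z else x) ∈ h.S := by
      cases b
      · exact hx
      · simp only [↓reduceIte]; rw [← hqx]; exact h.S_conj hqz hx
    have hzz' : x * z * z = x := by rw [mul_assoc, h.zz, mul_one]
    have hk := h.five_shift hf ho hfQ hb (i := (i : ℤ) - (j : ℤ)) (by
      rw [e']
      cases b <;> cases c <;> simp [hzz'])
    rw [hk] at e'
    simp only [one_mul, inv_one, mul_one] at e'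
    have hbc : b = c := by
      have hxz : x * z ≠ x := fun h' => h.es.ne (mul_eq_left.mp h')
      cases b <;> cases c <;> simp_all
    have hij : (i : ℤ) = j := by
      have := orderOf_dvd_iff_zpow_eq_one.mpr hk
      rw [ho] at this
      have hi := i.isLt
      have hj := j.isLt
      omega
    exact Prod.ext (Fin.ext (by exact_mod_cast hij)) hbc
  have himage : Finset.univ.image φ = (Set.toFinite h.S).toFinset := by
    refine Finset.eq_of_subset_of_card_le ?_ ?_
    · intro y hy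
      obtain ⟨t, -, rfl⟩ := Finset.mem_image.mp hy
      exact (Set.Finite.mem_toFinset _).mpr (hφ t)
    · rw [Finset.card_image_of_injective _ hinj, ← Set.ncard_eq_toFinset_card _ _, h.ncard_S]
      rfl
  obtain ⟨⟨i, b⟩, -, e⟩ := Finset.mem_image.mp (himage ▸ (Set.Finite.mem_toFinset _).mpr hp)
  cases b
  · exact ⟨_, Commute.zpow_left hf _, e⟩
  · refine ⟨f ^ (i : ℤ) * q, Commute.mul_left (Commute.zpow_left hf _) hqz, ?_⟩
    rw [← e, show f ^ (i : ℤ) * q * x * (f ^ (i : ℤ) * q)⁻¹ = f ^ (i : ℤ) * (q * x * q⁻¹) * (f ^ (i : ℤ))⁻¹ by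
      group, hqx]
    rfl

theorem isConj_S {p : G} (hp : p ∈ h.S) : IsConj z p := by
  obtain ⟨g, hg, hne⟩ := h.fused
  have hx : g * z * g⁻¹ ∈ h.S := ⟨hg,
    by rw [show g * z * g⁻¹ * (g * z * g⁻¹) = g * (z * z) * g⁻¹ by group, h.zz]; group,
    fun e => h.es.ne (conj_eq_one_iff.mp e), hne⟩
  obtain ⟨c, -, hcp⟩ := h.trans_S hx hp
  exact (isConj_iff.mpr ⟨g, rfl⟩).trans (isConj_iff.mpr ⟨c, hcp⟩)

theorem orb_S {x : G} (hx : x ∈ h.S) : orb (Subgroup.centralizer ({z} : Set G)) x = h.S := by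
  ext p
  refine ⟨fun ⟨c, hc, e⟩ => e ▸ h.S_conj (mem_cent.mp hc) hx, fun hp => ?_⟩
  obtain ⟨c, hc, e⟩ := h.trans_S hx hp
  exact ⟨c, mem_cent.mpr hc, e⟩

theorem card_cent_S {x : G} (hx : x ∈ h.S) :
    Nat.card ↥(Subgroup.centralizer ({z} : Set G) ⊓ Subgroup.centralizer ({x} : Set G)) = 192 := by
  have e := ncard_orb (Subgroup.centralizer ({z} : Set G)) x
  rw [h.orb_S hx, h.ncard_S, h.card_C] at e
  omega

theorem card_QS {x : G} (hx : x ∈ h.S) : Nat.card ↥(Q ⊓ Subgroup.centralizer ({x} : Set G)) = 16 := by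
  have e := ncard_orb Q x
  have ho : orb Q x = {x, x * z} := by
    ext p
    refine ⟨?_, ?_⟩
    · rintro ⟨q, hq, rfl⟩
      exact h.es.conj_cases hq hx.1
    · rintro (rfl | rfl)
      · exact ⟨1, one_mem _, by simp⟩
      · by_contra hno
        rcases h.es.cen x fun q hq => by
            rcases h.es.conj_cases hq hx.1 with e | e
            · exact (conj_fix_iff.mp e).symm
            · exact absurd ⟨q, hq, e⟩ hno with e | e
        · exact hx.2.2.1 e
        · exact hx.2.2.2 e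
  rw [ho, Set.ncard_pair fun e => h.es.ne (mul_eq_left.mp e.symm), h.card] at e
  omega

end JT

end CfsgLib.J3Type
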