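import Cfsg.Agent.Lib.HallJankoType.FromSimple
import Cfsg.Agent.Lib.J3Type.Setup
import Cfsg.Agent.Lib.J3Type.Count

/-!
Groups of `J₃` type from a simple group with an involution centralizer of shape `2^{1+4}.A5`.
-/

set_option autoImplicit false
set_option linter.unusedSectionVars false
set_option maxRecDepth 100000
set_option maxHeartbeats 1600000

namespace CfsgLib.J3Type

open Cfsg CfsgLargeExtra Equiv
open CfsgLib.HallJankoType (orb mem_cent conj_fix_iff ncard_orb coset_class cent_conj conj_sq)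
open scoped Pointwise commutatorElement

universe u

theorem a5_four' : ∀ a : alternatingGroup (Fin 5), a ^ 4 = 1 → a * a = 1 := by decide +kernel

theorem a5_two_comm : ∀ a b : alternatingGroup (Fin 5), a * a = 1 → b * b = 1 → a * b * (a * b) = 1 →
    a * b = b * a := by decide +kernel

variable {G : Type u} [Group G] [Finite G]

/-- In an extraspecial group of order 32 every element commutes with two noncommuting ones. -/
theorem exists_noncomm_in_cent {E : Type*} [Group E] [Finite E] {w : E} (h : CfsgLib.ExtraTwo.Ext2 E w)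
    (hcard : Nat.card E = 32) (e : E) : ∃ a b : E, a * e = e * a ∧ b * e = e * b ∧ ⁅a, b⁆ = w := by
  by_contra hno
  push Not at hno
  have hzc := h.z_comm e
  have hee : e * e = 1 ∨ e * e = w := h.sq e
  let A : Subgroup E :=
    { carrier := {a | a = 1 ∨ a = w ∨ a = e ∨ a = e * w}
      one_mem' := Or.inl rfl
      mul_mem' := fun {a b} ha hb => by
        have hww := h.zz
        have hwe : w * e = e * w := hzc.eq.symm
        have hwew : w * (e * w) = e := by rw [← mul_assoc, hwe, mul_assoc, hww, mul_one]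
        have heww : e * w * w = e := by rw [mul_assoc, hww, mul_one]
        have heew : e * (e * w) = e * e * w := (mul_assoc _ _ _).symm
        have hewe : e * w * e = e * e * w := by rw [mul_assoc, hwe, ← mul_assoc]
        rcases ha with rfl | rfl | rfl | rfl <;> rcases hb with rfl | rfl | rfl | rfl <;>
          rcases hee with e1 | e1 <;> simp only [Set.mem_ofPred_eq, one_mul, mul_one, hww, hwe, hwew, heww, ← mul_assoc,
            e1, true_or, or_true] <;> simp [heew, hewe, hwe, hww, e1, hwew]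
      inv_mem' := fun {a} ha => by
        have hwi : w⁻¹ = w := inv_eq_of_mul_eq_one_right h.zz
        have hei : e⁻¹ = e ∨ e⁻¹ = e * w := by
          rcases hee with e1 | e1
          · exact Or.inl (inv_eq_of_mul_eq_one_right e1)
          · exact Or.inr (inv_eq_of_mul_eq_one_right (by rw [← mul_assoc, e1, h.zz]))
        rcases ha with rfl | rfl | rfl | rfl
        · exact Or.inl inv_one
        · exact Or.inr (Or.inl hwi)
        · exact hei.elim (fun e1 => Or.inr (Or.inr (Or.inl e1))) fun e1 => Or.inr (Or.inr (Or.inr e1))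
        · rcases hei with e1 | e1 <;> simp [mul_inv_rev, hwi, e1, ← mul_assoc, hzc.eq.symm] <;>
            simp [mul_assoc, h.zz] }
  have hwA : w ∈ A := Or.inr (Or.inl rfl)
  have hA4 : Nat.card ↥A ≤ 4 := by
    rw [← SetLike.coe_sort_coe, Nat.card_coe_set_eq]
    show Set.ncard {a | a = 1 ∨ a = w ∨ a = e ∨ a = e * w} ≤ 4
    refine (Set.ncard_le_ncard (t := {1, w, e, e * w}) (fun a ha => by simpa using ha) (Set.toFinite _)).trans ?_
    refine (Set.ncard_insert_le _ _).trans ?_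
    refine Nat.succ_le_succ ((Set.ncard_insert_le _ _).trans ?_)
    exact Nat.succ_le_succ ((Set.ncard_insert_le _ _).trans (by rw [Set.ncard_singleton]))
  set C := Subgroup.centralizer (A : Set E) with hC
  have hAC := h.card_mul_card_centralizer hwA
  rw [hcard, ← hC] at hAC
  have hCe : ∀ a ∈ C, a * e = e * a := fun a ha =>
    (Subgroup.mem_centralizer_iff.mp ha e (Or.inr (Or.inr (Or.inl rfl)))).symm
  have hCab : C ≤ Subgroup.centralizer (C : Set E) := fun a ha => Subgroup.mem_centralizer_iff.mpr fun b hb =>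
    commutatorElement_eq_one_iff_mul_comm.mp ((h.comm_cases b a).resolve_right (hno b a (hCe b hb) (hCe a ha)))
  have hwC : w ∈ C := Subgroup.mem_centralizer_iff.mpr fun a _ => (h.z_comm a).eq
  have hCC := h.card_mul_card_centralizer hwC
  rw [hcard] at hCC
  have hle := Subgroup.card_le_of_le hCab
  have h16 : 16 ≤ Nat.card ↥C := by nlinarith
  nlinarith

variable [IsSimpleGroup G]

/-- The centre of `G` is trivial if a centralizer has a quotient alternating of degree five. -/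
theorem center_eq_bot (t : G) (E : Subgroup (Subgroup.centralizer ({t} : Set G))) [E.Normal]
    (e : (Subgroup.centralizer ({t} : Set G)) ⧸ E ≃* alternatingGroup (Fin 5)) : Subgroup.center G = ⊥ := by
  rcases IsSimpleGroup.eq_bot_or_eq_top_of_normal (Subgroup.center G) inferInstance with hb | hT
  · exact hb
  exfalso
  have hA : ∀ x y : alternatingGroup (Fin 5), x * y = y * x := fun x y => by
    obtain ⟨a, ha⟩ := e.surjective x
    obtain ⟨b, hb⟩ := e.surjective y
    obtain ⟨a, rfl⟩ := QuotientGroup.mk_surjective a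
    obtain ⟨b, rfl⟩ := QuotientGroup.mk_surjective b
    rw [← ha, ← hb, ← map_mul, ← map_mul, ← QuotientGroup.mk_mul, ← QuotientGroup.mk_mul]
    congr 2
    exact Subtype.ext (Subgroup.mem_center_iff.mp (hT ▸ Subgroup.mem_top (b : G) : (b : G) ∈ Subgroup.center G) a)
  have h : ¬ ∀ x y : alternatingGroup (Fin 5), x * y = y * x := by decide +kernel
  exact h hA

/-- An isolated involution does not occur. -/
theorem not_isolated (t : G) (ht : orderOf t = 2) (E : Subgroup (Subgroup.centralizer ({t} : Set G))) [E.Normal]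
    (e : (Subgroup.centralizer ({t} : Set G)) ⧸ E ≃* alternatingGroup (Fin 5)) : ¬ Cfsg.IsIsolated t := fun hiso => by
  haveI : Fact (Nat.Prime 2) := ⟨Nat.prime_two⟩
  have hmem := fun g => CfsgLib.ZStar.commutator_mem ht hiso g
  rcases IsSimpleGroup.eq_bot_or_eq_top_of_normal (pPrimeCore 2 G) inferInstance with hb | hT
  · have hcen : t ∈ Subgroup.center G := Subgroup.mem_center_iff.mpr fun g => by
      have h1 := hmem g
      rw [hb, Subgroup.mem_bot, mul_inv_eq_one, mul_inv_eq_iff_eq_mul] at h1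
      exact h1.symm
    rw [center_eq_bot t E e, Subgroup.mem_bot] at hcen
    rw [hcen, orderOf_one] at ht
    omega
  · have h2 : 2 ∣ Nat.card G := ht ▸ orderOf_dvd_natCard t
    have := CfsgLib.odd_card_oddCore (G := G)
    rw [show oddCore G = ⊤ from hT, Subgroup.card_top] at this
    exact (Nat.not_even_iff_odd.mpr this) (even_iff_two_dvd.mpr h2)

/-- The extraspecial subgroup contains its centralizer. -/
theorem constrained (t : G) (ht : orderOf t = 2) (E : Subgroup (Subgroup.centralizer ({t} : Set G))) [E.Normal]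
    (hE : Nat.card E = 32) (hX : Cfsg.IsExtraspecial 2 E)
    (e : (Subgroup.centralizer ({t} : Set G)) ⧸ E ≃* alternatingGroup (Fin 5)) :
    Subgroup.centralizer (E : Set (Subgroup.centralizer ({t} : Set G))) ≤ E := by
  by_contra hK
  set K := Subgroup.centralizer (E : Set (Subgroup.centralizer ({t} : Set G))) with hKdef
  let φ : ↥(Subgroup.centralizer ({t} : Set G)) →* alternatingGroup (Fin 5) :=
    e.toMonoidHom.comp (QuotientGroup.mk' E)
  have hφ : Function.Surjective φ := e.surjective.comp (QuotientGroup.mk'_surjective E)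
  have hker : ∀ a, φ a = 1 ↔ a ∈ E := fun a => by
    show e (QuotientGroup.mk' E a) = 1 ↔ _
    rw [MulEquiv.map_eq_one_iff, QuotientGroup.mk'_apply, QuotientGroup.eq_one_iff]
  have hKtop : K.map φ = ⊤ := by
    haveI := alternatingGroup.isSimpleGroup_five
    haveI : (K.map φ).Normal := Subgroup.Normal.map inferInstance φ hφ
    refine (IsSimpleGroup.eq_bot_or_eq_top_of_normal (K.map φ) inferInstance).resolve_left fun hb => hK fun a ha => ?_
    exact (hker a).mp (Subgroup.mem_bot.mp (hb ▸ Subgroup.mem_map_of_mem φ ha))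
  have hdec : ∀ a, ∃ q ∈ E, ∃ k ∈ K, a = q * k := fun a => by
    obtain ⟨k, hk, hka⟩ : φ a ∈ K.map φ := hKtop ▸ Subgroup.mem_top _
    exact ⟨a * k⁻¹, (hker _).mp (by rw [map_mul, map_inv, hka, mul_inv_cancel]), k, hk, by group⟩
  obtain ⟨w, hw⟩ := CfsgLib.ExtraTwo.ofExtraspecial hX
  have hqk : ∀ q ∈ E, ∀ k ∈ K, q * k = k * q := fun q hq k hk => Subgroup.mem_centralizer_iff.mp hk q hq
  let tC : ↥(Subgroup.centralizer ({t} : Set G)) := ⟨t, mem_cent.mpr rfl⟩
  have htc : ∀ a : ↥(Subgroup.centralizer ({t} : Set G)), a * tC = tC * a := fun a => Subtype.ext (mem_cent.mp a.2)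
  have htE : tC ∈ E := by
    refine (hker tC).mp ?_
    have hc : ∀ x : alternatingGroup (Fin 5), x * φ tC = φ tC * x := fun x => by
      obtain ⟨a, rfl⟩ := hφ x
      rw [← map_mul, htc, map_mul]
    have h5 : ∀ c : alternatingGroup (Fin 5), (∀ x, x * c = c * x) → c = 1 := by decide +kernel
    exact h5 _ hc
  have ht1 : t ≠ 1 := fun e1 => by rw [e1, orderOf_one] at ht; omega
  have htw : (⟨tC, htE⟩ : ↥E) = w := ((hw.center_iff _).mp (Subgroup.mem_center_iff.mpr fun q =>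
    Subtype.ext (htc q))).resolve_left fun h1 =>
      ht1 (congrArg (fun a : ↥E => ((a : ↥(Subgroup.centralizer ({t} : Set G))) : G)) h1)
  -- commutators with commuting images
  have hsmall : ∀ a b : ↥(Subgroup.centralizer ({t} : Set G)), φ a * φ b = φ b * φ a →
      ⁅a, b⁆ = 1 ∨ ⁅a, b⁆ = tC := by
    intro a b hab
    obtain ⟨q, hq, k, hk, rfl⟩ := hdec a
    obtain ⟨q', hq', k', hk', rfl⟩ := hdec b
    have hkk : ⁅q * k, q' * k'⁆ = ⁅q, q'⁆ * ⁅k, k'⁆ := by
      simp only [commutatorElement_def, mul_inv_rev]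
      have c1 : Commute k q' := (hqk q' hq' k hk).symm
      have c2 : Commute q k' := hqk q hq k' hk'
      have c3 : Commute q k := hqk q hq k hk
      have c4 : Commute q' k' := hqk q' hq' k' hk'
      calc q * k * (q' * k') * (k⁻¹ * q⁻¹) * (k'⁻¹ * q'⁻¹)
            = q * (k * q') * k' * (k⁻¹ * (q⁻¹ * k'⁻¹)) * q'⁻¹ := by group
        _ = q * q' * (k * k' * k⁻¹ * k'⁻¹) * (q⁻¹ * q'⁻¹) := by rw [c1.eq, c2.inv_inv.eq]; group
        _ = q * q' * ((k * k' * k⁻¹ * k'⁻¹) * (q⁻¹ * q'⁻¹)) := by group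
        _ = q * q' * ((q⁻¹ * q'⁻¹) * (k * k' * k⁻¹ * k'⁻¹)) := by
            rw [← hqk _ (E.mul_mem (E.inv_mem hq) (E.inv_mem hq')) _
              (K.mul_mem (K.mul_mem (K.mul_mem hk hk') (K.inv_mem hk)) (K.inv_mem hk'))]
        _ = q * q' * q⁻¹ * q'⁻¹ * (k * k' * k⁻¹ * k'⁻¹) := by group
    have hkE : ⁅k, k'⁆ ∈ E := by
      refine (hker _).mp ?_
      rw [map_commutatorElement, commutatorElement_eq_one_iff_mul_comm]
      have e1 : φ (q * k) = φ k := by rw [map_mul, (hker q).mpr hq, one_mul]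
      have e2 : φ (q' * k') = φ k' := by rw [map_mul, (hker q').mpr hq', one_mul]
      rwa [e1, e2] at hab
    have hkK : ⁅k, k'⁆ ∈ K := K.mul_mem (K.mul_mem (K.mul_mem hk hk') (K.inv_mem hk)) (K.inv_mem hk')
    have h1 : ⁅k, k'⁆ = 1 ∨ ⁅k, k'⁆ = tC := by
      rcases (hw.center_iff ⟨_, hkE⟩).mp (Subgroup.mem_center_iff.mpr fun p => Subtype.ext (hqk p p.2 _ hkK)) with h2 | h2
      · exact Or.inl (congrArg Subtype.val h2)
      · exact Or.inr (congrArg Subtype.val (h2.trans htw.symm))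
    have h2 : ⁅q, q'⁆ = 1 ∨ ⁅q, q'⁆ = tC := by
      rcases hw.comm_cases ⟨q, hq⟩ ⟨q', hq'⟩ with h3 | h3
      · exact Or.inl (congrArg Subtype.val h3)
      · exact Or.inr (congrArg Subtype.val (h3.trans htw.symm))
    have htt : tC * tC = 1 := Subtype.ext (by rw [Subgroup.coe_mul, ← pow_two, ← ht, pow_orderOf_eq_one]; rfl)
    rw [hkk]
    rcases h1 with e1 | e1 <;> rcases h2 with e2 | e2 <;> rw [e1, e2] <;> simp [htt]
  refine not_isolated t ht E e fun g hcomm => ?_
  by_contra hne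
  set y := g * t * g⁻¹ with hy
  have hyt : y * t = t * y := hcomm.symm
  obtain ⟨q₀, hq₀, k₀, hk₀, hyd⟩ := hdec ⟨y, mem_cent.mpr hyt⟩
  obtain ⟨a, b, ha, hb, hab⟩ := exists_noncomm_in_cent hw hE ⟨q₀, hq₀⟩
  have hcy : ∀ p : ↥E, p * ⟨q₀, hq₀⟩ = ⟨q₀, hq₀⟩ * p →
      ((p : ↥(Subgroup.centralizer ({t} : Set G))) : G) * y = y * ((p : ↥(Subgroup.centralizer ({t} : Set G))) : G) :=
    fun p hp => by
    have h1 : (p : ↥(Subgroup.centralizer ({t} : Set G))) * ⟨y, mem_cent.mpr hyt⟩ = ⟨y, mem_cent.mpr hyt⟩ * p := by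
      rw [hyd]
      exact Commute.mul_right (congrArg Subtype.val hp) (hqk _ p.2 _ hk₀)
    exact congrArg Subtype.val h1
  -- transport to the centralizer of `t`
  have hmem : ∀ {x : G}, x * y = y * x → g⁻¹ * x * g ∈ Subgroup.centralizer ({t} : Set G) := fun {x} hx =>
    mem_cent.mpr ((cent_conj hy.symm).mp hx)
  set a₀ : G := ((a : ↥(Subgroup.centralizer ({t} : Set G))) : G) with ha₀
  set b₀ : G := ((b : ↥(Subgroup.centralizer ({t} : Set G))) : G) with hb₀
  let a' : ↥(Subgroup.centralizer ({t} : Set G)) := ⟨g⁻¹ * a₀ * g, hmem (hcy a ha)⟩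
  let b' : ↥(Subgroup.centralizer ({t} : Set G)) := ⟨g⁻¹ * b₀ * g, hmem (hcy b hb)⟩
  have h4 : ∀ (p : ↥E) (hp : g⁻¹ * ((p : ↥(Subgroup.centralizer ({t} : Set G))) : G) * g ∈
      Subgroup.centralizer ({t} : Set G)),
      φ ⟨_, hp⟩ * φ ⟨_, hp⟩ = 1 := fun p hp => by
    refine a5_four' _ ?_
    rw [← map_pow]
    refine (hker _).mpr ?_
    convert E.one_mem
    refine Subtype.ext ?_
    rw [SubmonoidClass.coe_pow]
    show (g⁻¹ * ((p : ↥(Subgroup.centralizer ({t} : Set G))) : G) * g) ^ 4 = 1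
    have h44 := congrArg (fun r : ↥E => ((r : ↥(Subgroup.centralizer ({t} : Set G))) : G)) (hw.pow_four p)
    simp only [SubmonoidClass.coe_pow, OneMemClass.coe_one] at h44
    rw [show g⁻¹ * ((p : ↥(Subgroup.centralizer ({t} : Set G))) : G) * g =
      g⁻¹ * ((p : ↥(Subgroup.centralizer ({t} : Set G))) : G) * g⁻¹⁻¹ by rw [inv_inv], conj_pow, h44]
    group
  have hab' : a' * b' = ⟨g⁻¹ * ((a * b : ↥E) : ↥(Subgroup.centralizer ({t} : Set G))) * g,
      hmem (hcy (a * b) (Commute.mul_left ha hb))⟩ := Subtype.ext (by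
    show g⁻¹ * a₀ * g * (g⁻¹ * b₀ * g) = g⁻¹ * (a₀ * b₀) * g
    group)
  have hsq := h4 (a * b) (hmem (hcy (a * b) (Commute.mul_left ha hb)))
  rw [← hab', map_mul] at hsq
  rcases hsmall a' b' (a5_two_comm _ _ (h4 a _) (h4 b _) hsq) with h1 | h1
  all_goals
    have h2 := congrArg Subtype.val h1
    rw [show ((⁅a', b'⁆ : ↥(Subgroup.centralizer ({t} : Set G))) : G) = g⁻¹ * t * g by
      have h3 := congrArg (fun r : ↥E => ((r : ↥(Subgroup.centralizer ({t} : Set G))) : G)) (hab.trans htw.symm)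
      simp only [commutatorElement_def, Subgroup.coe_mul, InvMemClass.coe_inv] at h3 ⊢
      show g⁻¹ * a₀ * g * (g⁻¹ * b₀ * g) * (g⁻¹ * a₀ * g)⁻¹ * (g⁻¹ * b₀ * g)⁻¹ = g⁻¹ * t * g
      calc _ = g⁻¹ * (a₀ * b₀ * a₀⁻¹ * b₀⁻¹) * g := by group
        _ = g⁻¹ * t * g := by rw [h3]] at h2
  · exact ht1 (by rw [show t = g * (g⁻¹ * t * g) * g⁻¹ by group, h2]; simp)
  · refine hne ?_
    have h3 : g⁻¹ * t * g = t := h2
    calc y = g * (g⁻¹ * t * g) * g⁻¹ := by rw [h3]
      _ = t := by group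

/-- The data of a group of `J₃` type, without any hypothesis on the classes of involutions. -/
theorem exists_JT (t : G) (ht : orderOf t = 2)
    (Q : Subgroup (Subgroup.centralizer ({t} : Set G))) [Q.Normal] (hQ : Cfsg.IsExtraspecial 2 Q)
    (hcard : Nat.card Q = 32) (e : (Subgroup.centralizer ({t} : Set G)) ⧸ Q ≃* alternatingGroup (Fin 5)) :
    ∃ pm : G → Perm (Fin 5), JT t (Q.map (Subgroup.subtype _)) pm := by
  classical
  have h2c := constrained t ht Q hcard hQ e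
  haveI : Fact (Nat.Prime 2) := ⟨Nat.prime_two⟩
  set Q₀ := Q.map (Subgroup.centralizer ({t} : Set G)).subtype with hQ₀
  let φ : ↥(Subgroup.centralizer ({t} : Set G)) →* alternatingGroup (Fin 5) := e.toMonoidHom.comp (QuotientGroup.mk' Q)
  have hφ : Function.Surjective φ := e.surjective.comp (QuotientGroup.mk'_surjective Q)
  have hker : ∀ a : ↥(Subgroup.centralizer ({t} : Set G)), φ a = 1 ↔ a ∈ Q := fun a => by
    show e (QuotientGroup.mk' Q a) = 1 ↔ _
    rw [MulEquiv.map_eq_one_iff, QuotientGroup.mk'_apply, QuotientGroup.eq_one_iff]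
  have htt : t * t = 1 := by rw [← pow_two, ← ht, pow_orderOf_eq_one]
  have ht1 : t ≠ 1 := fun e' => by rw [e', orderOf_one] at ht; omega
  have hmem₀ : ∀ (a : ↥(Subgroup.centralizer ({t} : Set G))), (a : G) ∈ Q₀ ↔ a ∈ Q := fun a =>
    ⟨fun ⟨b, hb, e'⟩ => by rwa [show b = a from Subtype.ext e'] at hb, fun h => ⟨a, h, rfl⟩⟩
  obtain ⟨w, hw⟩ := CfsgLib.ExtraTwo.ofExtraspecial hQ
  let tC : ↥(Subgroup.centralizer ({t} : Set G)) := ⟨t, mem_cent.mpr rfl⟩
  have htQ : tC ∈ Q := h2c (Subgroup.mem_centralizer_iff.mpr fun q _ => Subtype.ext (mem_cent.mp q.2))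
  have htw : (⟨tC, htQ⟩ : ↥Q) = w := ((hw.center_iff _).mp (Subgroup.mem_center_iff.mpr fun q =>
    Subtype.ext (Subtype.ext (mem_cent.mp (q : ↥(Subgroup.centralizer ({t} : Set G))).2)))).resolve_left fun h =>
      ht1 (congrArg (fun a : ↥Q => ((a : ↥(Subgroup.centralizer ({t} : Set G))) : G)) h)
  have hES : ES Q₀ t := by
    refine ⟨⟨tC, htQ, rfl⟩, ht1, ?_, ?_, ?_, ?_⟩
    · rintro _ ⟨q, -, rfl⟩
      exact mem_cent.mp q.2
    · rintro _ ⟨q, hq, rfl⟩
      rcases hw.sq ⟨q, hq⟩ with h | h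
      · exact Or.inl (congrArg (fun a : ↥Q => ((a : ↥(Subgroup.centralizer ({t} : Set G))) : G)) h)
      · exact Or.inr (congrArg (fun a : ↥Q => ((a : ↥(Subgroup.centralizer ({t} : Set G))) : G)) (h.trans htw.symm))
    · intro c hc
      let cC : ↥(Subgroup.centralizer ({t} : Set G)) := ⟨c, mem_cent.mpr (hc t ⟨tC, htQ, rfl⟩)⟩
      have hcQ : cC ∈ Q := h2c (Subgroup.mem_centralizer_iff.mpr fun q hq => Subtype.ext (hc _ ⟨q, hq, rfl⟩).symm)
      rcases (hw.center_iff ⟨cC, hcQ⟩).mp (Subgroup.mem_center_iff.mpr fun q =>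
        Subtype.ext (Subtype.ext (hc _ ⟨(q : ↥(Subgroup.centralizer ({t} : Set G))), q.2, rfl⟩).symm)) with h | h
      · exact Or.inl (congrArg (fun a : ↥Q => ((a : ↥(Subgroup.centralizer ({t} : Set G))) : G)) h)
      · exact Or.inr (congrArg (fun a : ↥Q => ((a : ↥(Subgroup.centralizer ({t} : Set G))) : G)) (h.trans htw.symm))
    · rintro c hc _ ⟨q, hq, rfl⟩
      exact ⟨⟨c, mem_cent.mpr hc⟩ * q * ⟨c, mem_cent.mpr hc⟩⁻¹, Subgroup.Normal.conj_mem inferInstance q hq _, rfl⟩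
  have hcard₀ : Nat.card ↥Q₀ = 32 := by
    rw [hQ₀, Subgroup.card_map_of_injective (Subgroup.subtype_injective _), hcard]
  have hA : ∀ a : G, a * t = t * a → a ^ 4 = 1 → a * a ∈ Q₀ := fun a ha h4 => by
    refine (hmem₀ (⟨a, mem_cent.mpr ha⟩ * ⟨a, mem_cent.mpr ha⟩)).mpr ((hker _).mp ?_)
    rw [map_mul]
    refine a5_four' _ ?_
    rw [← map_pow, show (⟨a, mem_cent.mpr ha⟩ : ↥(Subgroup.centralizer ({t} : Set G))) ^ 4 = 1 from Subtype.ext (by simpa using h4), map_one]
  -- an element of order five fixes only the centre of `Q`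
  haveI : Fact (Nat.Prime 5) := ⟨Nat.prime_five⟩
  obtain ⟨f, hf, hfo, hfQ⟩ : ∃ f : G, f * t = t * f ∧ orderOf f = 5 ∧ f ∉ Q₀ := by
    have h5 : 5 ∣ Nat.card ↥(Subgroup.centralizer ({t} : Set G)) := by
      rw [← Subgroup.card_mul_index Q, show Q.index = Nat.card (↥(Subgroup.centralizer ({t} : Set G)) ⧸ Q) from rfl,
        Nat.card_congr e.toEquiv, nat_card_alternatingGroup, Nat.card_fin]
      exact dvd_mul_of_dvd_right (by decide) _
    obtain ⟨⟨f, hf⟩, hfo⟩ := exists_prime_orderOf_dvd_card' (G := ↥(Subgroup.centralizer ({t} : Set G))) 5 h5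
    rw [Subgroup.orderOf_mk] at hfo
    refine ⟨f, mem_cent.mp hf, hfo, fun hm => ?_⟩
    have := Subgroup.orderOf_dvd_natCard Q₀ hm
    rw [hfo, hcard₀] at this
    norm_num at this
  have hffix : ∀ q ∈ Q₀, f * q = q * f → q = 1 ∨ q = t := by
    intro q hq hfq
    set P := Q₀ ⊓ Subgroup.centralizer ({f} : Set G) with hP
    have hmap : ∀ a, a ∈ (Q₀ : Set G) ↔ f * a * f⁻¹ ∈ (Q₀ : Set G) := fun a => ⟨fun ha => hES.nor f hf a ha, fun ha => by
      have := hES.nor f⁻¹ (Commute.inv_left hf) _ ha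
      rwa [inv_inv, show f⁻¹ * (f * a * f⁻¹) * f = a by group] at this⟩
    have hmod := fixed_set_modEq (p := 5) (Q₀ : Set G) (s := f) (by rw [← hfo, pow_orderOf_eq_one]) hmap
    rw [show {a | a ∈ (Q₀ : Set G) ∧ f * a = a * f} = (P : Set G) from
      Set.ext fun a => ⟨fun ha => ⟨ha.1, mem_cent.mpr ha.2.symm⟩, fun ha => ⟨ha.1, (mem_cent.mp ha.2).symm⟩⟩,
      ← Nat.card_coe_set_eq, ← Nat.card_coe_set_eq, SetLike.coe_sort_coe, SetLike.coe_sort_coe, hcard₀] at hmod
    obtain ⟨i, hi, e1⟩ := (Nat.dvd_prime_pow Nat.prime_two).mp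
      (show Nat.card ↥P ∣ 2 ^ 5 from (Subgroup.card_dvd_of_le inf_le_left).trans (dvd_of_eq hcard₀))
    have hne : Nat.card ↥P ≠ 32 := fun e2 => by
      have hPQ : P = Q₀ := Subgroup.eq_of_le_of_card_ge inf_le_left (by rw [e2, hcard₀])
      rcases hES.cen f (fun p hp => (mem_cent.mp (hPQ ▸ hp : p ∈ P).2).symm) with e3 | e3
      · rw [e3, orderOf_one] at hfo; omega
      · exact hfQ (e3 ▸ hES.mem)
    have hle : Nat.card ↥P ≤ 2 := by
      rw [e1] at hmod hne ⊢
      unfold Nat.ModEq at hmod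
      interval_cases i <;> omega
    by_contra hne'
    rw [not_or] at hne'
    have h1 : ({1, t, q} : Set G) ⊆ (P : Set G) := by
      rintro x (rfl | rfl | rfl)
      · exact one_mem _
      · exact ⟨hES.mem, mem_cent.mpr hf.symm⟩
      · exact ⟨hq, mem_cent.mpr hfq.symm⟩
    have h2 := Set.ncard_le_ncard h1 (Set.toFinite _)
    rw [Set.ncard_eq_three.mpr ⟨1, t, q, hES.ne.symm, Ne.symm hne'.1, Ne.symm hne'.2, rfl⟩, ← Nat.card_coe_set_eq] at h2
    exact absurd (h2.trans hle) (by norm_num)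
  have hroot : CfsgLib.ExtraTwo.rootCount ↥Q₀ % 5 = 2 := by
    set R : Set G := {q | q ∈ Q₀ ∧ q * q = 1}
    have e1 : CfsgLib.ExtraTwo.rootCount ↥Q₀ = R.ncard := by
      unfold CfsgLib.ExtraTwo.rootCount
      rw [← Nat.card_coe_set_eq]
      exact Nat.card_congr
        { toFun := fun q => ⟨(q.1 : G), q.1.2, congrArg Subtype.val q.2⟩
          invFun := fun q => ⟨⟨q.1, q.2.1⟩, Subtype.ext q.2.2⟩
          left_inv := fun q => rfl
          right_inv := fun q => rfl }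
    have hmap : ∀ a, a ∈ R ↔ f * a * f⁻¹ ∈ R := fun a => ⟨fun ha => ⟨hES.nor f hf a ha.1, conj_sq f a ha.2⟩,
      fun ha => by
        have h1 := hES.nor f⁻¹ (Commute.inv_left hf) _ ha.1
        have h2 := conj_sq f⁻¹ _ ha.2
        rw [inv_inv, show f⁻¹ * (f * a * f⁻¹) * f = a by group] at h1 h2
        exact ⟨h1, h2⟩⟩
    have hmod := fixed_set_modEq (p := 5) R (s := f) (by rw [← hfo, pow_orderOf_eq_one]) hmap
    rw [show {a | a ∈ R ∧ f * a = a * f} = {1, t} from Set.ext fun a => ⟨fun ha => hffix a ha.1.1 ha.2, by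
      rintro (rfl | rfl)
      · exact ⟨⟨one_mem _, one_mul 1⟩, by simp⟩
      · exact ⟨⟨hES.mem, hES.zz⟩, hf⟩⟩, Set.ncard_pair hES.ne.symm] at hmod
    unfold Nat.ModEq at hmod
    omega
  have hE : ∀ T : Subgroup G, T ≤ Q₀ → (∀ a ∈ T, a * a = 1) → Nat.card ↥T ≤ 4 := fun T hT hsq => by
    have hcT : Nat.card ↥(T.subgroupOf Q₀) = Nat.card ↥T := Nat.card_congr (Subgroup.subgroupOfEquivOfLe hT).toEquiv
    have hcomm : IsMulCommutative ↥(T.subgroupOf Q₀) := ⟨⟨fun a b => by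
      have hs : ∀ a : ↥(T.subgroupOf Q₀), a⁻¹ = a := fun a =>
        inv_eq_of_mul_eq_one_right (Subtype.ext (Subtype.ext (hsq _ a.2)))
      rw [← hs (a * b), mul_inv_rev, hs a, hs b]⟩⟩
    obtain ⟨hle, heq⟩ := CfsgLib.ExtraTwo.card_elementary_le (n := 2) hES.toExt (by rw [hcard₀]; rfl) hcomm
      (fun a ha => Subtype.ext (by rw [pow_two]; exact hsq _ ha))
    rw [hcT] at hle
    by_contra hlt
    have hne : Nat.card ↥T ≠ 2 ^ (2 + 1) := fun e1 => by
      have h2 := heq (by rw [hcT, e1])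
      rw [h2] at hroot
      norm_num at hroot
    obtain ⟨i, -, e1⟩ := (Nat.dvd_prime_pow Nat.prime_two).mp
      (show Nat.card ↥T ∣ 2 ^ 5 from (Subgroup.card_dvd_of_le hT).trans (dvd_of_eq hcard₀))
    have hi : i < 4 := by
      by_contra hi
      have := Nat.pow_le_pow_right (show 1 ≤ 2 by norm_num) (show 4 ≤ i by omega)
      omega
    interval_cases i <;> omega
  refine ⟨fun a => if h : a * t = t * a then (φ ⟨a, mem_cent.mpr h⟩ : Perm (Fin 5)) else 1, hES, hcard₀,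
    ?_, ?_, ?_, ?_, ?_⟩
  · intro a b ha hb
    simp only [dif_pos ha, dif_pos hb, dif_pos (show a * b * t = t * (a * b) from Commute.mul_left ha hb)]
    exact congrArg Subtype.val (map_mul φ ⟨a, mem_cent.mpr ha⟩ ⟨b, mem_cent.mpr hb⟩)
  · intro a ha
    simp only [dif_pos ha]
    exact Perm.mem_alternatingGroup.mp (φ ⟨a, mem_cent.mpr ha⟩).2
  · intro σ hσ
    obtain ⟨⟨a, ha⟩, he⟩ := hφ ⟨σ, Perm.mem_alternatingGroup.mpr hσ⟩
    exact ⟨a, mem_cent.mp ha, by simp only [dif_pos (mem_cent.mp ha)]; exact congrArg Subtype.val he⟩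
  · intro a ha
    simp only [dif_pos ha]
    rw [OneMemClass.coe_eq_one, hker]
    exact (hmem₀ ⟨a, mem_cent.mpr ha⟩).symm
  -- the involution is not weakly closed
  by_contra hno
  push Not at hno
  have hniso : ¬ Cfsg.IsIsolated t := not_isolated t ht Q e
  simp only [Cfsg.IsIsolated, not_forall] at hniso
  obtain ⟨g, hcomm, hne⟩ := hniso
  set y := g * t * g⁻¹ with hy
  have hyt : y * t = t * y := hcomm.symm
  have hyQ : y ∉ Q₀ := fun h => hne (hno g h)
  set Qy := CfsgLargeExtra.cj g Q₀ with hQy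
  have hESy : ES Qy y := hES.cj g
  have hmemy : ∀ a, a ∈ Qy ↔ g⁻¹ * a * g ∈ Q₀ := fun a => CfsgLargeExtra.mem_cj
  have hwcy : ∀ k : G, k * y * k⁻¹ ∈ Qy → k * y * k⁻¹ = y := fun k hk => by
    have h1 := hno (g⁻¹ * k * g) (by
      have := (hmemy _).mp hk
      rwa [show g⁻¹ * k * g * t * (g⁻¹ * k * g)⁻¹ = g⁻¹ * (k * y * k⁻¹) * g by rw [hy]; group])
    calc k * y * k⁻¹ = g * (g⁻¹ * k * g * t * (g⁻¹ * k * g)⁻¹) * g⁻¹ := by rw [hy]; group
      _ = y := by rw [h1, hy]
  obtain ⟨hT4, hTc⟩ := coset_class hES hcard₀ hA hE hno hy.symm hyt hyQ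
  have hAy : ∀ a : G, a * y = y * a → a ^ 4 = 1 → a * a ∈ Qy := fun a ha h4 => (hmemy _).mpr (by
    have := hA (g⁻¹ * a * g) ((cent_conj hy.symm).mp ha) (by
      rw [show g⁻¹ * a * g = g⁻¹ * a * g⁻¹⁻¹ by rw [inv_inv], conj_pow, h4]; simp)
    rwa [show g⁻¹ * a * g * (g⁻¹ * a * g) = g⁻¹ * (a * a) * g by group] at this)
  have hEy : ∀ T : Subgroup G, T ≤ Qy → (∀ a ∈ T, a * a = 1) → Nat.card ↥T ≤ 4 := fun T hT hsq => by
    have hc := hE (CfsgLargeExtra.cj g⁻¹ T) (fun a ha => by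
      rw [CfsgLargeExtra.mem_cj, inv_inv] at ha
      have := (hmemy _).mp (hT ha)
      simpa [mul_assoc] using this) (fun a ha => by
      rw [CfsgLargeExtra.mem_cj, inv_inv] at ha
      have h1 := hsq _ ha
      have h2 : g * (a * a) * g⁻¹ = 1 := by rw [← h1]; group
      exact conj_eq_one_iff.mp h2)
    rwa [CfsgLargeExtra.cj, Subgroup.card_map_of_injective (MulAut.conj g⁻¹).injective] at hc
  have htQy : t ∉ Qy := fun h => by
    have h1 := hno g⁻¹ (by rw [inv_inv]; exact (hmemy t).mp h)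
    rw [inv_inv] at h1
    refine hne ?_
    calc y = g * (g⁻¹ * t * g) * g⁻¹ := by rw [h1]
      _ = t := by group
  have hyg : g⁻¹ * y * g⁻¹⁻¹ = t := by rw [hy]; group
  obtain ⟨hS4, hSc⟩ := coset_class hESy (by rw [hQy, CfsgLargeExtra.cj,
    Subgroup.card_map_of_injective (MulAut.conj g).injective]; exact hcard₀) hAy hEy hwcy hyg hyt.symm htQy
  obtain ⟨a, ha, ha1, hay⟩ : ∃ a ∈ Qy ⊓ Subgroup.centralizer ({t} : Set G), a ≠ 1 ∧ a ≠ y := by
    by_contra hall
    push Not at hall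
    have hsub : ((Qy ⊓ Subgroup.centralizer ({t} : Set G) : Subgroup G) : Set G) ⊆ {1, y} := fun a ha => by
      by_cases e1 : a = 1
      · exact Or.inl e1
      · exact Or.inr (hall a ha e1)
    have h1 := Set.ncard_le_ncard hsub (Set.toFinite _)
    rw [← Nat.card_coe_set_eq] at h1
    have h2 : Set.ncard ({1, y} : Set G) ≤ 2 := (Set.ncard_insert_le _ _).trans (by rw [Set.ncard_singleton])
    have h3 : (4 : ℕ) ≤ 2 := hS4 ▸ h1.trans h2
    omega
  have hat : a * t = t * a := mem_cent.mp ha.2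
  have haQ : a ∉ Q₀ := fun h => by
    obtain ⟨k, hk⟩ := isConj_iff.mp (hTc a ⟨h, mem_cent.mpr (hESy.comm a ha.1)⟩)
    have h1 := hwcy (k * g⁻¹) (by
      rw [show k * g⁻¹ * y * (k * g⁻¹)⁻¹ = k * (g⁻¹ * y * g⁻¹⁻¹) * k⁻¹ by group, hyg, hk]
      exact mul_mem hESy.mem ha.1)
    rw [show k * g⁻¹ * y * (k * g⁻¹)⁻¹ = k * (g⁻¹ * y * g⁻¹⁻¹) * k⁻¹ by group, hyg, hk] at h1
    exact ha1 (mul_eq_left.mp h1)
  obtain ⟨k, hk⟩ := isConj_iff.mp (hSc a ha)
  set y' := t * a with hy'
  have hy'g : k * g * t * (k * g)⁻¹ = y' := by rw [← hk, hy]; group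
  have hy't : y' * t = t * y' := Commute.mul_left (Commute.refl t) hat
  have hy'Q : y' ∉ Q₀ := fun h => haQ (by
    have := mul_mem hES.mem h
    rwa [hy', ← mul_assoc, hES.zz, one_mul] at this)
  obtain ⟨-, hT'⟩ := coset_class hES hcard₀ hA hE hno hy'g hy't hy'Q
  obtain ⟨m, hm⟩ := isConj_iff.mp (hT' t ⟨hES.mem, mem_cent.mpr hy't.symm⟩)
  have hmy : m * g⁻¹ * y * (m * g⁻¹)⁻¹ = a := by
    rw [show m * g⁻¹ * y * (m * g⁻¹)⁻¹ = m * (g⁻¹ * y * g⁻¹⁻¹) * m⁻¹ by group, hyg, hm, hy', mul_assoc, hat,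
      ← mul_assoc, hES.zz, one_mul]
  exact hay (hmy.symm.trans (hwcy _ (hmy.symm ▸ ha.1)))

end CfsgLib.J3Type
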