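import Cfsg.Agent.Lib.SmallSimple.Order168Props
import Cfsg.Agent.Lib.SLCard

/-!
Groups of `J₃` type: facts on the simple group of order 168, from the model.
-/

set_option autoImplicit false
set_option maxRecDepth 100000

namespace CfsgLib.J3Type.GlThree

open CfsgLib.Order168Model

attribute [local irreducible] mulC invC detC mkT toMat asm

theorem card_SL : Nat.card (Matrix.SpecialLinearGroup (Fin 3) (ZMod 2)) = 168 := by
  have : Fact (Nat.Prime 2) := ⟨Nat.prime_two⟩
  have h := CfsgLib.SLCard.card_units_mul_card_SL (F := ZMod 2) (n := 3) (by norm_num)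
  rw [Matrix.card_GL_field, ZMod.card] at h
  simpa [Fin.prod_univ_three] using h

theorem exists_equiv_SL : Nonempty (Matrix.SpecialLinearGroup (Fin 3) (ZMod 2) ≃* T) := by
  let f : T →* Matrix.SpecialLinearGroup (Fin 3) (ZMod 2) :=
    MonoidHom.mk' (fun A => ⟨toMat A.1, (det_toMat A.1).mp A.2⟩) fun A B => Subtype.ext (toMat_mulC _ _)
  have hf : Function.Injective f := fun A B h => toMat_inj (congrArg Subtype.val h)
  exact ⟨(MulEquiv.ofBijective f (hf.bijective_of_nat_card_le (by rw [card_T, card_SL]))).symm⟩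

theorem inv_count : ((Finset.univ : Finset T).filter fun u => u * u = 1 ∧ u ≠ 1).card = 21 := by decide +kernel

theorem inverted : ∀ u : T, u * u = 1 → u ≠ 1 →
    ((Finset.univ : Finset T).filter fun x => u * x * u = x⁻¹ ∧ x ≠ 1 ∧ x * x * x = 1).card = 8 := by decide +kernel

theorem three_cent : ∀ x : T, x * x * x = 1 → x ≠ 1 → ∀ g : T, g * x = x * g → g = 1 ∨ g = x ∨ g = x * x := by
  decide +kernel

theorem seven_cent : ∀ x : T, x * x * x * x * x * x * x = 1 → x ≠ 1 → ∀ g : T, g * x = x * g →
    g * g * g * g * g * g * g = 1 := by decide +kernel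

theorem seven_no_inverter : ∀ x : T, x * x * x * x * x * x * x = 1 → x ≠ 1 → ∀ u : T, u * u = 1 →
    u * x * u ≠ x⁻¹ := by decide +kernel

theorem seven_count : ∀ x : T, x * x * x * x * x * x * x = 1 → x ≠ 1 →
    ((Finset.univ : Finset T).filter fun g => g * x = x * g).card = 7 := by decide +kernel

theorem inverters_count : ∀ x : T, x * x * x = 1 → x ≠ 1 →
    ((Finset.univ : Finset T).filter fun u => u * u = 1 ∧ u * x * u = x⁻¹).card = 3 := by decide +kernel

theorem seven_num : ((Finset.univ : Finset T).filter fun s => s * s * s * s * s * s * s = 1 ∧ s ≠ 1).card = 48 := by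
  decide +kernel

theorem seven_norm : ∀ x : T, x * x * x = 1 → x ≠ 1 →
    ((Finset.univ : Finset T).filter fun s => (s * s * s * s * s * s * s = 1 ∧ s ≠ 1) ∧
      (x * s = s * s * x ∨ x * s = s * s * s * s * x)).card = 12 := by decide +kernel

theorem orders : ∀ g : T, g * g = 1 ∨ g * g * g = 1 ∨ g * g * g * g = 1 ∨ g * g * g * g * g * g * g = 1 := by
  decide +kernel

end CfsgLib.J3Type.GlThree
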