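import Cfsg.Agent.Lib.J3Type.Classes
import Cfsg.Agent.Lib.J3Type.A5
import Cfsg.Agent.Lib.HallJankoType.Local

/-!
Groups of `J₃` type: the involutions and the elements of odd order of the centralizer.
-/

set_option autoImplicit false
set_option linter.unusedSectionVars false

namespace CfsgLib.J3Type

open Cfsg CfsgLargeExtra Equiv
open CfsgLib.HallJankoType (orb mem_cent conj_fix_iff ncard_orb IsInv5 orderOf_conj')

universe u

variable {G : Type u} [Group G] [Finite G] {z : G} {Q : Subgroup G} {pm : G → Perm (Fin 5)}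

theorem conj_conj (c g a : G) : c * g * a * (c * g)⁻¹ = c * (g * a * g⁻¹) * c⁻¹ := by group

theorem conj_comm {g a b : G} (h : a * b = b * a) : g * a * g⁻¹ * (g * b * g⁻¹) = g * b * g⁻¹ * (g * a * g⁻¹) := by
  rw [show g * a * g⁻¹ * (g * b * g⁻¹) = g * (a * b) * g⁻¹ by group, h]; group

namespace JT

/-- The involutions of `C(z)` outside `Q`. -/
def T (_h : JT z Q pm) : Set G := {y | y * z = z * y ∧ y * y = 1 ∧ y ∉ Q}

variable (h : JT z Q pm)
include h

theorem mem_T {y : G} : y ∈ h.T ↔ y * z = z * y ∧ y * y = 1 ∧ y ∉ Q := Iff.rfl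

theorem inv_cases {y : G} (hyz : y * z = z * y) (hy : y * y = 1) (hy1 : y ≠ 1) :
    y = z ∨ y ∈ h.S ∨ y ∈ h.T := by
  by_cases hq : y ∈ Q
  · by_cases hz' : y = z
    · exact Or.inl hz'
    · exact Or.inr (Or.inl ⟨hq, hy, hy1, hz'⟩)
  · exact Or.inr (Or.inr ⟨hyz, hy, hq⟩)

theorem S_not_T {y : G} (hy : y ∈ h.S) : y ∉ h.T := fun ht => ht.2.2 hy.1

theorem T_ne_one {y : G} (hy : y ∈ h.T) : y ≠ 1 := fun e => hy.2.2 (e ▸ one_mem _)

theorem T_ne_z {y : G} (hy : y ∈ h.T) : y ≠ z := fun e => hy.2.2 (e ▸ h.es.mem)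

theorem pm_T {y : G} (hy : y ∈ h.T) : IsInv5 (pm y) :=
  ⟨h.pm_sign y hy.1, by rw [← h.pm_mul _ _ hy.1 hy.1, hy.2.1, h.pm_one],
    fun e => hy.2.2 ((h.pm_ker y hy.1).mp e)⟩

theorem T_conj {c y : G} (hc : c * z = z * c) (hy : y ∈ h.T) : c * y * c⁻¹ ∈ h.T :=
  ⟨Commute.mul_left (Commute.mul_left hc hy.1) (Commute.inv_left hc), conj_sq c y hy.2.1,
    fun hq => hy.2.2 ((h.nor_mem_iff hc).mp hq)⟩

theorem T_conj_iff {c y : G} (hc : c * z = z * c) : c * y * c⁻¹ ∈ h.T ↔ y ∈ h.T := by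
  refine ⟨fun hy => ?_, h.T_conj hc⟩
  have := h.T_conj (Commute.inv_left hc : c⁻¹ * z = z * c⁻¹) hy
  simpa [mul_assoc] using this

theorem trans_T {y y' : G} (hy : y ∈ h.T) (hy' : y' ∈ h.T) : ∃ c : G, c * z = z * c ∧ c * y * c⁻¹ = y' := by
  obtain ⟨x, t, t', Q', pm', K⟩ := exists_cfg_of_JT h
  obtain ⟨a, ha, rfl⟩ := K.exists_conj_t hy.1 hy.2.1 hy.2.2
  obtain ⟨b, hb, rfl⟩ := K.exists_conj_t hy'.1 hy'.2.1 hy'.2.2
  exact ⟨b * a⁻¹, Commute.mul_left hb (Commute.inv_left ha), by group⟩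

theorem ncard_T : h.T.ncard = 120 := by
  obtain ⟨x, t, t', Q', pm', K⟩ := exists_cfg_of_JT h
  exact K.ncard_out

theorem conj_into_z {y g : G} (hyz : y * z = z * y) (hg : g * y * g⁻¹ = z) :
    g * z * g⁻¹ * z = z * (g * z * g⁻¹) := by
  conv_lhs => arg 2; rw [← hg]
  conv_rhs => arg 1; rw [← hg]
  exact conj_comm hyz.symm

theorem type_S {y g : G} (hy : y ∈ h.S) (hg : g * y * g⁻¹ = z) : g * z * g⁻¹ ∈ h.S := by
  have hy' : g⁻¹ * z * g⁻¹⁻¹ = y := by rw [← hg]; group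
  have hm := h.flip_mem (g := g⁻¹) (by rw [hy']; exact hy.1) (by rw [hy']; exact hy.2.2.2)
  rw [mem_cj, inv_inv] at hm
  refine ⟨hm, conj_sq g z h.zz, fun e => h.es.ne (conj_eq_one_iff.mp e), fun e => hy.2.2.2 ?_⟩
  rw [← hy']
  conv_lhs => rw [← e]
  group

theorem type_T {y g : G} (hy : y ∈ h.T) (hg : g * y * g⁻¹ = z) : g * z * g⁻¹ ∈ h.T := by
  refine ⟨h.conj_into_z hy.1 hg, conj_sq g z h.zz, fun hq => hy.2.2 ?_⟩
  have hne : g * z * g⁻¹ ≠ z := fun e => h.T_ne_z hy (mul_left_cancel (mul_right_cancel (hg.trans e.symm)))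
  have hm := h.flip_mem hq hne
  rw [mem_cj] at hm
  rwa [show g⁻¹ * z * g = y by rw [← hg]; group] at hm

theorem pm_faithful_odd {a : G} (ha : a * z = z * a) (hodd : Odd (orderOf a)) (h1 : pm a = 1) : a = 1 := by
  have hq := (h.pm_ker a ha).mp h1
  have hd := Subgroup.orderOf_dvd_natCard Q hq
  rw [h.card, show (32 : ℕ) = 2 ^ 5 by rfl] at hd
  exact orderOf_eq_one_iff.mp (Nat.Coprime.eq_one_of_dvd (Nat.Coprime.pow_right 5
    ((Nat.coprime_comm.mp ((Nat.Prime.coprime_iff_not_dvd Nat.prime_two).mpr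
      (Nat.two_dvd_ne_zero.mpr (Nat.odd_iff.mp hodd)))))) hd)

theorem orderOf_pm_odd {a : G} (ha : a * z = z * a) (hodd : Odd (orderOf a)) : orderOf (pm a) = orderOf a := by
  refine dvd_antisymm (orderOf_dvd_of_pow_eq_one (by rw [← h.pm_pow ha, pow_orderOf_eq_one, h.pm_one])) ?_
  refine orderOf_dvd_of_pow_eq_one (h.pm_faithful_odd (Commute.pow_left ha _) ?_ ?_)
  · exact hodd.of_dvd_nat (orderOf_pow_dvd _)
  · rw [h.pm_pow ha, pow_orderOf_eq_one]

/-- The elements of odd order of `C(z)` have order one, three or five. -/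
theorem odd_order {a : G} (ha : a * z = z * a) (hodd : Odd (orderOf a)) :
    a = 1 ∨ orderOf a = 3 ∨ orderOf a = 5 := by
  have e := h.orderOf_pm_odd ha hodd
  rcases even_orders _ (h.pm_sign a ha) with h2 | h3 | h5
  · left
    have hd : orderOf (pm a) ∣ 2 := orderOf_dvd_of_pow_eq_one (by rw [pow_two, h2])
    rw [e] at hd
    rcases (Nat.dvd_prime Nat.prime_two).mp hd with h' | h'
    · exact orderOf_eq_one_iff.mp h'
    · rw [h'] at hodd; exact absurd hodd (by decide)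
  · have hd := orderOf_dvd_of_pow_eq_one h3
    rw [e] at hd
    rcases (Nat.dvd_prime Nat.prime_three).mp hd with h' | h'
    · exact Or.inl (orderOf_eq_one_iff.mp h')
    · exact Or.inr (Or.inl h')
  · have hd := orderOf_dvd_of_pow_eq_one h5
    rw [e] at hd
    rcases (Nat.dvd_prime Nat.prime_five).mp hd with h' | h'
    · exact Or.inl (orderOf_eq_one_iff.mp h')
    · exact Or.inr (Or.inr h')

theorem pm_rot {a : G} (ha : a * z = z * a) {n : ℕ} (hn : n = 3 ∨ n = 5) (ho : orderOf a = n) :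
    IsRot n (pm a) := by
  refine ⟨h.pm_sign a ha, by rw [← h.pm_pow ha, ← ho, pow_orderOf_eq_one, h.pm_one], fun e => ?_⟩
  have := h.pm_faithful_odd ha (by rw [ho]; rcases hn with rfl | rfl <;> decide) e
  rw [this, orderOf_one] at ho
  omega

/-- There are no elements of orders three and five in `C(z)`, one normalizing the other. -/
theorem not_norm_fifteen {a b : G} (ha : a * z = z * a) (hb : b * z = z * b) (ho : orderOf a = 3)
    (ho' : orderOf b = 5) : a * b * a⁻¹ ∉ Subgroup.zpowers b := by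
  intro hm
  have hr := h.pm_rot ha (Or.inl rfl) ho
  have hr' := h.pm_rot hb (Or.inr rfl) ho'
  obtain ⟨i, hi⟩ := (isOfFinOrder_of_finite b).mem_powers_iff_mem_zpowers.mpr hm
  have hi5 : b ^ (i % 5) = a * b * a⁻¹ := by
    rw [← ho', pow_mod_orderOf]; exact hi
  have e : pm a * pm b * (pm a)⁻¹ = pm b ^ (i % 5) := by
    rw [← h.pm_conj ha hb, ← hi5, h.pm_pow hb]
  obtain ⟨h1, h2, h3, h4⟩ := no_fifteen _ hr _ hr'
  have hlt : i % 5 < 5 := Nat.mod_lt _ (by norm_num)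
  interval_cases (i % 5)
  · rw [pow_zero] at hi5
    rw [conj_eq_one_iff.mp hi5.symm, orderOf_one] at ho'
    omega
  all_goals simp only [pow_succ, pow_zero, one_mul] at e
  · exact h1 e
  · exact h2 e
  · exact h3 e
  · exact h4 e

/-- The subgroups of odd order of `C(z)` have order one, three or five. -/
theorem odd_subgroup {K : Subgroup G} (hK : ∀ a ∈ K, a * z = z * a) (hodd : Odd (Nat.card ↥K)) :
    Nat.card ↥K = 1 ∨ Nat.card ↥K = 3 ∨ Nat.card ↥K = 5 := by
  classical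
  let φ : ↥K →* alternatingGroup (Fin 5) :=
    MonoidHom.mk' (fun a => ⟨pm a, Perm.mem_alternatingGroup.mpr (h.pm_sign _ (hK _ a.2))⟩)
      fun a b => Subtype.ext (h.pm_mul _ _ (hK _ a.2) (hK _ b.2))
  have hinj : Function.Injective φ := (injective_iff_map_eq_one φ).mpr fun a ha => Subtype.ext
    (h.pm_faithful_odd (hK _ a.2) (by
      rw [Subgroup.orderOf_coe]; exact hodd.of_dvd_nat (orderOf_dvd_natCard a)) (congrArg Subtype.val ha))
  have hd : Nat.card ↥K ∣ 60 := by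
    have := Subgroup.card_dvd_of_injective φ hinj
    rwa [show Nat.card (alternatingGroup (Fin 5)) = 60 by rw [Nat.card_eq_fintype_card]; rfl] at this
  have hmem : Nat.card ↥K ∈ Nat.divisors 60 := Nat.mem_divisors.mpr ⟨hd, by norm_num⟩
  have h15 : Nat.card ↥K ≠ 15 := by
    intro e
    haveI : Fact (Nat.Prime 3) := ⟨Nat.prime_three⟩
    haveI : Fact (Nat.Prime 5) := ⟨Nat.prime_five⟩
    obtain ⟨a, ha⟩ := exists_prime_orderOf_dvd_card' (G := ↥K) 3 (by rw [e]; norm_num)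
    obtain ⟨b, hb⟩ := exists_prime_orderOf_dvd_card' (G := ↥K) 5 (by rw [e]; norm_num)
    have hnorm : (Subgroup.zpowers b).Normal := Subgroup.normal_of_index_eq_minFac_card (by
      have := Subgroup.card_mul_index (Subgroup.zpowers b)
      rw [Nat.card_zpowers, hb, e] at this
      rw [e, show Nat.minFac 15 = 3 by norm_num]
      omega)
    refine h.not_norm_fifteen (hK _ a.2) (hK _ b.2) ((Subgroup.orderOf_coe a).trans ha)
      ((Subgroup.orderOf_coe b).trans hb) ?_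
    obtain ⟨k, hk⟩ := Subgroup.mem_zpowers_iff.mp (hnorm.conj_mem b (Subgroup.mem_zpowers b) a)
    exact Subgroup.mem_zpowers_iff.mpr ⟨k, congrArg Subtype.val hk⟩
  rw [show Nat.divisors 60 = {1, 2, 3, 4, 5, 6, 10, 12, 15, 20, 30, 60} by decide +kernel] at hmem
  rw [Nat.odd_iff] at hodd
  simp only [Finset.mem_insert, Finset.mem_singleton] at hmem
  omega

end JT

end CfsgLib.J3Type
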