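import Cfsg.Agent.Lib.J3Type.Even

/-!
Groups of `J₃` type: sets invariant under the centralizer of the involution.
-/

set_option autoImplicit false
set_option linter.unusedSectionVars false

namespace CfsgLib.J3Type

open Equiv
open CfsgLib.HallJankoType (orb mem_cent conj_fix_iff ncard_orb)

universe u

variable {G : Type u} [Group G] [Finite G]

/-- An invariant set in which all stabilisers have order `k` has `k * ncard` divisible by the group order. -/
theorem dvd_ncard_mul (H : Subgroup G) {k : ℕ} (F : Set G) (hinv : ∀ c ∈ H, ∀ y ∈ F, c * y * c⁻¹ ∈ F)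
    (hk : ∀ y ∈ F, Nat.card ↥(H ⊓ Subgroup.centralizer ({y} : Set G)) = k) : Nat.card ↥H ∣ F.ncard * k := by
  induction hn : F.ncard using Nat.strong_induction_on generalizing F with
  | _ n ih =>
    rcases Set.eq_empty_or_nonempty F with rfl | ⟨y, hy⟩
    · rw [Set.ncard_empty] at hn
      rw [← hn, zero_mul]
      exact dvd_zero _
    have hsub : orb H y ⊆ F := by
      rintro _ ⟨c, hc, rfl⟩
      exact hinv c hc y hy
    have hyo : y ∈ orb H y := ⟨1, one_mem _, by simp⟩
    have hrest : ∀ c ∈ H, ∀ t ∈ F \ orb H y, c * t * c⁻¹ ∈ F \ orb H y := by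
      rintro c hc t ⟨ht, hto⟩
      refine ⟨hinv c hc t ht, ?_⟩
      rintro ⟨c', hc', e⟩
      refine hto ⟨c⁻¹ * c', mul_mem (inv_mem hc) hc', ?_⟩
      rw [show c⁻¹ * c' * y * (c⁻¹ * c')⁻¹ = c⁻¹ * (c' * y * c'⁻¹) * c by group, e]
      group
    have hcard := Set.ncard_sdiff hsub
    have hle := Set.ncard_le_ncard hsub (Set.toFinite _)
    have hpos : 0 < (orb H y).ncard := (Set.ncard_pos (Set.toFinite _)).mpr ⟨y, hyo⟩
    have := ih (F \ orb H y).ncard (by omega) (F \ orb H y) hrest (fun t ht => hk t ht.1) rfl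
    have hF : F.ncard = (F \ orb H y).ncard + (orb H y).ncard := by omega
    rw [← hn, hF, add_mul]
    exact dvd_add this (by rw [← hk y hy, ncard_orb])

theorem JT.dvd_free {z : G} {Q : Subgroup G} {pm : G → Perm (Fin 5)} (h : JT z Q pm) {k : ℕ} (F : Set G)
    (hinv : ∀ c : G, c * z = z * c → ∀ y ∈ F, c * y * c⁻¹ ∈ F)
    (hk : ∀ y ∈ F, Nat.card ↥(Subgroup.centralizer ({z} : Set G) ⊓ Subgroup.centralizer ({y} : Set G)) = k) :
    1920 ∣ F.ncard * k := by
  rw [← h.card_C]
  exact dvd_ncard_mul _ F (fun c hc => hinv c (mem_cent.mp hc)) hk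

end CfsgLib.J3Type
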