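import Cfsg.Agent.Lib.J3Type.SevenThree

/-!
Groups of `J₃` type, quotient of order 168: the centralizer of an element of order five.
-/

set_option autoImplicit false
set_option linter.unusedSectionVars false
set_option maxHeartbeats 800000

namespace CfsgLib.J3Type

open Cfsg CfsgLargeExtra Equiv
open CfsgLib.HallJankoType (orb mem_cent conj_fix_iff ncard_orb orderOf_conj')

universe u

variable {G : Type u} [Group G] [Finite G] {z : G} {Q : Subgroup G} {pm : G → Perm (Fin 5)}

theorem pow_mod_five {a : G} (ha : a ^ 5 = 1) (n : ℕ) : a ^ (n % 5) = a ^ n := by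
  conv_rhs => rw [← Nat.mod_add_div n 5, pow_add, pow_mul, ha, one_pow, mul_one]

/-- A shift by a non-trivial power has a power that shifts by one. -/
theorem shift_one {k a t : G} (ht : t ^ 5 = 1) (hk : k * t = t * k) {m : ℕ} (e : k * a * k⁻¹ = a * t ^ m)
    (hm : t ^ m ≠ 1) : ∃ s : ℕ, k ^ s * a * (k ^ s)⁻¹ = a * t := by
  have hpow : ∀ s : ℕ, k ^ s * a * (k ^ s)⁻¹ = a * t ^ (m * s) := by
    intro s
    induction s with
    | zero => simp
    | succ s ih =>
      rw [pow_succ', show k * k ^ s * a * (k * k ^ s)⁻¹ = k * (k ^ s * a * (k ^ s)⁻¹) * k⁻¹ by group, ih,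
        show k * (a * t ^ (m * s)) * k⁻¹ = k * a * k⁻¹ * (k * t ^ (m * s) * k⁻¹) by group, e,
        conj_fix_iff.mpr (Commute.pow_right hk _).eq, mul_assoc, ← pow_add]
      congr 2
      ring
  have hm5 : m % 5 ≠ 0 := fun h0 => hm (by rw [← pow_mod_five ht, h0, pow_zero])
  obtain ⟨s, hs⟩ : ∃ s : ℕ, m * s % 5 = 1 := by
    have hlt : m % 5 < 5 := Nat.mod_lt _ (by norm_num)
    refine ⟨(m % 5) ^ 3, ?_⟩
    rw [Nat.mul_mod, Nat.pow_mod, Nat.mod_mod]
    interval_cases (m % 5) <;> simp_all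
  exact ⟨s, by rw [hpow, ← pow_mod_five ht, hs, pow_one]⟩

namespace FiveCore

variable {h : JT z Q pm} {f : G} {O : Subgroup G} (C : FiveCore h f O)
include C

/-- The involutions of `C(f)` are conjugate under `O`. -/
theorem invol_conj {u : G} (hu : u * f = f * u) (huu : u * u = 1) (hu1 : u ≠ 1) : ∃ c ∈ O, c * u * c⁻¹ = z := by
  have hmem : z * u ∈ O := (C.cover u hu).resolve_left fun hm => hu1 (eq_one_of_sq_odd huu (C.odd_order hm))
  obtain ⟨c, hc, hcc⟩ := exists_sqrt (C.odd_order hmem)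
  have hcO : c ∈ O := (Subgroup.zpowers_le.mpr hmem) hc
  have hcz := inverts_mem_zpowers (inverts_prod h.zz huu) hc
  refine ⟨c, hcO, ?_⟩
  have hu' : u = z * (c * c) := by rw [hcc, ← mul_assoc, h.zz, one_mul]
  have hzc : c * z = z * c⁻¹ := by
    have : z * c⁻¹ * z⁻¹ = c := conj_inv_elem hcz
    calc c * z = z * c⁻¹ * z⁻¹ * z := by rw [this]
      _ = z * c⁻¹ := by group
  rw [hu', ← mul_assoc, hzc]; group

/-- The element of order five is not conjugate to its square. -/
theorem not_conj_sq (x : G) : x * f * x⁻¹ ≠ f ^ 2 := by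
  intro e
  have hu : x * z * x⁻¹ * f = f * (x * z * x⁻¹) := by
    have h3 : (f ^ 2) ^ 3 = f := by rw [← pow_mul, ← pow_mod_five C.f5, show 2 * 3 % 5 = 1 by norm_num, pow_one]
    have h1 : x * z * x⁻¹ * f ^ 2 = f ^ 2 * (x * z * x⁻¹) := by rw [← e]; exact conj_comm C.fz.symm
    have h2 := Commute.pow_right h1 3
    rwa [h3] at h2
  obtain ⟨c, hc, hcz⟩ := C.invol_conj hu (conj_sq x z h.zz) (fun e1 => h.es.ne (conj_eq_one_iff.mp e1))
  have hcz' : c * x * z = z * (c * x) := conj_fix_iff.mp (by rw [conj_conj]; exact hcz)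
  refine h.five_not_conj_sq C.fz C.fo hcz' ?_
  rw [conj_conj, e, conj_fix_iff.mpr (Commute.pow_right (C.cent c hc) 2).eq]

end FiveCore

namespace JT

variable (h : JT z Q pm)
include h

/-- An element of `C(z)` normalizing the group of an element of order five fixes or inverts that element. -/
theorem five_norm_cases {f c : G} (hf : f * z = z * f) (ho : orderOf f = 5) (hc : c * z = z * c)
    (hm : c * f * c⁻¹ ∈ Subgroup.zpowers f) : c * f * c⁻¹ = f ∨ c * f * c⁻¹ = f⁻¹ := by
  have h5 : f ^ 5 = 1 := ho ▸ pow_orderOf_eq_one f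
  obtain ⟨i, hi⟩ := (isOfFinOrder_of_finite f).mem_powers_iff_mem_zpowers.mpr hm
  have hi' : f ^ (i % 5) = c * f * c⁻¹ := by rw [pow_mod_five h5]; exact hi
  have hlt : i % 5 < 5 := Nat.mod_lt _ (by norm_num)
  interval_cases (i % 5)
  · rw [pow_zero] at hi'
    rw [conj_eq_one_iff.mp hi'.symm, orderOf_one] at ho
    omega
  · exact Or.inl (by rw [← hi', pow_one])
  · exact absurd hi'.symm (h.five_not_conj_sq hf ho hc)
  · refine absurd ?_ (h.five_not_conj_sq hf ho (Commute.inv_left hc))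
    have e : (c⁻¹ * f * c) ^ 3 = f := by
      have : c⁻¹ * f ^ 3 * c = f := by rw [hi']; group
      nth_rewrite 2 [← this]
      have := conj_pow (a := c⁻¹) (b := f) (i := 3)
      rwa [inv_inv] at this
    rw [inv_inv]
    calc c⁻¹ * f * c = ((c⁻¹ * f * c) ^ 3) ^ 2 := by
          rw [← pow_mul]
          have h5' : (c⁻¹ * f * c) ^ 5 = 1 := by
            have := conj_pow (a := c⁻¹) (b := f) (i := 5)
            rw [inv_inv, h5, mul_one, inv_mul_cancel] at this
            exact this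
          rw [← pow_mod_five h5', show 3 * 2 % 5 = 1 by norm_num, pow_one]
      _ = f ^ 2 := by rw [e]
  · exact Or.inr (by rw [← hi']; exact eq_inv_of_mul_eq_one_left (by rw [← pow_succ, h5]))

end JT

namespace SevenType

/-- Not both four-group inverters fix five elements of `O`. -/
theorem not_both_five (hs : SevenType G) (h : JT z Q pm) (hone : OneClass G) {f : G} {O : Subgroup G}
    (C : FiveCore h f O) {v : G} (hv : v ∈ h.T) (hvf : Inverts v f)
    (ha : Nat.card ↥(O ⊓ Subgroup.centralizer ({v} : Set G)) = 5)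
    (hb : Nat.card ↥(O ⊓ Subgroup.centralizer ({v * z} : Set G)) = 5) : False := by
  haveI : Fact (Nat.Prime 5) := ⟨Nat.prime_five⟩
  have hO : Nat.card ↥O = 125 := by rw [C.card_eq hv.1 hv.2.1 hvf, ha, hb]
  obtain ⟨hwz, hww, hwf⟩ := C.vz_props hv.1 hv.2.1 hvf
  have hwT := h.five_inverter_mem_T hwz hww C.fz C.fo hwf
  have hv1 := h.T_ne_one hv
  have hvz := hv.1
  have hzi : z⁻¹ = z := inv_eq_of_mul_eq_one_right h.zz
  -- generators of the fixed points
  have gen : ∀ u : G, Nat.card ↥(O ⊓ Subgroup.centralizer ({u} : Set G)) = 5 → ∃ a ∈ O, u * a = a * u ∧ orderOf a = 5 ∧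
      ∀ b ∈ O, u * b = b * u → b ∈ Subgroup.zpowers a := by
    intro u hu
    obtain ⟨⟨a, ha'⟩, hao⟩ := exists_prime_orderOf_dvd_card' (G := ↥(O ⊓ Subgroup.centralizer ({u} : Set G))) 5 (by rw [hu])
    rw [Subgroup.orderOf_mk] at hao
    refine ⟨a, ha'.1, (mem_cent.mp ha'.2).symm, hao, fun b hb hub => ?_⟩
    have : Subgroup.zpowers a = O ⊓ Subgroup.centralizer ({u} : Set G) :=
      Subgroup.eq_of_le_of_card_ge (Subgroup.zpowers_le.mpr ha') (by rw [Nat.card_zpowers, hao, hu])
    rw [this]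
    exact ⟨hb, mem_cent.mpr hub.symm⟩
  obtain ⟨g, hgO, hvg, hgo, hgall⟩ := gen v ha
  obtain ⟨k, hkO, hwk, hko, hkall⟩ := gen (v * z) hb
  have hzg : Inverts z g := C.fix_inverted hvz hvf hgO hvg
  have hzk : Inverts z k := C.fix_inverted hwz hwf hkO hwk
  have hg5 : g ^ 5 = 1 := hgo ▸ pow_orderOf_eq_one g
  -- the subgroups of order five are conjugate
  obtain ⟨x₀, hx₀z, hx₀o⟩ := h.move_invCent hone (⟨hgo, v, hv.2.1, hv1, hvg⟩ : IsInvCent 5 g)
  obtain ⟨c₀, hc₀, hc₀m⟩ := h.prime_sylow (Or.inr rfl) C.fz hx₀z C.fo hx₀o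
  set y := (c₀ * x₀)⁻¹ with hy
  have hygf : g ∈ Subgroup.zpowers (y * f * y⁻¹) := by
    have := mem_zpowers_conj y hc₀m
    rwa [hy, show (c₀ * x₀)⁻¹ * (c₀ * (x₀ * g * x₀⁻¹) * c₀⁻¹) * ((c₀ * x₀)⁻¹)⁻¹ = g by group] at this
  have hyfg : y * f * y⁻¹ ∈ Subgroup.zpowers g := by
    have : Subgroup.zpowers g = Subgroup.zpowers (y * f * y⁻¹) := Subgroup.eq_of_le_of_card_ge
      (Subgroup.zpowers_le.mpr hygf) (by rw [Nat.card_zpowers, Nat.card_zpowers, orderOf_conj', hgo, C.fo])
    rw [this]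
    exact Subgroup.mem_zpowers _
  obtain ⟨Q', pm', h'⟩ := h.atInv hone hv.2.1 hv1
  obtain ⟨O', C'⟩ := h'.exists_fiveCore hvg.symm hgo
  have hcentg : ∀ b : G, b * g = g * b ↔ b * (y * f * y⁻¹) = y * f * y⁻¹ * b :=
    fun b => ⟨fun e => comm_mem_zpowers e hyfg, fun e => comm_mem_zpowers e hygf⟩
  have hO' : Nat.card ↥O' = 125 := by
    have e : Nat.card ↥(Subgroup.centralizer ({g} : Set G)) = Nat.card ↥(Subgroup.centralizer ({f} : Set G)) :=
      Nat.card_congr
        { toFun := fun b => ⟨y⁻¹ * b.1 * y, mem_cent.mpr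
            (conj_comm_back ((hcentg b.1).mp (mem_cent.mp b.2)).symm).symm⟩
          invFun := fun b => ⟨y * b.1 * y⁻¹, mem_cent.mpr ((hcentg _).mpr (conj_comm (mem_cent.mp b.2)))⟩
          left_inv := fun b => Subtype.ext (by show y * (y⁻¹ * b.1 * y) * y⁻¹ = b.1; group)
          right_inv := fun b => Subtype.ext (by show y⁻¹ * (y * b.1 * y⁻¹) * y = b.1; group) }
    rw [C'.card, C.card, hO] at e
    omega
  by_cases hgk : k * g = g * k
  · -- the abelian case
    have hOg : ∀ b ∈ O, b * g = g * b := by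
      intro b hb
      obtain ⟨i, hiO, hiI, j, rfl⟩ := C.split hb
      refine Commute.mul_left ?_ (Commute.pow_left (C.cent g hgO).symm j)
      -- the elements `a * a' * f ^ n` exhaust `O`
      set W : Set G := (fun p : (↥(Subgroup.zpowers g) × ↥(Subgroup.zpowers k)) × Fin 5 =>
        (p.1.2 : G) * (p.1.1 : G) * f ^ (p.2 : ℕ)) '' Set.univ
      have hcomm : ∀ w ∈ W, w * g = g * w := by
        rintro _ ⟨p, -, rfl⟩
        obtain ⟨q, hq⟩ := Subgroup.mem_zpowers_iff.mp p.1.1.2
        obtain ⟨q', hq'⟩ := Subgroup.mem_zpowers_iff.mp p.1.2.2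
        refine Commute.mul_left (Commute.mul_left ?_ ?_) (Commute.pow_left (C.cent g hgO).symm _)
        · rw [← hq']; exact Commute.zpow_left hgk q'
        · rw [← hq]; exact Commute.zpow_self g q
      suffices hall : (O : Set G) ⊆ W from hcomm i (hall hiO)
      have hWO : W ⊆ (O : Set G) := by
        rintro _ ⟨p, -, rfl⟩
        exact O.mul_mem (O.mul_mem ((Subgroup.zpowers_le.mpr hkO) p.1.2.2) ((Subgroup.zpowers_le.mpr hgO) p.1.1.2))
          (C.fpow_mem _)
      refine (Set.eq_of_subset_of_ncard_le hWO ?_ (Set.toFinite _)).ge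
      have hinj : Function.Injective (fun p : (↥(Subgroup.zpowers g) × ↥(Subgroup.zpowers k)) × Fin 5 =>
          (p.1.2 : G) * (p.1.1 : G) * f ^ (p.2 : ℕ)) := by
        rintro ⟨⟨a, b⟩, n⟩ ⟨⟨a', b'⟩, n'⟩ e
        simp only at e
        have hxO : (b' : G)⁻¹ * (b : G) ∈ Subgroup.zpowers k := mul_mem (inv_mem b'.2) b.2
        set x := (b' : G)⁻¹ * (b : G) with hx
        have hxw : v * z * x = x * (v * z) := comm_mem_zpowers hwk hxO
        have hxz : Inverts z x := inverts_mem_zpowers hzk hxO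
        have hyg : (a' : G) * (a : G)⁻¹ ∈ Subgroup.zpowers g := mul_mem a'.2 (inv_mem a.2)
        set t := (a' : G) * (a : G)⁻¹ with ht
        have hxt : x = t * (f ^ (n' : ℕ) * (f ^ (n : ℕ))⁻¹) := by
          have hfa : ∀ c : G, c ∈ O → ∀ q : ℕ, Commute c (f ^ q) := fun c hc q => Commute.pow_right (C.cent c hc) q
          have haO : (a : G) ∈ O := (Subgroup.zpowers_le.mpr hgO) a.2
          calc x = (b' : G)⁻¹ * ((b : G) * (a : G) * f ^ (n : ℕ)) * (f ^ (n : ℕ))⁻¹ * (a : G)⁻¹ := by rw [hx]; group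
            _ = (a' : G) * ((f ^ (n' : ℕ) * (f ^ (n : ℕ))⁻¹) * (a : G)⁻¹) := by rw [e]; group
            _ = t * (f ^ (n' : ℕ) * (f ^ (n : ℕ))⁻¹) := by
              rw [(((hfa _ haO n').inv_left).mul_right ((hfa _ haO n).inv_left.inv_right)).eq.symm, ← mul_assoc, ← ht]
        have hfn : f ^ (n' : ℕ) * (f ^ (n : ℕ))⁻¹ = 1 := by
          have hzf : z * (f ^ (n' : ℕ) * (f ^ (n : ℕ))⁻¹) = f ^ (n' : ℕ) * (f ^ (n : ℕ))⁻¹ * z :=
            Commute.mul_right (Commute.pow_right C.fz.symm _) (Commute.pow_right C.fz.symm _).inv_right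
          have h1 : z * x * z⁻¹ = t⁻¹ * (f ^ (n' : ℕ) * (f ^ (n : ℕ))⁻¹) := by
            rw [hxt, show z * (t * (f ^ (n' : ℕ) * (f ^ (n : ℕ))⁻¹)) * z⁻¹ =
              z * t * z⁻¹ * (z * (f ^ (n' : ℕ) * (f ^ (n : ℕ))⁻¹) * z⁻¹) by group,
              show z * t * z⁻¹ = t⁻¹ from inverts_mem_zpowers hzg hyg, conj_fix_iff.mpr hzf]
          rw [show z * x * z⁻¹ = x⁻¹ from hxz, hxt, mul_inv_rev] at h1
          set q := f ^ (n' : ℕ) * (f ^ (n : ℕ))⁻¹ with hq
          have hqO : q ∈ O := O.mul_mem (C.fpow_mem _) (O.inv_mem (C.fpow_mem _))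
          have htO : t ∈ O := (Subgroup.zpowers_le.mpr hgO) hyg
          have hc1 : Commute t q := Commute.mul_right (Commute.pow_right (C.cent t htO) _)
            (Commute.pow_right (C.cent t htO) _).inv_right
          refine eq_one_of_sq_odd ?_ (C.odd_order hqO)
          rw [← hc1.inv_inv.eq] at h1
          have h3 : q⁻¹ = q := mul_left_cancel h1
          nth_rewrite 1 [← h3]
          exact inv_mul_cancel q
        rw [hfn, mul_one] at hxt
        have hx1 : x = 1 := by
          have hxv : v * x = x * v := by rw [hxt]; exact comm_mem_zpowers hvg hyg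
          have : z * x = x * z := by
            calc z * x = v * (v * z * x) := by rw [← mul_assoc v (v * z), ← mul_assoc v v, hv.2.1, one_mul]
              _ = v * x * (v * z) := by rw [hxw]; group
              _ = x * (v * v) * z := by rw [hxv]; group
              _ = x * z := by rw [hv.2.1, mul_one]
          exact inverts_comm_eq_one hxz this (C.odd_order ((Subgroup.zpowers_le.mpr hkO) hxO))
        have hbb : (b : G) = (b' : G) := (inv_mul_eq_one.mp (hx ▸ hx1)).symm
        have haa : (a : G) = (a' : G) := (mul_inv_eq_one.mp (ht ▸ (hxt ▸ hx1))).symm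
        refine Prod.ext (Prod.ext (Subtype.ext haa) (Subtype.ext hbb)) (Fin.ext ?_)
        have := mul_inv_eq_one.mp hfn
        exact (pow_injOn_Iio_orderOf (by rw [Set.mem_Iio, C.fo]; exact n'.isLt)
          (by rw [Set.mem_Iio, C.fo]; exact n.isLt) this).symm
      rw [Set.ncard_image_of_injective _ hinj, Set.ncard_univ, Nat.card_prod, Nat.card_prod, Nat.card_fin,
        Nat.card_zpowers, Nat.card_zpowers, hgo, hko, ← Nat.card_coe_set_eq]
      exact hO.le
    have hOO : O = O' := Subgroup.eq_of_le_of_card_ge (fun b hb => C'.mem_odd b (hOg b hb) (C.odd_order hb))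
      (by rw [hO, hO'])
    have hab : ∀ b ∈ O, ∀ c ∈ O, b * c = c * b := by
      intro b hb c hc
      obtain ⟨i, hiO, hiI, n, rfl⟩ := C.split hb
      obtain ⟨j, hjO, hjI, m, rfl⟩ := C.split hc
      -- a commutator is a power of both `f` and `g`
      obtain ⟨q, hq⟩ := C.comm_pow hb hc
      obtain ⟨q', hq'⟩ := C'.comm_pow (hOO ▸ hb) (hOO ▸ hc)
      rw [hq] at hq'
      have e : f ^ q = g ^ q' := mul_left_cancel hq'
      have h1 : f ^ q = 1 := by
        refine inverts_comm_eq_one (e ▸ inverts_pow hzg q') ?_ (C.odd_order (C.fpow_mem q))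
        exact (Commute.pow_right C.fz.symm q).eq
      rw [hq, h1, mul_one]
    -- an element moving `z` to `v`
    obtain ⟨c₁, hc₁, hc₁v⟩ := C'.invol_conj (u := y * z * y⁻¹)
      ((hcentg _).mpr (conj_comm C.fz.symm)) (conj_sq y z h.zz) (fun e => h.es.ne (conj_eq_one_iff.mp e))
    set x₁ := c₁ * y with hx₁
    have hx₁z : x₁ * z * x₁⁻¹ = v := by rw [conj_conj]; exact hc₁v
    have hx₁f : x₁ * f * x₁⁻¹ ∈ Subgroup.zpowers g := by
      rw [conj_conj, conj_fix_iff.mpr ((hcentg c₁).mp (C'.cent c₁ hc₁))]; exact hyfg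
    have hgx : g ∈ Subgroup.zpowers (x₁ * f * x₁⁻¹) := by
      rw [conj_conj, conj_fix_iff.mpr ((hcentg c₁).mp (C'.cent c₁ hc₁))]; exact hygf
    set u := x₁ * v * x₁⁻¹ with hu
    have huv : u * v = v * u := by rw [← hx₁z, hu]; exact conj_comm hvz
    have hug : Inverts u g := inverts_mem_zpowers (inverts_conj hvf) hgx
    have huz : z * u * g = g * (z * u) := by
      refine conj_fix_iff.mp ?_
      rw [show z * u * g * (z * u)⁻¹ = z * (u * g * u⁻¹) * z⁻¹ by group, show u * g * u⁻¹ = g⁻¹ from hug,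
        conj_inv_elem hzg]
    obtain ⟨i, -, hzu⟩ := h'.five_cent hvg.symm hgo (Commute.mul_left hvz.symm huv) huz
    have hgv : ∀ n : ℕ, Commute (g ^ n) v := fun n => Commute.pow_left hvg.symm n
    have hshift : g ^ (3 * i) * (z * g ^ i) * (g ^ (3 * i))⁻¹ = z := by
      calc g ^ (3 * i) * (z * g ^ i) * (g ^ (3 * i))⁻¹ =
          z * (z * g ^ (3 * i) * z⁻¹) * g ^ i * (g ^ (3 * i))⁻¹ := by
            rw [hzi, ← mul_assoc, ← mul_assoc, ← mul_assoc, h.zz, one_mul]
        _ = z * ((g ^ (3 * i))⁻¹ * g ^ i * (g ^ (3 * i))⁻¹) := by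
            rw [show z * g ^ (3 * i) * z⁻¹ = (g ^ (3 * i))⁻¹ from inverts_pow hzg _]; group
        _ = z := by
            rw [(Commute.pow_pow_self g i (3 * i)).inv_right.symm.eq, mul_assoc, ← mul_inv_rev, ← pow_add,
              ← pow_mod_five hg5 (3 * i + 3 * i), show (3 * i + 3 * i) % 5 = i % 5 by omega, pow_mod_five hg5,
              mul_inv_cancel, mul_one]
    set x := g ^ (3 * i) * x₁ with hx
    have hxz : x * z * x⁻¹ = v := by rw [conj_conj, hx₁z, conj_fix_iff.mpr (hgv _).eq]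
    have hxv : x * v * x⁻¹ = z ∨ x * v * x⁻¹ = v * z := by
      rw [conj_conj, ← hu]
      have hu' : u = z * (z * u) := by rw [← mul_assoc, h.zz, one_mul]
      rcases hzu with e | e <;> rw [hu', e]
      · exact Or.inl hshift
      · right
        rw [show g ^ (3 * i) * (z * (v * g ^ i)) * (g ^ (3 * i))⁻¹ =
          g ^ (3 * i) * (z * v) * g ^ i * (g ^ (3 * i))⁻¹ by group, ← hvz,
          show g ^ (3 * i) * (v * z) * g ^ i * (g ^ (3 * i))⁻¹ =
            g ^ (3 * i) * v * z * g ^ i * (g ^ (3 * i))⁻¹ by group, (hgv _).eq,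
          show v * g ^ (3 * i) * z * g ^ i * (g ^ (3 * i))⁻¹ = v * (g ^ (3 * i) * (z * g ^ i) * (g ^ (3 * i))⁻¹) by group,
          hshift]
    have hxf : x * f * x⁻¹ ∈ Subgroup.zpowers g := by
      rw [conj_conj]
      have := mem_zpowers_conj (g ^ (3 * i)) hx₁f
      rwa [conj_fix_iff.mpr (Commute.pow_self g _).eq] at this
    have hgxf : g ∈ Subgroup.zpowers (x * f * x⁻¹) := by
      rw [conj_conj]
      have := mem_zpowers_conj (g ^ (3 * i)) hgx
      rwa [conj_fix_iff.mpr (Commute.pow_self g _).eq] at this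
    have hxO : ∀ b ∈ O, x * b * x⁻¹ ∈ O := fun b hb => by
      rw [hOO]
      exact C'.mem_odd _ (comm_mem_zpowers (conj_comm (C.cent b hb)) hgxf) (by rw [orderOf_conj']; exact C.odd_order hb)
    rcases hxv with hxv | hxv
    · -- `x` would centralize `v * z`
      obtain ⟨Q'', pm'', h''⟩ := h.atInv hone hww (h.T_ne_one hwT)
      have hxw : x * (v * z) * x⁻¹ = v * z := by
        rw [show x * (v * z) * x⁻¹ = x * v * x⁻¹ * (x * z * x⁻¹) by group, hxv, hxz, ← hvz]
      have hxk : x * k * x⁻¹ ∈ Subgroup.zpowers k := hkall _ (hxO k hkO) (by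
        conv_lhs => arg 1; rw [← hxw]
        conv_rhs => arg 2; rw [← hxw]
        exact conj_comm hwk)
      have hk5 : k ^ 5 = 1 := hko ▸ pow_orderOf_eq_one k
      have hkw : k * (v * z) = v * z * k := hwk.symm
      have hxw' := conj_fix_iff.mp hxw
      -- adjust by `z` to centralize `k`
      obtain ⟨x', hx'w, hx'k, hx'z⟩ : ∃ x', x' * (v * z) = v * z * x' ∧ x' * k = k * x' ∧
          x * z * x⁻¹ = x' * z * x'⁻¹ := by
        rcases h''.five_norm_cases hkw hko hxw' hxk with e | e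
        · exact ⟨x, hxw', conj_fix_iff.mp e, rfl⟩
        · refine ⟨x * z, Commute.mul_left hxw' hwz.symm, conj_fix_iff.mp ?_, by group⟩
          · rw [conj_conj, show z * k * z⁻¹ = k⁻¹ from hzk, show x * k⁻¹ * x⁻¹ = (x * k * x⁻¹)⁻¹ by group, e, inv_inv]
      obtain ⟨n, -, e⟩ := h''.five_cent hkw hko hx'w hx'k
      have hkz : x' * z * x'⁻¹ = k ^ n * z * (k ^ n)⁻¹ := by
        rcases e with e | e <;> rw [e]
        rw [← (Commute.pow_left hkw n).eq, conj_conj, conj_fix_iff.mpr hwz]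
      rw [hxz] at hx'z
      rw [← hx'z] at hkz
      have hmem : v * z ∈ Subgroup.zpowers k := by
        rw [hkz, show k ^ n * z * (k ^ n)⁻¹ * z = k ^ n * (z * (k ^ n)⁻¹ * z⁻¹) by rw [hzi]; group,
          conj_inv_elem (inverts_pow hzk n)]
        exact mul_mem (Subgroup.pow_mem _ (Subgroup.mem_zpowers k) n) (Subgroup.pow_mem _ (Subgroup.mem_zpowers k) n)
      exact not_mem_zpowers_odd (orderOf_two hww (h.T_ne_one hwT)) (by rw [hko]; decide) hmem
    · -- `x` has order three and centralizes an element of order five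
      have hxw : x * (v * z) * x⁻¹ = z := by
        rw [show x * (v * z) * x⁻¹ = x * v * x⁻¹ * (x * z * x⁻¹) by group, hxv, hxz, mul_assoc, ← hvz,
          ← mul_assoc v v, hv.2.1, one_mul]
      have h3z : x * x * x * z = z * (x * x * x) := by
        refine conj_fix_iff.mp ?_
        rw [conj_conj, conj_conj, hxz, show x * (x * v * x⁻¹) * x⁻¹ = z by rw [hxv, hxw]]
      have h3v : x * x * x * v = v * (x * x * x) := by
        refine conj_fix_iff.mp ?_
        rw [conj_conj, conj_conj, hxv, hxw, hxz]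
      have h3O : ∀ b ∈ O, x * x * x * b * (x * x * x)⁻¹ ∈ O := fun b hb => by
        rw [conj_conj, conj_conj]; exact hxO _ (hxO _ (hxO b hb))
      have h3f : x * x * x * f * (x * x * x)⁻¹ ∈ Subgroup.zpowers f := by
        obtain ⟨n, hn⟩ := C.z_fix (h3O f C.f_mem) (by
          conv_lhs => arg 1; rw [← conj_fix_iff.mpr h3z]
          conv_rhs => arg 2; rw [← conj_fix_iff.mpr h3z]
          exact conj_comm C.fz.symm)
        exact hn ▸ Subgroup.pow_mem _ (Subgroup.mem_zpowers f) n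
      obtain ⟨y₃, hy₃z, hy₃f, hy₃⟩ : ∃ y₃, y₃ * z = z * y₃ ∧ y₃ * f = f * y₃ ∧
          (x * x * x = y₃ ∨ x * x * x = v * y₃) := by
        rcases h.five_norm_cases C.fz C.fo h3z h3f with e | e
        · exact ⟨_, h3z, conj_fix_iff.mp e, Or.inl rfl⟩
        · refine ⟨v * (x * x * x), Commute.mul_left hvz h3z, conj_fix_iff.mp ?_,
            Or.inr (by rw [← mul_assoc v v, hv.2.1, one_mul])⟩
          rw [conj_conj, e, conj_inv_elem hvf]
      have hy₃v : y₃ * v = v * y₃ := by
        rcases hy₃ with e | e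
        · rw [← e]; exact h3v
        · have : y₃ = v * (x * x * x) := by rw [e, ← mul_assoc, hv.2.1, one_mul]
          rw [this]; exact Commute.mul_left rfl h3v
      obtain ⟨n, -, hyn⟩ := h.five_cent C.fz C.fo hy₃z hy₃f
      have hfn : f ^ n = 1 := by
        refine inverts_comm_eq_one (inverts_pow hvf n) ?_ (C.odd_order (C.fpow_mem n))
        rcases hyn with e | e <;> rw [e] at hy₃v
        · exact hy₃v.symm
        · calc v * f ^ n = z * (v * (z * f ^ n)) := by
                rw [← mul_assoc v z, hvz, mul_assoc z v, ← mul_assoc z z, h.zz, one_mul]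
            _ = z * (z * f ^ n * v) := by rw [hy₃v]
            _ = f ^ n * v := by rw [← mul_assoc, ← mul_assoc, h.zz, one_mul]
      rw [hfn, mul_one] at hyn
      have hx3 : x * x * x = 1 := by
        have hc : x * (x * x * x) * x⁻¹ = x * x * x := by group
        rcases hy₃ with e | e <;> rcases hyn with e' | e' <;> rw [e', ] at e
        · exact e
        · rw [e, hxz] at hc
          exact absurd hc (h.T_ne_z hv)
        · rw [mul_one] at e
          rw [e, hxv] at hc
          exact absurd (mul_eq_left.mp hc) h.es.ne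
        · rw [e, hxw] at hc
          exact absurd (mul_eq_right.mp hc.symm) hv1
      have hxo : orderOf x = 3 := by
        haveI : Fact (Nat.Prime 3) := ⟨Nat.prime_three⟩
        refine orderOf_eq_prime (by rw [pow_succ, pow_two, hx3]) fun e => h.T_ne_z hv ?_
        rw [← hxz, e, one_mul, inv_one, mul_one]
      set f₁ := x * f * x⁻¹ with hf₁
      set f₂ := x * f₁ * x⁻¹ with hf₂
      have hf₁O : f₁ ∈ O := hxO f C.f_mem
      have hf₂O : f₂ ∈ O := hxO f₁ hf₁O
      have hxy : x * (f * f₁ * f₂) = f * f₁ * f₂ * x := by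
        refine conj_fix_iff.mp ?_
        have h30 : x * f₂ * x⁻¹ = f := by
          rw [hf₂, hf₁, ← conj_conj, ← conj_conj, hx3, one_mul, inv_one, mul_one]
        rw [show x * (f * f₁ * f₂) * x⁻¹ = x * f * x⁻¹ * (x * f₁ * x⁻¹) * (x * f₂ * x⁻¹) by group, ← hf₁, ← hf₂, h30,
          mul_assoc f f₁ f₂]
        exact hab _ (O.mul_mem hf₁O hf₂O) _ C.f_mem
      have hy5 : (f * f₁ * f₂) ^ 5 = 1 := by
        have c1 : Commute f f₁ := hab _ C.f_mem _ hf₁O
        have c2 : Commute (f * f₁) f₂ := hab _ (O.mul_mem C.f_mem hf₁O) _ hf₂O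
        have e1 : f₁ ^ 5 = 1 := by rw [hf₁, conj_pow, C.f5]; group
        have e2 : f₂ ^ 5 = 1 := by rw [hf₂, conj_pow, e1]; group
        rw [c2.mul_pow, c1.mul_pow, C.f5, e1, e2, one_mul, one_mul]
      have hxD := hs.all_three h hone hxo
      have hy1 := hs.no_fifteen hxD hy5 hxy
      have hvf₁ : v * f₁ = f₁ * v := by rw [← hxz, hf₁]; exact conj_comm C.fz.symm
      have hwf₂ : v * z * f₂ = f₂ * (v * z) := by rw [← hxv, hf₂]; exact conj_comm hvf₁
      have hz1 := C.fix_inverted hvz hvf hf₁O hvf₁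
      have hz2 := C.fix_inverted hwz hwf hf₂O hwf₂
      have h4 : f * f₁⁻¹ * f₂⁻¹ = 1 := by
        have : z * (f * f₁ * f₂) * z⁻¹ = 1 := by rw [hy1]; group
        rwa [show z * (f * f₁ * f₂) * z⁻¹ = z * f * z⁻¹ * (z * f₁ * z⁻¹) * (z * f₂ * z⁻¹) by group,
          conj_fix_iff.mpr C.fz.symm, show z * f₁ * z⁻¹ = f₁⁻¹ from hz1, show z * f₂ * z⁻¹ = f₂⁻¹ from hz2] at this
      have hff : f * f = 1 := by
        have e1 : f * (f₁ * f₂) = 1 := by rw [← mul_assoc, hy1]
        have e2 : f = f₂ * f₁ := by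
          calc f = f * f₁⁻¹ * f₂⁻¹ * (f₂ * f₁) := by group
            _ = f₂ * f₁ := by rw [h4, one_mul]
        rw [hab _ hf₁O _ hf₂O, ← e2] at e1
        exact e1
      have := eq_one_of_sq_odd hff (C.odd_order C.f_mem)
      have hfo := C.fo
      rw [this, orderOf_one] at hfo
      omega
  · -- the nonabelian case
    obtain ⟨m, hm⟩ := C.comm_pow hkO hgO
    have hA : k * g * k⁻¹ = g * f ^ m := by
      rw [hm, show g * k * f ^ m * k⁻¹ = g * (k * f ^ m * k⁻¹) by group,
        conj_fix_iff.mpr (Commute.pow_right (C.cent k hkO) m).eq]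
    have hm1 : f ^ m ≠ 1 := fun e => hgk (by rw [hm, e, mul_one])
    obtain ⟨sA, hsA⟩ := shift_one C.f5 (C.cent k hkO) hA hm1
    have hAf : k ^ sA * f * (k ^ sA)⁻¹ = f := conj_fix_iff.mpr (Commute.pow_left (C.cent k hkO) sA).eq
    have hfO' : f ∈ O' := C'.mem_odd f (C.cent g hgO).symm (C.odd_order C.f_mem)
    obtain ⟨b, hbO, hbf⟩ : ∃ b ∈ O', b * f ≠ f * b := by
      by_contra hall
      push Not at hall
      have : O' = O := Subgroup.eq_of_le_of_card_ge
        (fun b hb => C.mem_odd b (hall b hb) (C'.odd_order hb)) (by rw [hO, hO'])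
      exact hgk (C'.cent k (this.symm ▸ hkO))
    obtain ⟨n, hn⟩ := C'.comm_pow hbO hfO'
    have hB : b * f * b⁻¹ = f * g ^ n := by
      rw [hn, show f * b * g ^ n * b⁻¹ = f * (b * g ^ n * b⁻¹) by group,
        conj_fix_iff.mpr (Commute.pow_right (C'.cent b hbO) n).eq]
    have hn1 : g ^ n ≠ 1 := fun e => hbf (by rw [hn, e, mul_one])
    obtain ⟨sB, hsB⟩ := shift_one hg5 (C'.cent b hbO) hB hn1
    set A := k ^ sA
    set B := b ^ sB
    have hBg : B * g * B⁻¹ = g := conj_fix_iff.mpr (Commute.pow_left (C'.cent b hbO) sB).eq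
    refine C.not_conj_sq (B * B * A * B) ?_
    have cfg : Commute g f := C.cent g hgO
    have s1 : A * (f * g) * A⁻¹ = f * f * g := by
      rw [show A * (f * g) * A⁻¹ = A * f * A⁻¹ * (A * g * A⁻¹) by group, hAf, hsA, cfg.eq, mul_assoc]
    have s2 : B * (f * f * g) * B⁻¹ = f * f * (g * g * g) := by
      rw [show B * (f * f * g) * B⁻¹ = B * f * B⁻¹ * (B * f * B⁻¹) * (B * g * B⁻¹) by group, hsB, hBg]
      rw [show f * g * (f * g) * g = f * (g * f) * g * g by group, cfg.eq]; group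
    have s3 : B * (f * f * (g * g * g)) * B⁻¹ = f ^ 2 := by
      rw [show B * (f * f * (g * g * g)) * B⁻¹ =
        B * f * B⁻¹ * (B * f * B⁻¹) * (B * g * B⁻¹ * (B * g * B⁻¹) * (B * g * B⁻¹)) by group, hsB, hBg,
        show f * g * (f * g) * (g * g * g) = f * (g * f) * g * (g * g * g) by group, cfg.eq]
      calc f * (f * g) * g * (g * g * g) = f * f * g ^ 5 := by rw [show (5 : ℕ) = 1 + 1 + 1 + 1 + 1 from rfl]; simp only [pow_add, pow_one]; group
        _ = f ^ 2 := by rw [hg5, mul_one, pow_two]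
    rw [conj_conj, conj_conj, conj_conj, hsB, s1, s2, s3]

end SevenType

end CfsgLib.J3Type
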