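import Cfsg.Agent.Lib.J3Type.FiveCent

/-!
Groups of `J₃` type, alternating quotient: the centralizer of an element of order five is cyclic of order fifteen,
extended by an involution.
-/

set_option autoImplicit false
set_option linter.unusedSectionVars false

namespace CfsgLib.J3Type

open Cfsg CfsgLargeExtra Equiv
open CfsgLib.HallJankoType (orb mem_cent conj_fix_iff ncard_orb orderOf_conj')

universe u

variable {G : Type u} [Group G] [Finite G] {z : G} {Q : Subgroup G} {pm : G → Perm (Fin 5)}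

theorem FiveCore.comm_of_order_three {h : JT z Q pm} {f : G} {O : Subgroup G} (C : FiveCore h f O) {e a : G}
    (he : e ∈ O) (he3 : e ^ 3 = 1) (ha : a ∈ O) : a * e = e * a := by
  obtain ⟨m, hm⟩ := C.comm_pow ha he
  have hcf : Commute e (f ^ m) := Commute.pow_right (C.cent e he) m
  have h1 : a * e * a⁻¹ = e * f ^ m := by
    calc a * e * a⁻¹ = e * a * f ^ m * a⁻¹ := by rw [hm]
      _ = e * (a * f ^ m * a⁻¹) := by group
      _ = e * f ^ m := by rw [conj_fix_iff.mpr (Commute.pow_right (C.cent a ha) m).eq]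
  have h3 : (f ^ m) ^ 3 = 1 := by
    have h4 : (a * e * a⁻¹) ^ 3 = 1 := by rw [conj_pow, he3]; group
    rwa [h1, hcf.mul_pow, he3, one_mul] at h4
  have h5 : (f ^ m) ^ 5 = 1 := by rw [← pow_mul, mul_comm, pow_mul, C.f5, one_pow]
  have : f ^ m = 1 := orderOf_eq_one_iff.mp (Nat.eq_one_of_dvd_coprimes (by norm_num : Nat.Coprime 3 5)
    (orderOf_dvd_of_pow_eq_one h3) (orderOf_dvd_of_pow_eq_one h5))
  rw [this, mul_one] at h1
  exact mul_inv_eq_iff_eq_mul.mp h1

namespace JT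

variable (h : JT z Q pm)
include h

/-- If some element of order five centralized by an involution commutes with such an element of order three, all do. -/
theorem five_has_three (hone : OneClass G) {f₁ d₁ : G} (hf₁ : IsInvCent 5 f₁) (hd₁ : IsInvCent 3 d₁)
    (hc : d₁ * f₁ = f₁ * d₁) {f : G} (hf : f * z = z * f) (ho : orderOf f = 5) :
    ∃ d : G, IsInvCent 3 d ∧ d * f = f * d := by
  obtain ⟨g, hgz, hgo⟩ := h.move_invCent hone hf₁
  obtain ⟨c, -, hm⟩ := h.prime_sylow (Or.inr rfl) hgz hf hgo ho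
  refine ⟨c⁻¹ * (g * d₁ * g⁻¹) * c⁻¹⁻¹, (hd₁.conj g).conj c⁻¹, ?_⟩
  have h1 := comm_mem_zpowers (conj_comm (g := g) hc) hm
  have h2 := conj_comm (g := c⁻¹) h1
  rwa [inv_inv, show c⁻¹ * (c * f * c⁻¹) * c = f by group, show c⁻¹ * (g * d₁ * g⁻¹) * c =
    c⁻¹ * (g * d₁ * g⁻¹) * c⁻¹⁻¹ by group] at h2

end JT

namespace SixType

/-- The structure of `C(f)` for `f` of order five in `C(z)`. -/
theorem five_core (hs : SixType G) (h : JT z Q pm) (hone : OneClass G) {f : G} {O : Subgroup G}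
    (C : FiveCore h f O) :
    ∃ v ∈ h.T, ∃ e ∈ O, Inverts v f ∧ orderOf e = 3 ∧ IsInvCent 3 e ∧ v * e = e * v ∧ Inverts z e ∧
      orderOf (e * f) = 15 ∧ O = Subgroup.zpowers (e * f) ∧ Nat.card ↥O = 15 ∧
      Nat.card ↥(O ⊓ Subgroup.centralizer ({v} : Set G)) = 3 ∧
      Nat.card ↥(O ⊓ Subgroup.centralizer ({v * z} : Set G)) = 1 := by
  haveI : Fact (Nat.Prime 3) := ⟨Nat.prime_three⟩
  haveI : Fact (Nat.Prime 5) := ⟨Nat.prime_five⟩
  -- a pair of commuting elements of orders three and five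
  obtain ⟨v₀, hv₀, d₀, hd₀, ho₀, hvd₀⟩ := h.exists_inverted (n := 3) (Or.inl rfl)
  have hD₀ := h.isInvCent hd₀ ho₀
  obtain ⟨X, _, π, hX, hπ⟩ := hs d₀ hD₀
  obtain ⟨v₁, a₁, -, -, -, ha₁d, ha₁v, ha₁o, -, -, -⟩ :=
    hπ.cent_inverter hX.toXBase h hone hD₀ hv₀.2.1 hvd₀
  obtain ⟨d, hd, hdf⟩ := h.five_has_three hone ⟨ha₁o, v₀, hv₀.2.1, h.T_ne_one hv₀, ha₁v.symm⟩ hD₀ ha₁d.symm C.fz C.fo
  have hdO : d ∈ O := C.mem_odd d hdf (hd.odd (Or.inl rfl)).1
  obtain ⟨v, hv, hvf⟩ := h.exists_inverter (Or.inr rfl) C.fz C.fo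
  have hprod := C.card_eq hv.1 hv.2.1 hvf
  have h3 : 3 ∣ Nat.card ↥O := hd.1 ▸ Subgroup.orderOf_dvd_natCard O hdO
  obtain ⟨hwz, hww, hwf⟩ := C.vz_props hv.1 hv.2.1 hvf
  have hwT := h.five_inverter_mem_T hwz hww C.fz C.fo hwf
  obtain ⟨u, hu, huf, hu3, hu1⟩ : ∃ u ∈ h.T, Inverts u f ∧
      Nat.card ↥(O ⊓ Subgroup.centralizer ({u} : Set G)) = 3 ∧
      Nat.card ↥O = 5 * (3 * Nat.card ↥(O ⊓ Subgroup.centralizer ({u * z} : Set G))) := by
    rw [hprod] at h3
    rcases (Nat.prime_three.dvd_mul.mp ((Nat.prime_three.dvd_mul.mp h3).resolve_left (by norm_num))) with h' | h'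
    · refine ⟨v, hv, hvf, ?_, ?_⟩
      · rcases C.fix_card hone hv.2.1 (h.T_ne_one hv) with e | e | e <;> rw [e] at h' ⊢ <;> norm_num at h'
      · rw [hprod]
        rcases C.fix_card hone hv.2.1 (h.T_ne_one hv) with e | e | e <;> rw [e] at h' ⊢ <;> norm_num at h'
    · refine ⟨v * z, hwT, hwf, ?_, ?_⟩
      · rcases C.fix_card hone hww (h.T_ne_one hwT) with e | e | e <;> rw [e] at h' ⊢ <;> norm_num at h'
      · rw [mul_assoc v z z, h.zz, mul_one, hprod, mul_comm (Nat.card _) (Nat.card _)]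
        rcases C.fix_card hone hww (h.T_ne_one hwT) with e | e | e <;> rw [e] at h' ⊢ <;> norm_num at h'
  obtain ⟨⟨e, he'⟩, heo⟩ :=
    exists_prime_orderOf_dvd_card' (G := ↥(O ⊓ Subgroup.centralizer ({u} : Set G))) 3 (by rw [hu3])
  rw [Subgroup.orderOf_mk] at heo
  obtain ⟨heO, hev⟩ := he'
  have heu : u * e = e * u := (mem_cent.mp hev).symm
  have heD : IsInvCent 3 e := ⟨heo, u, hu.2.1, h.T_ne_one hu, heu⟩
  have hez := C.fix_inverted hu.1 huf heO heu
  have he3 : e ^ 3 = 1 := heo ▸ pow_orderOf_eq_one e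
  have hef : e * f = f * e := C.cent e heO
  have ho15 : orderOf (e * f) = 15 := by
    rw [(show Commute e f from hef).orderOf_mul_eq_mul_orderOf_of_coprime (by rw [heo, C.fo]; norm_num), heo, C.fo]
  have hgen : O = Subgroup.zpowers (e * f) := by
    refine le_antisymm (fun a ha => ?_) (Subgroup.zpowers_le.mpr (O.mul_mem heO C.f_mem))
    obtain ⟨Y, _, σ, hY, hσ⟩ := hs e heD
    have hfe : f * e = e * f := hef.symm
    have hae := C.comm_of_order_three heO he3 ha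
    have hσf : σ f ≠ 1 := fun e1 => by
      have hm := (hσ.ker f hfe).mp e1
      have := Subgroup.orderOf_dvd_natCard _ hm
      rw [Nat.card_zpowers, heo, C.fo] at this
      norm_num at this
    have hm := hY.cent (σ f) (σ a) (by rw [← hσ.map_pow hfe, C.f5, hσ.map_one']) hσf
      (by rw [← hσ.mul _ _ hae hfe, C.cent a ha, hσ.mul _ _ hfe hae])
    haveI : Finite Y := Finite.of_surjective σ fun s => (hσ.surj s).imp fun b hb => hb.2
    obtain ⟨i, hi⟩ := (isOfFinOrder_of_finite (σ f)).mem_powers_iff_mem_zpowers.mpr hm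
    obtain ⟨j, hj⟩ := (hσ.eq_iff he3 (Commute.pow_left hfe i) hae).mp (by rw [hσ.map_pow hfe]; exact hi)
    have he5 : e ∈ Subgroup.zpowers (e * f) := by
      refine Subgroup.mem_zpowers_iff.mpr ⟨10, ?_⟩
      rw [show ((10 : ℤ)) = ((10 : ℕ) : ℤ) from rfl, zpow_natCast, (show Commute e f from hef).mul_pow,
        show (10 : ℕ) = 3 * 3 + 1 from rfl, pow_succ, pow_mul, he3, one_pow, one_mul,
        show 3 * 3 + 1 = 5 * 2 from rfl, pow_mul, C.f5, one_pow, mul_one]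
    have hf5 : f ∈ Subgroup.zpowers (e * f) := by
      have := Subgroup.mul_mem _ (Subgroup.inv_mem _ he5) (Subgroup.mem_zpowers (e * f))
      rwa [inv_mul_cancel_left] at this
    rw [hj]
    exact Subgroup.mul_mem _ (Subgroup.pow_mem _ hf5 _) (Subgroup.pow_mem _ he5 _)
  have hc15 : Nat.card ↥O = 15 := by rw [hgen, Nat.card_zpowers, ho15]
  exact ⟨u, hu, e, heO, huf, heo, heD, heu, hez, ho15, hgen, hc15, hu3, by omega⟩

/-- The centralizer of an element of order five centralized by an involution, and of an inverter. -/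
theorem five_inverter (hs : SixType G) (h : JT z Q pm) (hone : OneClass G) {f w : G} (hf : IsInvCent 5 f)
    (hw : w * w = 1) (hwf : Inverts w f) :
    Nat.card ↥(Subgroup.centralizer ({f} : Set G) ⊓ Subgroup.centralizer ({w} : Set G)) = 2 ∨
      Nat.card ↥(Subgroup.centralizer ({f} : Set G) ⊓ Subgroup.centralizer ({w} : Set G)) = 6 := by
  obtain ⟨ho, t, ht, ht1, htf⟩ := hf
  obtain ⟨Q', pm', h'⟩ := h.atInv hone ht ht1
  obtain ⟨O, C⟩ := h'.exists_fiveCore htf.symm ho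
  obtain ⟨v, hv, e, -, hvf, -, -, -, -, -, -, -, hv3, hv1⟩ := hs.five_core h' hone C
  obtain ⟨c, hc, hcw, hcwf⟩ := C.inverter_move hw hwf
  have hconj : ∀ {g b : G}, g * f = f * g →
      Nat.card ↥(Subgroup.centralizer ({f} : Set G) ⊓ Subgroup.centralizer ({g * b * g⁻¹} : Set G)) =
        Nat.card ↥(Subgroup.centralizer ({f} : Set G) ⊓ Subgroup.centralizer ({b} : Set G)) := fun {g b} hg =>
    Nat.card_congr
      { toFun := fun a => ⟨g⁻¹ * a.1 * g, mem_cent.mpr (Commute.mul_left (Commute.mul_left (Commute.inv_left hg)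
            (mem_cent.mp a.2.1)) hg), mem_cent.mpr (conj_comm_back (mem_cent.mp a.2.2).symm).symm⟩
        invFun := fun a => ⟨g * a.1 * g⁻¹, mem_cent.mpr (Commute.mul_left (Commute.mul_left hg
            (mem_cent.mp a.2.1)) (Commute.inv_left hg)), mem_cent.mpr (conj_comm (mem_cent.mp a.2.2))⟩
        left_inv := fun a => Subtype.ext (by show g * (g⁻¹ * a.1 * g) * g⁻¹ = a.1; group)
        right_inv := fun a => Subtype.ext (by show g⁻¹ * (g * a.1 * g⁻¹) * g = a.1; group) }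
  rw [← hconj (C.cent c hc)]
  obtain ⟨hwz, hww, hwf'⟩ := C.vz_props hv.1 hv.2.1 hvf
  have hw0 := (h'.five_inverters_eq C.fz C.fo hv hvf).mp ⟨hcw, conj_sq c w hw, hcwf⟩
  obtain ⟨i, -, e1⟩ := h'.five_cent C.fz C.fo (Commute.mul_left hv.1 hcw) hw0.2
  obtain ⟨b, hb, hbcard, hbw⟩ : ∃ b : G, Inverts b f ∧
      (Nat.card ↥(Subgroup.centralizer ({f} : Set G) ⊓ Subgroup.centralizer ({b} : Set G)) = 2 ∨
        Nat.card ↥(Subgroup.centralizer ({f} : Set G) ⊓ Subgroup.centralizer ({b} : Set G)) = 6) ∧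
      c * w * c⁻¹ = b * f ^ i := by
    rcases e1 with e1 | e1
    · refine ⟨v, hvf, Or.inr ?_, by rw [← e1, ← mul_assoc, hv.2.1, one_mul]⟩
      rw [C.cent_card hv.1, hv3]
    · refine ⟨v * t, hwf', Or.inl ?_, by rw [mul_assoc v t, ← e1, ← mul_assoc, hv.2.1, one_mul]⟩
      rw [C.cent_card hwz, hv1]
  have hfold : c * w * c⁻¹ = (f ^ (2 * i)) * b * (f ^ (2 * i))⁻¹ := by
    rw [hbw]
    have h1 : b * (f ^ (2 * i))⁻¹ * b⁻¹ = f ^ (2 * i) := conj_inv_elem (inverts_pow hb (2 * i))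
    have h2 : (f ^ (2 * i))⁻¹ * (f ^ (2 * i))⁻¹ = f ^ i := by
      rw [← mul_inv_rev]
      refine inv_eq_of_mul_eq_one_right ?_
      rw [← pow_add, ← pow_add, show 2 * i + 2 * i + i = 5 * i by ring, pow_mul, C.f5, one_pow]
    calc b * f ^ i = b * (f ^ (2 * i))⁻¹ * b⁻¹ * b * (f ^ (2 * i))⁻¹ := by rw [← h2]; group
      _ = f ^ (2 * i) * b * (f ^ (2 * i))⁻¹ := by rw [h1]
  rw [hfold, hconj (Commute.pow_self f _)]
  exact hbcard

end SixType

end CfsgLib.J3Type
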