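import Cfsg.Agent.Lib.J3Type.Shape
import Cfsg.Agent.Lib.J3Type.SixFive
import Cfsg.Agent.Lib.J3Type.SevenFive
import Cfsg.Agent.Lib.J3Type.Orbits

/-!
Groups of `J₃` type: the inverted elements of odd order centralized by some nontrivial element of `C(z)`.
-/

set_option autoImplicit false
set_option linter.unusedSectionVars false
set_option maxHeartbeats 800000

namespace CfsgLib.J3Type

open Cfsg CfsgLargeExtra Equiv
open CfsgLib.HallJankoType (orb mem_cent conj_fix_iff ncard_orb orderOf_conj')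

universe u

variable {G : Type u} [Group G] [Finite G] {z : G} {Q : Subgroup G} {pm : G → Perm (Fin 5)}

/-- `y` is centralized by an involution commuting with `z`. -/
def InvY (z y : G) : Prop := ∃ u : G, u * u = 1 ∧ u ≠ 1 ∧ u * z = z * u ∧ u * y = y * u

/-- The inverted elements with stabiliser of order `k` containing an involution. -/
def cls (z : G) (k : ℕ) : Set G := {y | y ∈ oddInverted z ∧ InvY z y ∧ Nat.card ↥(CC y z) = k}

/-- The inverted elements with stabiliser of order three, free of involutions. -/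
def clsE (z : G) : Set G := {y | y ∈ oddInverted z ∧ ¬ InvY z y ∧ Nat.card ↥(CC y z) = 3}

/-- The inverted elements with nontrivial stabiliser. -/
def nonfree (z : G) : Set G := {y | y ∈ oddInverted z ∧ Nat.card ↥(CC y z) ≠ 1}

theorem ncard_order_prime {N : Subgroup G} {p : ℕ} [hp : Fact p.Prime] (hN : Nat.card ↥N = p) :
    {o : G | o ∈ N ∧ orderOf o = p}.ncard = p - 1 := by
  rw [show {o : G | o ∈ N ∧ orderOf o = p} = (N : Set G) \ {1} from ?_, Set.ncard_sdiff (by simp [one_mem]),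
    Set.ncard_singleton, ← Nat.card_coe_set_eq]
  · rw [show Nat.card ↥(N : Set G) = p from hN]
  ext o
  constructor
  · rintro ⟨ho, hoo⟩
    refine ⟨ho, fun e => ?_⟩
    rw [Set.mem_singleton_iff.mp e, orderOf_one] at hoo
    exact hp.out.ne_one hoo.symm
  · rintro ⟨ho, ho1⟩
    refine ⟨ho, ?_⟩
    have hd := Subgroup.orderOf_dvd_natCard N ho
    rw [hN] at hd
    exact (hp.out.eq_one_or_self_of_dvd _ hd).resolve_left fun e => ho1 (orderOf_eq_one_iff.mp e)

theorem GenDih.ncard_order {K : Subgroup G} (hK : GenDih K) {p : ℕ} [hp : Fact p.Prime] (hpo : Odd p)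
    (hcard : Nat.card ↥K = 2 * p) : {o : G | o ∈ K ∧ orderOf o = p}.ncard = p - 1 := by
  obtain ⟨N, v, hv, hv1, hvK, hvN, hNK, hodd, hinv, hcov⟩ := hK
  have hmemN : ∀ o ∈ K, orderOf o = p → o ∈ N := fun o ho hoo => (hcov o ho).resolve_right fun hm => by
    have h2 := hinv _ hm
    rw [Inverts, mul_inv_rev, inv_eq_of_mul_eq_one_right hv, ← mul_assoc v v, hv, one_mul] at h2
    have h3 : o * o = 1 := by
      calc o * o = o * v * v * o := by rw [mul_assoc o v v, hv, mul_one]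
        _ = o⁻¹ * v * (v * o) := by rw [← h2]; group
        _ = 1 := by rw [mul_assoc, ← mul_assoc v v, hv, one_mul, inv_mul_cancel]
    have hd := orderOf_dvd_of_pow_eq_one (x := o) (n := 2) (by rw [pow_two, h3])
    rw [hoo, Nat.prime_dvd_prime_iff_eq hp.out Nat.prime_two] at hd
    rw [hd] at hpo
    exact absurd hpo (by decide)
  obtain ⟨⟨o, ho⟩, hoo⟩ := exists_prime_orderOf_dvd_card' (G := ↥K) p (by rw [hcard]; exact dvd_mul_left _ _)
  rw [Subgroup.orderOf_mk] at hoo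
  have hpN : p ∣ Nat.card ↥N := hoo ▸ Subgroup.orderOf_dvd_natCard N (hmemN o ho hoo)
  have hN : Nat.card ↥N = p := by
    have h1 : Nat.card ↥N ∣ p := (Nat.coprime_two_right.mpr hodd).dvd_of_dvd_mul_left
      (hcard ▸ Subgroup.card_dvd_of_le hNK)
    exact Nat.dvd_antisymm h1 hpN
  rw [← ncard_order_prime (N := N) hN]
  congr 1
  ext o
  exact ⟨fun h => ⟨hmemN o h.1 h.2, h.2⟩, fun h => ⟨hNK h.1, h.2⟩⟩

theorem inverts_in_cent {z u : G} (hu : u * z = z * u) (h : Inverts z u) (ho : Odd (orderOf u)) : u = 1 :=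
  inverts_comm_eq_one h hu.symm ho

theorem FiveCore.ncard_inverted {h : JT z Q pm} {f : G} {O : Subgroup G} (C : FiveCore h f O) :
    {a : G | a ∈ O ∧ Inverts z a}.ncard * 5 = Nat.card ↥O := by
  set I := {a : G | a ∈ O ∧ Inverts z a}
  rw [← Nat.card_coe_set_eq]
  let g : ↥I × Fin 5 → ↥O := fun p => ⟨p.1.1 * f ^ (p.2 : ℕ), O.mul_mem p.1.2.1 (C.fpow_mem _)⟩
  have hg : Function.Bijective g := by
    refine ⟨?_, ?_⟩
    · rintro ⟨a, k⟩ ⟨a', k'⟩ e
      have e' : a.1 * f ^ (k : ℕ) = a'.1 * f ^ (k' : ℕ) := congrArg Subtype.val e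
      have h5 : f ^ ((k : ℕ) + 4 * k') = 1 := by
        refine C.split_unique a.2.1 a.2.2 a'.2.2 ?_
        rw [pow_add, ← mul_assoc, e', mul_assoc, ← pow_add, show (k' : ℕ) + 4 * k' = 5 * k' by ring, pow_mul, C.f5,
          one_pow, mul_one]
      have hkk : k = k' := by
        have hd := orderOf_dvd_of_pow_eq_one h5
        rw [C.fo] at hd
        have h1 := k.isLt
        have h2 := k'.isLt
        exact Fin.ext (by omega)
      subst hkk
      rw [Subtype.ext (mul_right_cancel e')]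
    · rintro ⟨c, hc⟩
      obtain ⟨i, hi, hiI, k, rfl⟩ := C.split hc
      refine ⟨(⟨i, hi, hiI⟩, ⟨k % 5, Nat.mod_lt _ (by norm_num)⟩), Subtype.ext ?_⟩
      show i * f ^ (k % 5) = i * f ^ k
      rw [← C.fo, pow_mod_orderOf]
  rw [← Nat.card_eq_of_bijective g hg, Nat.card_prod, Nat.card_fin]

namespace JT

variable (h : JT z Q pm)
include h

/-- An inverted element centralized by an involution of `C(z)` is centralized by an involution, of order 3 or 5. -/
theorem invY_order (hone : OneClass G) {y : G} (hy : y ∈ oddInverted z) (hi : InvY z y) :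
    IsInvCent 3 y ∨ IsInvCent 5 y := by
  obtain ⟨u, hu, hu1, -, huy⟩ := hi
  obtain ⟨g, hg⟩ := hone.move h hu hu1
  rcases h.odd_order (a := g * y * g⁻¹) (by rw [← hg]; exact conj_comm huy.symm)
    (by rw [orderOf_conj']; exact hy.2.1) with e | e | e
  · exact absurd (conj_eq_one_iff.mp e) hy.1
  · rw [orderOf_conj'] at e
    exact Or.inl ⟨e, u, hu, hu1, huy⟩
  · rw [orderOf_conj'] at e
    exact Or.inr ⟨e, u, hu, hu1, huy⟩

theorem genDih_invY {p : ℕ} (hq : QType G p) (hone : OneClass G) {y : G} (hy : y ∈ oddInverted z) (hi : InvY z y) :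
    GenDih (CC y z) := by
  rcases h.invY_order hone hy hi with e | e
  · exact genDih_CC hq h hone (Or.inl rfl) e h.zz hy.2.2
  · exact genDih_CC hq h hone (Or.inr rfl) e h.zz hy.2.2

/-- The number of inverted elements commuting with each involution of `C(z)`. -/
theorem ncard_comm_invol (hone : OneClass G) {u : G} (hu : u ∈ invs z) :
    (u ∈ h.T → {y | y ∈ oddInverted z ∧ u * y = y * u}.ncard = 40) ∧
      (u ∉ h.T → {y | y ∈ oddInverted z ∧ u * y = y * u} = ∅) := by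
  obtain ⟨g, hg⟩ := hone.move h hu.2.1 hu.2.2
  have hback : ∀ {a : G}, a * z = z * a → u * (g⁻¹ * a * g) = g⁻¹ * a * g * u := fun {a} ha =>
    conj_comm_back (by rw [hg]; exact ha.symm)
  have himg : (fun y => g * y * g⁻¹) '' {y | y ∈ oddInverted z ∧ u * y = y * u} =
      {a : G | (a * z = z * a ∧ a ≠ 1 ∧ Odd (orderOf a)) ∧ Inverts (g * z * g⁻¹) a} := by
    ext a
    constructor
    · rintro ⟨y, ⟨⟨hy1, hyo, hzy⟩, huy⟩, rfl⟩
      exact ⟨⟨by rw [← hg]; exact conj_comm huy.symm, fun e => hy1 (conj_eq_one_iff.mp e),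
        by rw [orderOf_conj']; exact hyo⟩, inverts_conj hzy⟩
    · rintro ⟨⟨haz, ha1, hao⟩, hxa⟩
      refine ⟨g⁻¹ * a * g, ⟨⟨fun e => ha1 ?_, ?_, inverts_back hxa⟩, hback haz⟩,
        by show g * (g⁻¹ * a * g) * g⁻¹ = a; group⟩
      · rw [show a = g * (g⁻¹ * a * g) * g⁻¹ by group, e]; group
      · have := orderOf_conj' g⁻¹ a
        rw [inv_inv] at this
        rw [this]; exact hao
  constructor
  · intro hT
    rw [← Set.ncard_image_of_injective _ (show Function.Injective fun y : G => g * y * g⁻¹ from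
      fun a b e => mul_left_cancel (mul_right_cancel e)), himg]
    have hxT := h.type_T hT hg
    rw [show {a : G | (a * z = z * a ∧ a ≠ 1 ∧ Odd (orderOf a)) ∧ Inverts (g * z * g⁻¹) a} =
      {a : G | (a * z = z * a ∧ orderOf a = 3) ∧ Inverts (g * z * g⁻¹) a} ∪
        {a : G | (a * z = z * a ∧ orderOf a = 5) ∧ Inverts (g * z * g⁻¹) a} from ?_, Set.ncard_union_eq,
      h.ncard_three_inverted hxT, h.ncard_five_inverted hxT]
    · rw [Set.disjoint_left]
      rintro a ⟨⟨-, e⟩, -⟩ ⟨⟨-, e'⟩, -⟩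
      omega
    · ext a
      constructor
      · rintro ⟨⟨haz, ha1, hao⟩, hxa⟩
        rcases h.odd_order haz hao with e | e | e
        exacts [absurd e ha1, Or.inl ⟨⟨haz, e⟩, hxa⟩, Or.inr ⟨⟨haz, e⟩, hxa⟩]
      · rintro (⟨⟨haz, e⟩, hxa⟩ | ⟨⟨haz, e⟩, hxa⟩) <;>
          exact ⟨⟨haz, fun e1 => by rw [e1, orderOf_one] at e; omega, by rw [e]; decide⟩, hxa⟩
  · intro hT
    rw [Set.eq_empty_iff_forall_notMem]
    intro y hy
    have hm : g * y * g⁻¹ ∈ {a : G | (a * z = z * a ∧ a ≠ 1 ∧ Odd (orderOf a)) ∧ Inverts (g * z * g⁻¹) a} :=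
      himg ▸ ⟨y, hy, rfl⟩
    obtain ⟨⟨haz, ha1, hao⟩, hxa⟩ := hm
    rcases h.inv_cases hu.1 hu.2.1 hu.2.2 with e | e | e
    · subst e
      exact hy.1.1 (inverts_in_cent hy.2.symm hy.1.2.2 hy.1.2.1)
    · have hS := h.type_S e hg
      rcases h.odd_order haz hao with e' | e' | e'
      · exact ha1 e'
      · obtain ⟨x, y', F⟩ := h.exists_frame3 haz e'
        exact h.S_not_T hS (F.inverter_mem_T (h.es.comm _ hS.1) hS.2.1 hxa)
      · exact h.S_not_T hS (h.five_inverter_mem_T (h.es.comm _ hS.1) hS.2.1 haz e' hxa)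
    · exact hT e

/-- The pairs of an inverted element and a commuting involution of `C(z)`. -/
theorem pairs_Y {p : ℕ} (hq : QType G p) (hone : OneClass G)
    (hvals : ∀ y ∈ oddInverted z, InvY z y →
      Nat.card ↥(CC y z) = 2 ∨ Nat.card ↥(CC y z) = 6 ∨ Nat.card ↥(CC y z) = 10) :
    (cls z 2).ncard + 3 * (cls z 6).ncard + 5 * (cls z 10).ncard = 4800 := by
  classical
  haveI := Fintype.ofFinite G
  set Y' := {y : G | y ∈ oddInverted z ∧ InvY z y} with hY'
  have hcount : ∀ y ∈ Y'.toFinset, ((h.T.toFinset).filter fun u => u * y = y * u).card = Nat.card ↥(CC y z) / 2 := by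
    intro y hy
    rw [Set.mem_toFinset] at hy
    rw [(h.genDih_invY hq hone hy.1 hy.2).card_eq, Nat.mul_div_cancel_left _ (by norm_num), Set.ncard_eq_toFinset_card']
    congr 1
    ext u
    simp only [Finset.mem_filter, Set.mem_toFinset, Set.mem_ofPred_eq]
    constructor
    · rintro ⟨hu, huy⟩
      exact ⟨mem_CC.mpr ⟨huy, hu.1⟩, hu.2.1, h.T_ne_one hu⟩
    · rintro ⟨hu, huu, hu1⟩
      obtain ⟨huy, huz⟩ := mem_CC.mp hu
      refine ⟨?_, huy⟩
      by_contra hT
      exact Set.notMem_empty y ((h.ncard_comm_invol hone ⟨huz, huu, hu1⟩).2 hT ▸ (⟨hy.1, huy⟩ : y ∈ {y | _ ∧ _}))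
  have hsum := Finset.sum_card_bipartiteAbove_eq_sum_card_bipartiteBelow (fun (y u : G) => u * y = y * u)
    (s := Y'.toFinset) (t := h.T.toFinset)
  simp only [Finset.bipartiteAbove, Finset.bipartiteBelow] at hsum
  rw [Finset.sum_congr rfl hcount] at hsum
  have hright : ∀ u ∈ h.T.toFinset, (Y'.toFinset.filter fun y => u * y = y * u).card = 40 := by
    intro u hu
    rw [Set.mem_toFinset] at hu
    rw [← (h.ncard_comm_invol hone ⟨hu.1, hu.2.1, h.T_ne_one hu⟩).1 hu, Set.ncard_eq_toFinset_card']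
    congr 1
    ext y
    simp only [Finset.mem_filter, Set.mem_toFinset, Set.mem_ofPred_eq, hY']
    exact ⟨fun hy => ⟨hy.1.1, hy.2⟩, fun hy => ⟨⟨hy.1, u, hu.2.1, h.T_ne_one hu, hu.1, hy.2⟩, hy.2⟩⟩
  rw [Finset.sum_congr rfl hright, Finset.sum_const, smul_eq_mul, ← Set.ncard_eq_toFinset_card', h.ncard_T] at hsum
  have hsplit : Y'.toFinset = (cls z 2).toFinset ∪ (cls z 6).toFinset ∪ (cls z 10).toFinset := by
    ext y
    simp only [Finset.mem_union, Set.mem_toFinset]
    show (y ∈ oddInverted z ∧ InvY z y) ↔ _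
    constructor
    · rintro ⟨hy, hi⟩
      rcases hvals y hy hi with e | e | e
      exacts [Or.inl (Or.inl ⟨hy, hi, e⟩), Or.inl (Or.inr ⟨hy, hi, e⟩), Or.inr ⟨hy, hi, e⟩]
    · rintro ((hy | hy) | hy) <;> exact ⟨hy.1, hy.2.1⟩
  have hd : ∀ i j : ℕ, i ≠ j → Disjoint (cls z i).toFinset (cls z j).toFinset := fun i j hij =>
    Set.disjoint_toFinset.mpr (Set.disjoint_left.mpr fun y hy hy' => hij (hy.2.2.symm.trans hy'.2.2))
  rw [hsplit, Finset.sum_union (Finset.disjoint_union_left.mpr ⟨hd 2 10 (by norm_num), hd 6 10 (by norm_num)⟩),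
    Finset.sum_union (hd 2 6 (by norm_num)), Finset.sum_const_nat (m := 1), Finset.sum_const_nat (m := 3),
    Finset.sum_const_nat (m := 5), ← Set.ncard_eq_toFinset_card', ← Set.ncard_eq_toFinset_card',
    ← Set.ncard_eq_toFinset_card'] at hsum
  · omega
  all_goals
    intro y hy
    rw [Set.mem_toFinset] at hy
    rw [hy.2.2]

/-- An inverted element with nontrivial stabiliser free of involutions has stabiliser of order three or five. -/
theorem card_free_invol {y : G} (hy : y ∈ oddInverted z) (hi : ¬ InvY z y) :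
    Nat.card ↥(CC y z) = 1 ∨ Nat.card ↥(CC y z) = 3 ∨ Nat.card ↥(CC y z) = 5 := by
  refine h.odd_subgroup (fun a ha => (mem_CC.mp ha).2) (Nat.not_even_iff_odd.mp fun hev => ?_)
  haveI : Fact (Nat.Prime 2) := ⟨Nat.prime_two⟩
  obtain ⟨⟨u, hu⟩, huo⟩ := exists_prime_orderOf_dvd_card' (G := ↥(CC y z)) 2 (even_iff_two_dvd.mp hev)
  rw [Subgroup.orderOf_mk] at huo
  obtain ⟨huy, huz⟩ := mem_CC.mp hu
  refine hi ⟨u, ?_, fun e => ?_, huz, huy⟩
  · rw [← pow_two, ← huo, pow_orderOf_eq_one]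
  · rw [e, orderOf_one] at huo; omega

/-- The inverted lift of an inverted element of the quotient at `o`. -/
theorem inverted_lift {o : G} (hoz : o * z = z * o) (hoo : orderOf o = 3) {X : Type} [Group X] {π : G → X}
    (hπ : ThreeQ o π) {s : X} (hs : Odd (orderOf s)) (hsi : Inverts (π z) s) :
    ∃ y : G, y * o = o * y ∧ π y = s ∧ Inverts z y ∧ Odd (orderOf y) ∧
      ∀ y' : G, y' * o = o * y' → π y' = s → Inverts z y' → y' = y := by
  have ho3 : o ^ 3 = 1 := hoo ▸ pow_orderOf_eq_one o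
  obtain ⟨a, ha, rfl⟩ := hπ.surj s
  have hza : z * a * z⁻¹ * o = o * (z * a * z⁻¹) :=
    Commute.mul_left (Commute.mul_left hoz.symm ha) (Commute.inv_left hoz.symm)
  have hai : a⁻¹ * o = o * a⁻¹ := Commute.inv_left ha
  obtain ⟨j, hj⟩ := (hπ.eq_iff ho3 hai hza).mp (by
    rw [hπ.map_inv ha, hπ.map_conj hoz.symm ha]
    exact (show π z * π a * (π z)⁻¹ = (π a)⁻¹ from hsi).symm)
  set y := a * o ^ j with hy
  have hyo : y * o = o * y := Commute.mul_left ha (Commute.pow_self o j)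
  have hπy : π y = π a := ((hπ.eq_iff ho3 ha hyo).mpr ⟨j, rfl⟩).symm
  have hyz : Inverts z y := by
    show z * y * z⁻¹ = y⁻¹
    rw [hy, show z * (a * o ^ j) * z⁻¹ = z * a * z⁻¹ * (z * o ^ j * z⁻¹) by group, hj,
      conj_fix_iff.mpr (Commute.pow_right hoz.symm j).eq, mul_inv_rev, mul_assoc]
    have h2 : o ^ j * o ^ j = (o ^ j)⁻¹ := by
      refine eq_inv_of_mul_eq_one_left ?_
      rw [← pow_add, ← pow_add, show j + j + j = 3 * j by ring, pow_mul, ho3, one_pow]
    rw [h2]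
    exact (Commute.pow_right ha j).inv_inv.eq
  clear_value y
  refine ⟨y, hyo, hπy, hyz, ?_, fun y' hy'o hy's hy'z => ?_⟩
  · have : (y ^ orderOf (π a)) ^ 3 = 1 := by
      have hm := (hπ.ker _ (Commute.pow_left hyo _)).mp (by rw [hπ.map_pow hyo, hπy, pow_orderOf_eq_one])
      obtain ⟨i, hi⟩ := (isOfFinOrder_of_finite o).mem_powers_iff_mem_zpowers.mpr hm
      have hi' : o ^ i = y ^ orderOf (π a) := hi
      rw [← hi', ← pow_mul, mul_comm, pow_mul, ho3, one_pow]
    rw [← pow_mul] at this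
    exact odd_orderOf_of_pow (hs.mul (by decide)) this
  · obtain ⟨i, hi⟩ := (hπ.eq_iff ho3 hyo hy'o).mp (hπy.trans hy's.symm)
    have h1 : z * o ^ i * z⁻¹ = (o ^ i)⁻¹ := by
      have h2 : z * y' * z⁻¹ = y'⁻¹ := hy'z
      rw [hi, show z * (y * o ^ i) * z⁻¹ = z * y * z⁻¹ * (z * o ^ i * z⁻¹) by group, show z * y * z⁻¹ = y⁻¹ from hyz,
        mul_inv_rev, ← (Commute.pow_right hyo i).inv_inv.eq] at h2
      exact mul_left_cancel h2
    rw [hi, inverts_comm_eq_one h1 (Commute.pow_right hoz.symm i).eq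
      (odd_orderOf_of_pow (n := 3) (by decide) (by rw [← pow_mul, mul_comm, pow_mul, ho3, one_pow])), mul_one]

/-- The inverted elements commuting with `o` biject with those of the quotient. -/
theorem ncard_comm_three {o : G} (hoz : o * z = z * o) (hoo : orderOf o = 3) {X : Type} [Group X] {π : G → X}
    (hπ : ThreeQ o π) {n : ℕ} (hn : Odd n) :
    {y | y ∈ oddInverted z ∧ y * o = o * y ∧ π y ^ n = 1}.ncard =
      {s : X | (s ^ n = 1 ∧ s ≠ 1) ∧ Inverts (π z) s}.ncard := by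
  have ho3 : o ^ 3 = 1 := hoo ▸ pow_orderOf_eq_one o
  haveI : Finite X := Finite.of_surjective π fun s => (hπ.surj s).imp fun a ha => ha.2
  refine Set.ncard_congr (fun y _ => π y) ?_ ?_ ?_
  · rintro y ⟨⟨hy1, hyo, hzy⟩, hc, hyn⟩
    refine ⟨⟨hyn, fun e => hy1 ?_⟩, hπ.map_inverts hoz.symm hc hzy⟩
    exact inverts_comm_eq_one hzy (comm_mem_zpowers hoz.symm ((hπ.ker y hc).mp e)) hyo
  · rintro y y' ⟨⟨-, hyo, hzy⟩, hc, hyn⟩ ⟨⟨-, -, hzy'⟩, hc', -⟩ e
    obtain ⟨a, -, -, -, -, huniq⟩ := h.inverted_lift hoz hoo hπ (s := π y)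
      (odd_orderOf_of_pow hn hyn) (hπ.map_inverts hoz.symm hc hzy)
    exact (huniq y hc rfl hzy).trans (huniq y' hc' e.symm hzy').symm
  · rintro s ⟨⟨hsn, hs1⟩, hsi⟩
    obtain ⟨y, hc, rfl, hzy, hyo, -⟩ := h.inverted_lift hoz hoo hπ (odd_orderOf_of_pow hn hsn) hsi
    exact ⟨y, ⟨⟨fun e => hs1 (by rw [e, hπ.map_one']), hyo, hzy⟩, hc, hsn⟩, rfl⟩

/-- An inverted element commuting with `o`, of image of order `p`, is centralized by an involution of `C(z)`. -/
theorem invY_of_three {p : ℕ} (hone : OneClass G) {o y : G} (hoz : o * z = z * o) (hoo : orderOf o = 3)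
    {X : Type} [Group X] {π : G → X} (hX : XBase X p) (hπ : ThreeQ o π) (hy : y ∈ oddInverted z)
    (hc : y * o = o * y) (hyp : π y ^ p = 1) : InvY z y ∧ orderOf y = p := by
  haveI : Finite X := Finite.of_surjective π fun s => (hπ.surj s).imp fun a ha => ha.2
  obtain ⟨x, y', F⟩ := h.exists_frame3 hoz hoo
  obtain ⟨v, hv, hvo⟩ := h.exists_inverter (Or.inl rfl) hoz hoo
  have hy1 : π y ≠ 1 := fun e => hy.1
    (inverts_comm_eq_one hy.2.2 (comm_mem_zpowers hoz.symm ((hπ.ker y hc).mp e)) hy.2.1)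
  have hzy := hπ.map_inverts hoz.symm hc hy.2.2
  obtain ⟨w, a, ⟨hwz, hww, hwo⟩, hao, hap, ha1, hwa, hza, hπa⟩ :=
    hπ.exists_cent_inverter hX F hv hvo hone ⟨⟨hyp, hy1⟩, hzy⟩
  haveI : Fact p.Prime := ⟨by rcases hX.hp with rfl | rfl <;> norm_num⟩
  have hodd : Odd p := by rcases hX.hp with rfl | rfl <;> decide
  obtain ⟨b, -, -, -, -, huniq⟩ := h.inverted_lift hoz hoo hπ (odd_orderOf_of_pow hodd hyp) hzy
  obtain rfl : y = a := (huniq y hc rfl hy.2.2).trans (huniq a hao hπa hza).symm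
  exact ⟨⟨w, hww, h.T_ne_one (F.inverter_mem_T hwz hww hwo), hwz, hwa⟩, orderOf_eq_prime hap ha1⟩

end JT

end CfsgLib.J3Type
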