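import Cfsg.Agent.Lib.J3Type.Nonfree

/-!
Groups of `J₃` type: the number of inverted elements with nontrivial stabiliser.
-/

set_option autoImplicit false
set_option linter.unusedSectionVars false
set_option maxHeartbeats 800000

namespace CfsgLib.J3Type

open Cfsg CfsgLargeExtra Equiv
open CfsgLib.HallJankoType (orb mem_cent conj_fix_iff ncard_orb orderOf_conj')

universe u

variable {G : Type u} [Group G] [Finite G] {z : G} {Q : Subgroup G} {pm : G → Perm (Fin 5)}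

theorem dvd_card_CC {y o : G} (ho : o * y = y * o) (hoz : o * z = z * o) {n : ℕ} (hn : orderOf o = n) :
    n ∣ Nat.card ↥(CC y z) := hn ▸ Subgroup.orderOf_dvd_natCard _ (mem_CC.mpr ⟨ho, hoz⟩)

theorem nonfree_of_card {y : G} (hy : y ∈ oddInverted z) {k : ℕ} (hk : Nat.card ↥(CC y z) = k) (h1 : k ≠ 1) :
    y ∈ nonfree z := ⟨hy, hk ▸ h1⟩

theorem nonfree_split (hall : ∀ y ∈ nonfree z, y ∈ cls z 2 ∨ y ∈ cls z 6 ∨ y ∈ cls z 10 ∨ y ∈ clsE z) :
    (nonfree z).ncard = (cls z 2).ncard + (cls z 6).ncard + (cls z 10).ncard + (clsE z).ncard := by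
  have hset : nonfree z = cls z 2 ∪ cls z 6 ∪ cls z 10 ∪ clsE z := by
    ext y
    constructor
    · intro hy
      rcases hall y hy with e | e | e | e
      exacts [Or.inl (Or.inl (Or.inl e)), Or.inl (Or.inl (Or.inr e)), Or.inl (Or.inr e), Or.inr e]
    · rintro (((e | e) | e) | e) <;> exact nonfree_of_card e.1 e.2.2 (by norm_num)
  have hd : ∀ i j : ℕ, i ≠ j → Disjoint (cls z i) (cls z j) := fun i j hij =>
    Set.disjoint_left.mpr fun y hy hy' => hij (hy.2.2.symm.trans hy'.2.2)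
  have hdE : ∀ i : ℕ, Disjoint (cls z i) (clsE z) := fun i =>
    Set.disjoint_left.mpr fun y hy hy' => hy'.2.1 hy.2.1
  rw [hset, Set.ncard_union_eq (Set.disjoint_union_left.mpr ⟨Set.disjoint_union_left.mpr ⟨hdE 2, hdE 6⟩, hdE 10⟩),
    Set.ncard_union_eq (Set.disjoint_union_left.mpr ⟨hd 2 10 (by norm_num), hd 6 10 (by norm_num)⟩),
    Set.ncard_union_eq (hd 2 6 (by norm_num))]

namespace SixType

theorem vals (hs : SixType G) (h : JT z Q pm) (hone : OneClass G) {y : G} (hy : y ∈ oddInverted z) (hi : InvY z y) :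
    (orderOf y = 3 ∧ Nat.card ↥(CC y z) = 10) ∨
      (orderOf y = 5 ∧ (Nat.card ↥(CC y z) = 2 ∨ Nat.card ↥(CC y z) = 6)) := by
  rcases h.invY_order hone hy hi with e | e
  · obtain ⟨X, _, π, hX, hπ⟩ := hs y e
    obtain ⟨v, a, -, -, -, -, -, -, -, hc, -⟩ := hπ.cent_inverter hX.toXBase h hone e h.zz hy.2.2
    exact Or.inl ⟨e.1, hc⟩
  · exact Or.inr ⟨e.1, hs.five_inverter h hone e h.zz hy.2.2⟩

/-- The inverted elements of the centralizer of an element of order five of `C(z)` have order three. -/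
theorem comm_five (hs : SixType G) (h : JT z Q pm) (hone : OneClass G) {f : G} {O : Subgroup G}
    (C : FiveCore h f O) {a : G} (ha : a ∈ O) (ha1 : a ≠ 1) (hza : Inverts z a) : a ∈ cls z 10 := by
  obtain ⟨u, hu, e, heO, -, heo, heD, hue, hze, -, hgen, -, -, -⟩ := hs.five_core h hone C
  obtain ⟨n, hn⟩ := (isOfFinOrder_of_finite (e * f)).mem_powers_iff_mem_zpowers.mpr (hgen ▸ ha)
  have hn' : a = e ^ n * f ^ n := by
    rw [← (show Commute e f from C.cent e heO).mul_pow]; exact hn.symm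
  have hfn := C.split_unique (O.pow_mem heO n) (inverts_pow hze n) hza hn'
  rw [hfn, mul_one] at hn'
  subst hn'
  have hY : e ^ n ∈ oddInverted z := ⟨ha1, C.odd_order ha, hza⟩
  have hi : InvY z (e ^ n) := ⟨u, hu.2.1, h.T_ne_one hu, hu.1, (Commute.pow_right hue n).eq⟩
  rcases hs.vals h hone hY hi with ⟨-, hc⟩ | ⟨ho, -⟩
  · exact ⟨hY, hi, hc⟩
  · have := (heD.pow Nat.prime_three ha1).1
    omega

/-- The counts in the alternating case. -/
theorem nonfree_count (hs : SixType G) (h : JT z Q pm) (hone : OneClass G) :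
    (nonfree z).ncard = 3392 ∧ (cls z 2).ncard = 1920 ∧ (clsE z).ncard = 640 := by
  haveI : Fact (Nat.Prime 3) := ⟨Nat.prime_three⟩
  haveI : Fact (Nat.Prime 5) := ⟨Nat.prime_five⟩
  have hpairs := h.pairs_Y hs.qType hone fun y hy hi => by
    rcases hs.vals h hone hy hi with ⟨-, e⟩ | ⟨-, e | e⟩ <;> simp [e]
  have h6 : {o : G | o * z = z * o ∧ orderOf o = 3}.ncard * 16 = (cls z 6).ncard * 2 := by
    refine double_count _ _ (fun o y => y * o = o * y) ?_ ?_
    · rintro o ⟨hoz, hoo⟩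
      obtain ⟨X, _, π, hX, hπ⟩ := hs o (h.isInvCent hoz hoo)
      obtain ⟨hw, hw1⟩ := hπ.invol_map (hoo ▸ pow_orderOf_eq_one o) h.zz h.es.ne hoz.symm
      have e16 := h.ncard_comm_three hoz hoo hπ (n := 5) (by decide)
      rw [hX.inverted _ hw hw1] at e16
      refine Eq.trans ?_ e16
      congr 1
      ext y
      constructor
      · rintro ⟨⟨hY, hi, hc⟩, hcomm⟩
        refine ⟨hY, hcomm, ?_⟩
        have ho : orderOf y = 5 := by
          rcases hs.vals h hone hY hi with ⟨-, e⟩ | ⟨e, -⟩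
          · omega
          · exact e
        rw [← hπ.map_pow hcomm, ← ho, pow_orderOf_eq_one, hπ.map_one']
      · rintro ⟨hY, hcomm, hp⟩
        obtain ⟨hi, ho⟩ := h.invY_of_three hone hoz hoo hX.toXBase hπ hY hcomm hp
        have h3 := dvd_card_CC hcomm.symm hoz hoo
        rcases hs.vals h hone hY hi with ⟨e, -⟩ | ⟨-, e | e⟩
        · omega
        · rw [e] at h3; norm_num at h3
        · exact ⟨⟨hY, hi, e⟩, hcomm⟩
    · rintro y ⟨hY, hi, hc⟩
      refine Eq.trans ?_ ((h.genDih_invY hs.qType hone hY hi).ncard_order (p := 3) (by decide) hc)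
      congr 1
      ext o
      exact ⟨fun ho => ⟨mem_CC.mpr ⟨ho.2.symm, ho.1.1⟩, ho.1.2⟩,
        fun ho => ⟨⟨(mem_CC.mp ho.1).2, ho.2⟩, (mem_CC.mp ho.1).1.symm⟩⟩
  have hE : {o : G | o * z = z * o ∧ orderOf o = 3}.ncard * 16 = (clsE z).ncard * 2 := by
    refine double_count _ _ (fun o y => y * o = o * y) ?_ ?_
    · rintro o ⟨hoz, hoo⟩
      obtain ⟨X, _, π, hX, hπ⟩ := hs o (h.isInvCent hoz hoo)
      obtain ⟨hw, hw1⟩ := hπ.invol_map (hoo ▸ pow_orderOf_eq_one o) h.zz h.es.ne hoz.symm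
      have e16 := h.ncard_comm_three hoz hoo hπ (n := 3) (by decide)
      rw [hX.three_inverted _ hw hw1] at e16
      refine Eq.trans ?_ e16
      congr 1
      ext y
      constructor
      · rintro ⟨⟨hY, hi, hc⟩, hcomm⟩
        refine ⟨hY, hcomm, ?_⟩
        rcases hX.orders (π y) with e | e | e
        · exact e
        · haveI : Finite X := Finite.of_surjective π fun s => (hπ.surj s).imp fun a ha => ha.2
          have hodd : Odd (orderOf (π y)) := hY.2.1.of_dvd_nat (orderOf_dvd_of_pow_eq_one (by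
            rw [← hπ.map_pow hcomm, pow_orderOf_eq_one, hπ.map_one']))
          have h2 : π y * π y = 1 := by
            rw [← pow_two]
            exact eq_one_of_sq_odd (by rw [← pow_add]; exact e) (hodd.of_dvd_nat (orderOf_pow_dvd _))
          rw [eq_one_of_sq_odd h2 hodd, one_pow]
        · exact absurd (h.invY_of_three hone hoz hoo hX.toXBase hπ hY hcomm e).1 hi
      · rintro ⟨hY, hcomm, hp⟩
        have h3 := dvd_card_CC hcomm.symm hoz hoo
        have hi : ¬ InvY z y := fun hi => by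
          rcases hs.vals h hone hY hi with ⟨-, e⟩ | ⟨e, -⟩
          · rw [e] at h3; norm_num at h3
          · have hy1 : π y = 1 := orderOf_eq_one_iff.mp (Nat.eq_one_of_dvd_coprimes (by norm_num : Nat.Coprime 3 5)
              (orderOf_dvd_of_pow_eq_one hp) (orderOf_dvd_of_pow_eq_one (by
                rw [← hπ.map_pow hcomm, ← e, pow_orderOf_eq_one, hπ.map_one'])))
            exact hY.1 (inverts_comm_eq_one hY.2.2 (comm_mem_zpowers hoz.symm ((hπ.ker y hcomm).mp hy1)) hY.2.1)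
        refine ⟨⟨hY, hi, ?_⟩, hcomm⟩
        rcases h.card_free_invol hY hi with e | e | e
        · rw [e] at h3; norm_num at h3
        · exact e
        · rw [e] at h3; norm_num at h3
    · rintro y ⟨hY, hi, hc⟩
      refine Eq.trans ?_ (ncard_order_prime (N := CC y z) hc)
      congr 1
      ext o
      exact ⟨fun ho => ⟨mem_CC.mpr ⟨ho.2.symm, ho.1.1⟩, ho.1.2⟩,
        fun ho => ⟨⟨(mem_CC.mp ho.1).2, ho.2⟩, (mem_CC.mp ho.1).1.symm⟩⟩
  have h10 : {f : G | f * z = z * f ∧ orderOf f = 5}.ncard * 2 = (cls z 10).ncard * 4 := by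
    refine double_count _ _ (fun f y => y * f = f * y) ?_ ?_
    · rintro f ⟨hfz, hfo⟩
      obtain ⟨O, C⟩ := h.exists_fiveCore hfz hfo
      obtain ⟨_, _, _, _, _, _, _, _, _, _, _, hc15, _, _⟩ := hs.five_core h hone C
      have hI := C.ncard_inverted
      rw [hc15] at hI
      have h1 : (1 : G) ∈ {a : G | a ∈ O ∧ Inverts z a} := ⟨O.one_mem, by simp [Inverts]⟩
      rw [show {y | y ∈ cls z 10 ∧ y * f = f * y} = {a : G | a ∈ O ∧ Inverts z a} \ {1} from ?_,
        Set.ncard_sdiff (Set.singleton_subset_iff.mpr h1), Set.ncard_singleton]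
      · omega
      ext y
      constructor
      · rintro ⟨⟨hY, -, -⟩, hc⟩
        exact ⟨⟨C.mem_odd y hc hY.2.1, hY.2.2⟩, hY.1⟩
      · rintro ⟨⟨ha, hza⟩, hy1⟩
        exact ⟨hs.comm_five h hone C ha hy1 hza, C.cent y ha⟩
    · rintro y ⟨hY, hi, hc⟩
      refine Eq.trans ?_ ((h.genDih_invY hs.qType hone hY hi).ncard_order (p := 5) (by decide) hc)
      congr 1
      ext o
      exact ⟨fun ho => ⟨mem_CC.mpr ⟨ho.2.symm, ho.1.1⟩, ho.1.2⟩,
        fun ho => ⟨⟨(mem_CC.mp ho.1).2, ho.2⟩, (mem_CC.mp ho.1).1.symm⟩⟩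
  have hsplit := nonfree_split (z := z) fun y hy => by
    by_cases hi : InvY z y
    · rcases hs.vals h hone hy.1 hi with ⟨-, e⟩ | ⟨-, e | e⟩
      exacts [Or.inr (Or.inr (Or.inl ⟨hy.1, hi, e⟩)), Or.inl ⟨hy.1, hi, e⟩, Or.inr (Or.inl ⟨hy.1, hi, e⟩)]
    · rcases h.card_free_invol hy.1 hi with e | e | e
      · exact absurd e hy.2
      · exact Or.inr (Or.inr (Or.inr ⟨hy.1, hi, e⟩))
      · exfalso
        obtain ⟨⟨f, hf⟩, hfo⟩ := exists_prime_orderOf_dvd_card' (G := ↥(CC y z)) 5 (by rw [e])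
        rw [Subgroup.orderOf_mk] at hfo
        obtain ⟨hfy, hfz⟩ := mem_CC.mp hf
        obtain ⟨O, C⟩ := h.exists_fiveCore hfz hfo
        exact hi (hs.comm_five h hone C (C.mem_odd y hfy.symm hy.1.2.1) hy.1.1 hy.1.2.2).2.1
  rw [h.ncard_three] at h6 hE
  rw [h.ncard_five] at h10
  omega

end SixType

namespace SevenType

/-- The structure of the centralizer of an element of order five. -/
theorem five_shape (hs : SevenType G) (h : JT z Q pm) (hone : OneClass G) {f : G} {O : Subgroup G}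
    (C : FiveCore h f O) :
    ∃ v ∈ h.T, Inverts v f ∧ Nat.card ↥(O ⊓ Subgroup.centralizer ({v * z} : Set G)) = 1 ∧
      (Nat.card ↥(O ⊓ Subgroup.centralizer ({v} : Set G)) = 1 ∨
        Nat.card ↥(O ⊓ Subgroup.centralizer ({v} : Set G)) = 5) ∧
      {a : G | a ∈ O ∧ Inverts z a} = ((O ⊓ Subgroup.centralizer ({v} : Set G) : Subgroup G) : Set G) := by
  obtain ⟨v, hv, hvf⟩ := h.exists_inverter (Or.inr rfl) C.fz C.fo
  obtain ⟨hwz, hww, hwf⟩ := C.vz_props hv.1 hv.2.1 hvf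
  have hwT := h.five_inverter_mem_T hwz hww C.fz C.fo hwf
  have key : ∀ u ∈ h.T, Inverts u f → Nat.card ↥(O ⊓ Subgroup.centralizer ({u * z} : Set G)) = 1 →
      {a : G | a ∈ O ∧ Inverts z a} = ((O ⊓ Subgroup.centralizer ({u} : Set G) : Subgroup G) : Set G) := by
    intro u hu huf h1
    refine (Set.eq_of_subset_of_ncard_le (fun a ha => ?_) ?_ (Set.toFinite _)).symm
    · exact ⟨ha.1, C.fix_inverted hu.1 huf ha.1 (mem_cent.mp ha.2).symm⟩
    · have e1 := C.ncard_inverted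
      have e2 := C.card_eq hu.1 hu.2.1 huf
      rw [h1, mul_one] at e2
      rw [e2, ← show _ = Nat.card ↥(O ⊓ Subgroup.centralizer ({u} : Set G)) from
        (Nat.card_coe_set_eq _).symm] at e1
      omega
  rcases (hs.five_core hone C hwT hwf).2 with e | e
  · exact ⟨v, hv, hvf, e, (hs.five_core hone C hv hvf).2, key v hv hvf e⟩
  · have h1 : Nat.card ↥(O ⊓ Subgroup.centralizer ({v} : Set G)) = 1 :=
      (hs.five_core hone C hv hvf).2.resolve_right fun e' => hs.not_both_five h hone C hv hvf e' e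
    have hz' : v * z * z = v := by rw [mul_assoc, h.zz, mul_one]
    exact ⟨v * z, hwT, hwf, by rw [hz']; exact h1, Or.inr e, key _ hwT hwf (by rw [hz']; exact h1)⟩

theorem vals (hs : SevenType G) (h : JT z Q pm) (hone : OneClass G) {y : G} (hy : y ∈ oddInverted z) (hi : InvY z y) :
    (orderOf y = 3 ∧ Nat.card ↥(CC y z) = 6) ∨
      (orderOf y = 5 ∧ (Nat.card ↥(CC y z) = 2 ∨ Nat.card ↥(CC y z) = 10)) := by
  rcases h.invY_order hone hy hi with e | e
  · obtain ⟨X, _, π, hX, hπ⟩ := hs y e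
    obtain ⟨v, a, -, -, -, -, -, -, -, hc, -⟩ := hπ.cent_inverter hX.toXBase h hone e h.zz hy.2.2
    exact Or.inl ⟨e.1, hc⟩
  · obtain ⟨ho, t, ht, ht1, hty⟩ := e
    obtain ⟨Q', pm', h'⟩ := h.atInv hone ht ht1
    obtain ⟨O, C⟩ := h'.exists_fiveCore hty.symm ho
    obtain ⟨v, hv, hvf, h1, ha, -⟩ := hs.five_shape h' hone C
    refine Or.inr ⟨ho, ?_⟩
    rcases C.CC_cases hv hvf h.zz hy.2.2 with e | e <;> rw [e]
    · rcases ha with e' | e' <;> rw [e'] <;> simp
    · exact Or.inl (by rw [h1])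

theorem clsE_empty (hs : SevenType G) (h : JT z Q pm) (hone : OneClass G) : clsE z = ∅ := by
  haveI : Fact (Nat.Prime 3) := ⟨Nat.prime_three⟩
  rw [Set.eq_empty_iff_forall_notMem]
  rintro y ⟨hY, hi, hc⟩
  obtain ⟨⟨o, ho⟩, hoo⟩ := exists_prime_orderOf_dvd_card' (G := ↥(CC y z)) 3 (by rw [hc])
  rw [Subgroup.orderOf_mk] at hoo
  obtain ⟨hoy, hoz⟩ := mem_CC.mp ho
  obtain ⟨X, _, π, hX, hπ⟩ := hs o (h.isInvCent hoz hoo)
  haveI : Finite X := Finite.of_surjective π fun s => (hπ.surj s).imp fun a ha => ha.2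
  obtain ⟨hw, hw1⟩ := hπ.invol_map (hoo ▸ pow_orderOf_eq_one o) h.zz h.es.ne hoz.symm
  have hodd : Odd (orderOf (π y)) := hY.2.1.of_dvd_nat (orderOf_dvd_of_pow_eq_one (by
    rw [← hπ.map_pow hoy.symm, pow_orderOf_eq_one, hπ.map_one']))
  have hy1 : π y ≠ 1 := fun e => hY.1
    (inverts_comm_eq_one hY.2.2 (comm_mem_zpowers hoz.symm ((hπ.ker y hoy.symm).mp e)) hY.2.1)
  rcases hX.orders (π y) with e | e | e | e
  · exact hy1 (eq_one_of_sq_odd (by rw [← pow_two]; exact e) hodd)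
  · exact hi (h.invY_of_three hone hoz hoo hX.toXBase hπ hY hoy.symm e).1
  · refine hy1 (eq_one_of_sq_odd ?_ hodd)
    rw [← pow_two]
    exact eq_one_of_sq_odd (by rw [← pow_add]; exact e) (hodd.of_dvd_nat (orderOf_pow_dvd _))
  · exact hX.seven_no_inverter _ _ e hy1 hw (hπ.map_inverts hoz.symm hoy.symm hY.2.2)

/-- Every inverted element with nontrivial stabiliser is centralized by an involution of `C(z)`. -/
theorem nonfree_invY (hs : SevenType G) (h : JT z Q pm) (hone : OneClass G) {y : G} (hy : y ∈ nonfree z) :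
    InvY z y := by
  haveI : Fact (Nat.Prime 5) := ⟨Nat.prime_five⟩
  by_contra hi
  rcases h.card_free_invol hy.1 hi with e | e | e
  · exact hy.2 e
  · exact Set.notMem_empty y (hs.clsE_empty h hone ▸ (⟨hy.1, hi, e⟩ : y ∈ clsE z))
  · refine hi ?_
    obtain ⟨⟨f, hf⟩, hfo⟩ := exists_prime_orderOf_dvd_card' (G := ↥(CC y z)) 5 (by rw [e])
    rw [Subgroup.orderOf_mk] at hfo
    obtain ⟨hfy, hfz⟩ := mem_CC.mp hf
    obtain ⟨O, C⟩ := h.exists_fiveCore hfz hfo
    obtain ⟨v, hv, -, -, -, hI⟩ := hs.five_shape h hone C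
    have hm : y ∈ {a : G | a ∈ O ∧ Inverts z a} := ⟨C.mem_odd y hfy.symm hy.1.2.1, hy.1.2.2⟩
    rw [hI] at hm
    exact ⟨v, hv.2.1, h.T_ne_one hv, hv.1, (mem_cent.mp hm.2).symm⟩

/-- The counts for the quotient of order 168, by the order `5 * a` of the odd part at five. -/
theorem nonfree_count (hs : SevenType G) (h : JT z Q pm) (hone : OneClass G) :
    ((nonfree z).ncard = 4160 ∧
        ∀ (f : G) (O : Subgroup G), FiveCore h f O → Nat.card ↥O = 5) ∨
      ((nonfree z).ncard = 2624 ∧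
        ∀ (f : G) (O : Subgroup G), FiveCore h f O → Nat.card ↥O = 25) := by
  haveI : Fact (Nat.Prime 3) := ⟨Nat.prime_three⟩
  haveI : Fact (Nat.Prime 5) := ⟨Nat.prime_five⟩
  have hpairs := h.pairs_Y hs.qType hone fun y hy hi => by
    rcases hs.vals h hone hy hi with ⟨-, e⟩ | ⟨-, e | e⟩ <;> simp [e]
  have h6 : {o : G | o * z = z * o ∧ orderOf o = 3}.ncard * 8 = (cls z 6).ncard * 2 := by
    refine double_count _ _ (fun o y => y * o = o * y) ?_ ?_
    · rintro o ⟨hoz, hoo⟩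
      obtain ⟨X, _, π, hX, hπ⟩ := hs o (h.isInvCent hoz hoo)
      obtain ⟨hw, hw1⟩ := hπ.invol_map (hoo ▸ pow_orderOf_eq_one o) h.zz h.es.ne hoz.symm
      have e8 := h.ncard_comm_three hoz hoo hπ (n := 3) (by decide)
      rw [hX.inverted _ hw hw1] at e8
      refine Eq.trans ?_ e8
      congr 1
      ext y
      constructor
      · rintro ⟨⟨hY, hi, hc⟩, hcomm⟩
        refine ⟨hY, hcomm, ?_⟩
        have ho : orderOf y = 3 := by
          rcases hs.vals h hone hY hi with ⟨e, -⟩ | ⟨-, e | e⟩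
          · exact e
          · omega
          · omega
        rw [← hπ.map_pow hcomm, ← ho, pow_orderOf_eq_one, hπ.map_one']
      · rintro ⟨hY, hcomm, hp⟩
        obtain ⟨hi, ho⟩ := h.invY_of_three hone hoz hoo hX.toXBase hπ hY hcomm hp
        rcases hs.vals h hone hY hi with ⟨-, e⟩ | ⟨e, -⟩
        · exact ⟨⟨hY, hi, e⟩, hcomm⟩
        · omega
    · rintro y ⟨hY, hi, hc⟩
      refine Eq.trans ?_ ((h.genDih_invY hs.qType hone hY hi).ncard_order (p := 3) (by decide) hc)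
      congr 1
      ext o
      exact ⟨fun ho => ⟨mem_CC.mpr ⟨ho.2.symm, ho.1.1⟩, ho.1.2⟩,
        fun ho => ⟨⟨(mem_CC.mp ho.1).2, ho.2⟩, (mem_CC.mp ho.1).1.symm⟩⟩
  have hfree : ∀ y ∈ nonfree z, y ∈ cls z 2 ∨ y ∈ cls z 6 ∨ y ∈ cls z 10 ∨ y ∈ clsE z := fun y hy => by
    rcases hs.vals h hone hy.1 (hs.nonfree_invY h hone hy) with ⟨-, e⟩ | ⟨-, e | e⟩
    exacts [Or.inr (Or.inl ⟨hy.1, hs.nonfree_invY h hone hy, e⟩), Or.inl ⟨hy.1, hs.nonfree_invY h hone hy, e⟩,
      Or.inr (Or.inr (Or.inl ⟨hy.1, hs.nonfree_invY h hone hy, e⟩))]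
  have hE : clsE z = ∅ := hs.clsE_empty h hone
  have hsplit := nonfree_split hfree
  rw [hE, Set.ncard_empty, add_zero] at hsplit
  -- all centralizers of elements of order five have the same order
  have huni : ∀ (f f' : G) (O O' : Subgroup G), FiveCore h f O → FiveCore h f' O' → Nat.card ↥O = Nat.card ↥O' := by
    intro f f' O O' C C'
    obtain ⟨c, hc, hm⟩ := h.prime_sylow (Or.inr rfl) C.fz C'.fz C.fo C'.fo
    have heq : Subgroup.zpowers (c * f' * c⁻¹) = Subgroup.zpowers f := Subgroup.eq_of_le_of_card_ge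
      (Subgroup.zpowers_le.mpr hm) (by rw [Nat.card_zpowers, Nat.card_zpowers, orderOf_conj', C.fo, C'.fo])
    have hcent : ∀ b : G, b * f = f * b ↔ b * (c * f' * c⁻¹) = c * f' * c⁻¹ * b :=
      fun b => ⟨fun e => comm_mem_zpowers e hm, fun e => comm_mem_zpowers e (heq ▸ Subgroup.mem_zpowers f)⟩
    have e : Nat.card ↥(Subgroup.centralizer ({f'} : Set G)) = Nat.card ↥(Subgroup.centralizer ({f} : Set G)) :=
      Nat.card_congr
        { toFun := fun b => ⟨c * b.1 * c⁻¹, mem_cent.mpr ((hcent _).mpr (conj_comm (mem_cent.mp b.2)))⟩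
          invFun := fun b => ⟨c⁻¹ * b.1 * c, mem_cent.mpr (conj_comm_back ((hcent _).mp (mem_cent.mp b.2)).symm).symm⟩
          left_inv := fun b => Subtype.ext (by show c⁻¹ * (c * b.1 * c⁻¹) * c = b.1; group)
          right_inv := fun b => Subtype.ext (by show c * (c⁻¹ * b.1 * c) * c⁻¹ = b.1; group) }
    rw [C.card, C'.card] at e
    omega
  obtain ⟨v₀, -, f₀, hf₀, hfo₀, -⟩ := h.exists_inverted (n := 5) (Or.inr rfl)
  obtain ⟨O₀, C₀⟩ := h.exists_fiveCore hf₀ hfo₀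
  obtain ⟨v₁, hv₁, hv₁f, h11, ha, -⟩ := hs.five_shape h hone C₀
  have hO₀ := C₀.card_eq hv₁.1 hv₁.2.1 hv₁f
  rw [h11, mul_one] at hO₀
  set A := Nat.card ↥(O₀ ⊓ Subgroup.centralizer ({v₁} : Set G))
  have h10 : {f : G | f * z = z * f ∧ orderOf f = 5}.ncard * (A - 1) = (cls z 10).ncard * 4 := by
    refine double_count _ _ (fun f y => y * f = f * y) ?_ ?_
    · rintro f ⟨hfz, hfo⟩
      obtain ⟨O, C⟩ := h.exists_fiveCore hfz hfo
      obtain ⟨v, hv, hvf, h1, ha', hI⟩ := hs.five_shape h hone C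
      have e1 := C.ncard_inverted
      rw [huni f f₀ O O₀ C C₀, hO₀] at e1
      have h1m : (1 : G) ∈ {a : G | a ∈ O ∧ Inverts z a} := ⟨O.one_mem, by simp [Inverts]⟩
      rw [show {y | y ∈ cls z 10 ∧ y * f = f * y} = {a : G | a ∈ O ∧ Inverts z a} \ {1} from ?_,
        Set.ncard_sdiff (Set.singleton_subset_iff.mpr h1m), Set.ncard_singleton]
      · omega
      ext y
      constructor
      · rintro ⟨⟨hY, -, -⟩, hc⟩
        exact ⟨⟨C.mem_odd y hc hY.2.1, hY.2.2⟩, hY.1⟩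
      · rintro ⟨⟨hy, hzy⟩, hy1⟩
        have hm : y ∈ {a : G | a ∈ O ∧ Inverts z a} := ⟨hy, hzy⟩
        rw [hI] at hm
        have hY : y ∈ oddInverted z := ⟨hy1, C.odd_order hy, hzy⟩
        have hi : InvY z y := ⟨v, hv.2.1, h.T_ne_one hv, hv.1, (mem_cent.mp hm.2).symm⟩
        have h5 := dvd_card_CC (C.cent y hy).symm hfz hfo
        rcases hs.vals h hone hY hi with ⟨-, e⟩ | ⟨-, e | e⟩
        · rw [e] at h5; norm_num at h5
        · rw [e] at h5; norm_num at h5
        · exact ⟨⟨hY, hi, e⟩, C.cent y hy⟩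
    · rintro y ⟨hY, hi, hc⟩
      refine Eq.trans ?_ ((h.genDih_invY hs.qType hone hY hi).ncard_order (p := 5) (by decide) hc)
      congr 1
      ext o
      exact ⟨fun ho => ⟨mem_CC.mpr ⟨ho.2.symm, ho.1.1⟩, ho.1.2⟩,
        fun ho => ⟨⟨(mem_CC.mp ho.1).2, ho.2⟩, (mem_CC.mp ho.1).1.symm⟩⟩
  rw [h.ncard_three] at h6
  rw [h.ncard_five] at h10
  rcases ha with e | e
  · refine Or.inl ⟨by rw [e] at h10; omega, fun f O C => ?_⟩
    rw [huni f f₀ O O₀ C C₀, hO₀, e]
  · refine Or.inr ⟨by rw [e] at h10; omega, fun f O C => ?_⟩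
    rw [huni f f₀ O O₀ C C₀, hO₀, e]

end SevenType

end CfsgLib.J3Type
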