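import Cfsg.Agent.Lib.J3Type.Three
import Cfsg.Agent.Lib.U43Type.Util
import Cfsg.Agent.Lib.InvolutionDihedralEight

/-!
Groups of `J₃` type: elementary facts on inverted elements and on subgroups of order twice an odd number.
-/

set_option autoImplicit false
set_option linter.unusedSectionVars false

namespace CfsgLib.J3Type

open CfsgLib.HallJankoType (mem_cent conj_fix_iff)

universe u

variable {G : Type u} [Group G] [Finite G]

theorem eq_one_of_sq_odd {a : G} (h2 : a * a = 1) (ho : Odd (orderOf a)) : a = 1 := by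
  have hd : orderOf a ∣ 2 := orderOf_dvd_of_pow_eq_one (by rw [pow_two, h2])
  rcases (Nat.dvd_prime Nat.prime_two).mp hd with h | h
  · exact orderOf_eq_one_iff.mp h
  · rw [h] at ho; exact absurd ho (by decide)

theorem odd_orderOf_of_pow {a : G} {n : ℕ} (hn : Odd n) (ha : a ^ n = 1) : Odd (orderOf a) :=
  hn.of_dvd_nat (orderOf_dvd_of_pow_eq_one ha)

/-- An element of odd order inverted and centralized by the same element is trivial. -/
theorem inverts_comm_eq_one {v a : G} (hv : Inverts v a) (hc : v * a = a * v) (ho : Odd (orderOf a)) : a = 1 := by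
  refine eq_one_of_sq_odd ?_ ho
  have : a = a⁻¹ := by
    rw [← show v * a * v⁻¹ = a⁻¹ from hv, conj_fix_iff.mpr hc]
  nth_rewrite 2 [this]
  exact mul_inv_cancel a

/-- A group inverted by one element is abelian. -/
theorem comm_of_inverted {N : Subgroup G} {v : G} (h : ∀ a ∈ N, Inverts v a) {a b : G} (ha : a ∈ N) (hb : b ∈ N) :
    a * b = b * a := by
  have e := h _ (mul_mem ha hb)
  rw [Inverts, show v * (a * b) * v⁻¹ = v * a * v⁻¹ * (v * b * v⁻¹) by group, show v * a * v⁻¹ = a⁻¹ from h a ha,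
    show v * b * v⁻¹ = b⁻¹ from h b hb, mul_inv_rev] at e
  calc a * b = (b⁻¹ * a⁻¹)⁻¹ := by group
    _ = (a⁻¹ * b⁻¹)⁻¹ := by rw [← e]
    _ = b * a := by group

/-- An involution acting without fixed points on a subgroup inverts it. -/
theorem inverts_of_fixed_free {N : Subgroup G} {v : G} (hv : v * v = 1) (hn : ∀ a ∈ N, v * a * v⁻¹ ∈ N)
    (hfix : ∀ a ∈ N, v * a = a * v → a = 1) : ∀ a ∈ N, Inverts v a :=
  CfsgLib.InvolutionDihedralEight.inverts_of_fpf hv hn fun o ho e => hfix o ho (conj_fix_iff.mp e)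

/-- A subgroup in which the centralizer of an involution has order not divisible by four is twice an odd number. -/
theorem odd_half {K : Subgroup G} {v : G} (hvK : v ∈ K) (hv : v * v = 1) (hv1 : v ≠ 1)
    (h4 : ¬ 4 ∣ Nat.card ↥(K ⊓ Subgroup.centralizer ({v} : Set G))) :
    ∃ N : Subgroup G, N ≤ K ∧ Nat.card ↥K = 2 * Nat.card ↥N ∧ Odd (Nat.card ↥N) ∧ v ∉ N ∧
      (∀ a ∈ K, ∀ b ∈ N, a * b * a⁻¹ ∈ N) ∧ (∀ a ∈ K, Odd (orderOf a) → a ∈ N) ∧
      ∀ a ∈ K, a ∈ N ∨ v * a ∈ N := by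
  haveI : Fact (Nat.Prime 2) := ⟨Nat.prime_two⟩
  have hvo : orderOf v = 2 := orderOf_eq_prime (by rw [pow_two, hv]) hv1
  set v' : ↥K := ⟨v, hvK⟩ with hv'
  have hv'' : v' * v' = 1 := Subtype.ext hv
  have hv'1 : v' ≠ 1 := fun e => hv1 (congrArg Subtype.val e)
  have h2 : 2 ∣ Nat.card ↥K := hvo ▸ Subgroup.orderOf_dvd_natCard K hvK
  obtain ⟨m, hm⟩ := h2
  have hmo : Odd m := by
    by_contra hev
    rw [Nat.not_odd_iff_even, even_iff_two_dvd] at hev
    obtain ⟨k, rfl⟩ := hev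
    obtain ⟨P, hP, hle⟩ := Sylow.exists_subgroup_card_pow_succ (p := 2) (n := 1) (G := ↥K) (by rw [hm]; exact ⟨k, by ring⟩)
      (H := Subgroup.zpowers v') (by rw [Nat.card_zpowers, ← Subgroup.orderOf_coe, pow_one]; exact hvo)
    have hcomm := (IsPGroup.isMulCommutative_of_card_eq_prime_sq (p := 2) (G := ↥P) hP).is_comm.comm
    refine h4 ?_
    have hle' : P.map K.subtype ≤ K ⊓ Subgroup.centralizer ({v} : Set G) := by
      rintro _ ⟨a, ha, rfl⟩
      exact ⟨a.2, mem_cent.mpr (congrArg Subtype.val (congrArg Subtype.val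
        (hcomm ⟨a, ha⟩ ⟨v', hle (Subgroup.mem_zpowers _)⟩)))⟩
    have := Subgroup.card_dvd_of_le hle'
    rwa [Subgroup.card_map_of_injective K.subtype_injective, hP] at this
  obtain ⟨N, hNn, hNi⟩ := CfsgU43Type.exists_index_two_of_invol hm hmo hv'' hv'1
  have hcardN : Nat.card ↥N = m := by
    have := N.card_mul_index
    rw [hNi, hm] at this
    omega
  have hvN : v' ∉ N := fun h => by
    have hd := Subgroup.orderOf_dvd_natCard N h
    rw [← Subgroup.orderOf_coe, show ((v' : ↥K) : G) = v from rfl, hvo, hcardN] at hd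
    exact (Nat.not_even_iff_odd.mpr hmo) (even_iff_two_dvd.mpr hd)
  refine ⟨N.map K.subtype, fun a ha => ?_, ?_, ?_, ?_, ?_, ?_, ?_⟩
  · obtain ⟨b, -, rfl⟩ := ha; exact b.2
  · rw [Subgroup.card_map_of_injective K.subtype_injective, hcardN, hm]
  · rw [Subgroup.card_map_of_injective K.subtype_injective, hcardN]; exact hmo
  · rintro ⟨b, hb, e⟩
    exact hvN ((show b = v' from Subtype.ext e) ▸ hb)
  · rintro a ha _ ⟨b, hb, rfl⟩
    exact ⟨⟨a, ha⟩ * b * ⟨a, ha⟩⁻¹, hNn.conj_mem b hb _, rfl⟩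
  · intro a ha ho
    refine ⟨⟨a, ha⟩, ?_, rfl⟩
    obtain ⟨k, hk⟩ := ho
    have hsq := Subgroup.sq_mem_of_index_two hNi (⟨a, ha⟩ : ↥K)
    have hpow : (⟨a, ha⟩ : ↥K) ^ orderOf a = 1 := Subtype.ext (by
      rw [SubmonoidClass.coe_pow]; exact pow_orderOf_eq_one a)
    rw [hk, pow_succ, pow_mul] at hpow
    rw [eq_inv_of_mul_eq_one_right hpow]
    exact N.inv_mem (N.pow_mem hsq k)
  · intro a ha
    by_cases hN : (⟨a, ha⟩ : ↥K) ∈ N
    · exact Or.inl ⟨_, hN, rfl⟩
    · exact Or.inr ⟨v' * ⟨a, ha⟩, (Subgroup.mul_mem_iff_of_index_two hNi).mpr ⟨fun h => absurd h hvN, fun h => absurd h hN⟩, rfl⟩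

/-- In a coset of a group of order three inverted by an involution, one element is fixed. -/
theorem coset_fixed {d w y : G} (hd : d ^ 3 = 1) (hw : w * w = 1) (hwd : Inverts w d) {j : ℕ}
    (hy : w * y * w⁻¹ = y * d ^ j) : ∃ i : ℕ, w * (y * d ^ i) = y * d ^ i * w := by
  refine ⟨2 * j, conj_fix_iff.mp ?_⟩
  rw [show w * (y * d ^ (2 * j)) * w⁻¹ = w * y * w⁻¹ * (w * d ^ (2 * j) * w⁻¹) by group, hy,
    show w * d ^ (2 * j) * w⁻¹ = (d ^ (2 * j))⁻¹ from inverts_pow hwd _, mul_assoc]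
  congr 1
  refine mul_inv_eq_iff_eq_mul.mpr ?_
  rw [← pow_add, show 2 * j + 2 * j = j + 3 * j by ring, pow_add, pow_mul, hd, one_pow, mul_one]

end CfsgLib.J3Type
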