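import Cfsg.Agent.Lib.J3Type.Five

/-!
Groups of `J₃` type: involutions of `C(z)` whose product with a given one powers to `z`.
-/

set_option autoImplicit false
set_option linter.unusedSectionVars false

namespace CfsgLib.J3Type

open Cfsg CfsgLargeExtra Equiv
open CfsgLib.HallJankoType (orb mem_cent conj_fix_iff ncard_orb IsInv5 four_closed orderOf_conj')

universe u

variable {G : Type u} [Group G] [Finite G] {z : G} {Q : Subgroup G} {pm : G → Perm (Fin 5)}

theorem mem_zpowers_invol {a w : G} (hw : w * w = 1) (ha : a ∈ Subgroup.zpowers w) : a = 1 ∨ a = w := by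
  obtain ⟨i, hi⟩ := (isOfFinOrder_of_finite w).mem_powers_iff_mem_zpowers.mpr ha
  have hi' : w ^ i = a := hi
  rw [← Nat.mod_add_div i 2, pow_add, pow_mul, pow_two, hw, one_pow, mul_one] at hi'
  rcases Nat.mod_two_eq_zero_or_one i with e | e <;> rw [e] at hi'
  · exact Or.inl (by rw [← hi', pow_zero])
  · exact Or.inr (by rw [← hi', pow_one])

theorem not_mem_zpowers_odd {a w : G} (ha : orderOf a = 2) (hw : Odd (orderOf w)) : a ∉ Subgroup.zpowers w := by
  intro hm
  have hd := Subgroup.orderOf_dvd_natCard _ hm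
  rw [Nat.card_zpowers, ha] at hd
  exact (Nat.not_even_iff_odd.mpr hw) (even_iff_two_dvd.mpr hd)

/-- The involutions of the centralizer of `z`. -/
def invs (z : G) : Set G := {y | y * z = z * y ∧ y * y = 1 ∧ y ≠ 1}

namespace JT

variable (h : JT z Q pm)
include h

theorem invs_eq : invs z = {z} ∪ h.S ∪ h.T := by
  ext y
  constructor
  · rintro ⟨h1, h2, h3⟩
    rcases h.inv_cases h1 h2 h3 with e | e | e
    exacts [Or.inl (Or.inl e), Or.inl (Or.inr e), Or.inr e]
  · rintro ((rfl | hs) | ht)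
    · exact ⟨rfl, h.zz, h.es.ne⟩
    · exact ⟨h.es.comm y hs.1, hs.2.1, hs.2.2.1⟩
    · exact ⟨ht.1, ht.2.1, h.T_ne_one ht⟩

theorem ncard_invs : (invs z).ncard = 131 := by
  rw [h.invs_eq, Set.ncard_union_eq, Set.ncard_union_eq, Set.ncard_singleton, h.ncard_S, h.ncard_T]
  · rw [Set.disjoint_left]
    rintro a rfl hs
    exact hs.2.2.2 rfl
  · rw [Set.disjoint_left]
    rintro a (rfl | hs) ht
    exacts [h.T_ne_z ht rfl, h.S_not_T hs ht]

/-- Each involution outside `Q` centralizes two noncentral involutions of `Q`. -/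
theorem ncard_S_comm {v : G} (hv : v ∈ h.T) : {p | p ∈ h.S ∧ p * v = v * p}.ncard = 2 := by
  obtain ⟨x, t, t', Q', pm', K⟩ := exists_cfg_of_JT h
  obtain ⟨c, hc, rfl⟩ := K.exists_conj_t hv.1 hv.2.1 hv.2.2
  have hset : {p | p ∈ h.S ∧ p * (c * t * c⁻¹) = c * t * c⁻¹ * p} =
      (fun p => c * p * c⁻¹) '' {x, z * x} := by
    ext p
    constructor
    · rintro ⟨hp, hpv⟩
      have hS := h.S_conj (Commute.inv_left hc : c⁻¹ * z = z * c⁻¹) hp
      have hpt : c⁻¹ * p * c * t = t * (c⁻¹ * p * c) := by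
        have := conj_comm (g := c⁻¹) hpv
        rwa [inv_inv, show c⁻¹ * (c * t * c⁻¹) * c = t by group] at this
      rw [inv_inv] at hS
      refine ⟨c⁻¹ * p * c, ?_, by show c * (c⁻¹ * p * c) * c⁻¹ = p; group⟩
      rcases K.centQ _ hS.1 hpt with e | e | e | e
      exacts [absurd e hS.2.2.1, absurd e hS.2.2.2, Or.inl e, Or.inr e]
    · have key : ∀ u ∈ K.P.U, u ≠ 1 → u ≠ z →
          c * u * c⁻¹ ∈ h.S ∧ c * u * c⁻¹ * (c * t * c⁻¹) = c * t * c⁻¹ * (c * u * c⁻¹) := fun u hu h1 hz' =>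
        ⟨h.S_conj hc ⟨(K.P.U_mem hu).1, (K.P.U_mem hu).2.2, h1, hz'⟩, conj_comm (K.U_comm_t hu)⟩
      rintro ⟨u, rfl | rfl, rfl⟩
      · exact key _ K.P.xU K.P.x1 K.P.ne
      · exact key _ (mul_mem K.P.zU K.P.xU) K.P.zx_ne_one K.P.zx_ne_z
  rw [hset, Set.ncard_image_of_injective _ (fun a b e => mul_left_cancel (mul_right_cancel e)),
    Set.ncard_pair K.P.zx_ne_x.symm]

theorem ncard_T_comm {x : G} (hx : x ∈ h.S) : {v | v ∈ h.T ∧ x * v = v * x}.ncard = 24 := by
  have key : ∀ p ∈ h.S, {v | v ∈ h.T ∧ p * v = v * p}.ncard = {v | v ∈ h.T ∧ x * v = v * x}.ncard := fun p hp => by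
    obtain ⟨c, hc, rfl⟩ := h.trans_S hx hp
    rw [show {v | v ∈ h.T ∧ c * x * c⁻¹ * v = v * (c * x * c⁻¹)} =
      (fun v => c * v * c⁻¹) '' {v | v ∈ h.T ∧ x * v = v * x} from ?_]
    · exact Set.ncard_image_of_injective _ fun a b e => mul_left_cancel (mul_right_cancel e)
    ext v
    constructor
    · rintro ⟨hv, he⟩
      have hv' := h.T_conj (Commute.inv_left hc : c⁻¹ * z = z * c⁻¹) hv
      rw [inv_inv] at hv'
      have := conj_comm (g := c⁻¹) he
      rw [inv_inv, show c⁻¹ * (c * x * c⁻¹) * c = x by group] at this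
      exact ⟨c⁻¹ * v * c, ⟨hv', this⟩, by show c * (c⁻¹ * v * c) * c⁻¹ = v; group⟩
    · rintro ⟨v, ⟨hv, he⟩, rfl⟩
      exact ⟨h.T_conj hc hv, conj_comm he⟩
  have e := double_count h.S h.T (fun p v => p * v = v * p) key fun v hv => h.ncard_S_comm hv
  rw [h.ncard_S, h.ncard_T] at e
  omega

theorem S_pair {x p : G} (hx : x ∈ h.S) (hp : p ∈ h.S) (hne : x * p ≠ p * x) : x * p * (x * p) = z := by
  rcases h.es.sq (x * p) (mul_mem hx.1 hp.1) with e | e
  · refine absurd ?_ hne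
    have := inv_eq_of_mul_eq_one_right e
    rw [mul_inv_rev, inv_eq_of_mul_eq_one_right hx.2.1, inv_eq_of_mul_eq_one_right hp.2.1] at this
    exact this.symm
  · exact e

theorem S_commute_cases {x p : G} (hx : x ∈ h.S) (hp : p ∈ h.S) (he : x * p = p * x) : p = x ∨ p = z * x := by
  rcases h.ea hx hp.1 hp.2.1 he.symm with e | e | e | e
  exacts [absurd e hp.2.2.1, absurd e hp.2.2.2, Or.inl e, Or.inr e]

/-- The count at a noncentral involution of `Q`. -/
theorem pairs_S {x : G} (hx : x ∈ h.S) : {v | v ∈ invs z ∧ z ∈ Subgroup.zpowers (x * v)}.ncard = 105 := by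
  set F : Set G := {z, x} ∪ {v | v ∈ h.T ∧ x * v = v * x} with hF
  have hFsub : F ⊆ invs z := by
    rintro v ((rfl | rfl) | ⟨hv, -⟩)
    · exact ⟨rfl, h.zz, h.es.ne⟩
    · exact ⟨h.es.comm v hx.1, hx.2.1, hx.2.2.1⟩
    · exact ⟨hv.1, hv.2.1, h.T_ne_one hv⟩
  have hxi : x⁻¹ = x := inv_eq_of_mul_eq_one_right hx.2.1
  have hfail : ∀ v ∈ F, z ∉ Subgroup.zpowers (x * v) := by
    intro v hv hm
    have hsq : x * v * (x * v) = 1 ∧ x * v ≠ z := by
      rcases hv with (rfl | rfl) | ⟨hv, he⟩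
      · refine ⟨?_, fun e => hx.2.2.1 (mul_eq_right.mp e)⟩
        rw [show x * v * (x * v) = x * (v * x) * v by group, ← h.es.comm x hx.1,
          show x * (x * v) * v = x * x * (v * v) by group, hx.2.1, h.zz, one_mul]
      · exact ⟨by rw [hx.2.1, one_mul], fun e => h.es.ne (by rw [← e, hx.2.1])⟩
      · refine ⟨?_, fun e => hv.2.2 ?_⟩
        · rw [show x * v * (x * v) = x * (v * x) * v by group, ← he,
            show x * (x * v) * v = x * x * (v * v) by group, hx.2.1, hv.2.1, one_mul]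
        · rw [show v = x * (x * v) by rw [← mul_assoc, hx.2.1, one_mul], e]
          exact mul_mem hx.1 h.es.mem
    rcases mem_zpowers_invol hsq.1 hm with e | e
    exacts [h.es.ne e, hsq.2 e.symm]
  have hgood : ∀ v ∈ invs z, v ∉ F → z ∈ Subgroup.zpowers (x * v) := by
    intro v hv hvF
    rw [h.invs_eq] at hv
    rcases hv with (rfl | hs) | ht
    · exact absurd (Or.inl (Or.inl rfl)) hvF
    · by_cases he : x * v = v * x
      · rcases h.S_commute_cases hx hs he with rfl | rfl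
        · exact absurd (Or.inl (Or.inr rfl)) hvF
        · rw [show x * (z * x) = z by rw [← mul_assoc, h.es.comm x hx.1, mul_assoc, hx.2.1, mul_one]]
          exact Subgroup.mem_zpowers z
      · refine Subgroup.mem_zpowers_iff.mpr ⟨2, ?_⟩
        rw [zpow_two]
        exact h.S_pair hx hs he
    · have he : x * v ≠ v * x := fun e => hvF (Or.inr ⟨ht, e⟩)
      have hp := h.S_conj ht.1 hx
      have hvi : v⁻¹ = v := inv_eq_of_mul_eq_one_right ht.2.1
      have hsq : x * v * (x * v) = x * (v * x * v⁻¹) := by rw [hvi]; group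
      have hnc : x * (v * x * v⁻¹) ≠ v * x * v⁻¹ * x := fun e => by
        rcases h.S_commute_cases hx hp e with e' | e'
        · exact he (conj_fix_iff.mp e').symm
        · exact h.T_not_shift ht hx (e'.trans (h.es.comm x hx.1).symm)
      refine Subgroup.mem_zpowers_iff.mpr ⟨4, ?_⟩
      rw [show ((4 : ℤ)) = 2 + 2 from rfl, zpow_add, zpow_two, hsq]
      exact h.S_pair hx hp hnc
  have hset : {v | v ∈ invs z ∧ z ∈ Subgroup.zpowers (x * v)} = invs z \ F :=
    Set.ext fun v => ⟨fun hv => ⟨hv.1, fun hF' => hfail v hF' hv.2⟩, fun hv => ⟨hv.1, hgood v hv.1 hv.2⟩⟩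
  have hF26 : F.ncard = 26 := by
    rw [hF, Set.ncard_union_eq, Set.ncard_pair (Ne.symm hx.2.2.2), h.ncard_T_comm hx]
    rw [Set.disjoint_left]
    rintro v (rfl | rfl) ⟨hv, -⟩
    exacts [h.T_ne_z hv rfl, h.S_not_T hx hv]
  rw [hset, Set.ncard_sdiff hFsub, h.ncard_invs, hF26]

end JT

namespace Cfg

variable {x t t' : G} {Q' : Subgroup G} {pm' : G → Perm (Fin 5)} (K : Cfg z x t t' Q Q' pm pm')
include K

theorem fibre_t : {u | u ∈ K.P.h.T ∧ pm u = pm t} = orb Q t := by
  ext u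
  constructor
  · rintro ⟨hu, e⟩
    refine K.coset_orbit hu.2.1 ((K.P.h.pm_ker _ (Commute.mul_left (Commute.inv_left K.tz) hu.1)).mp ?_)
    rw [K.P.h.pm_mul _ _ (Commute.inv_left K.tz) hu.1, K.P.h.pm_inv K.tz, e, inv_mul_cancel]
  · rintro ⟨q, hq, rfl⟩
    exact ⟨K.P.h.T_conj (K.P.h.es.comm q hq) ⟨K.tz, K.tt, K.t_not_Q⟩, by
      rw [K.P.h.pm_conj (K.P.h.es.comm q hq) K.tz, K.P.h.pm_Q hq, one_mul, inv_one, mul_one]⟩

theorem ncard_fibre {w : G} (hw : w ∈ K.P.h.T) : {u | u ∈ K.P.h.T ∧ pm u = pm w}.ncard = 8 := by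
  have h8 : {u | u ∈ K.P.h.T ∧ pm u = pm t}.ncard = 8 := by
    have ho := ncard_orb Q t
    have hc : Nat.card ↥(Q ⊓ Subgroup.centralizer ({t} : Set G)) = 4 := by
      rw [← K.P.card_U]
      congr 2
      ext q
      exact ⟨fun hq' => K.centQ q hq'.1 (mem_cent.mp hq'.2),
        fun hu => ⟨(K.P.U_mem hu).1, mem_cent.mpr (K.U_comm_t hu)⟩⟩
    rw [hc, K.P.h.card] at ho
    rw [K.fibre_t]
    omega
  obtain ⟨c, hc, rfl⟩ := K.exists_conj_t hw.1 hw.2.1 hw.2.2
  rw [← h8, show {u | u ∈ K.P.h.T ∧ pm u = pm (c * t * c⁻¹)} =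
    (fun u => c * u * c⁻¹) '' {u | u ∈ K.P.h.T ∧ pm u = pm t} from ?_]
  · exact Set.ncard_image_of_injective _ fun a b e => mul_left_cancel (mul_right_cancel e)
  ext u
  constructor
  · rintro ⟨hu, e⟩
    have hu' := K.P.h.T_conj (Commute.inv_left hc : c⁻¹ * z = z * c⁻¹) hu
    rw [inv_inv] at hu'
    refine ⟨c⁻¹ * u * c, ⟨hu', ?_⟩, by show c * (c⁻¹ * u * c) * c⁻¹ = u; group⟩
    have := K.P.h.pm_conj (Commute.inv_left hc : c⁻¹ * z = z * c⁻¹) hu.1
    rw [inv_inv, K.P.h.pm_inv hc, inv_inv, e, K.P.h.pm_conj hc K.tz] at this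
    rw [this]
    group
  · rintro ⟨u, ⟨hu, e⟩, rfl⟩
    exact ⟨K.P.h.T_conj hc hu, by rw [K.P.h.pm_conj hc hu.1, e, K.P.h.pm_conj hc K.tz]⟩

theorem twist_conj {q : G} (hq : q ∈ Q) (ht : q * t = t * q ∨ q * t = z * (t * q)) (hU : q ∉ K.P.U) :
    t' * q * t' = z * x * q := by
  have e := K.twist q hq ht hU
  calc t' * q * t' = t' * (q * t') := by group
    _ = t' * (z * x) * (t' * q) := by rw [e]; group
    _ = z * x * (t' * t') * q := by
      rw [show t' * (z * x) = z * x * t' from Commute.mul_right K.tz' K.tx']; group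
    _ = z * x * q := by rw [K.tt', mul_one]

/-- A product with an involution over another involution of the four group does not power to `z`. -/
theorem fail_four {v w : G} (hw : w = t' ∨ w = t * t') (hv : v ∈ K.P.h.T) (he : pm v = pm w) :
    z ∉ Subgroup.zpowers (t * v) := by
  have h := K.P.h
  have hwE : w ∈ K.E := by
    rcases hw with rfl | rfl
    exacts [K.t'_mem_E, mul_mem K.t_mem_E K.t'_mem_E]
  obtain ⟨hwz, hwt⟩ := K.mem_E.mp hwE
  have hww : w * w = 1 := K.E_sq hwE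
  have hti : t⁻¹ = t := inv_eq_of_mul_eq_one_right K.tt
  obtain ⟨r, hr⟩ : ∃ r, r = w * v := ⟨_, rfl⟩
  have hrQ : r ∈ Q := hr ▸ (h.pm_ker _ (Commute.mul_left hwz hv.1)).mp (by
    rw [h.pm_mul _ _ hwz hv.1, he, ← h.pm_mul _ _ hwz hwz, hww, h.pm_one])
  have hvr : v = w * r := by rw [hr, ← mul_assoc, hww, one_mul]
  have hwrw : w * r * w = r⁻¹ := eq_inv_of_mul_eq_one_left (by
    calc w * r * w * r = w * r * (w * r) := by group
      _ = 1 := by rw [← hvr, hv.2.1])
  have hmove : ∀ q ∈ Q, t * q * t ∈ Q := fun q hq => by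
    have := h.nor_mem K.tz hq
    rwa [hti] at this
  obtain ⟨c, hc⟩ : ∃ c, c = t * r⁻¹ * t * r := ⟨_, rfl⟩
  have hcQ : c ∈ Q := hc ▸ mul_mem (hmove _ (inv_mem hrQ)) hrQ
  have htw : t * w = w * t := hwt.symm
  have hy2 : t * v * (t * v) = c := by
    rw [hvr, hc, ← hwrw]
    calc t * (w * r) * (t * (w * r)) = t * w * r * (t * w) * r := by group
      _ = t * w * r * (w * t) * r := by rw [htw]
      _ = t * (w * r * w) * t * r := by group
  -- `c` lies in the four group and differs from `z`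
  have hct : c * t = t * c ∨ c * t = z * (t * c) := by
    have h1 : t * c * t = c⁻¹ := by
      rw [hc, mul_inv_rev, mul_inv_rev, mul_inv_rev, hti, inv_inv,
        show t * (t * r⁻¹ * t * r) * t = t * t * (r⁻¹ * t * r * t) by group, K.tt, one_mul]
      group
    rcases h.es.inv_cases hcQ with e | e <;> rw [e] at h1
    · left
      calc c * t = t * t * (c * t) := by rw [K.tt, one_mul]
        _ = t * (t * c * t) := by group
        _ = t * c := by rw [h1]
    · right
      calc c * t = t * t * (c * t) := by rw [K.tt, one_mul]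
        _ = t * (t * c * t) := by group
        _ = t * (c * z) := by rw [h1]
        _ = z * (t * c) := by rw [← mul_assoc]; exact Commute.mul_left K.tz (h.es.comm c hcQ)
  have hmodc : w * c * w = c ∨ w * c * w = c * z := by
    have hwtw : w * t * w = t := by rw [← htw, mul_assoc, hww, mul_one]
    have hwriw : w * r⁻¹ * w = r := by
      rw [← hwrw, show w * (w * r * w) * w = w * w * r * (w * w) by group, hww, one_mul, mul_one]
    have e1 : w * c * w = r * c⁻¹ * r⁻¹ := by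
      rw [hc]
      calc w * (t * r⁻¹ * t * r) * w = w * t * w * (w * r⁻¹ * w) * (w * t * w) * (w * r * w) := by
            rw [show w * t * w * (w * r⁻¹ * w) * (w * t * w) * (w * r * w) =
              w * t * (w * w) * r⁻¹ * (w * w) * t * (w * w) * r * w by group, hww]
            group
        _ = t * r * t * r⁻¹ := by rw [hwtw, hwriw, hwrw]
        _ = r * (t * r⁻¹ * t * r)⁻¹ * r⁻¹ := by
          rw [mul_inv_rev, mul_inv_rev, mul_inv_rev, hti, inv_inv]; group
    rw [e1]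
    rcases h.es.conj_cases hrQ (inv_mem hcQ) with e | e <;> rw [e] <;>
      rcases h.es.inv_cases hcQ with e' | e' <;> rw [e']
    · exact Or.inl rfl
    · exact Or.inr rfl
    · exact Or.inr rfl
    · left; rw [mul_assoc, h.zz, mul_one]
  have hbad : ∀ q ∈ Q, (q * t = t * q ∨ q * t = z * (t * q)) → q ∉ K.P.U →
      (w * q * w = q ∨ w * q * w = q * z) → False := by
    intro q hq hqt hqU hwq
    have e := K.twist_conj hq hqt hqU
    have hqz : q * z = z * q := h.es.comm q hq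
    rcases hw with rfl | rfl
    · rw [e] at hwq
      rcases hwq with e' | e'
      · exact K.P.zx_ne_one (mul_eq_right.mp e')
      · rw [hqz] at e'
        exact K.P.zx_ne_z (mul_right_cancel e')
    · have e2 : t * t' * q * (t * t') = z * x * (t * q * t) := by
        calc t * t' * q * (t * t') = t * t' * q * (t' * t) := by rw [K.comm]
          _ = t * (t' * q * t') * t := by group
          _ = t * (z * x) * q * t := by rw [e]; group
          _ = z * x * (t * q * t) := by rw [(Commute.mul_right K.tz K.tx).eq]; group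
      have e3 : t * q * t = q ∨ t * q * t = q * z := by
        rcases hqt with e' | e'
        · left; rw [mul_assoc, e', ← mul_assoc, K.tt, one_mul]
        · right
          rw [mul_assoc, e', hqz, ← mul_assoc t z, K.tz, mul_assoc, ← mul_assoc t t, K.tt, one_mul]
      rw [e2] at hwq
      rcases e3 with e3 | e3 <;> rw [e3] at hwq <;> rcases hwq with e' | e'
      · exact K.P.zx_ne_one (mul_eq_right.mp e')
      · rw [hqz] at e'
        exact K.P.zx_ne_z (mul_right_cancel e')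
      · rw [hqz, ← mul_assoc] at e'
        have h1 : z * x * z = x := by rw [mul_assoc, ← K.P.zx, ← mul_assoc, h.zz, one_mul]
        rw [h1] at e'
        exact K.P.x1 (mul_eq_right.mp e')
      · exact K.P.zx_ne_one (mul_eq_right.mp e')
  have hcU : c ∈ K.P.U ∧ c ≠ z := by
    refine ⟨?_, fun e => ?_⟩
    · by_contra hcU
      exact hbad c hcQ hct hcU hmodc
    · have hrt : t * r * t = r * z := by
        have h1 : t * r⁻¹ * t = z * r⁻¹ := by
          rw [← e, hc]; group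
        have := congrArg (·⁻¹) h1
        simp only [mul_inv_rev, inv_inv, hti, inv_eq_of_mul_eq_one_right h.zz] at this
        rw [← this]; group
      have hrflip : r * t = z * (t * r) := by
        calc r * t = t * (t * r * t) := by rw [← mul_assoc, ← mul_assoc, K.tt, one_mul]
          _ = t * (z * r) := by rw [hrt, h.es.comm r hrQ]
          _ = z * (t * r) := by rw [← mul_assoc, K.tz, mul_assoc]
      have hrU : r ∉ K.P.U := fun hU => by
        rw [K.U_comm_t hU] at hrflip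
        exact h.es.ne (mul_eq_right.mp hrflip.symm)
      refine hbad r hrQ (Or.inr hrflip) hrU ?_
      rcases h.es.inv_cases hrQ with e' | e' <;> rw [hwrw, e']
      exacts [Or.inl rfl, Or.inr rfl]
  intro hm
  have hc2 : c * c = 1 := (K.P.U_mem hcU.1).2.2
  have hyz : t * v * z = z * (t * v) := Commute.mul_left K.tz hv.1
  have hy4 : (t * v) ^ 4 = 1 := by rw [pow_succ, pow_succ, pow_two, hy2, mul_assoc, hy2, hc2]
  have hpy : pm (t * v) ≠ 1 := fun e => by
    rw [h.pm_mul _ _ K.tz hv.1, he] at e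
    rcases hw with rfl | rfl
    · exact K.pm_ne ((eq_inv_of_mul_eq_one_left e).trans (inv_eq_of_mul_eq_one_right K.inv'.2.1))
    · rw [K.pm_tt', ← mul_assoc, K.inv.2.1, one_mul] at e
      exact K.inv'.2.2 e
  obtain ⟨i, hi⟩ := (isOfFinOrder_of_finite (t * v)).mem_powers_iff_mem_zpowers.mpr hm
  have hi' : (t * v) ^ i = z := hi
  rw [← Nat.mod_add_div i 4, pow_add, pow_mul, hy4, one_pow, mul_one] at hi'
  have h4 : i % 4 < 4 := Nat.mod_lt _ (by norm_num)
  interval_cases (i % 4)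
  · exact h.es.ne (by rw [← hi', pow_zero])
  · exact hpy (by rw [← pow_one (t * v), hi', h.pm_z])
  · exact hcU.2 (by rw [← hy2, ← pow_two, hi'])
  · refine hpy ?_
    have h2 : pm (t * v) * pm (t * v) = 1 := by
      rw [← h.pm_mul _ _ hyz hyz, hy2, h.pm_Q hcQ]
    have := congrArg pm hi'
    rw [h.pm_pow hyz, h.pm_z, pow_succ, pow_two, h2, one_mul] at this
    exact this

/-- The count at an involution outside `Q`. -/
theorem pairs_t : {v | v ∈ invs z ∧ z ∈ Subgroup.zpowers (t * v)}.ncard = 69 := by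
  have h := K.P.h
  have hT : t ∈ h.T := ⟨K.tz, K.tt, K.t_not_Q⟩
  have htt'T : t * t' ∈ h.T := ⟨Commute.mul_left K.tz K.tz', K.E_sq (mul_mem K.t_mem_E K.t'_mem_E), fun hq => by
    have := (h.pm_ker _ (Commute.mul_left K.tz K.tz')).mpr hq
    rw [K.pm_tt'] at this
    exact K.pm_ne ((eq_inv_of_mul_eq_one_left this).trans (inv_eq_of_mul_eq_one_right K.inv'.2.1))⟩
  have ht'T : t' ∈ h.T := ⟨K.tz', K.tt', fun hq => K.inv'.2.2 (h.pm_Q hq)⟩
  set I₁ : Set G := {z, x, z * x} with hI₁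
  set I₂ : Set G := {t, t * x, t * (z * x)} with hI₂
  set I₃ : Set G := {u | u ∈ h.T ∧ pm u = pm t'} ∪ {u | u ∈ h.T ∧ pm u = pm (t * t')} with hI₃
  set A : Set G := {a | (a * z = z * a ∧ orderOf a = 3) ∧ Inverts t a} ∪
    {a | (a * z = z * a ∧ orderOf a = 5) ∧ Inverts t a} with hA
  set I₄ : Set G := (fun a => t * a) '' A with hI₄
  have htA : ∀ a ∈ A, (t * a) ∈ h.T ∧ IsRot (orderOf a) (pm t * pm (t * a)) := by
    intro a ha
    obtain ⟨n, hn, ⟨⟨haz, hao⟩, hta⟩⟩ : ∃ n, (n = 3 ∨ n = 5) ∧ (a * z = z * a ∧ orderOf a = n) ∧ Inverts t a := by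
      rcases ha with ha | ha
      exacts [⟨3, Or.inl rfl, ha⟩, ⟨5, Or.inr rfl, ha⟩]
    have hr := h.pm_rot haz hn hao
    have hsq : t * a * (t * a) = 1 := by
      rw [show t * a * (t * a) = t * a * t⁻¹ * (t * t) * a by group, show t * a * t⁻¹ = a⁻¹ from hta, K.tt, mul_one,
        inv_mul_cancel]
    have htaz : t * a * z = z * (t * a) := Commute.mul_left K.tz haz
    refine ⟨⟨htaz, hsq, fun hq => ?_⟩, ?_⟩
    · have e := h.pm_Q hq
      rw [h.pm_mul _ _ K.tz haz] at e
      have : pm a * pm a = 1 := by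
        rw [← inv_eq_of_mul_eq_one_right e, inv_eq_of_mul_eq_one_right K.inv.2.1, K.inv.2.1]
      have h3 := hr.2.1
      rcases hn with rfl | rfl
      · rw [pow_succ, pow_two, this, one_mul] at h3; exact hr.2.2 h3
      · rw [pow_succ, pow_succ, pow_succ, pow_two, this, one_mul, this, one_mul] at h3; exact hr.2.2 h3
    · rw [h.pm_mul _ _ K.tz haz, ← mul_assoc, K.inv.2.1, one_mul, hao]
      exact hr
  have hsub : I₁ ∪ I₂ ∪ I₃ ∪ I₄ ⊆ invs z := by
    have hU : ∀ u ∈ K.P.U, u ≠ 1 → u ∈ invs z := fun u hu h1 =>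
      ⟨h.es.comm u (K.P.U_mem hu).1, (K.P.U_mem hu).2.2, h1⟩
    have hE : ∀ u ∈ K.P.U, t * u ∈ invs z := fun u hu =>
      ⟨Commute.mul_left K.tz (h.es.comm u (K.P.U_mem hu).1), K.E_sq (mul_mem K.t_mem_E (K.U_le_E hu)), fun e => by
        refine K.t_not_Q ?_
        rw [eq_inv_of_mul_eq_one_left e]
        exact inv_mem (K.P.U_mem hu).1⟩
    rintro v ((((rfl | rfl | rfl) | (rfl | rfl | rfl)) | hv) | ⟨a, ha, rfl⟩)
    · exact ⟨rfl, h.zz, h.es.ne⟩
    · exact hU _ K.P.xU K.P.x1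
    · exact hU _ (mul_mem K.P.zU K.P.xU) K.P.zx_ne_one
    · exact ⟨K.tz, K.tt, K.t_ne⟩
    · exact hE _ K.P.xU
    · exact hE _ (mul_mem K.P.zU K.P.xU)
    · rcases hv with ⟨hv, -⟩ | ⟨hv, -⟩ <;> exact ⟨hv.1, hv.2.1, h.T_ne_one hv⟩
    · exact ⟨(htA a ha).1.1, (htA a ha).1.2.1, h.T_ne_one (htA a ha).1⟩
  have hfail : ∀ v ∈ I₁ ∪ I₂ ∪ I₃ ∪ I₄, z ∉ Subgroup.zpowers (t * v) := by
    have hz : ∀ y : G, y * y = 1 → y ≠ z → z ∉ Subgroup.zpowers y := fun y hy hne hm => by
      rcases mem_zpowers_invol hy hm with e | e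
      exacts [h.es.ne e, hne e.symm]
    have hU : ∀ u ∈ K.P.U, z ∉ Subgroup.zpowers (t * u) := fun u hu =>
      hz _ (K.E_sq (mul_mem K.t_mem_E (K.U_le_E hu))) fun e => K.t_not_Q (by
        rw [show t = t * u * u by rw [mul_assoc, (K.P.U_mem hu).2.2, mul_one], e]
        exact mul_mem h.es.mem (K.P.U_mem hu).1)
    have hU' : ∀ u ∈ K.P.U, u ≠ z → z ∉ Subgroup.zpowers (t * (t * u)) := fun u hu hne => by
      rw [← mul_assoc, K.tt, one_mul]
      exact hz u (K.P.U_mem hu).2.2 hne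
    rintro v ((((rfl | rfl | rfl) | (rfl | rfl | rfl)) | hv) | ⟨a, ha, rfl⟩)
    · exact hU _ K.P.zU
    · exact hU _ K.P.xU
    · exact hU _ (mul_mem K.P.zU K.P.xU)
    · rw [K.tt]; exact hz 1 (one_mul 1) h.es.ne.symm
    · exact hU' _ K.P.xU K.P.ne
    · exact hU' _ (mul_mem K.P.zU K.P.xU) K.P.zx_ne_z
    · rcases hv with ⟨hv, e⟩ | ⟨hv, e⟩
      · exact K.fail_four (Or.inl rfl) hv e
      · exact K.fail_four (Or.inr rfl) hv e
    · show z ∉ Subgroup.zpowers (t * (t * a))
      rw [← mul_assoc, K.tt, one_mul]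
      rcases ha with ha | ha <;> exact not_mem_zpowers_odd h.hz (by rw [ha.1.2]; decide)
  have hgood : ∀ v ∈ invs z, v ∉ I₁ ∪ I₂ ∪ I₃ ∪ I₄ → z ∈ Subgroup.zpowers (t * v) := by
    intro v hv hvI
    simp only [Set.mem_union, not_or] at hvI
    obtain ⟨⟨⟨h1, h2⟩, h3⟩, h4⟩ := hvI
    have hvi : v⁻¹ = v := inv_eq_of_mul_eq_one_right hv.2.1
    rw [h.invs_eq] at hv
    rcases hv with (rfl | hs) | hvT
    · exact absurd (Or.inl rfl) h1
    · have hp := h.S_conj K.tz hs
      have hsq : t * v * (t * v) = t * v * t⁻¹ * v := by rw [inv_eq_of_mul_eq_one_right K.tt]; group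
      have hnc : t * v * t⁻¹ * v ≠ v * (t * v * t⁻¹) := fun e => by
        rcases h.S_commute_cases hs hp e.symm with e' | e'
        · rcases K.centQ v hs.1 (conj_fix_iff.mp e').symm with e'' | e'' | e'' | e''
          exacts [hs.2.2.1 e'', hs.2.2.2 e'', h1 (Or.inr (Or.inl e'')), h1 (Or.inr (Or.inr e''))]
        · exact h.T_not_shift hT hs (e'.trans (h.es.comm v hs.1).symm)
      refine Subgroup.mem_zpowers_iff.mpr ⟨4, ?_⟩
      rw [show ((4 : ℤ)) = 2 + 2 from rfl, zpow_add, zpow_two, hsq]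
      exact h.S_pair hp hs hnc
    · have hpv := h.pm_T hvT
      have hyz : t * v * z = z * (t * v) := Commute.mul_left K.tz hvT.1
      by_cases hc : pm t * pm v = pm v * pm t
      · rcases four_closed _ K.inv _ K.inv' K.pm_comm K.pm_ne _ hpv.1 hc.symm with e | e | e | e
        · exact absurd e hpv.2.2
        · have hq : t * v ∈ Q := (h.pm_ker _ hyz).mp (by rw [h.pm_mul _ _ K.tz hvT.1, e, K.inv.2.1])
          rcases h.es.sq _ hq with e2 | e2
          · have hU : t * v ∈ K.P.U := by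
              refine K.centQ _ hq ?_
              calc t * v * t = t * v * t * v * v := by rw [mul_assoc (t * v * t) v v, hvT.2.1, mul_one]
                _ = t * v * (t * v) * v := by group
                _ = t * t * v := by rw [e2, K.tt]
                _ = t * (t * v) := by group
            rcases hU with e3 | e3 | e3 | e3
            · exact absurd (Or.inl (by rw [← hvi]; exact (inv_eq_of_mul_eq_one_left e3))) h2
            · rw [e3]; exact Subgroup.mem_zpowers z
            · exact absurd (Or.inr (Or.inl (by rw [← e3, ← mul_assoc, K.tt, one_mul]))) h2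
            · exact absurd (Or.inr (Or.inr (by
                show v = t * (z * x)
                rw [← e3, ← mul_assoc, K.tt, one_mul]))) h2
          · exact Subgroup.mem_zpowers_iff.mpr ⟨2, by rw [zpow_two, e2]⟩
        · exact absurd (Or.inl ⟨hvT, e⟩) h3
        · exact absurd (Or.inr ⟨hvT, by rw [e, K.pm_tt']⟩) h3
      · obtain ⟨n, hn, hr⟩ : ∃ n, (n = 3 ∨ n = 5) ∧ IsRot n (pm t * pm v) := by
          rcases inv_prod _ K.inv _ hpv hc with hr | hr
          exacts [⟨3, Or.inl rfl, hr⟩, ⟨5, Or.inr rfl, hr⟩]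
        rw [← h.pm_mul _ _ K.tz hvT.1] at hr
        haveI : Fact n.Prime := ⟨by rcases hn with rfl | rfl <;> norm_num⟩
        have hq : (t * v) ^ n ∈ Q := (h.pm_ker _ (Commute.pow_left hyz n)).mp (by rw [h.pm_pow hyz]; exact hr.2.1)
        rcases h.es.sq _ hq with e2 | e2
        · have hinv : Inverts t ((t * v) ^ n) := inverts_pow (inverts_prod K.tt hvT.2.1) n
          by_cases h1' : (t * v) ^ n = 1
          · exfalso
            have ho : orderOf (t * v) = n := orderOf_eq_prime h1' fun e => hr.2.2 (by rw [e, h.pm_one])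
            refine h4 ⟨t * v, ?_, by show t * (t * v) = v; rw [← mul_assoc, K.tt, one_mul]⟩
            rcases hn with rfl | rfl
            exacts [Or.inl ⟨⟨hyz, ho⟩, inverts_prod K.tt hvT.2.1⟩, Or.inr ⟨⟨hyz, ho⟩, inverts_prod K.tt hvT.2.1⟩]
          · obtain ⟨k, hk1, hk⟩ : ∃ k : ℕ, n * 4 ∣ k * n ∧ ∃ m, k = n * m + 1 := by
              rcases hn with rfl | rfl
              · exact ⟨4, by norm_num, 1, rfl⟩
              · exact ⟨16, by norm_num, 3, rfl⟩
            have hd : (t * v) ^ k * z = z * (t * v) ^ k := Commute.pow_left hyz k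
            have hy4 : (t * v) ^ (n * 4) = 1 := by
              rw [pow_mul]; exact congrArg Subtype.val (h.es.toExt.pow_four ⟨_, hq⟩)
            have hod : orderOf ((t * v) ^ k) = n := by
              refine orderOf_eq_prime ?_ fun e => hr.2.2 ?_
              · rw [← pow_mul]
                obtain ⟨j, hj⟩ := hk1
                rw [hj, pow_mul, hy4, one_pow]
              · obtain ⟨m, rfl⟩ := hk
                have := congrArg pm e
                rw [h.pm_one, h.pm_pow hyz, pow_succ, pow_mul, hr.2.1, one_pow, one_mul] at this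
                exact this
            have hcomm : (t * v) ^ k * (t * v) ^ n = (t * v) ^ n * (t * v) ^ k := Commute.pow_pow_self _ _ _
            have hz' : (t * v) ^ n = z := by
              rcases hn with rfl | rfl
              · obtain ⟨a, b, F⟩ := h.exists_frame3 hd hod
                have htr : t * (t * v) ^ 3 = (t * v) ^ 3 * t := by
                  refine conj_fix_iff.mp ?_
                  rw [show t * (t * v) ^ 3 * t⁻¹ = ((t * v) ^ 3)⁻¹ from hinv, inv_eq_of_mul_eq_one_right e2]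
                exact (F.inverter_cent hT (inverts_pow (inverts_prod K.tt hvT.2.1) k) hq hcomm htr).resolve_left h1'
              · exact (h.five_fix hd hod (h.five_not_mem hd hod) hq hcomm).resolve_left h1'
            exact Subgroup.mem_zpowers_iff.mpr ⟨n, by rw [zpow_natCast, hz']⟩
        · exact Subgroup.mem_zpowers_iff.mpr ⟨(n : ℤ) + n, by rw [zpow_add, zpow_natCast, e2]⟩
  have hset : {v | v ∈ invs z ∧ z ∈ Subgroup.zpowers (t * v)} = invs z \ (I₁ ∪ I₂ ∪ I₃ ∪ I₄) :=
    Set.ext fun v => ⟨fun hv => ⟨hv.1, fun hI => hfail v hI hv.2⟩, fun hv => ⟨hv.1, hgood v hv.1 hv.2⟩⟩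
  -- the sizes of the parts
  have hc1 : I₁.ncard = 3 := by
    rw [hI₁, Set.ncard_insert_of_notMem, Set.ncard_pair K.P.zx_ne_x.symm]
    rintro (e | e)
    exacts [K.P.ne e.symm, K.P.zx_ne_z e.symm]
  have hc2 : I₂.ncard = 3 := by
    rw [hI₂, Set.ncard_insert_of_notMem, Set.ncard_pair fun e => K.P.zx_ne_x (mul_left_cancel e).symm]
    rintro (e | e)
    exacts [K.P.x1 (mul_eq_left.mp e.symm), K.P.zx_ne_one (mul_eq_left.mp e.symm)]
  have hd23 : ∀ u ∈ I₂, pm u = pm t := by
    have hu : ∀ u ∈ K.P.U, pm (t * u) = pm t := fun u hu => by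
      rw [h.pm_mul _ _ K.tz (h.es.comm u (K.P.U_mem hu).1), h.pm_Q (K.P.U_mem hu).1, mul_one]
    rintro u (rfl | rfl | rfl)
    exacts [rfl, hu _ K.P.xU, hu _ (mul_mem K.P.zU K.P.xU)]
  have hd3 : ∀ u ∈ I₃, pm t * pm u = pm u * pm t ∧ pm u ≠ pm t := by
    rintro u (⟨-, e⟩ | ⟨-, e⟩) <;> rw [e]
    · exact ⟨K.pm_comm, K.pm_ne.symm⟩
    · rw [K.pm_tt']
      refine ⟨by rw [← mul_assoc, mul_assoc (pm t) (pm t') (pm t), ← K.pm_comm, ← mul_assoc],
        fun e' => K.inv'.2.2 (mul_eq_left.mp e')⟩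
  have hd4 : ∀ u ∈ I₄, pm t * pm u ≠ pm u * pm t := by
    rintro _ ⟨a, ha, rfl⟩ e
    have hr := (htA a ha).2
    have h2 : (pm t * pm (t * a)) * (pm t * pm (t * a)) = 1 := by
      nth_rewrite 2 [e]
      rw [mul_assoc, ← mul_assoc (pm (t * a)) (pm (t * a)), (h.pm_T (htA a ha).1).2.1, one_mul, K.inv.2.1]
    have h3 := hr.2.1
    rcases ha with ha | ha <;> rw [ha.1.2] at h3
    · rw [pow_succ, pow_two, h2, one_mul] at h3; exact hr.2.2 h3
    · rw [pow_succ, pow_succ, pow_succ, pow_two, h2, one_mul, h2, one_mul] at h3; exact hr.2.2 h3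
  have hc3 : I₃.ncard = 16 := by
    rw [hI₃, Set.ncard_union_eq, K.ncard_fibre ht'T, K.ncard_fibre htt'T]
    rw [Set.disjoint_left]
    rintro u ⟨-, e⟩ ⟨-, e'⟩
    rw [e, K.pm_tt'] at e'
    exact K.inv.2.2 (mul_eq_right.mp e'.symm)
  have hc4 : I₄.ncard = 40 := by
    rw [hI₄, Set.ncard_image_of_injective _ (fun a b e => mul_left_cancel e), hA, Set.ncard_union_eq,
      h.ncard_three_inverted hT, h.ncard_five_inverted hT]
    rw [Set.disjoint_left]
    rintro a ⟨⟨-, e⟩, -⟩ ⟨⟨-, e'⟩, -⟩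
    omega
  have hI₁Q : ∀ u ∈ I₁, u ∈ Q := by
    rintro u (rfl | rfl | rfl)
    exacts [h.es.mem, K.P.hx, mul_mem h.es.mem K.P.hx]
  have hpm1 : ∀ u ∈ I₁, pm u = 1 := fun u hu => h.pm_Q (hI₁Q u hu)
  rw [hset, Set.ncard_sdiff hsub, h.ncard_invs, Set.ncard_union_eq, Set.ncard_union_eq, Set.ncard_union_eq, hc1,
    hc2, hc3, hc4]
  · rw [Set.disjoint_left]
    intro u h1 h2
    exact K.inv.2.2 ((hd23 u h2).symm.trans (hpm1 u h1))
  · rw [Set.disjoint_left]
    rintro u (h1 | h2) h3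
    · rcases h3 with ⟨hu, -⟩ | ⟨hu, -⟩ <;> exact hu.2.2 (hI₁Q u h1)
    · exact (hd3 u h3).2 (hd23 u h2)
  · rw [Set.disjoint_left]
    rintro u ((h1 | h2) | h3) h4
    · exact hd4 u h4 (by rw [hpm1 u h1, mul_one, one_mul])
    · exact hd4 u h4 (by rw [hd23 u h2])
    · exact hd4 u h4 (hd3 u h3).1

end Cfg

namespace JT

variable (h : JT z Q pm)
include h

theorem pairs_T {v : G} (hv : v ∈ h.T) : {u | u ∈ invs z ∧ z ∈ Subgroup.zpowers (v * u)}.ncard = 69 := by
  obtain ⟨x, t, t', Q', pm', K⟩ := exists_cfg_of_JT h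
  obtain ⟨c, hc, rfl⟩ := K.exists_conj_t hv.1 hv.2.1 hv.2.2
  have hinv : ∀ {u g : G}, g * z = z * g → u ∈ invs z → g * u * g⁻¹ ∈ invs z := fun {u g} hg hu =>
    ⟨Commute.mul_left (Commute.mul_left hg hu.1) (Commute.inv_left hg), conj_sq g u hu.2.1,
      fun e => hu.2.2 (conj_eq_one_iff.mp e)⟩
  have hpow : ∀ {a g : G}, g * z = z * g → z ∈ Subgroup.zpowers a → z ∈ Subgroup.zpowers (g * a * g⁻¹) := by
    intro a g hg hm
    obtain ⟨i, hi⟩ := Subgroup.mem_zpowers_iff.mp hm
    exact Subgroup.mem_zpowers_iff.mpr ⟨i, by rw [conj_zpow, hi, conj_fix_iff.mpr hg]⟩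
  rw [← K.pairs_t, show {u | u ∈ invs z ∧ z ∈ Subgroup.zpowers (c * t * c⁻¹ * u)} =
    (fun u => c * u * c⁻¹) '' {u | u ∈ invs z ∧ z ∈ Subgroup.zpowers (t * u)} from ?_]
  · exact Set.ncard_image_of_injective _ fun a b e => mul_left_cancel (mul_right_cancel e)
  ext u
  constructor
  · rintro ⟨hu, hm⟩
    refine ⟨c⁻¹ * u * c, ⟨?_, ?_⟩, by show c * (c⁻¹ * u * c) * c⁻¹ = u; group⟩
    · have := hinv (Commute.inv_left hc) hu
      rwa [inv_inv] at this
    · have := hpow (Commute.inv_left hc) hm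
      rwa [show c⁻¹ * (c * t * c⁻¹ * u) * c⁻¹⁻¹ = t * (c⁻¹ * u * c) by group] at this
  · rintro ⟨u, ⟨hu, hm⟩, rfl⟩
    refine ⟨hinv hc hu, ?_⟩
    have := hpow hc hm
    rwa [show c * (t * u) * c⁻¹ = c * t * c⁻¹ * (c * u * c⁻¹) by group] at this

end JT

end CfsgLib.J3Type
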