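import Cfsg.Agent.Lib.J3Type.Singer
import Cfsg.Agent.Lib.U34.Field
import Cfsg.Agent.S2286

/-!
A subgroup `SL₂(16)` from a Singer cycle on an elementary abelian group and one braid relation.
-/

set_option autoImplicit false
set_option maxRecDepth 100000

namespace CfsgLib.J3Type.SLSixteen

open CfsgLib.U34 CfsgLib.J3Type.Singer
open Cfsg.Agent.S2286 (xHom wEl dEl conj_xHom weyl_identity weyl_inverts closure_eq_top card_SL2 coe_xHom coe_inv_wEl)

/-- The primitive element `X`. -/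
def σ : C := C.mk' 2

theorem field_facts : (∀ x : C, x ≠ 0 → ∃ k : Fin 15, x = σ ^ (k : ℕ)) ∧ σ ^ 8 * σ ^ 8 = σ ∧ σ ^ 8 ≠ 0 ∧
    (σ ^ 8)⁻¹ = σ ^ 7 ∧ σ ^ 15 = 1 ∧ (∀ x : C, x * x = 1 → x = 1) ∧ (∀ x : C, -x = x) ∧
    (σ ^ 8) ^ 15 = 1 ∧ (∀ x : C, x ≠ 0 → ∃ k : Fin 15, x = (σ ^ 8) ^ (k : ℕ)) := by decide +kernel

theorem sigma_eight_ne : σ ^ 8 ≠ 0 := field_facts.2.2.1

/-- A coordinate. -/
def bit (x : C) (i : ℕ) : Bool := x.code.val.testBit i

theorem bit_add : ∀ x y : C, ∀ i : Fin 4, bit (x + y) i = (bit x i != bit y i) := by decide +kernel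

theorem bit_shift : ∀ x : C, bit (σ * x) 0 = bit x 3 ∧ bit (σ * x) 1 = (bit x 0 != bit x 3) ∧
    bit (σ * x) 2 = bit x 1 ∧ bit (σ * x) 3 = bit x 2 := by decide +kernel

theorem bit_one : bit 1 0 = true ∧ bit 1 1 = false ∧ bit 1 2 = false ∧ bit 1 3 = false := by decide +kernel

variable {G : Type*} [Group G]

/-- A power with exponent in `{0, 1}`. -/
def pw (g : G) (b : Bool) : G := bif b then g else 1

theorem pw_mem {A : Subgroup G} {g : G} (h : g ∈ A) (b : Bool) : pw g b ∈ A := by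
  cases b
  exacts [A.one_mem, h]

theorem pw_xor {g : G} (h : g * g = 1) (b c : Bool) : pw g (b != c) = pw g b * pw g c := by
  cases b <;> cases c <;> simp [pw, h]

theorem pw_conj (o g : G) (b : Bool) : o * pw g b * o⁻¹ = pw (o * g * o⁻¹) b := by
  cases b <;> simp [pw]

variable {A : Subgroup G} {o a : G} (K : Cyc A o a) (h4 : a * s o a 1 = s o a 4)

/-- The root group map. -/
def rootFun (o a : G) (x : C) : G :=
  pw (s o a 0) (bit x 0) * pw (s o a 1) (bit x 1) * pw (s o a 2) (bit x 2) * pw (s o a 3) (bit x 3)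

include K in
theorem rootFun_mem (x : C) : rootFun o a x ∈ A :=
  mul_mem (mul_mem (mul_mem (pw_mem (K.s_mem 0) _) (pw_mem (K.s_mem 1) _)) (pw_mem (K.s_mem 2) _))
    (pw_mem (K.s_mem 3) _)

include K in
theorem rootFun_add (x y : C) : rootFun o a (x + y) = rootFun o a x * rootFun o a y := by
  have hc : ∀ {p q : G}, p ∈ A → q ∈ A → Commute p q := fun hp hq => K.comm hp hq
  have m := fun k b => pw_mem (K.s_mem k) b
  simp only [rootFun]
  rw [show bit (x + y) 0 = _ from bit_add x y 0, show bit (x + y) 1 = _ from bit_add x y 1,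
    show bit (x + y) 2 = _ from bit_add x y 2, show bit (x + y) 3 = _ from bit_add x y 3,
    pw_xor (K.sq _ (K.s_mem _)), pw_xor (K.sq _ (K.s_mem _)), pw_xor (K.sq _ (K.s_mem _)),
    pw_xor (K.sq _ (K.s_mem _))]
  set p0 := pw (s o a 0) (bit x 0)
  set q0 := pw (s o a 0) (bit y 0)
  set p1 := pw (s o a 1) (bit x 1)
  set q1 := pw (s o a 1) (bit y 1)
  set p2 := pw (s o a 2) (bit x 2)
  set q2 := pw (s o a 2) (bit y 2)
  set p3 := pw (s o a 3) (bit x 3)
  set q3 := pw (s o a 3) (bit y 3)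
  calc p0 * q0 * (p1 * q1) * (p2 * q2) * (p3 * q3)
      = p0 * (q0 * p1) * (q1 * p2) * (q2 * p3) * q3 := by group
    _ = p0 * (p1 * q0) * (p2 * q1) * (p3 * q2) * q3 := by
        rw [(hc (m _ _) (m _ _) : Commute q0 p1).eq, (hc (m _ _) (m _ _) : Commute q1 p2).eq,
          (hc (m _ _) (m _ _) : Commute q2 p3).eq]
    _ = p0 * p1 * (q0 * p2) * (q1 * p3) * q2 * q3 := by group
    _ = p0 * p1 * (p2 * q0) * (p3 * q1) * q2 * q3 := by
        rw [(hc (m _ _) (m _ _) : Commute q0 p2).eq, (hc (m _ _) (m _ _) : Commute q1 p3).eq]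
    _ = p0 * p1 * p2 * (q0 * p3) * q1 * q2 * q3 := by group
    _ = p0 * p1 * p2 * p3 * (q0 * q1 * q2 * q3) := by rw [(hc (m _ _) (m _ _) : Commute q0 p3).eq]; group

include K h4 in
theorem rootFun_shift (x : C) : o * rootFun o a x * o⁻¹ = rootFun o a (σ * x) := by
  have hs : ∀ k, o * s o a k * o⁻¹ = s o a (k + 1) := fun k => by
    have e := K.s_add 1 k
    rwa [pow_one, add_comm] at e
  obtain ⟨b0, b1, b2, b3⟩ := bit_shift x
  simp only [rootFun, b0, b1, b2, b3]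
  rw [show o * (pw (s o a 0) (bit x 0) * pw (s o a 1) (bit x 1) * pw (s o a 2) (bit x 2) * pw (s o a 3) (bit x 3)) * o⁻¹
    = (o * pw (s o a 0) (bit x 0) * o⁻¹) * (o * pw (s o a 1) (bit x 1) * o⁻¹) * (o * pw (s o a 2) (bit x 2) * o⁻¹)
      * (o * pw (s o a 3) (bit x 3) * o⁻¹) by group, pw_conj, pw_conj, pw_conj, pw_conj, hs, hs, hs, hs]
  rw [show s o a (3 + 1) = s o a 0 * s o a 1 by rw [K.s_zero]; exact h4.symm]
  have hc : ∀ {p q : G}, p ∈ A → q ∈ A → Commute p q := fun hp hq => K.comm hp hq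
  have m := fun k b => pw_mem (K.s_mem k) b
  rw [show pw (s o a 0 * s o a 1) (bit x 3) = pw (s o a 0) (bit x 3) * pw (s o a 1) (bit x 3) by
    cases bit x 3 <;> simp [pw], pw_xor (K.sq _ (K.s_mem 1))]
  set p0 := pw (s o a 0) (bit x 3)
  set p1 := pw (s o a 1) (bit x 0)
  set q1 := pw (s o a 1) (bit x 3)
  set p2 := pw (s o a (1 + 1)) (bit x 1)
  set p3 := pw (s o a (2 + 1)) (bit x 2)
  have hrest : p1 * p2 * p3 ∈ A := mul_mem (mul_mem (m _ _) (m _ _)) (m _ _)
  calc p1 * p2 * p3 * (p0 * q1) = (p1 * p2 * p3 * p0) * q1 := by group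
    _ = p0 * p1 * (p2 * p3 * q1) := by rw [(hc hrest (m _ _) : Commute (p1 * p2 * p3) p0).eq]; group
    _ = p0 * p1 * (q1 * (p2 * p3)) := by rw [(hc (mul_mem (m _ _) (m _ _)) (m _ _) : Commute (p2 * p3) q1).eq]
    _ = p0 * (p1 * q1) * p2 * p3 := by group

include K in
theorem rootFun_one : rootFun o a 1 = a := by
  obtain ⟨b0, b1, b2, b3⟩ := bit_one
  simp only [rootFun, b0, b1, b2, b3, pw, cond_true, cond_false, mul_one, K.s_zero]

include K h4 in
theorem rootFun_pow (k : ℕ) : rootFun o a (σ ^ k) = s o a k := by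
  induction k with
  | zero => rw [pow_zero, rootFun_one K, K.s_zero]
  | succ k ih =>
    rw [pow_succ', ← rootFun_shift K h4, ih]
    have e := K.s_add 1 k
    rwa [pow_one, add_comm] at e

/-- The root group homomorphism. -/
def rootHom : Multiplicative C →* G :=
  MonoidHom.mk' (fun x => rootFun o a (Multiplicative.toAdd x)) fun x y => rootFun_add K _ _

local notation "SL" => Matrix.SpecialLinearGroup (Fin 2) C

include K h4 in
theorem exists_hom_values {w : G} (hw : w * w = 1) (hwo : w * o * w⁻¹ = o⁻¹) (haw : (a * w) ^ 3 = 1) (hwA : w ∉ A) :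
    ∃ ψ : SL →* G, Function.Injective ψ ∧ ψ.range = Subgroup.closure ({a, w, o} : Set G) ∧
      (∀ g ∈ ψ.range, g * a = a * g → g ∈ A) ∧ (∀ x : C, ψ (xHom (Multiplicative.ofAdd x)) = rootFun o a x) ∧
      ψ wEl = w ∧ ∀ h8 : σ ^ 8 ≠ 0, ψ (dEl (σ ^ 8) h8) = o := by
  classical
  obtain ⟨fgen, fsq, fρ, finv, f15, fsqone, fneg, fρ15, fρgen⟩ := field_facts
  set ρ : C := σ ^ 8 with hρ
  set φ := rootHom K with hφ
  have hφp : ∀ k, φ (Multiplicative.ofAdd (σ ^ k)) = s o a k := fun k => rootFun_pow K h4 k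
  have hφ1 : φ (Multiplicative.ofAdd 1) = a := rootFun_one K
  have hφmem : ∀ x, φ x ∈ A := fun x => rootFun_mem K _
  have hwi : w⁻¹ = w := inv_eq_of_mul_eq_one_right hw
  have haa : a * a = 1 := K.sq a K.mem
  have hB : a * (w * a * w⁻¹) * a = w := by
    rw [hwi]
    calc a * (w * a * w) * a = (a * w) ^ 3 * w⁻¹ := by
          rw [pow_succ, pow_two]; group
      _ = w := by rw [haw, one_mul, hwi]
  have hT : w * o * w⁻¹ = o⁻¹ := hwo
  have hD : s o a 8 * (w * s o a 7 * w⁻¹) * s o a 8 = o * w := by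
    have hpow : ∀ n : ℕ, w * o ^ n = (o ^ n)⁻¹ * w := fun n => by
      rw [← inv_pow, ← hT, conj_pow]; group
    have e1 : w * s o a 7 * w⁻¹ = (o ^ 7)⁻¹ * (w * a * w⁻¹) * o ^ 7 := by
      calc w * s o a 7 * w⁻¹ = (w * o ^ 7) * a * (w * o ^ 7)⁻¹ := by simp only [s]; group
        _ = _ := by rw [hpow]; group
    have h15 : o ^ 8 = o * o ^ 7 := pow_succ' o 7
    have h15' : o ^ 7 * o ^ 8 = 1 := by rw [← pow_add, K.pow]
    have h8 : (o ^ 8)⁻¹ = o ^ 7 := inv_eq_of_mul_eq_one_left h15'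
    have h7 : (o ^ 7)⁻¹ = o ^ 8 := inv_eq_of_mul_eq_one_right h15'
    calc s o a 8 * (w * s o a 7 * w⁻¹) * s o a 8
        = o ^ 8 * a * ((o ^ 8)⁻¹ * (o ^ 7)⁻¹) * (w * a * w⁻¹) * (o ^ 7 * o ^ 8) * a * (o ^ 8)⁻¹ := by
          rw [e1]; simp only [s]; group
      _ = o ^ 8 * (a * (w * a * w⁻¹) * a) * o ^ 7 := by rw [h15', h7, h8, h15']; group
      _ = o ^ 8 * (o ^ 7)⁻¹ * w := by rw [hB, mul_assoc, hpow, mul_assoc]
      _ = o * w := by rw [h15, mul_inv_cancel_right]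
  set Φ : Multiplicative C →* SL × G := MonoidHom.prod xHom φ with hΦ
  set U : SL × G := Φ (Multiplicative.ofAdd 1) with hU
  set T : SL × G := (wEl, w)
  set H : SL × G := (dEl ρ fρ, o)
  set Γ := Subgroup.closure ({U, T, H} : Set (SL × G)) with hΓ
  have hUΓ : U ∈ Γ := Subgroup.subset_closure (by simp)
  have hTΓ : T ∈ Γ := Subgroup.subset_closure (by simp)
  have hHΓ : H ∈ Γ := Subgroup.subset_closure (by simp)
  have hHΦ : ∀ x : C, H * Φ (Multiplicative.ofAdd x) * H⁻¹ = Φ (Multiplicative.ofAdd (ρ * ρ * x)) := fun x => by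
    refine Prod.ext (conj_xHom ρ fρ x) ?_
    show o * rootFun o a x * o⁻¹ = rootFun o a (ρ * ρ * x)
    rw [rootFun_shift K h4, fsq]
  have hΦΓ : ∀ x, Φ x ∈ Γ := by
    intro x
    by_cases hx : Multiplicative.toAdd x = 0
    · rw [show x = 1 from Multiplicative.toAdd.injective hx, map_one]; exact one_mem _
    obtain ⟨k, hk⟩ := fgen _ hx
    rw [show x = Multiplicative.ofAdd (σ ^ (k : ℕ)) from Multiplicative.toAdd.injective hk]
    generalize (k : ℕ) = n
    induction n with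
    | zero => rw [pow_zero]; exact hUΓ
    | succ n ih =>
      rw [pow_succ', show σ * σ ^ n = ρ * ρ * σ ^ n by rw [fsq], ← hHΦ]
      exact mul_mem (mul_mem hHΓ ih) (inv_mem hHΓ)
  let φΓ : Multiplicative C →* ↥Γ := Φ.codRestrict Γ hΦΓ
  have hρgen : ∀ x : C, x ≠ 0 → ∃ j : ℕ, x = ρ ^ j := fun x hx => by
    obtain ⟨k, hk⟩ := fρgen x hx
    exact ⟨k, hk⟩
  have hgenΓ : Subgroup.closure ({⟨U, hUΓ⟩, ⟨T, hTΓ⟩, ⟨H, hHΓ⟩} : Set ↥Γ) = ⊤ := by
    have e : ((↑) : ↥Γ → SL × G) ⁻¹' {U, T, H} = {⟨U, hUΓ⟩, ⟨T, hTΓ⟩, ⟨H, hHΓ⟩} := by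
      ext y
      simp only [Set.mem_preimage, Set.mem_insert_iff, Set.mem_singleton_iff, Subtype.ext_iff]
    rw [← e]
    exact Subgroup.closure_closure_coe_preimage
  have hH15 : H ^ 15 = 1 := by
    refine Prod.ext ?_ K.pow
    show dEl ρ fρ ^ 15 = 1
    have hd : ∀ n : ℕ, dEl ρ fρ ^ n = dEl (ρ ^ n) (pow_ne_zero n fρ) := fun n => by
      induction n with
      | zero => simp [Cfsg.Agent.S2286.dEl_one]
      | succ n ih =>
        rw [pow_succ, ih]
        refine Subtype.ext ?_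
        show !![ρ ^ n, 0; 0, (ρ ^ n)⁻¹] * !![ρ, 0; 0, ρ⁻¹] = !![ρ ^ (n + 1), 0; 0, (ρ ^ (n + 1))⁻¹]
        simp [Matrix.mul_fin_two, pow_succ, mul_comm]
    rw [hd]
    refine Subtype.ext ?_
    show !![ρ ^ 15, 0; 0, (ρ ^ 15)⁻¹] = _
    rw [fρ15]
    simp [Matrix.one_fin_two]
  obtain ⟨hfin, hle⟩ := CfsgLib.SL2Pres.card_le_of_relations ρ fρ hρgen (⟨U, hUΓ⟩ : ↥Γ) ⟨T, hTΓ⟩ ⟨H, hHΓ⟩
    hgenΓ φΓ rfl (fun x => Subtype.ext (hHΦ x))
    (Subtype.ext (Prod.ext (weyl_inverts ρ fρ) hT))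
    (Subtype.ext (Prod.ext (by
      have := weyl_identity (1 : C) one_ne_zero
      rwa [inv_one, Cfsg.Agent.S2286.dEl_one, one_mul] at this) (by
      show rootFun o a 1 * (w * rootFun o a 1 * w⁻¹) * rootFun o a 1 = w
      rw [rootFun_one K]; exact hB)))
    (Subtype.ext (Prod.ext (weyl_identity ρ fρ) (by
      show rootFun o a ρ * (w * rootFun o a ρ⁻¹ * w⁻¹) * rootFun o a ρ = o * w
      rw [finv, rootFun_pow K h4, rootFun_pow K h4]; exact hD)))
    15 (by norm_num) (Subtype.ext hH15)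
  let π : ↥Γ →* SL := (MonoidHom.fst SL G).comp Γ.subtype
  have hπ : Function.Surjective π := by
    rw [← MonoidHom.range_eq_top]
    exact closure_eq_top _ (fun x => ⟨φΓ (Multiplicative.ofAdd x), rfl⟩) ⟨⟨T, hTΓ⟩, rfl⟩
  have hπb : Function.Bijective π := by
    refine (Nat.bijective_iff_surjective_and_card π).mpr ⟨hπ, le_antisymm ?_ (Nat.card_le_card_of_surjective π hπ)⟩
    rw [card_SL2, C.card_eq]
    rw [C.card_eq] at hle
    omega
  let eπ := MulEquiv.ofBijective π hπb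
  let ψ : SL →* G := ((MonoidHom.snd SL G).comp Γ.subtype).comp eπ.symm.toMonoidHom
  have hψ : ∀ p : ↥Γ, ψ (p : SL × G).1 = (p : SL × G).2 := fun p => by
    show ((eπ.symm (eπ p) : ↥Γ) : SL × G).2 = _
    rw [eπ.symm_apply_apply]
  have hψx : ∀ x : C, ψ (xHom (Multiplicative.ofAdd x)) = φ (Multiplicative.ofAdd x) := fun x =>
    hψ (φΓ (Multiplicative.ofAdd x))
  have hψw : ψ wEl = w := hψ ⟨T, hTΓ⟩
  have hψd : ψ (dEl ρ fρ) = o := hψ ⟨H, hHΓ⟩
  have hdet : ∀ g : SL, g.1 0 0 * g.1 1 1 - g.1 0 1 * g.1 1 0 = 1 := fun g => by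
    have := g.2; rwa [Matrix.det_fin_two] at this
  have hinjψ : Function.Injective ψ := by
    refine (injective_iff_map_eq_one ψ).mpr fun g hg => ?_
    by_cases hc : g.1 1 0 = 0
    · have hd := hdet g
      rw [hc, mul_zero, sub_zero] at hd
      have ht0 : g.1 0 0 ≠ 0 := left_ne_zero_of_mul_eq_one hd
      obtain ⟨j, hj⟩ := fρgen _ ht0
      have hdp : ∀ n : ℕ, ((dEl ρ fρ ^ n : SL) : Matrix (Fin 2) (Fin 2) C) = !![ρ ^ n, 0; 0, (ρ ^ n)⁻¹] := fun n => by
        induction n with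
        | zero => simp [Matrix.one_fin_two]
        | succ n ih =>
          rw [pow_succ, Matrix.SpecialLinearGroup.coe_mul, ih]
          show !![ρ ^ n, 0; 0, (ρ ^ n)⁻¹] * !![ρ, 0; 0, ρ⁻¹] = !![ρ ^ (n + 1), 0; 0, (ρ ^ (n + 1))⁻¹]
          simp [Matrix.mul_fin_two, pow_succ, mul_comm]
      have hg' : g = dEl ρ fρ ^ (j : ℕ) * xHom (Multiplicative.ofAdd ((g.1 0 0)⁻¹ * g.1 0 1)) := by
        refine Subtype.ext ?_
        rw [Matrix.SpecialLinearGroup.coe_mul, hdp, coe_xHom, ← hj, inv_eq_of_mul_eq_one_right hd]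
        conv_lhs => rw [Matrix.eta_fin_two g.1, hc]
        simp only [Matrix.mul_fin_two]
        ext i k
        fin_cases i <;> fin_cases k <;> simp [← inv_eq_of_mul_eq_one_right hd, ht0]
      set b := (g.1 0 0)⁻¹ * g.1 0 1
      rw [hg', map_mul, map_pow, hψd, hψx] at hg
      have hoA : o ^ (j : ℕ) ∈ A := by
        rw [eq_inv_of_mul_eq_one_left hg]; exact inv_mem (hφmem _)
      have ho1 : o ^ (j : ℕ) = 1 := by
        have h30 : (o ^ (j : ℕ)) ^ 15 = 1 := by rw [← pow_mul, mul_comm, pow_mul, K.pow, one_pow]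
        have h2 : (o ^ (j : ℕ)) ^ 2 = 1 := by rw [pow_two]; exact K.sq _ hoA
        calc o ^ (j : ℕ) = ((o ^ (j : ℕ)) ^ 2) ^ 7 * o ^ (j : ℕ) := by rw [h2, one_pow, one_mul]
          _ = (o ^ (j : ℕ)) ^ 15 := by rw [← pow_mul, ← pow_succ]
          _ = 1 := h30
      have hj0 : (j : ℕ) = 0 := K.inj _ 0 j.2 (by norm_num) (by simp [s, ho1])
      rw [ho1, one_mul] at hg
      have hb0 : b = 0 := by
        by_contra hb
        obtain ⟨k, hk⟩ := fgen b hb
        rw [hk, hφp] at hg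
        exact K.ne (conj_eq_one_iff.mp (hg : o ^ (k : ℕ) * a * (o ^ (k : ℕ))⁻¹ = 1))
      rw [hg', hj0, hb0, pow_zero, one_mul, ofAdd_zero, map_one]
    · exfalso
      set c := g.1 1 0
      have hd := hdet g
      have hy : ((wEl * xHom (Multiplicative.ofAdd (-c)) * wEl⁻¹ : SL) : Matrix (Fin 2) (Fin 2) C) = !![1, 0; c, 1] := by
        simp only [Matrix.SpecialLinearGroup.coe_mul, coe_inv_wEl, coe_xHom]
        show !![0, 1; -1, 0] * !![1, -c; 0, 1] * !![0, -1; 1, 0] = _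
        simp only [Matrix.mul_fin_two]
        ext i k
        fin_cases i <;> fin_cases k <;> simp
      have hg' : g = xHom (Multiplicative.ofAdd ((g.1 0 0 - 1) / c)) *
          (wEl * xHom (Multiplicative.ofAdd (-c)) * wEl⁻¹) * xHom (Multiplicative.ofAdd ((g.1 1 1 - 1) / c)) := by
        apply Subtype.ext
        rw [Matrix.SpecialLinearGroup.coe_mul, Matrix.SpecialLinearGroup.coe_mul, hy, coe_xHom, coe_xHom]
        simp only [Matrix.mul_fin_two]
        ext i k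
        fin_cases i <;> fin_cases k <;> simp <;> (try field_simp) <;>
          first
            | ring1
            | linear_combination hd
            | linear_combination -hd
      rw [hg', map_mul, map_mul, map_mul, map_mul, map_inv, hψw, hψx, hψx, hψx] at hg
      obtain ⟨k, hk⟩ := fgen (-c) (neg_ne_zero.mpr hc)
      rw [hk, hφp] at hg
      have hm : w * s o a k * w⁻¹ ∈ A := by
        rw [show w * s o a k * w⁻¹ = (φ (Multiplicative.ofAdd ((g.1 0 0 - 1) / c)))⁻¹ *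
          (φ (Multiplicative.ofAdd ((g.1 0 0 - 1) / c)) * (w * s o a k * w⁻¹) *
            φ (Multiplicative.ofAdd ((g.1 1 1 - 1) / c))) * (φ (Multiplicative.ofAdd ((g.1 1 1 - 1) / c)))⁻¹ by group,
          hg, mul_one]
        exact mul_mem (inv_mem (hφmem _)) (inv_mem (hφmem _))
      have hnor : ∀ n : ℕ, ∀ x ∈ A, o ^ n * x * (o ^ n)⁻¹ ∈ A := fun n => by
        induction n with
        | zero => intro x hx; simpa using hx
        | succ n ih =>
          intro x hx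
          have := ih _ (K.nor x hx)
          rwa [show o ^ n * (o * x * o⁻¹) * (o ^ n)⁻¹ = o ^ (n + 1) * x * (o ^ (n + 1))⁻¹ by group] at this
      have hm' := hnor k _ hm
      rw [show o ^ (k : ℕ) * (w * s o a k * w⁻¹) * (o ^ (k : ℕ))⁻¹ =
        (o ^ (k : ℕ) * (w * o ^ (k : ℕ) * w⁻¹)) * (w * a * w⁻¹) * (o ^ (k : ℕ) * (w * o ^ (k : ℕ) * w⁻¹))⁻¹ by
          simp only [s]; group, ← conj_pow, hT, inv_pow, mul_inv_cancel, one_mul, inv_one, mul_one] at hm'
      exact hwA (hB ▸ mul_mem (mul_mem K.mem hm') K.mem)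
  refine ⟨ψ, hinjψ, ?_, ?_, hψx, hψw, fun _ => hψd⟩
  · refine le_antisymm ?_ ((Subgroup.closure_le _).mpr ?_)
    · rintro _ ⟨g, rfl⟩
      have hmap : Γ.map (MonoidHom.snd SL G) ≤ Subgroup.closure ({a, w, o} : Set G) := by
        rw [hΓ, MonoidHom.map_closure, Subgroup.closure_le]
        rintro _ ⟨p, hp, rfl⟩
        rcases hp with rfl | rfl | rfl
        · exact Subgroup.subset_closure (Or.inl hφ1)
        · exact Subgroup.subset_closure (Or.inr (Or.inl rfl))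
        · exact Subgroup.subset_closure (Or.inr (Or.inr rfl))
      exact hmap ⟨_, (eπ.symm g).2, rfl⟩
    · rintro _ (rfl | rfl | rfl)
      exacts [⟨_, (hψx 1).trans hφ1⟩, ⟨_, hψw⟩, ⟨_, hψd⟩]
  · rintro _ ⟨g, rfl⟩ hga
    have hcomm : g * xHom (Multiplicative.ofAdd 1) = xHom (Multiplicative.ofAdd 1) * g :=
      hinjψ (by rw [map_mul, map_mul, hψx, hφ1]; exact hga)
    have hM := congrArg (fun m : SL => (m : Matrix (Fin 2) (Fin 2) C)) hcomm
    simp only [Matrix.SpecialLinearGroup.coe_mul, coe_xHom] at hM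
    rw [Matrix.eta_fin_two g.1, Matrix.mul_fin_two, Matrix.mul_fin_two] at hM
    have h00 := congrFun (congrFun hM 0) 0
    have h01 := congrFun (congrFun hM 0) 1
    simp at h00 h01
    have hc : g.1 1 0 = 0 := by first | exact h00 | linear_combination h00 | linear_combination -h00
    have hd := hdet g
    have he : g.1 0 0 = g.1 1 1 := by first | exact h01 | linear_combination h01 | linear_combination -h01
    rw [hc, mul_zero, sub_zero, ← he] at hd
    have h1 := fsqone _ hd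
    rw [show g = xHom (Multiplicative.ofAdd (g.1 0 1)) by
      refine Subtype.ext ?_
      rw [coe_xHom]
      conv_lhs => rw [Matrix.eta_fin_two g.1, hc, ← he, h1], hψx]
    exact hφmem _

include K h4 in
theorem exists_hom {w : G} (hw : w * w = 1) (hwo : w * o * w⁻¹ = o⁻¹) (haw : (a * w) ^ 3 = 1) (hwA : w ∉ A) :
    ∃ ψ : SL →* G, Function.Injective ψ ∧ ψ.range = Subgroup.closure ({a, w, o} : Set G) ∧
      ∀ g ∈ ψ.range, g * a = a * g → g ∈ A := by
  obtain ⟨ψ, h1, h2, h3, -⟩ := exists_hom_values K h4 hw hwo haw hwA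
  exact ⟨ψ, h1, h2, h3⟩

end CfsgLib.J3Type.SLSixteen
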