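import Cfsg.Agent.Lib.J3Type.Nonfree

/-!
Groups of `J₃` type: inverted elements with trivial stabiliser, and subgroups containing the centralizers of their
nontrivial elements.
-/

set_option autoImplicit false
set_option linter.unusedSectionVars false

namespace CfsgLib.J3Type

open Cfsg CfsgLargeExtra Equiv
open CfsgLib.HallJankoType (orb mem_cent conj_fix_iff ncard_orb orderOf_conj')

universe u

variable {G : Type u} [Group G] [Finite G] {z : G} {Q : Subgroup G} {pm : G → Perm (Fin 5)}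

/-- The inverted elements with trivial stabiliser. -/
def free (z : G) : Set G := {y | y ∈ oddInverted z ∧ Nat.card ↥(CC y z) = 1}

/-- The free elements commuting only with free elements. -/
def pureF (z : G) : Set G := {y | y ∈ free z ∧ ∀ a, a * y = y * a → a ≠ 1 → a ∈ free z}

/-- The free elements commuting with some inverted element with nontrivial stabiliser. -/
def specialF (z : G) : Set G := {y | y ∈ free z ∧ ∃ a, a * y = y * a ∧ a ∈ nonfree z}

/-- Every nontrivial element of `A` has centralizer `A`. -/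
def SelfCent (A : Subgroup G) : Prop := ∀ a ∈ A, a ≠ 1 → Subgroup.centralizer ({a} : Set G) = A

/-- The elements of `C(z)` normalising `A`. -/
def normH (z : G) (A : Subgroup G) : Subgroup G where
  carrier := {c | c * z = z * c ∧ ∀ x, x ∈ A ↔ c * x * c⁻¹ ∈ A}
  one_mem' := ⟨by simp, fun x => by simp⟩
  mul_mem' := fun {a b} ha hb => ⟨Commute.mul_left ha.1 hb.1, fun x => by
    rw [hb.2 x, ha.2 (b * x * b⁻¹), show a * (b * x * b⁻¹) * a⁻¹ = a * b * x * (a * b)⁻¹ by group]⟩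
  inv_mem' := fun {a} ha => ⟨Commute.inv_left ha.1, fun x => by
    rw [ha.2 (a⁻¹ * x * a⁻¹⁻¹), show a * (a⁻¹ * x * a⁻¹⁻¹) * a⁻¹ = x by group]⟩

theorem mem_normH {z c : G} {A : Subgroup G} :
    c ∈ normH z A ↔ c * z = z * c ∧ ∀ x, x ∈ A ↔ c * x * c⁻¹ ∈ A := Iff.rfl

theorem oddInverted_conj {c y : G} (hc : c * z = z * c) (hy : y ∈ oddInverted z) : c * y * c⁻¹ ∈ oddInverted z := by
  refine ⟨fun e => hy.1 (conj_eq_one_iff.mp e), by rw [orderOf_conj']; exact hy.2.1, ?_⟩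
  have := inverts_conj (c := c) hy.2.2
  rwa [conj_fix_iff.mpr hc] at this

theorem card_CC_fix {c y : G} (hc : c * z = z * c) : Nat.card ↥(CC (c * y * c⁻¹) z) = Nat.card ↥(CC y z) := by
  have := card_CC_conj c y z
  rwa [conj_fix_iff.mpr hc] at this

theorem free_conj {c y : G} (hc : c * z = z * c) (hy : y ∈ free z) : c * y * c⁻¹ ∈ free z :=
  ⟨oddInverted_conj hc hy.1, by rw [card_CC_fix hc]; exact hy.2⟩

theorem nonfree_conj {c y : G} (hc : c * z = z * c) (hy : y ∈ nonfree z) : c * y * c⁻¹ ∈ nonfree z :=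
  ⟨oddInverted_conj hc hy.1, by rw [card_CC_fix hc]; exact hy.2⟩

theorem pureF_conj {c y : G} (hc : c * z = z * c) (hy : y ∈ pureF z) : c * y * c⁻¹ ∈ pureF z := by
  refine ⟨free_conj hc hy.1, fun a ha ha1 => ?_⟩
  have h1 := conj_comm (g := c⁻¹) ha
  rw [inv_inv, show c⁻¹ * (c * y * c⁻¹) * c = y by group] at h1
  have h2 := free_conj hc (hy.2 _ h1 fun e => ha1 ?_)
  · rwa [show c * (c⁻¹ * a * c) * c⁻¹ = a by group] at h2
  · rw [show a = c * (c⁻¹ * a * c) * c⁻¹ by group, e]; group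

theorem free_not_invY {y : G} (hy : y ∈ free z) : ¬ InvY z y := by
  rintro ⟨u, -, hu1, huz, huy⟩
  have hbot := Subgroup.eq_bot_of_card_eq _ hy.2
  exact hu1 (Subgroup.mem_bot.mp (hbot ▸ (mem_CC.mpr ⟨huy, huz⟩ : u ∈ CC y z)))

namespace SelfCent

variable {A B : Subgroup G}

theorem comm (hA : SelfCent A) {a b : G} (ha : a ∈ A) (hb : b ∈ A) : b * a = a * b := by
  rcases eq_or_ne a 1 with rfl | ha1
  · simp
  · exact mem_cent.mp ((hA a ha ha1).symm ▸ hb)

theorem mem_of_comm (hA : SelfCent A) {a b : G} (ha : a ∈ A) (ha1 : a ≠ 1) (hb : b * a = a * b) : b ∈ A :=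
  hA a ha ha1 ▸ mem_cent.mpr hb

theorem sylow_le (hA : SelfCent A) {q : ℕ} [hq : Fact q.Prime] (hqA : q ∣ Nat.card ↥A) :
    ∃ S : Sylow q G, (S : Subgroup G) ≤ A := by
  obtain ⟨⟨a, ha⟩, hao⟩ := exists_prime_orderOf_dvd_card' (G := ↥A) q hqA
  rw [Subgroup.orderOf_mk] at hao
  obtain ⟨S, hS⟩ := (IsPGroup.of_card (p := q) (G := ↥(Subgroup.zpowers a)) (n := 1)
    (by rw [Nat.card_zpowers, hao, pow_one])).exists_le_sylow
  refine ⟨S, ?_⟩
  have haS : a ∈ (S : Subgroup G) := hS (Subgroup.mem_zpowers a)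
  have ha1 : a ≠ 1 := fun e => hq.out.ne_one (by rw [← hao, e, orderOf_one])
  haveI : Nontrivial ↥(S : Subgroup G) := ⟨⟨⟨a, haS⟩, 1, fun e => ha1 (congrArg Subtype.val e)⟩⟩
  haveI := IsPGroup.center_nontrivial S.2
  obtain ⟨⟨⟨c, hcS⟩, hc⟩, hc1⟩ := exists_ne (1 : Subgroup.center ↥(S : Subgroup G))
  have hcomm : ∀ b ∈ (S : Subgroup G), b * c = c * b := fun b hb =>
    congrArg Subtype.val (Subgroup.mem_center_iff.mp hc ⟨b, hb⟩)
  have hc1' : c ≠ 1 := fun e => hc1 (Subtype.ext (Subtype.ext e))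
  have hcA : c ∈ A := hA.mem_of_comm ha ha1 (hcomm a haS).symm
  exact fun b hb => hA.mem_of_comm hcA hc1' (hcomm b hb)

theorem iff_of_mem (hA : SelfCent A) (hB : SelfCent B) {g x : G} (hx : x ∈ A) (hx1 : x ≠ 1)
    (hgx : g * x * g⁻¹ ∈ B) (a : G) : a ∈ A ↔ g * a * g⁻¹ ∈ B := by
  constructor
  · exact fun ha => hB.mem_of_comm hgx (fun e => hx1 (conj_eq_one_iff.mp e)) (conj_comm (hA.comm hx ha))
  · intro ha
    refine hA.mem_of_comm hx hx1 ?_
    have := conj_comm (g := g⁻¹) (hB.comm hgx ha)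
    rwa [inv_inv, show g⁻¹ * (g * a * g⁻¹) * g = a by group, show g⁻¹ * (g * x * g⁻¹) * g = x by group] at this

/-- Two inverted self-centralizing subgroups conjugate in `G` are conjugate in `C(z)`. -/
theorem adjust (hB : SelfCent B) (hzz : z * z = 1) (hAi : ∀ a ∈ A, Inverts z a) (hBi : ∀ b ∈ B, Inverts z b)
    (hBo : Odd (Nat.card ↥B)) (hB1 : B ≠ ⊥) {g : G} (hiff : ∀ a, a ∈ A ↔ g * a * g⁻¹ ∈ B) :
    ∃ c : G, c * g * z = z * (c * g) ∧ c ∈ B ∧ ∀ a, a ∈ A ↔ c * g * a * (c * g)⁻¹ ∈ B := by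
  set w := g * z * g⁻¹ with hw
  have hwB : ∀ b ∈ B, Inverts w b := by
    intro b hb
    have hm : g⁻¹ * b * g ∈ A := (hiff _).mpr (by rwa [show g * (g⁻¹ * b * g) * g⁻¹ = b by group])
    have := inverts_conj (c := g) (hAi _ hm)
    rwa [show g * (g⁻¹ * b * g) * g⁻¹ = b by group] at this
  obtain ⟨b₀, hb₀, hb₀1⟩ : ∃ b ∈ B, b ≠ 1 := by
    by_contra hne
    push Not at hne
    exact hB1 ((Subgroup.eq_bot_iff_forall _).mpr hne)
  have hzw : z * w ∈ B := by
    refine hB.mem_of_comm hb₀ hb₀1 (conj_fix_iff.mp ?_)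
    rw [show z * w * b₀ * (z * w)⁻¹ = z * (w * b₀ * w⁻¹) * z⁻¹ by group,
      show w * b₀ * w⁻¹ = b₀⁻¹ from hwB b₀ hb₀]
    exact conj_inv_elem (hBi b₀ hb₀)
  obtain ⟨c, hc, hcc⟩ := exists_sqrt (hBo.of_dvd_nat (Subgroup.orderOf_dvd_natCard B hzw))
  have hcB : c ∈ B := Subgroup.zpowers_le.mpr hzw hc
  have hcz : c * z = z * c⁻¹ := by
    have h1 : z * c⁻¹ * z⁻¹ = c := conj_inv_elem (hBi c hcB)
    calc c * z = z * c⁻¹ * z⁻¹ * z := by rw [h1]
      _ = z * c⁻¹ := by group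
  have hcw : c * w * c⁻¹ = z := by
    rw [show w = z * (c * c) by rw [hcc, ← mul_assoc, hzz, one_mul], ← mul_assoc c z, hcz]
    group
  refine ⟨c, ?_, hcB, fun a => ?_⟩
  · calc c * g * z = c * w * c⁻¹ * (c * g) := by rw [hw]; group
      _ = z * (c * g) := by rw [hcw]
  · rw [hiff a, show c * g * a * (c * g)⁻¹ = c * (g * a * g⁻¹) * c⁻¹ by group]
    exact ⟨fun hm => B.mul_mem (B.mul_mem hcB hm) (B.inv_mem hcB),
      fun hm => (B.mul_mem_cancel_left hcB).mp ((B.mul_mem_cancel_right (B.inv_mem hcB)).mp hm)⟩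

/-- A common prime divisor of the orders gives a conjugation in `C(z)`. -/
theorem conj_of_share (hA : SelfCent A) (hB : SelfCent B) (hzz : z * z = 1) (hAi : ∀ a ∈ A, Inverts z a)
    (hBi : ∀ b ∈ B, Inverts z b) (hBo : Odd (Nat.card ↥B)) {q : ℕ} [hq : Fact q.Prime] (hqA : q ∣ Nat.card ↥A)
    (hqB : q ∣ Nat.card ↥B) : ∃ c : G, c * z = z * c ∧ ∀ a, a ∈ A ↔ c * a * c⁻¹ ∈ B := by
  obtain ⟨S, hS⟩ := hA.sylow_le hqA
  obtain ⟨T, hT⟩ := hB.sylow_le hqB
  obtain ⟨g, hg⟩ := MulAction.exists_smul_eq G S T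
  haveI : Nontrivial ↥(S : Subgroup G) := by
    refine Finite.one_lt_card_iff_nontrivial.mp ?_
    rw [Sylow.card_eq_multiplicity]
    exact Nat.one_lt_pow (Nat.Prime.factorization_pos_of_dvd hq.out Nat.card_pos.ne'
      (hqA.trans (Subgroup.card_subgroup_dvd_card A))).ne' hq.out.one_lt
  obtain ⟨⟨x, hx⟩, hx1⟩ := exists_ne (1 : ↥(S : Subgroup G))
  have hx1' : x ≠ 1 := fun e => hx1 (Subtype.ext e)
  have hgx : g * x * g⁻¹ ∈ B := by
    refine hT ?_
    rw [← hg, Sylow.coe_subgroup_smul]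
    exact Subgroup.smul_mem_pointwise_smul _ _ _ hx
  have hB1 : B ≠ ⊥ := fun e => hx1' (conj_eq_one_iff.mp (Subgroup.mem_bot.mp (e ▸ hgx)))
  obtain ⟨c, hc, -, hiff⟩ := hB.adjust hzz hAi hBi hBo hB1 (iff_of_mem hA hB (hS hx) hx1' hgx)
  exact ⟨c * g, hc, hiff⟩

end SelfCent

namespace JT

variable (h : JT z Q pm)
include h

theorem free_cent {y : G} (hy : y ∈ free z) :
    Odd (Nat.card ↥(Subgroup.centralizer ({y} : Set G))) ∧
      ∀ a ∈ Subgroup.centralizer ({y} : Set G), Inverts z a := by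
  have hfix : ∀ a ∈ Subgroup.centralizer ({y} : Set G), z * a = a * z → a = 1 := fun a ha e =>
    Subgroup.mem_bot.mp (Subgroup.eq_bot_of_card_eq _ hy.2 ▸ (mem_CC.mpr ⟨mem_cent.mp ha, e.symm⟩ : a ∈ CC y z))
  have hinv := inverts_of_fixed_free h.zz
    (fun a ha => mem_cent.mpr (ThreeQ.comm_of_inverts hy.1.2.2 (mem_cent.mp ha))) hfix
  refine ⟨Nat.not_even_iff_odd.mp fun hev => ?_, hinv⟩
  haveI : Fact (Nat.Prime 2) := ⟨Nat.prime_two⟩
  obtain ⟨⟨a, ha⟩, hao⟩ := exists_prime_orderOf_dvd_card' (G := ↥(Subgroup.centralizer ({y} : Set G))) 2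
    (even_iff_two_dvd.mp hev)
  rw [Subgroup.orderOf_mk] at hao
  have haa : a⁻¹ = a := inv_eq_of_mul_eq_one_right (by rw [← pow_two, ← hao, pow_orderOf_eq_one])
  have h1 : a = 1 := hfix a ha (conj_fix_iff.mp ((show z * a * z⁻¹ = a⁻¹ from hinv a ha).trans haa))
  rw [h1, orderOf_one] at hao
  omega

theorem free_cent_mem {y a : G} (hy : y ∈ free z) (ha : a * y = y * a) (ha1 : a ≠ 1) : a ∈ oddInverted z :=
  ⟨ha1, (h.free_cent hy).1.of_dvd_nat (Subgroup.orderOf_dvd_natCard _ (mem_cent.mpr ha)),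
    (h.free_cent hy).2 a (mem_cent.mpr ha)⟩

theorem free_cent_le {y a : G} (hy : y ∈ free z) (ha : a * y = y * a) :
    Subgroup.centralizer ({y} : Set G) ≤ Subgroup.centralizer ({a} : Set G) := fun b hb =>
  mem_cent.mpr (comm_of_inverted (h.free_cent hy).2 hb (mem_cent.mpr ha))

theorem free_cent_eq {y a : G} (hy : y ∈ free z) (hfa : a ∈ free z) (ha : a * y = y * a) :
    Subgroup.centralizer ({a} : Set G) = Subgroup.centralizer ({y} : Set G) :=
  le_antisymm (h.free_cent_le hfa ha.symm) (h.free_cent_le hy ha)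

theorem pure_selfCent {y : G} (hy : y ∈ pureF z) : SelfCent (Subgroup.centralizer ({y} : Set G)) :=
  fun _ ha ha1 => h.free_cent_eq hy.1 (hy.2 _ (mem_cent.mp ha) ha1) (mem_cent.mp ha)

theorem oddInverted_split :
    (oddInverted z).ncard = (nonfree z).ncard + (pureF z).ncard + (specialF z).ncard := by
  rw [← Set.ncard_union_eq, ← Set.ncard_union_eq]
  · congr 1
    ext y
    constructor
    · intro hy
      by_cases hc : Nat.card ↥(CC y z) = 1
      · by_cases hp : ∀ a, a * y = y * a → a ≠ 1 → a ∈ free z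
        · exact Or.inl (Or.inr ⟨⟨hy, hc⟩, hp⟩)
        · push Not at hp
          obtain ⟨a, ha, ha1, hna⟩ := hp
          have hm := h.free_cent_mem ⟨hy, hc⟩ ha ha1
          exact Or.inr ⟨⟨hy, hc⟩, a, ha, hm, fun e => hna ⟨hm, e⟩⟩
      · exact Or.inl (Or.inl ⟨hy, hc⟩)
    · rintro ((hy | hy) | hy)
      exacts [hy.1, hy.1.1, hy.1.1]
  · rw [Set.disjoint_left]
    rintro y (hy | hy) ⟨hf, a, ha, hna⟩
    · exact hy.2 hf.2
    · exact hna.2 (hy.2 a ha hna.1.1).2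
  · exact Set.disjoint_left.mpr fun y hy hy' => hy.2 hy'.1.2

end JT

end CfsgLib.J3Type
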