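import Cfsg.Agent.Lib.J3Type.NonfreeCount
import Cfsg.Agent.Lib.J3Type.ClassE

/-!
Groups of `J₃` type, quotient of order 168: the inverted elements of order a multiple of seven in `C(a)`.
-/

set_option autoImplicit false
set_option linter.unusedSectionVars false
set_option maxHeartbeats 800000

namespace CfsgLib.J3Type

open Cfsg CfsgLargeExtra Equiv
open CfsgLib.HallJankoType (orb mem_cent conj_fix_iff ncard_orb orderOf_conj' conj_of_sylow_prime)

universe u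

variable {G : Type u} [Group G] [Finite G] {z : G} {Q : Subgroup G} {pm : G → Perm (Fin 5)}

theorem XSeven.seven_zpowers {X : Type*} [Group X] [Finite X] (hX : XSeven X) {s g : X} (hs : s ^ 7 = 1) (hs1 : s ≠ 1)
    (hg : g * s = s * g) : g ∈ Subgroup.zpowers s := by
  haveI : Fact (Nat.Prime 7) := ⟨by norm_num⟩
  have hsub : (Subgroup.zpowers s : Set X) ⊆ {g | g * s = s * g} := fun t ht =>
    (comm_mem_zpowers (v := s) rfl ht).symm
  have heq := Set.eq_of_subset_of_ncard_le hsub (by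
    rw [hX.seven_cent s hs hs1, ← Nat.card_coe_set_eq, SetLike.coe_sort_coe, Nat.card_zpowers,
      orderOf_eq_prime hs hs1])
  exact (heq ▸ hg : g ∈ (Subgroup.zpowers s : Set X))

/-- The elements of `C(a)` with image of order seven. -/
def sevenElems (a : G) {X : Type*} [Group X] (π : G → X) : Set G :=
  {b | b * a = a * b ∧ π b ^ 7 = 1 ∧ π b ≠ 1}

namespace SevenType

variable (hs : SevenType G) (h : JT z Q pm) (hone : OneClass G)
include hs h hone

theorem cls_six {a : G} (ha : a ∈ cls z 6) : IsInvCent 3 a := by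
  rcases h.invY_order hone ha.1 ha.2.1 with e | e
  · exact e
  · rcases hs.vals h hone ha.1 ha.2.1 with ⟨e', -⟩ | ⟨-, e' | e'⟩
    · have := e.1; omega
    · rw [ha.2.2] at e'; omega
    · rw [ha.2.2] at e'; omega

theorem cls_six_of_invCent {a : G} (ha : IsInvCent 3 a) (hza : Inverts z a) (hi : InvY z a) : a ∈ cls z 6 := by
  have hY : a ∈ oddInverted z := ⟨(ha.odd (Or.inl rfl)).2.2, (ha.odd (Or.inl rfl)).1, hza⟩
  rcases hs.vals h hone hY hi with ⟨-, e⟩ | ⟨e, -⟩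
  · exact ⟨hY, hi, e⟩
  · have := ha.1; omega

variable {a : G} (ha : IsInvCent 3 a) {X : Type} [Group X] {π : G → X} (hX : XSeven X) (hπ : ThreeQ a π)
include ha hX hπ

theorem seven_pow {b : G} (hb : b ∈ sevenElems a π) : b ^ 21 = 1 ∧ b ^ 3 ≠ 1 := by
  have ha3 : a ^ 3 = 1 := (ha.odd (Or.inl rfl)).2.1
  refine ⟨?_, fun e => hb.2.2 ?_⟩
  · obtain ⟨i, hi⟩ := (isOfFinOrder_of_finite a).mem_powers_iff_mem_zpowers.mpr
      ((hπ.ker _ (Commute.pow_left hb.1 7)).mp (by rw [hπ.map_pow hb.1]; exact hb.2.1))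
    have hi' : a ^ i = b ^ 7 := hi
    rw [show 21 = 7 * 3 from rfl, pow_mul, ← hi', ← pow_mul, mul_comm, pow_mul, ha3, one_pow]
  · have h3 := congrArg π e
    rw [hπ.map_pow hb.1, hπ.map_one'] at h3
    exact orderOf_eq_one_iff.mp (Nat.eq_one_of_dvd_coprimes (by norm_num : Nat.Coprime 3 7)
      (orderOf_dvd_of_pow_eq_one h3) (orderOf_dvd_of_pow_eq_one hb.2.1))

/-- The centralizer in `C(a)` of an element with image of order seven. -/
theorem seven_cent_a {b g : G} (hb : b ∈ sevenElems a π) (hga : g * a = a * g) (hgb : g * b = b * g) :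
    ∃ k j : ℕ, g = b ^ k * a ^ j := by
  haveI : Finite X := Finite.of_surjective π fun s => (hπ.surj s).imp fun c hc => hc.2
  obtain ⟨k, hk⟩ := (isOfFinOrder_of_finite (π b)).mem_powers_iff_mem_zpowers.mpr
    (hX.seven_zpowers hb.2.1 hb.2.2 (g := π g) (by rw [← hπ.mul _ _ hga hb.1, hgb, hπ.mul _ _ hb.1 hga]))
  have hk' : π b ^ k = π g := hk
  obtain ⟨j, hj⟩ := (hπ.eq_iff (ha.odd (Or.inl rfl)).2.1 (Commute.pow_left hb.1 k) hga).mp (by
    rw [hπ.map_pow hb.1]; exact hk')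
  exact ⟨k, j, hj⟩

theorem card_seven_cent {b : G} (hb : b ∈ sevenElems a π) : Nat.card ↥(CC a b) = 21 := by
  haveI : Fact (Nat.Prime 3) := ⟨Nat.prime_three⟩
  have ha3 : a ^ 3 = 1 := (ha.odd (Or.inl rfl)).2.1
  obtain ⟨h21, -⟩ := hs.seven_pow h hone ha hX hπ hb
  refine le_antisymm ?_ ?_
  · have hsub : (CC a b : Set G) ⊆
        (fun p : Fin 7 × Fin 3 => b ^ (p.1 : ℕ) * a ^ (p.2 : ℕ)) '' Set.univ := by
      intro g hg
      obtain ⟨hga, hgb⟩ := mem_CC.mp hg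
      obtain ⟨k, j, rfl⟩ := hs.seven_cent_a h hone ha hX hπ hb hga hgb
      have h7 : b ^ 7 ∈ Subgroup.zpowers a :=
        (hπ.ker _ (Commute.pow_left hb.1 7)).mp (by rw [hπ.map_pow hb.1]; exact hb.2.1)
      obtain ⟨i, hi⟩ := (isOfFinOrder_of_finite a).mem_powers_iff_mem_zpowers.mpr h7
      have hi' : a ^ i = b ^ 7 := hi
      refine ⟨(⟨k % 7, Nat.mod_lt _ (by norm_num)⟩, ⟨(i * (k / 7) + j) % 3, Nat.mod_lt _ (by norm_num)⟩),
        Set.mem_univ _, ?_⟩
      show b ^ (k % 7) * a ^ ((i * (k / 7) + j) % 3) = b ^ k * a ^ j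
      rw [← pow_eq_pow_mod _ ha3, pow_add, pow_mul, hi', ← pow_mul, ← mul_assoc, ← pow_add, Nat.mod_add_div]
    refine (Nat.card_coe_set_eq _).trans_le ((Set.ncard_le_ncard hsub (Set.toFinite _)).trans
      ((Set.ncard_image_le (Set.toFinite _)).trans (le_of_eq ?_)))
    rw [Set.ncard_univ, Nat.card_prod, Nat.card_fin, Nat.card_fin]
  · refine Nat.le_of_dvd Nat.card_pos (Nat.Coprime.mul_dvd_of_dvd_of_dvd (by norm_num : Nat.Coprime 3 7) ?_ ?_)
    · rw [← ha.1]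
      exact Subgroup.orderOf_dvd_natCard _ (mem_CC.mpr ⟨rfl, hb.1.symm⟩)
    · have h7 : orderOf (b ^ 3) = 7 := by
        haveI : Fact (Nat.Prime 7) := ⟨by norm_num⟩
        exact orderOf_eq_prime (by rw [← pow_mul]; exact h21) (hs.seven_pow h hone ha hX hπ hb).2
      rw [← h7]
      exact Subgroup.orderOf_dvd_natCard _ (mem_CC.mpr ⟨Commute.pow_left hb.1 3, (Commute.pow_self b 3).eq⟩)

theorem card_seven : (sevenElems a π).ncard = 144 := by
  haveI : Finite X := Finite.of_surjective π fun s => (hπ.surj s).imp fun c hc => hc.2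
  have ha3 : a ^ 3 = 1 := (ha.odd (Or.inl rfl)).2.1
  have e := double_count (sevenElems a π) {s : X | s ^ 7 = 1 ∧ s ≠ 1} (fun b s => π b = s) (a := 1) (b := 3) ?_ ?_
  · rw [hX.seven_num] at e
    omega
  · intro b hb
    rw [show {s | s ∈ {s : X | s ^ 7 = 1 ∧ s ≠ 1} ∧ π b = s} = {π b} from ?_, Set.ncard_singleton]
    ext s
    exact ⟨fun hm => hm.2.symm, fun hm => by obtain rfl : s = π b := hm; exact ⟨hb.2, rfl⟩⟩
  · rintro s ⟨hs7, hs1⟩
    obtain ⟨c, hc, rfl⟩ := hπ.surj s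
    rw [show {b | b ∈ sevenElems a π ∧ π b = π c} = (fun j : Fin 3 => c * a ^ (j : ℕ)) '' Set.univ from ?_,
      Set.ncard_image_of_injective, Set.ncard_univ, Nat.card_fin]
    · intro i j e
      exact Fin.ext (pow_injOn_Iio_orderOf (by rw [ha.1]; exact i.2) (by rw [ha.1]; exact j.2)
        (mul_left_cancel e))
    ext b
    constructor
    · rintro ⟨hb, e⟩
      obtain ⟨j, hj⟩ := (hπ.eq_iff ha3 hc hb.1).mp e.symm
      exact ⟨⟨j % 3, Nat.mod_lt _ (by norm_num)⟩, Set.mem_univ _,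
        by show c * a ^ (j % 3) = b; rw [← pow_eq_pow_mod _ ha3]; exact hj.symm⟩
    · rintro ⟨j, -, rfl⟩
      have hcj : c * a ^ (j : ℕ) * a = a * (c * a ^ (j : ℕ)) := Commute.mul_left hc (Commute.pow_self a _)
      have e : π (c * a ^ (j : ℕ)) = π c := ((hπ.eq_iff ha3 hc hcj).mpr ⟨_, rfl⟩).symm
      exact ⟨⟨hcj, by rw [e]; exact hs7, by rw [e]; exact hs1⟩, e⟩

variable (hza : Inverts z a) (hC6 : Nat.card ↥(CC a z) = 6)
include hza hC6

/-- Some element of `C(a)` with image of order seven is inverted by `z`. -/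
theorem exists_seven_inverted : ∃ y ∈ sevenElems a π, Inverts z y := by
  haveI : Finite X := Finite.of_surjective π fun s => (hπ.surj s).imp fun c hc => hc.2
  haveI : Fact (Nat.Prime 7) := ⟨by norm_num⟩
  have ha3 : a ^ 3 = 1 := (ha.odd (Or.inl rfl)).2.1
  obtain ⟨v, b, ⟨hv, -⟩, hva, hvz, hba, hbz, hbo, hvb, -, -⟩ := hπ.cent_inverter hX.toXBase h hone ha h.zz hza
  have hb3 : b ^ 3 = 1 := hbo ▸ pow_orderOf_eq_one b
  have hb1 : b ≠ 1 := fun e => by rw [e, orderOf_one] at hbo; omega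
  set β := π b with hβ
  have hβ3 : β ^ 3 = 1 := by rw [hβ, ← hπ.map_pow hba, hb3, hπ.map_one']
  have hβ1 : β ≠ 1 := fun e => hb1 (inverts_comm_eq_one (inverts_mem_zpowers hza ((hπ.ker b hba).mp e)) hbz.symm
    (by rw [hbo]; decide))
  have hT := hX.seven_norm β hβ3 hβ1
  set T := {s : X | (s ^ 7 = 1 ∧ s ≠ 1) ∧ (β * s * β⁻¹ = s ^ 2 ∨ β * s * β⁻¹ = s ^ 4)}
  obtain ⟨s, ⟨hs7, hs1⟩, hsm⟩ : T.Nonempty := Set.nonempty_of_ncard_ne_zero (by rw [hT]; norm_num)
  obtain ⟨m, hm24, hsm⟩ : ∃ m : ℕ, (m = 2 ∨ m = 4) ∧ β * s * β⁻¹ = s ^ m := by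
    rcases hsm with e | e
    exacts [⟨2, Or.inl rfl, e⟩, ⟨4, Or.inr rfl, e⟩]
  obtain ⟨y, hy, hys⟩ := hπ.surj s
  have hyS : y ∈ sevenElems a π := ⟨hy, by rw [hys]; exact hs7, by rw [hys]; exact hs1⟩
  have hos : orderOf s = 7 := orderOf_eq_prime hs7 hs1
  have hbyb : b * y * b⁻¹ * a = a * (b * y * b⁻¹) :=
    Commute.mul_left (Commute.mul_left hba hy) (Commute.inv_left hba)
  obtain ⟨i, hi⟩ := (hπ.eq_iff ha3 (Commute.pow_left hy m) hbyb).mp (by
    rw [hπ.map_conj hba hy, hπ.map_pow hy, hys, ← hβ, hsm])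
  -- an element inverting `b` and normalising `⟨a⟩` does not fix the subgroup of `s`
  have key : ∀ u : G, Inverts u b → u * a * u⁻¹ ∈ Subgroup.zpowers a → ∀ k j : ℕ, u * y * u⁻¹ ≠ y ^ k * a ^ j := by
    intro u hub hua k j e
    obtain ⟨r, hr⟩ := (isOfFinOrder_of_finite a).mem_powers_iff_mem_zpowers.mpr hua
    have hr' : a ^ r = u * a * u⁻¹ := hr
    have hub' : u * b * u⁻¹ = b⁻¹ := hub
    have hk : y ^ k * a ^ j * a = a * (y ^ k * a ^ j) := Commute.mul_left (Commute.pow_left hy k) (Commute.pow_self a j)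
    have h1 : b⁻¹ * (y ^ k * a ^ j) * b⁻¹⁻¹ = (y ^ k * a ^ j) ^ m * a ^ (r * i) := by
      rw [← e, ← hub', conj_pow, pow_mul, hr', conj_pow,
        show u * b * u⁻¹ * (u * y * u⁻¹) * (u * b * u⁻¹)⁻¹ = u * (b * y * b⁻¹) * u⁻¹ by group, hi]
      group
    have hbi : b⁻¹ * a = a * b⁻¹ := Commute.inv_left hba
    have h2 := congrArg π h1
    have hπk : π (y ^ k * a ^ j) = s ^ k := by
      rw [← (hπ.eq_iff ha3 (Commute.pow_left hy k) hk).mpr ⟨j, rfl⟩, hπ.map_pow hy, hys]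
    rw [hπ.map_conj hbi hk, hπ.map_inv hba, hπ.mul _ _ (Commute.pow_left hk m) (Commute.pow_self a _), hπ.map_pow hk,
      hπ.map_pow rfl, hπ.map_d, one_pow, mul_one, hπk, ← hβ, inv_inv, ← pow_mul] at h2
    have h3 : s ^ k = s ^ (m * (k * m)) := by
      calc s ^ k = β * (β⁻¹ * s ^ k * β) * β⁻¹ := by group
        _ = β * s ^ (k * m) * β⁻¹ := by rw [h2]
        _ = (β * s * β⁻¹) ^ (k * m) := conj_pow.symm
        _ = s ^ (m * (k * m)) := by rw [hsm, ← pow_mul]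
    have h4 := pow_eq_pow_iff_modEq.mp h3
    rw [hos] at h4
    have hk7 : k % 7 = 0 := by
      unfold Nat.ModEq at h4
      rcases hm24 with rfl | rfl <;> omega
    have h5 : π (y ^ k * a ^ j) = 1 := by rw [hπk, pow_eq_pow_mod k hs7, hk7, pow_zero]
    obtain ⟨l, hl⟩ := (isOfFinOrder_of_finite a).mem_powers_iff_mem_zpowers.mpr ((hπ.ker _ hk).mp h5)
    have hl' : a ^ l = y ^ k * a ^ j := hl
    refine (hs.seven_pow h hone ha hX hπ hyS).2 ?_
    have h6 : (u * y * u⁻¹) ^ 3 = 1 := by rw [e, ← hl', ← pow_mul, mul_comm, pow_mul, ha3, one_pow]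
    rw [conj_pow, conj_eq_one_iff] at h6
    exact h6
  have hva' : v * a * v⁻¹ ∈ Subgroup.zpowers a := by rw [conj_fix_iff.mpr hva]; exact Subgroup.mem_zpowers a
  set t := π v with ht
  have htt : t * t = 1 := by rw [ht, ← hπ.mul _ _ hva hva, hv, hπ.map_one']
  have hts : t * s * t⁻¹ ∉ Subgroup.zpowers s := by
    intro hmem
    obtain ⟨k, hk⟩ := (isOfFinOrder_of_finite s).mem_powers_iff_mem_zpowers.mpr hmem
    have hk' : s ^ k = t * s * t⁻¹ := hk
    have hvyv : v * y * v⁻¹ * a = a * (v * y * v⁻¹) :=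
      Commute.mul_left (Commute.mul_left hva hy) (Commute.inv_left hva)
    obtain ⟨j, hj⟩ := (hπ.eq_iff ha3 (Commute.pow_left hy k) hvyv).mp (by
      rw [hπ.map_conj hva hy, hπ.map_pow hy, hys, ← ht, hk'])
    exact key v hvb hva' k j hj
  have hcov : ∀ x ∈ T, x ∈ Subgroup.zpowers s ∨ t * x * t⁻¹ ∈ Subgroup.zpowers s := by
    set A1 : Set X := (Subgroup.zpowers s : Set X) \ {1}
    have hA1 : A1.ncard = 6 := by
      rw [Set.ncard_sdiff (by simp [one_mem]), Set.ncard_singleton, ← Nat.card_coe_set_eq,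
        SetLike.coe_sort_coe, Nat.card_zpowers, hos]
    have hA1T : A1 ⊆ T := by
      rintro x ⟨hx, hx1⟩
      obtain ⟨k, hk⟩ := (isOfFinOrder_of_finite s).mem_powers_iff_mem_zpowers.mpr hx
      have hk' : s ^ k = x := hk
      refine ⟨⟨by rw [← hk', ← pow_mul, mul_comm, pow_mul, hs7, one_pow], hx1⟩, ?_⟩
      have : β * x * β⁻¹ = x ^ m := by rw [← hk', ← conj_pow, hsm, ← pow_mul, mul_comm, pow_mul]
      rcases hm24 with rfl | rfl
      exacts [Or.inl this, Or.inr this]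
    have hA2T : (fun x => t * x * t⁻¹) '' A1 ⊆ T := by
      rintro _ ⟨x, hx, rfl⟩
      obtain ⟨⟨hx7, hx1⟩, hxm⟩ := hA1T hx
      refine ⟨⟨by rw [conj_pow, hx7]; group, fun e => hx1 (conj_eq_one_iff.mp e)⟩, ?_⟩
      have ht' : t * β * t⁻¹ = β⁻¹ := hπ.map_inverts hva hba hvb
      have hflip : ∀ n : ℕ, β * x * β⁻¹ = x ^ n → ∀ n' : ℕ, (x ^ n) ^ n' = x →
          β * (t * x * t⁻¹) * β⁻¹ = (t * x * t⁻¹) ^ n' := by
        intro n hn n' hn'
        have e1 : β⁻¹ * x * β = x ^ n' := by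
          calc β⁻¹ * x * β = β⁻¹ * (x ^ n) ^ n' * β := by rw [hn']
            _ = β⁻¹ * (β * x * β⁻¹) ^ n' * β := by rw [hn]
            _ = x ^ n' := by rw [conj_pow]; group
        have ht'' : t * β⁻¹ * t⁻¹ = β := by
          rw [show t * β⁻¹ * t⁻¹ = (t * β * t⁻¹)⁻¹ by group, ht', inv_inv]
        calc β * (t * x * t⁻¹) * β⁻¹ = t * β⁻¹ * t⁻¹ * (t * x * t⁻¹) * (t * β⁻¹ * t⁻¹)⁻¹ := by rw [ht'']
          _ = t * (β⁻¹ * x * β) * t⁻¹ := by group
          _ = (t * x * t⁻¹) ^ n' := by rw [e1, conj_pow]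
      rcases hxm with e | e
      · exact Or.inr (hflip 2 e 4 (by rw [← pow_mul, show 2 * 4 = 7 + 1 from rfl, pow_succ, hx7, one_mul]))
      · exact Or.inl (hflip 4 e 2 (by rw [← pow_mul, show 4 * 2 = 7 + 1 from rfl, pow_succ, hx7, one_mul]))
    have hdis : Disjoint A1 ((fun x => t * x * t⁻¹) '' A1) := by
      rw [Set.disjoint_left]
      rintro _ ⟨hm', hm1⟩ ⟨x, ⟨hx, hx1⟩, rfl⟩
      have hgen : Subgroup.zpowers x = Subgroup.zpowers s := by
        refine Subgroup.eq_of_le_of_card_ge (Subgroup.zpowers_le.mpr hx) (le_of_eq ?_)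
        rw [Nat.card_zpowers, Nat.card_zpowers, hos]
        obtain ⟨⟨hx7, -⟩, -⟩ := hA1T ⟨hx, hx1⟩
        exact (orderOf_eq_prime hx7 hx1).symm
      obtain ⟨k, hk⟩ := (isOfFinOrder_of_finite x).mem_powers_iff_mem_zpowers.mpr
        (hgen.symm ▸ Subgroup.mem_zpowers s : s ∈ Subgroup.zpowers x)
      have hk' : x ^ k = s := hk
      refine hts ?_
      rw [← hk', ← conj_pow, hk']
      exact Subgroup.pow_mem _ hm' k
    have hT2 : A1 ∪ (fun x => t * x * t⁻¹) '' A1 = T := Set.eq_of_subset_of_ncard_le (Set.union_subset hA1T hA2T) (by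
      rw [hT, Set.ncard_union_eq hdis, Set.ncard_image_of_injective _
        (fun p q e => mul_left_cancel (mul_right_cancel e)), hA1])
    intro x hx
    rw [← hT2] at hx
    rcases hx with hx | ⟨x', hx', rfl⟩
    · exact Or.inl hx.1
    · refine Or.inr ?_
      rw [show t * (t * x' * t⁻¹) * t⁻¹ = (t * t) * x' * (t * t)⁻¹ by group, htt, one_mul, inv_one, mul_one]
      exact hx'.1
  -- `z` fixes the subgroup of `s`
  set y' := z * y * z⁻¹ with hy'
  have hy'a : y' * a = a * y' := ThreeQ.comm_of_inverts hza hy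
  have hzpow : ∀ n : ℕ, z * a ^ n * z⁻¹ = (a ^ n)⁻¹ := fun n => inverts_pow hza n
  have hπz : ∀ {x : G} (n : ℕ), x * a = a * x → π (x * (a ^ n)⁻¹) = π x := fun {x} n hx => by
    rw [hπ.mul _ _ hx (Commute.inv_left (Commute.pow_self a n)), hπ.map_inv (Commute.pow_self a n).eq,
      hπ.map_pow rfl, hπ.map_d, one_pow, inv_one, mul_one]
  have hy'S : π y' ∈ T := by
    obtain ⟨h21, hne3⟩ := hs.seven_pow h hone ha hX hπ hyS
    refine ⟨⟨?_, fun e => hne3 ?_⟩, ?_⟩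
    · obtain ⟨l, hl⟩ := (isOfFinOrder_of_finite a).mem_powers_iff_mem_zpowers.mpr
        ((hπ.ker _ (Commute.pow_left hy 7)).mp (by rw [hπ.map_pow hy, hys]; exact hs7))
      have hl' : a ^ l = y ^ 7 := hl
      rw [← hπ.map_pow hy'a, hy', conj_pow, ← hl', hzpow, hπ.map_inv (Commute.pow_self a l).eq, hπ.map_pow rfl,
        hπ.map_d, one_pow, inv_one]
    · obtain ⟨l, hl⟩ := (isOfFinOrder_of_finite a).mem_powers_iff_mem_zpowers.mpr ((hπ.ker _ hy'a).mp e)
      have hl' : a ^ l = y' := hl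
      have h6 : y' ^ 3 = 1 := by rw [← hl', ← pow_mul, mul_comm, pow_mul, ha3, one_pow]
      rwa [hy', conj_pow, conj_eq_one_iff] at h6
    · have e : b * y' * b⁻¹ = y' ^ m * (a ^ i)⁻¹ := by
        calc b * y' * b⁻¹ = (b * z) * y * (b * z)⁻¹ := by rw [hy']; group
          _ = z * (b * y * b⁻¹) * z⁻¹ := by rw [hbz]; group
          _ = z * y ^ m * z⁻¹ * (z * a ^ i * z⁻¹) := by rw [hi]; group
          _ = y' ^ m * (a ^ i)⁻¹ := by rw [hzpow, hy', conj_pow]
      have e' := congrArg π e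
      rw [hπ.map_conj hba hy'a, hπz i (Commute.pow_left hy'a m), hπ.map_pow hy'a, ← hβ] at e'
      rcases hm24 with rfl | rfl
      exacts [Or.inl e', Or.inr e']
  obtain ⟨k, j, hkj⟩ : ∃ k j : ℕ, y' = y ^ k * a ^ j := by
    rcases hcov _ hy'S with hm' | hm'
    · obtain ⟨k, hk⟩ := (isOfFinOrder_of_finite s).mem_powers_iff_mem_zpowers.mpr hm'
      have hk' : s ^ k = π y' := hk
      obtain ⟨j, hj⟩ := (hπ.eq_iff ha3 (Commute.pow_left hy k) hy'a).mp (by rw [hπ.map_pow hy, hys, hk'])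
      exact ⟨k, j, hj⟩
    · exfalso
      obtain ⟨k, hk⟩ := (isOfFinOrder_of_finite s).mem_powers_iff_mem_zpowers.mpr hm'
      have hk' : s ^ k = t * π y' * t⁻¹ := hk
      have hvy' : v * y' * v⁻¹ * a = a * (v * y' * v⁻¹) :=
        Commute.mul_left (Commute.mul_left hva hy'a) (Commute.inv_left hva)
      obtain ⟨j, hj⟩ := (hπ.eq_iff ha3 (Commute.pow_left hy k) hvy').mp (by
        rw [hπ.map_conj hva hy'a, hπ.map_pow hy, hys, ← ht, hk'])
      refine key (v * z) ?_ ?_ k j (by rw [← hj, hy']; group)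
      · show v * z * b * (v * z)⁻¹ = b⁻¹
        rw [show v * z * b * (v * z)⁻¹ = v * (z * b * z⁻¹) * v⁻¹ by group, conj_fix_iff.mpr hbz.symm]
        exact hvb
      · rw [show v * z * a * (v * z)⁻¹ = v * (z * a * z⁻¹) * v⁻¹ by group, show z * a * z⁻¹ = a⁻¹ from hza,
          conj_fix_iff.mpr (Commute.inv_right hva).eq]
        exact Subgroup.inv_mem _ (Subgroup.mem_zpowers a)
  have hkja : y ^ k * a ^ j * a = a * (y ^ k * a ^ j) := hkj ▸ hy'a
  have hkk : k * k % 7 = 1 := by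
    have e : y = (y ^ k * a ^ j) ^ k * (a ^ j)⁻¹ := by
      calc y = (z * z) * y * (z * z)⁻¹ := by rw [h.zz]; group
        _ = z * y' * z⁻¹ := by rw [hy']; group
        _ = z * y ^ k * z⁻¹ * (z * a ^ j * z⁻¹) := by rw [hkj]; group
        _ = (y ^ k * a ^ j) ^ k * (a ^ j)⁻¹ := by rw [hzpow, ← conj_pow, ← hy', hkj]
    have e' := congrArg π e
    rw [hπz j (Commute.pow_left hkja k), hπ.map_pow hkja, ← (hπ.eq_iff ha3 (Commute.pow_left hy k) hkja).mpr ⟨j, rfl⟩,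
      hπ.map_pow hy, hys, ← pow_mul] at e'
    have h4 := pow_eq_pow_iff_modEq.mp ((pow_one s).trans e')
    rw [hos] at h4
    exact h4.symm
  have hk7 : k % 7 = 1 ∨ k % 7 = 6 := by
    rw [Nat.mul_mod] at hkk
    have : k % 7 < 7 := Nat.mod_lt _ (by norm_num)
    interval_cases (k % 7) <;> simp_all
  obtain ⟨l, hl⟩ := (isOfFinOrder_of_finite a).mem_powers_iff_mem_zpowers.mpr
    ((hπ.ker _ (Commute.pow_left hy 7)).mp (by rw [hπ.map_pow hy, hys]; exact hs7))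
  have hl' : a ^ l = y ^ 7 := hl
  have hred : y' = y ^ (k % 7) * a ^ (l * (k / 7) + j) := by
    rw [pow_add, pow_mul, hl', ← pow_mul, ← mul_assoc, ← pow_add, Nat.mod_add_div, hkj]
  rcases hk7 with e | e <;> rw [e] at hred
  · exfalso
    rw [pow_one, hy'] at hred
    obtain ⟨r, hr⟩ := coset_fixed ha3 h.zz hza hred
    have hm' : y * a ^ r ∈ CC a z := mem_CC.mpr ⟨Commute.mul_left hy (Commute.pow_self a r), hr.symm⟩
    have h6 := orderOf_dvd_iff_pow_eq_one.mp (hC6 ▸ Subgroup.orderOf_dvd_natCard _ hm')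
    have hπr : π (y * a ^ r) = s :=
      ((hπ.eq_iff ha3 hy (Commute.mul_left hy (Commute.pow_self a r))).mpr ⟨r, rfl⟩).symm.trans hys
    have h6' := congrArg π h6
    rw [hπ.map_pow (Commute.mul_left hy (Commute.pow_self a r)), hπr, hπ.map_one'] at h6'
    exact hs1 (orderOf_eq_one_iff.mp (Nat.eq_one_of_dvd_coprimes (by norm_num : Nat.Coprime 6 7)
      (orderOf_dvd_of_pow_eq_one h6') (orderOf_dvd_of_pow_eq_one hs7)))
  · obtain ⟨j', hj'⟩ : ∃ j' : ℕ, y' = y⁻¹ * a ^ j' := by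
      refine ⟨l + (l * (k / 7) + j), ?_⟩
      rw [hred, pow_add a l, hl', ← mul_assoc]
      congr 1
      rw [pow_succ' y 6, inv_mul_cancel_left]
    refine ⟨y, hyS, ?_⟩
    show z * y * z⁻¹ = y⁻¹
    have e2 : a ^ j' * a ^ j' = 1 := by
      have h1 : y = (y') ⁻¹ * (a ^ j')⁻¹ := by
        calc y = (z * z) * y * (z * z)⁻¹ := by rw [h.zz]; group
          _ = z * y' * z⁻¹ := by rw [hy']; group
          _ = (z * y * z⁻¹)⁻¹ * (z * a ^ j' * z⁻¹) := by rw [hj']; group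
          _ = y'⁻¹ * (a ^ j')⁻¹ := by rw [hzpow, ← hy']
      rw [hj', mul_inv_rev, inv_inv, ((Commute.pow_right hy j').inv_right).symm.eq, mul_assoc, ← mul_inv_rev,
        left_eq_mul, inv_eq_one] at h1
      exact h1
    rw [← hy', hj', eq_one_of_sq_odd e2 (odd_orderOf_of_pow (n := 3) (by decide)
      (by rw [← pow_mul, mul_comm, pow_mul, ha3, one_pow])), mul_one]

/-- Thirty-six elements of `C(a)` with image of order seven are inverted by `z`. -/
theorem ncard_seven_inverted : {y | y ∈ sevenElems a π ∧ Inverts z y}.ncard = 36 := by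
  haveI : Finite X := Finite.of_surjective π fun s => (hπ.surj s).imp fun c hc => hc.2
  haveI : Fact (Nat.Prime 7) := ⟨by norm_num⟩
  have ha3 : a ^ 3 = 1 := (ha.odd (Or.inl rfl)).2.1
  obtain ⟨y₀, hy₀, hzy₀⟩ := hs.exists_seven_inverted h hone ha hX hπ hza hC6
  set H := Subgroup.centralizer ({a} : Set G) with hH
  set W := orb H z with hW
  have hWcard : W.ncard * 6 = 3 * 168 := by
    have e := ncard_orb H z
    rw [show Nat.card ↥(H ⊓ Subgroup.centralizer ({z} : Set G)) = 6 from hC6, hπ.card_cent, ha.1, hX.card] at e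
    exact e
  have hWa : ∀ w ∈ W, Inverts w a := by
    rintro _ ⟨c, hc, rfl⟩
    have := inverts_conj (c := c) hza
    rwa [conj_fix_iff.mpr (mem_cent.mp hc)] at this
  have hconj : ∀ c ∈ H, ∀ b ∈ sevenElems a π, c * b * c⁻¹ ∈ sevenElems a π := by
    rintro c hc b ⟨hb, hb7, hb1⟩
    have hca := mem_cent.mp hc
    refine ⟨Commute.mul_left (Commute.mul_left hca hb) (Commute.inv_left hca), ?_, ?_⟩ <;>
      rw [hπ.map_conj hca hb]
    · rw [conj_pow, hb7]; group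
    · exact fun e => hb1 (conj_eq_one_iff.mp e)
  have e := double_count W (sevenElems a π) (fun w b => Inverts w b)
    (a := {y | y ∈ sevenElems a π ∧ Inverts z y}.ncard) (b := 21) ?_ ?_
  · rw [hs.card_seven h hone ha hX hπ] at e
    have h1 : W.ncard = 84 := by omega
    rw [h1] at e
    omega
  · rintro _ ⟨c, hc, rfl⟩
    rw [← Set.ncard_image_of_injective {y | y ∈ sevenElems a π ∧ Inverts z y}
      (show Function.Injective fun y : G => c * y * c⁻¹ from fun p q e => mul_left_cancel (mul_right_cancel e))]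
    congr 1
    ext b
    constructor
    · rintro ⟨hb, hwb⟩
      refine ⟨c⁻¹ * b * c, ⟨?_, inverts_back hwb⟩, by show c * (c⁻¹ * b * c) * c⁻¹ = b; group⟩
      have := hconj _ (H.inv_mem hc) b hb
      rwa [inv_inv] at this
    · rintro ⟨y, ⟨hy, hzy⟩, rfl⟩
      exact ⟨hconj c hc y hy, inverts_conj hzy⟩
  · intro b hb
    -- an inverter in `W`
    obtain ⟨w₀, hw₀, hw₀b⟩ : ∃ w ∈ W, Inverts w b := by
      obtain ⟨c, -, hm⟩ := conj_of_sylow_prime (p := 7) (H := (⊤ : Subgroup X)) (a := π y₀) (b := π b)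
        (by rw [Subgroup.card_top, hX.card]; norm_num) (by rw [Subgroup.card_top, hX.card]; norm_num)
        (Subgroup.mem_top _) (Subgroup.mem_top _) (orderOf_eq_prime hy₀.2.1 hy₀.2.2) (orderOf_eq_prime hb.2.1 hb.2.2)
      obtain ⟨g, hg, rfl⟩ := hπ.surj c
      obtain ⟨k, hk⟩ := (isOfFinOrder_of_finite (π y₀)).mem_powers_iff_mem_zpowers.mpr hm
      have hk' : π y₀ ^ k = π g * π b * (π g)⁻¹ := hk
      obtain ⟨j, hj⟩ := (hπ.eq_iff ha3 (Commute.pow_left hy₀.1 k)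
        (Commute.mul_left (Commute.mul_left hg hb.1) (Commute.inv_left hg))).mp (by
        rw [hπ.map_pow hy₀.1, hπ.map_conj hg hb.1, hk'])
      refine ⟨g⁻¹ * z * g, ⟨g⁻¹, H.inv_mem (mem_cent.mpr hg), by rw [inv_inv]⟩, ?_⟩
      have hzk : Inverts z (g * b * g⁻¹) := by
        rw [hj]
        show z * (y₀ ^ k * a ^ j) * z⁻¹ = (y₀ ^ k * a ^ j)⁻¹
        rw [show z * (y₀ ^ k * a ^ j) * z⁻¹ = z * y₀ ^ k * z⁻¹ * (z * a ^ j * z⁻¹) by group,
          show z * y₀ ^ k * z⁻¹ = (y₀ ^ k)⁻¹ from inverts_pow hzy₀ k,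
          show z * a ^ j * z⁻¹ = (a ^ j)⁻¹ from inverts_pow hza j, mul_inv_rev]
        exact (Commute.pow_pow hy₀.1 k j).inv_inv.eq
      have := inverts_conj (c := g⁻¹) hzk
      rwa [inv_inv, show g⁻¹ * (g * b * g⁻¹) * g = b by group] at this
    have hww : ∀ w ∈ W, w * w = 1 := by
      rintro _ ⟨c, -, rfl⟩
      exact conj_sq c z h.zz
    rw [← hs.card_seven_cent h hone ha hX hπ hb, ← SetLike.coe_sort_coe, Nat.card_coe_set_eq,
      ← Set.ncard_image_of_injective (CC a b : Set G) (mul_right_injective w₀)]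
    congr 1
    ext w
    constructor
    · rintro ⟨hw, hwb⟩
      have hfix : ∀ x : G, Inverts w x → Inverts w₀ x → w₀ * w * x = x * (w₀ * w) := fun x h1 h2 => by
        refine conj_fix_iff.mp ?_
        rw [show w₀ * w * x * (w₀ * w)⁻¹ = w₀ * (w * x * w⁻¹) * w₀⁻¹ by group, show w * x * w⁻¹ = x⁻¹ from h1]
        exact conj_inv_elem h2
      exact ⟨w₀ * w, mem_CC.mpr ⟨hfix a (hWa w hw) (hWa _ hw₀), hfix b hwb hw₀b⟩,
        by show w₀ * (w₀ * w) = w; rw [← mul_assoc, hww _ hw₀, one_mul]⟩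
    · rintro ⟨g, hg, rfl⟩
      obtain ⟨hga, hgb⟩ := mem_CC.mp hg
      obtain ⟨k, j, rfl⟩ := hs.seven_cent_a h hone ha hX hπ hb hga hgb
      set g := b ^ k * a ^ j with hgdef
      have h21 : g ^ 21 = 1 := by
        rw [hgdef, (Commute.pow_pow hb.1 k j).mul_pow, ← pow_mul, mul_comm, pow_mul,
          (hs.seven_pow h hone ha hX hπ hb).1, one_pow, one_mul, ← pow_mul, show j * 21 = 3 * (7 * j) by ring,
          pow_mul, ha3, one_pow]
      have hw₀g : Inverts w₀ g := by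
        show w₀ * g * w₀⁻¹ = g⁻¹
        rw [hgdef, show w₀ * (b ^ k * a ^ j) * w₀⁻¹ = w₀ * b ^ k * w₀⁻¹ * (w₀ * a ^ j * w₀⁻¹) by group,
          show w₀ * b ^ k * w₀⁻¹ = (b ^ k)⁻¹ from inverts_pow hw₀b k,
          show w₀ * a ^ j * w₀⁻¹ = (a ^ j)⁻¹ from inverts_pow (hWa _ hw₀) j, mul_inv_rev]
        exact (Commute.pow_pow hb.1 k j).inv_inv.eq
      obtain ⟨c, hc, hcc⟩ := exists_sqrt (odd_orderOf_of_pow (show Odd 21 by decide) h21)
      obtain ⟨c₀, hc₀, hc₀w⟩ := hw₀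
      have hcH : c ∈ H := Subgroup.zpowers_le.mpr (mem_cent.mpr hga) hc
      have hcw : w₀ * c = c⁻¹ * w₀ := by
        rw [← show w₀ * c * w₀⁻¹ = c⁻¹ from inverts_mem_zpowers hw₀g hc]; group
      refine ⟨⟨c⁻¹ * c₀, H.mul_mem (H.inv_mem hcH) hc₀, ?_⟩, ?_⟩
      · show c⁻¹ * c₀ * z * (c⁻¹ * c₀)⁻¹ = w₀ * g
        rw [show c⁻¹ * c₀ * z * (c⁻¹ * c₀)⁻¹ = c⁻¹ * (c₀ * z * c₀⁻¹) * c by group, hc₀w, ← hcw, mul_assoc, hcc]
      · show w₀ * g * b * (w₀ * g)⁻¹ = b⁻¹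
        rw [show w₀ * g * b * (w₀ * g)⁻¹ = w₀ * (g * b * g⁻¹) * w₀⁻¹ by group, conj_fix_iff.mpr hgb]
        exact hw₀b

end SevenType

end CfsgLib.J3Type
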