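import Cfsg.Agent.Lib.J3Type.FiveCent
import Cfsg.Agent.Lib.J3Type.Orbits

/-!
Groups of `J₃` type, quotient of order 168: every element of order three is centralized by an involution.
-/

set_option autoImplicit false
set_option linter.unusedSectionVars false
set_option maxHeartbeats 800000

namespace CfsgLib.J3Type

open Cfsg CfsgLargeExtra Equiv
open CfsgLib.HallJankoType (orb mem_cent conj_fix_iff ncard_orb orderOf_conj')

universe u

variable {G : Type u} [Group G] [Finite G] {z : G} {Q : Subgroup G} {pm : G → Perm (Fin 5)}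

/-- Double counting, with inequalities. -/
theorem double_count_le {α β : Type*} [Finite α] [Finite β] (A : Set α) (B : Set β) (R : α → β → Prop) {a b : ℕ}
    (hA : ∀ x ∈ A, a ≤ {y | y ∈ B ∧ R x y}.ncard) (hB : ∀ y ∈ B, {x | x ∈ A ∧ R x y}.ncard ≤ b) :
    A.ncard * a ≤ B.ncard * b := by
  classical
  haveI := Fintype.ofFinite α
  haveI := Fintype.ofFinite β
  have h := Finset.card_nsmul_le_card_nsmul (R := ℕ) (r := R) (s := A.toFinset) (t := B.toFinset) (m := a) (n := b)
    (fun x hx => by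
      refine (hA x (Set.mem_toFinset.mp hx)).trans ?_
      rw [Set.ncard_eq_toFinset_card']
      refine Finset.card_le_card fun y hy => ?_
      simp only [Set.mem_toFinset, Set.mem_ofPred_eq] at hy
      simp [Finset.bipartiteAbove, hy.1, hy.2])
    (fun y hy => by
      refine le_trans ?_ (hB y (Set.mem_toFinset.mp hy))
      rw [Set.ncard_eq_toFinset_card']
      refine Finset.card_le_card fun x hx => ?_
      simp only [Finset.bipartiteBelow, Finset.mem_filter, Set.mem_toFinset] at hx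
      simp [hx.1, hx.2])
  rwa [smul_eq_mul, smul_eq_mul, ← Set.ncard_eq_toFinset_card', ← Set.ncard_eq_toFinset_card'] at h

theorem IsInvCent.pow {n : ℕ} (hn : n.Prime) {a : G} (ha : IsInvCent n a) {i : ℕ} (hi : a ^ i ≠ 1) :
    IsInvCent n (a ^ i) := by
  obtain ⟨ho, v, h1, h2, h3⟩ := ha
  haveI : Fact n.Prime := ⟨hn⟩
  refine ⟨orderOf_eq_prime ?_ hi, v, h1, h2, (Commute.pow_right h3 i).eq⟩
  rw [← pow_mul, mul_comm, pow_mul, ← ho, pow_orderOf_eq_one, one_pow]

namespace SevenType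

/-- No element of order five commutes with an element of order three centralized by an involution. -/
theorem no_fifteen (hs : SevenType G) {d f : G} (hd : IsInvCent 3 d) (hf : f ^ 5 = 1) (hc : d * f = f * d) : f = 1 := by
  obtain ⟨X, _, π, hX, hπ⟩ := hs d hd
  have h5 : π f ^ 5 = 1 := by rw [← hπ.map_pow hc.symm, hf, hπ.map_one']
  have h1 : π f = 1 := by
    have key : ∀ k : ℕ, Nat.Coprime k 5 → π f ^ k = 1 → π f = 1 := fun k hk hpow => orderOf_eq_one_iff.mp
      (Nat.eq_one_of_dvd_coprimes hk (orderOf_dvd_of_pow_eq_one hpow) (orderOf_dvd_of_pow_eq_one h5))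
    rcases hX.orders (π f) with e | e | e | e
    exacts [key 2 (by norm_num) e, key 3 (by norm_num) e, key 4 (by norm_num) e, key 7 (by norm_num) e]
  have hm := Subgroup.orderOf_dvd_natCard _ ((hπ.ker f hc.symm).mp h1)
  rw [Nat.card_zpowers, hd.1] at hm
  exact orderOf_eq_one_iff.mp (Nat.eq_one_of_dvd_coprimes (by norm_num : Nat.Coprime 3 5) hm
    (orderOf_dvd_of_pow_eq_one hf))

/-- The odd part of the centralizer of an element of order five has order prime to three. -/
theorem five_core (hs : SevenType G) {h : JT z Q pm} (hone : OneClass G) {f : G} {O : Subgroup G}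
    (C : FiveCore h f O) {v : G} (hv : v ∈ h.T) (hvf : Inverts v f) :
    ¬ 3 ∣ Nat.card ↥O ∧
      (Nat.card ↥(O ⊓ Subgroup.centralizer ({v} : Set G)) = 1 ∨
        Nat.card ↥(O ⊓ Subgroup.centralizer ({v} : Set G)) = 5) := by
  haveI : Fact (Nat.Prime 3) := ⟨Nat.prime_three⟩
  have key : ∀ u : G, u * u = 1 → u ≠ 1 → ¬ 3 ∣ Nat.card ↥(O ⊓ Subgroup.centralizer ({u} : Set G)) := by
    intro u hu hu1 h3
    obtain ⟨⟨e, he'⟩, heo⟩ := exists_prime_orderOf_dvd_card' (G := ↥(O ⊓ Subgroup.centralizer ({u} : Set G))) 3 h3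
    rw [Subgroup.orderOf_mk] at heo
    obtain ⟨heO, heu⟩ := he'
    have := hs.no_fifteen ⟨heo, u, hu, hu1, (mem_cent.mp heu).symm⟩ C.f5 (C.cent e heO)
    have ho := C.fo
    rw [this, orderOf_one] at ho
    omega
  obtain ⟨hwz, hww, hwf⟩ := C.vz_props hv.1 hv.2.1 hvf
  have hwT := h.five_inverter_mem_T hwz hww C.fz C.fo hwf
  refine ⟨fun h3 => ?_, ?_⟩
  · rw [C.card_eq hv.1 hv.2.1 hvf] at h3
    rcases Nat.prime_three.dvd_mul.mp ((Nat.prime_three.dvd_mul.mp h3).resolve_left (by norm_num)) with h' | h'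
    exacts [key v hv.2.1 (h.T_ne_one hv) h', key _ hww (h.T_ne_one hwT) h']
  · rcases C.fix_card hone hv.2.1 (h.T_ne_one hv) with e | e | e
    · exact Or.inl e
    · exact absurd (by rw [e]) (key v hv.2.1 (h.T_ne_one hv))
    · exact Or.inr e

/-- The elements of order three centralized by involutions and inverted by `z`. -/
theorem ncard_inverted_three (hs : SevenType G) (h : JT z Q pm) (hone : OneClass G) :
    {d : G | IsInvCent 3 d ∧ Inverts z d}.ncard = 320 := by
  set D := {d : G | IsInvCent 3 d ∧ Inverts z d} with hD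
  have hA : ∀ u ∈ invs z, u ∈ h.T → {d | d ∈ D ∧ u * d = d * u}.ncard = 8 := by
    intro u hu hT
    obtain ⟨g, hg⟩ := hone.move h hu.2.1 hu.2.2
    have himg : (fun d => g * d * g⁻¹) '' {d | d ∈ D ∧ u * d = d * u} =
        {a : G | (a * z = z * a ∧ orderOf a = 3) ∧ Inverts (g * z * g⁻¹) a} := by
      ext a
      constructor
      · rintro ⟨d, ⟨⟨hd, hzd⟩, hud⟩, rfl⟩
        refine ⟨⟨?_, by rw [orderOf_conj', hd.1]⟩, inverts_conj hzd⟩
        rw [← hg]; exact conj_comm hud.symm
      · rintro ⟨⟨haz, hao⟩, hxa⟩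
        have e : u * (g⁻¹ * a * g) = g⁻¹ * a * g * u := conj_comm_back (by rw [hg]; exact haz.symm)
        refine ⟨g⁻¹ * a * g, ⟨⟨⟨?_, u, hu.2.1, hu.2.2, e⟩, inverts_back hxa⟩, e⟩,
          by show g * (g⁻¹ * a * g) * g⁻¹ = a; group⟩
        have := orderOf_conj' g⁻¹ a
        rwa [inv_inv, hao] at this
    rw [← Set.ncard_image_of_injective _ (show Function.Injective fun d : G => g * d * g⁻¹ from
      fun a b e => mul_left_cancel (mul_right_cancel e)), himg]
    exact h.ncard_three_inverted (h.type_T hT hg)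
  have hB : ∀ d ∈ D, {u | u ∈ h.T ∧ u * d = d * u}.ncard = 3 := by
    rintro d ⟨hd, hzd⟩
    obtain ⟨X, _, π, hX, hπ⟩ := hs d hd
    obtain ⟨v, a, ⟨hv, hv1⟩, hvd, hvz, had, haz, hao, hva, -, hcov⟩ :=
      hπ.cent_inverter hX.toXBase h hone hd h.zz hzd
    have ha3 : a ^ 3 = 1 := hao ▸ pow_orderOf_eq_one a
    have hvi : v⁻¹ = v := inv_eq_of_mul_eq_one_right hv
    have hT : ∀ i : ℕ, v * a ^ i ∈ h.T := fun i => by
      have hz' : v * a ^ i * z = z * (v * a ^ i) := Commute.mul_left hvz (Commute.pow_left haz i)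
      have hsq : v * a ^ i * (v * a ^ i) = 1 := by
        rw [show v * a ^ i * (v * a ^ i) = v * a ^ i * v⁻¹ * a ^ i by rw [hvi]; group,
          show v * a ^ i * v⁻¹ = (a ^ i)⁻¹ from inverts_pow hva i, inv_mul_cancel]
      have hne : v * a ^ i ≠ 1 := fun e => hv1 (eq_one_of_sq_odd hv (by
        rw [eq_inv_of_mul_eq_one_left e, orderOf_inv]
        exact odd_orderOf_of_pow (n := 3) (by decide) (by rw [← pow_mul, mul_comm, pow_mul, ha3, one_pow])))
      have hdu : v * a ^ i * d = d * (v * a ^ i) := Commute.mul_left hvd (Commute.pow_left had i)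
      rcases h.inv_cases hz' hsq hne with e | e | e
      · exfalso
        rw [e] at hdu
        exact (hd.odd (Or.inl rfl)).2.2 (inverts_comm_eq_one hzd hdu (hd.odd (Or.inl rfl)).1)
      · exfalso
        obtain ⟨g, hg⟩ := hone.move h hsq hne
        have hS := h.type_S e hg
        have hcz : g * d * g⁻¹ * z = z * (g * d * g⁻¹) := by rw [← hg]; exact conj_comm hdu.symm
        obtain ⟨x, y, F⟩ := h.exists_frame3 hcz (by rw [orderOf_conj', hd.1])
        exact h.S_not_T hS (F.inverter_mem_T (h.es.comm _ hS.1) hS.2.1 (inverts_conj hzd))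
      · exact e
    have hset : {u | u ∈ h.T ∧ u * d = d * u} = {v * a ^ 0, v * a ^ 1, v * a ^ 2} := by
      ext u
      constructor
      · rintro ⟨huT, hud⟩
        have hm : u ∈ Subgroup.zpowers a ∨ v * u ∈ Subgroup.zpowers a := hcov u hud huT.1
        rcases hm with hm | hm
        · refine absurd (eq_one_of_sq_odd huT.2.1 ?_) (h.T_ne_one huT)
          exact Odd.of_dvd_nat (by rw [Nat.card_zpowers, hao]; decide) (Subgroup.orderOf_dvd_natCard _ hm)
        · obtain ⟨i, hi⟩ := (isOfFinOrder_of_finite a).mem_powers_iff_mem_zpowers.mpr hm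
          have hu : u = v * a ^ (i % 3) := by
            rw [← hao, pow_mod_orderOf, show a ^ i = v * u from hi, ← mul_assoc, hv, one_mul]
          rw [hu]
          have hlt : i % 3 < 3 := Nat.mod_lt _ (by norm_num)
          interval_cases (i % 3) <;> simp
      · rintro (rfl | rfl | rfl) <;> exact ⟨hT _, Commute.mul_left hvd (Commute.pow_left had _)⟩
    rw [hset, Set.ncard_eq_three]
    have hinj : ∀ i j : ℕ, i < 3 → j < 3 → v * a ^ i = v * a ^ j → i = j := fun i j hi hj e =>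
      pow_injOn_Iio_orderOf (by rw [Set.mem_Iio, hao]; exact hi) (by rw [Set.mem_Iio, hao]; exact hj)
        (mul_left_cancel e)
    exact ⟨_, _, _, fun e => absurd (hinj 0 1 (by norm_num) (by norm_num) e) (by norm_num),
      fun e => absurd (hinj 0 2 (by norm_num) (by norm_num) e) (by norm_num),
      fun e => absurd (hinj 1 2 (by norm_num) (by norm_num) e) (by norm_num), rfl⟩
  have e := double_count h.T D (fun u d => u * d = d * u) (a := 8) (b := 3)
    (fun u hu => hA u ⟨hu.1, hu.2.1, h.T_ne_one hu⟩ hu) hB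
  rw [h.ncard_T] at e
  omega

/-- An element of order three of `C(d)` inverted, with `d`, by an involution is centralized by an involution. -/
theorem three_inverted (hs : SevenType G) (h : JT z Q pm) (hone : OneClass G) {d y : G} (hd : IsInvCent 3 d)
    (hy : orderOf y = 3) (hzd : Inverts z d) (hzy : Inverts z y) (hc : y * d = d * y) : IsInvCent 3 y := by
  classical
  haveI : Fact (Nat.Prime 3) := ⟨Nat.prime_three⟩
  by_contra hny
  set D := {d : G | IsInvCent 3 d ∧ Inverts z d} with hD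
  set F := {y : G | orderOf y = 3 ∧ Inverts z y ∧ ¬ IsInvCent 3 y ∧ ∃ d ∈ D, y * d = d * y} with hF
  have hyF : y ∈ F := ⟨hy, hzy, hny, d, ⟨hd, hzd⟩, hc⟩
  -- the image of an element of `F` in the quotient at a commuting element of order three
  have himage : ∀ {t o : G}, orderOf t = 3 → ¬ IsInvCent 3 t → IsInvCent 3 o → t * o = o * t →
      ∀ {X : Type} [Group X] {π : G → X}, ThreeQ o π → π t ^ 3 = 1 ∧ π t ≠ 1 := by
    intro t o hto htn ho hto' X _ π hπ
    have ht3 : t ^ 3 = 1 := hto ▸ pow_orderOf_eq_one t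
    refine ⟨by rw [← hπ.map_pow hto', ht3, hπ.map_one'], fun e => htn ?_⟩
    obtain ⟨i, hi⟩ := (isOfFinOrder_of_finite o).mem_powers_iff_mem_zpowers.mpr ((hπ.ker t hto').mp e)
    have hi' : o ^ i = t := hi
    rw [← hi']
    exact ho.pow Nat.prime_three (by rw [hi']; intro e1; rw [e1, orderOf_one] at hto; omega)
  -- the stabilisers are trivial
  have hk : ∀ t ∈ F, Nat.card ↥(Subgroup.centralizer ({z} : Set G) ⊓ Subgroup.centralizer ({t} : Set G)) = 1 := by
    rintro t ⟨hto, hzt, htn, -⟩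
    by_contra hne
    obtain ⟨q, hq, hqd⟩ := Nat.exists_prime_and_dvd hne
    haveI : Fact q.Prime := ⟨hq⟩
    obtain ⟨⟨o, ho'⟩, hoo⟩ := exists_prime_orderOf_dvd_card'
      (G := ↥(Subgroup.centralizer ({z} : Set G) ⊓ Subgroup.centralizer ({t} : Set G))) q hqd
    rw [Subgroup.orderOf_mk] at hoo
    have hoz := mem_cent.mp ho'.1
    have hot := mem_cent.mp ho'.2
    have hq1920 : q ∣ 2 ^ 7 * (3 * 5) := by
      have := Subgroup.orderOf_dvd_natCard _ ho'.1
      rwa [hoo, h.card_C] at this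
    have ht3 : t ^ 3 = 1 := hto ▸ pow_orderOf_eq_one t
    rcases hq.dvd_mul.mp hq1920 with h2 | h35
    · have := (Nat.prime_dvd_prime_iff_eq hq Nat.prime_two).mp (hq.dvd_of_dvd_pow h2)
      subst this
      refine htn ⟨hto, o, ?_, fun e => ?_, hot⟩
      · rw [← pow_two, ← hoo, pow_orderOf_eq_one]
      · rw [e, orderOf_one] at hoo; omega
    rcases hq.dvd_mul.mp h35 with h3 | h5
    · have := (Nat.prime_dvd_prime_iff_eq hq Nat.prime_three).mp h3
      subst this
      have hD' := h.isInvCent hoz hoo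
      obtain ⟨X, _, π, hX, hπ⟩ := hs o hD'
      obtain ⟨hs3, hs1⟩ := himage hto htn hD' hot.symm hπ
      obtain ⟨x, y', Fr⟩ := h.exists_frame3 hoz hoo
      obtain ⟨v, hv, hvo⟩ := h.exists_inverter (Or.inl rfl) hoz hoo
      obtain ⟨w, a, ⟨hwz, hww, hwo⟩, hao, hap, ha1, hwa, hza, hπa⟩ := hπ.exists_cent_inverter hX.toXBase Fr hv hvo hone
        ⟨⟨hs3, hs1⟩, hπ.map_inverts hoz.symm hot.symm hzt⟩
      obtain ⟨i, hi⟩ := (hπ.eq_iff Fr.d3 hao hot.symm).mp hπa
      have hoi : o ^ i = 1 := by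
        have h1 : z * o ^ i * z⁻¹ = (o ^ i)⁻¹ := by
          have h2 : z * t * z⁻¹ = t⁻¹ := hzt
          rw [hi, show z * (a * o ^ i) * z⁻¹ = z * a * z⁻¹ * (z * o ^ i * z⁻¹) by group, show z * a * z⁻¹ = a⁻¹ from hza,
            mul_inv_rev, ← (Commute.pow_right hao i).inv_inv.eq] at h2
          exact mul_left_cancel h2
        exact inverts_comm_eq_one h1 (Commute.pow_right hoz.symm i).eq
          (odd_orderOf_of_pow (n := 3) (by decide) (by rw [← pow_mul, mul_comm, pow_mul, Fr.d3, one_pow]))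
      rw [hoi, mul_one] at hi
      exact htn (hi ▸ ⟨orderOf_eq_prime hap ha1, w, hww, h.T_ne_one (Fr.inverter_mem_T hwz hww hwo), hwa⟩)
    · have := (Nat.prime_dvd_prime_iff_eq hq Nat.prime_five).mp h5
      subst this
      obtain ⟨O, C⟩ := h.exists_fiveCore hoz hoo
      obtain ⟨v, hv, hvf⟩ := h.exists_inverter (Or.inr rfl) hoz hoo
      refine (five_core hs hone C hv hvf).1 ?_
      rw [← hto]
      exact Subgroup.orderOf_dvd_natCard O (C.mem_odd t hot.symm (by rw [hto]; decide))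
  have hinv : ∀ c : G, c * z = z * c → ∀ t ∈ F, c * t * c⁻¹ ∈ F := by
    rintro c hc t ⟨hto, hzt, htn, e, ⟨he, hze⟩, hte⟩
    have move : ∀ {b : G}, Inverts z b → Inverts z (c * b * c⁻¹) := fun {b} hb => by
      have := inverts_conj (c := c) hb
      rwa [conj_fix_iff.mpr hc] at this
    refine ⟨by rw [orderOf_conj', hto], move hzt, fun hm => htn ?_, _, ⟨he.conj c, move hze⟩, conj_comm hte⟩
    have := hm.conj c⁻¹
    rwa [inv_inv, show c⁻¹ * (c * t * c⁻¹) * c = t by group] at this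
  have hdvd := h.dvd_free F hinv hk
  rw [mul_one] at hdvd
  -- each element of `F` commutes with four elements of `D`
  have hA : ∀ t ∈ F, 4 ≤ {e | e ∈ D ∧ t * e = e * t}.ncard := by
    rintro t ⟨hto, hzt, htn, e, ⟨he, hze⟩, hte⟩
    obtain ⟨X, _, π, hX, hπ⟩ := hs e he
    have he3 := ThreeQ.cube_of he
    obtain ⟨hs3, hs1⟩ := himage hto htn he hte hπ
    obtain ⟨a, w, v, hae, hπa, hap, ha1, ⟨hw, hw1⟩, -, hwa, -⟩ := hπ.cent_lift hX.toXBase h hone he hs3 hs1
    obtain ⟨i, hi⟩ := (hπ.eq_iff he3 hae hte).mp hπa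
    have haD : IsInvCent 3 a := ⟨orderOf_eq_prime hap ha1, w, hw, hw1, hwa⟩
    have hta : t * a = a * t := by rw [hi]; exact (Commute.mul_left rfl (Commute.pow_left hae.symm i)).eq
    have hza : Inverts z a := by
      show z * a * z⁻¹ = a⁻¹
      have ha' : a = t * (e ^ i)⁻¹ := by rw [hi, mul_inv_cancel_right]
      rw [ha', show z * (t * (e ^ i)⁻¹) * z⁻¹ = z * t * z⁻¹ * (z * (e ^ i)⁻¹ * z⁻¹) by group,
        show z * t * z⁻¹ = t⁻¹ from hzt, conj_inv_elem (inverts_pow hze i), mul_inv_rev, inv_inv]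
      exact (Commute.inv_left (Commute.pow_right hte i)).eq
    have sq_ne : ∀ {b : G}, orderOf b = 3 → b ^ 2 ≠ 1 ∧ b ^ 2 ≠ b := fun {b} hb => by
      refine ⟨pow_ne_one_of_lt_orderOf (by norm_num) (by omega), fun e1 => ?_⟩
      have : b = 1 := by rwa [pow_two, mul_eq_left] at e1
      rw [this, orderOf_one] at hb
      omega
    have hae' : a ∉ Subgroup.zpowers e := fun hm => hs1 (hπa ▸ (hπ.ker a hae).mpr hm)
    have hsub : ({e, e ^ 2, a, a ^ 2} : Set G) ⊆ {e | e ∈ D ∧ t * e = e * t} := by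
      rintro b (rfl | rfl | rfl | rfl)
      · exact ⟨⟨he, hze⟩, hte⟩
      · exact ⟨⟨he.pow Nat.prime_three (sq_ne he.1).1, inverts_pow hze 2⟩, Commute.pow_right hte 2⟩
      · exact ⟨⟨haD, hza⟩, hta⟩
      · exact ⟨⟨haD.pow Nat.prime_three (sq_ne haD.1).1, inverts_pow hza 2⟩, Commute.pow_right hta 2⟩
    refine le_trans ?_ (Set.ncard_le_ncard hsub (Set.toFinite _))
    have hne : a ^ 2 ∉ Subgroup.zpowers e := fun hm => hae' (by
      have := mul_mem hm hm
      rwa [← pow_add, pow_succ, hap, one_mul] at this)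
    rw [Set.ncard_insert_of_notMem, Set.ncard_insert_of_notMem, Set.ncard_pair]
    · exact (sq_ne haD.1).2.symm
    · rintro (e1 | e1)
      exacts [hae' (e1 ▸ Subgroup.pow_mem _ (Subgroup.mem_zpowers e) 2),
        hne (e1 ▸ Subgroup.pow_mem _ (Subgroup.mem_zpowers e) 2)]
    · rintro (e1 | e1 | e1)
      exacts [(sq_ne he.1).2 e1.symm, hae' (e1 ▸ Subgroup.mem_zpowers e), hne (e1 ▸ Subgroup.mem_zpowers e)]
  -- an element of `D` commutes with at most eighteen elements of `F`
  have hBD : ∀ e ∈ D, {t | t ∈ F ∧ t * e = e * t}.ncard ≤ 18 := by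
    rintro e ⟨he, hze⟩
    obtain ⟨X, _, π, hX, hπ⟩ := hs e he
    haveI : Finite X := Finite.of_surjective π fun s => (hπ.surj s).imp fun b hb => hb.2
    have he3 := ThreeQ.cube_of he
    set C := Subgroup.centralizer ({e} : Set G)
    set B := {b : G | b * e = e * b ∧ π b ^ 3 = 1 ∧ π b ≠ 1} with hB
    have hfib : ∀ s : X, {b : G | b * e = e * b ∧ π b = s}.ncard = 3 := fun s => by
      obtain ⟨a, ha, rfl⟩ := hπ.surj s
      have : {b : G | b * e = e * b ∧ π b = π a} = (fun i : Fin 3 => a * e ^ (i : ℕ)) '' Set.univ := by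
        ext b
        constructor
        · rintro ⟨hb, e1⟩
          obtain ⟨i, rfl⟩ := (hπ.eq_iff he3 ha hb).mp e1.symm
          exact ⟨⟨i % 3, Nat.mod_lt _ (by norm_num)⟩, trivial, by
            show a * e ^ (i % 3) = a * e ^ i
            rw [← he.1, pow_mod_orderOf]⟩
        · rintro ⟨i, -, rfl⟩
          have hc : a * e ^ (i : ℕ) * e = e * (a * e ^ (i : ℕ)) := Commute.mul_left ha (Commute.pow_self e _)
          exact ⟨hc, ((hπ.eq_iff he3 ha hc).mpr ⟨_, rfl⟩).symm⟩
      rw [this, Set.ncard_image_of_injective _ fun i j e1 => Fin.ext (pow_injOn_Iio_orderOf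
        (by rw [Set.mem_Iio, he.1]; exact i.isLt) (by rw [Set.mem_Iio, he.1]; exact j.isLt) (mul_left_cancel e1)),
        Set.ncard_univ, Nat.card_fin]
    have hT56 : {s : X | s ^ 3 = 1 ∧ s ≠ 1}.ncard * 3 = 168 := by
      have e1 := double_count {w : X | w * w = 1 ∧ w ≠ 1} {s : X | s ^ 3 = 1 ∧ s ≠ 1} Inverts
        (a := 8) (b := 3) (fun w hw => hX.inverted w hw.1 hw.2) (fun s hs => hX.three_inverters s hs.1 hs.2)
      have hinv21 := hX.inv_count
      rw [hinv21] at e1
      omega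
    have hBcard : B.ncard ≤ 168 := by
      have hmap : ∀ b ∈ B, π b ∈ {s : X | s ^ 3 = 1 ∧ s ≠ 1} := fun b hb => hb.2
      have := double_count B {s : X | s ^ 3 = 1 ∧ s ≠ 1} (fun b s => π b = s) (a := 1) (b := 3)
        (fun b hb => by
          rw [show {s | s ∈ {s : X | s ^ 3 = 1 ∧ s ≠ 1} ∧ π b = s} = {π b} from
            Set.ext fun s => ⟨fun hs => hs.2.symm, fun hs => by rw [hs]; exact ⟨hb.2, rfl⟩⟩, Set.ncard_singleton])
        (fun s hs => by
          rw [← hfib s]
          congr 1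
          ext b
          exact ⟨fun hb => ⟨hb.1.1, hb.2⟩, fun hb => ⟨⟨hb.1, by rw [hb.2]; exact hs.1, by rw [hb.2]; exact hs.2⟩, hb.2⟩⟩)
      omega
    have horb : (orb C z).ncard = 84 := by
      obtain ⟨v, a, -, -, -, -, -, -, -, hc6, -⟩ := hπ.cent_inverter hX.toXBase h hone he h.zz hze
      have h1 := ncard_orb C z
      have hcard : Nat.card ↥C = 504 := by
        let φ : ↥C →* X := MonoidHom.mk' (fun a => π a) fun a b => hπ.mul _ _ (mem_cent.mp a.2) (mem_cent.mp b.2)
        have hsur : Function.Surjective φ := fun s => by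
          obtain ⟨b, hb, rfl⟩ := hπ.surj s
          exact ⟨⟨b, mem_cent.mpr hb⟩, rfl⟩
        have hk : Nat.card φ.ker = 3 := by
          rw [← hfib 1, ← Nat.card_coe_set_eq]
          exact Nat.card_congr
            { toFun := fun b => ⟨b.1, mem_cent.mp b.1.2, b.2⟩
              invFun := fun b => ⟨⟨b.1, mem_cent.mpr b.2.1⟩, b.2.2⟩
              left_inv := fun b => rfl
              right_inv := fun b => rfl }
        rw [← Subgroup.card_mul_index φ.ker, Subgroup.index_ker, hk, MonoidHom.range_eq_top.mpr hsur,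
          Subgroup.card_top, hX.card]
      rw [hc6, hcard] at h1
      omega
    -- count the pairs of a conjugate of `z` and an element inverted by it
    set M := {b | b ∈ B ∧ Inverts z b} with hM
    have hMw : ∀ w ∈ orb C z, M.ncard ≤ {b | b ∈ B ∧ Inverts w b}.ncard := by
      rintro _ ⟨c, hc, rfl⟩
      have hc' := mem_cent.mp hc
      refine Set.ncard_le_ncard_of_injOn (fun b => c * b * c⁻¹) ?_ (fun a _ b _ e1 => mul_left_cancel (mul_right_cancel e1))
        (Set.toFinite _)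
      rintro b ⟨⟨hb, h3, h1⟩, hzb⟩
      have hcb : c * b * c⁻¹ * e = e * (c * b * c⁻¹) :=
        Commute.mul_left (Commute.mul_left hc' hb) (Commute.inv_left hc')
      refine ⟨⟨hcb, ?_, ?_⟩, inverts_conj hzb⟩
      · rw [hπ.map_conj hc' hb, conj_pow, h3]; group
      · rw [hπ.map_conj hc' hb]; exact fun e1 => h1 (conj_eq_one_iff.mp e1)
    have hb9 : ∀ b ∈ B, {w | w ∈ orb C z ∧ Inverts w b}.ncard ≤ 9 := by
      rintro b ⟨hb, hb3, hb1⟩
      rcases Set.eq_empty_or_nonempty {w | w ∈ orb C z ∧ Inverts w b} with h0 | ⟨w₀, ⟨c₀, hc₀, hw₀⟩, hw₀b⟩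
      · rw [h0, Set.ncard_empty]; norm_num
      have horbI : ∀ w ∈ orb C z, Inverts w e := by
        rintro _ ⟨c, hc, rfl⟩
        have := inverts_conj (c := c) hze
        rwa [conj_fix_iff.mpr (mem_cent.mp hc)] at this
      have hw₀e : Inverts w₀ e := horbI _ ⟨c₀, hc₀, hw₀⟩
      have hle : {w | w ∈ orb C z ∧ Inverts w b}.ncard ≤ {c : G | c * e = e * c ∧ π c ∈ Subgroup.zpowers (π b)}.ncard := by
        refine Set.ncard_le_ncard_of_injOn (fun w => w₀ * w) ?_ (fun a _ b _ e1 => mul_left_cancel e1) (Set.toFinite _)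
        rintro w ⟨hw, hwb⟩
        have hwe := horbI w hw
        have hc1 : w₀ * w * e = e * (w₀ * w) := by
          refine conj_fix_iff.mp ?_
          rw [show w₀ * w * e * (w₀ * w)⁻¹ = w₀ * (w * e * w⁻¹) * w₀⁻¹ by group, show w * e * w⁻¹ = e⁻¹ from hwe,
            conj_inv_elem hw₀e]
        refine ⟨hc1, hX.cent (π b) _ hb3 hb1 ?_⟩
        rw [← hπ.mul _ _ hc1 hb, ← hπ.mul _ _ hb hc1]
        congr 1
        refine conj_fix_iff.mp ?_
        rw [show w₀ * w * b * (w₀ * w)⁻¹ = w₀ * (w * b * w⁻¹) * w₀⁻¹ by group, show w * b * w⁻¹ = b⁻¹ from hwb,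
          conj_inv_elem hw₀b]
      refine hle.trans ?_
      have hz3 : (Subgroup.zpowers (π b) : Set X).ncard = 3 := by
        rw [← Nat.card_coe_set_eq]
        exact (Nat.card_zpowers _).trans (orderOf_eq_prime hb3 hb1)
      have := double_count {c : G | c * e = e * c ∧ π c ∈ Subgroup.zpowers (π b)} (Subgroup.zpowers (π b) : Set X)
        (fun c s => π c = s) (a := 1) (b := 3)
        (fun c hc => by
          rw [show {s | s ∈ (Subgroup.zpowers (π b) : Set X) ∧ π c = s} = {π c} from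
            Set.ext fun s => ⟨fun hs => hs.2.symm, fun hs => by rw [hs]; exact ⟨hc.2, rfl⟩⟩, Set.ncard_singleton])
        (fun s hs => by
          rw [← hfib s]
          congr 1
          ext c
          exact ⟨fun hc => ⟨hc.1.1, hc.2⟩, fun hc => ⟨⟨hc.1, by rw [hc.2]; exact hs⟩, hc.2⟩⟩)
      rw [hz3] at this
      omega
    have := double_count_le (orb C z) B Inverts hMw hb9
    have hFM : {t | t ∈ F ∧ t * e = e * t}.ncard ≤ M.ncard := by
      refine Set.ncard_le_ncard ?_ (Set.toFinite _)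
      rintro t ⟨⟨hto, hzt, htn, -⟩, hte⟩
      exact ⟨⟨hte, himage hto htn he hte hπ⟩, hzt⟩
    rw [horb] at this
    omega
  have hcount := double_count_le F D (fun t e => t * e = e * t) hA hBD
  rw [hD, hs.ncard_inverted_three h hone] at hcount
  have hpos : 0 < F.ncard := (Set.ncard_pos (Set.toFinite _)).mpr ⟨y, hyF⟩
  have := Nat.le_of_dvd hpos hdvd
  omega

/-- Every element of order three is centralized by an involution. -/
theorem all_three (hs : SevenType G) (h : JT z Q pm) (hone : OneClass G) {e : G} (he : orderOf e = 3) :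
    IsInvCent 3 e := by
  haveI : Fact (Nat.Prime 3) := ⟨Nat.prime_three⟩
  have hcent : ∀ {d c : G}, IsInvCent 3 d → orderOf c = 3 → c * d = d * c → IsInvCent 3 c := by
    intro d c hd hc hcd
    obtain ⟨X, _, π, hX, hπ⟩ := hs d hd
    have hd3 := ThreeQ.cube_of hd
    have hc3 : c ^ 3 = 1 := hc ▸ pow_orderOf_eq_one c
    by_cases h1 : π c = 1
    · obtain ⟨i, hi⟩ := (isOfFinOrder_of_finite d).mem_powers_iff_mem_zpowers.mpr ((hπ.ker c hcd).mp h1)
      have hi' : d ^ i = c := hi
      rw [← hi']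
      exact hd.pow Nat.prime_three (by rw [hi']; intro e1; rw [e1, orderOf_one] at hc; omega)
    obtain ⟨a, w, v, had, hπa, hap, ha1, ⟨hw, hw1⟩, hwd, hwa, ⟨hv, hv1⟩, hvd, hva, hvw⟩ :=
      hπ.cent_lift hX.toXBase h hone hd (by rw [← hπ.map_pow hcd, hc3, hπ.map_one']) h1
    obtain ⟨i, hi⟩ := (hπ.eq_iff hd3 had hcd).mp hπa
    have huu : v * w * (v * w) = 1 := by
      rw [show v * w * (v * w) = v * (w * v) * w by group, ← hvw,
        show v * (v * w) * w = v * v * (w * w) by group, hv, hw, one_mul]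
    have hu1 : v * w ≠ 1 := fun e1 => by
      have hvw' : v = w := (eq_inv_of_mul_eq_one_left e1).trans (inv_eq_of_mul_eq_one_right hw)
      rw [hvw'] at hvd
      exact (hd.odd (Or.inl rfl)).2.2 (inverts_comm_eq_one hwd hvd (hd.odd (Or.inl rfl)).1)
    obtain ⟨Q', pm', h'⟩ := h.atInv hone huu hu1
    have hud : Inverts (v * w) d := by
      show v * w * d * (v * w)⁻¹ = d⁻¹
      rw [show v * w * d * (v * w)⁻¹ = v * (w * d * w⁻¹) * v⁻¹ by group, show w * d * w⁻¹ = d⁻¹ from hwd,
        conj_fix_iff.mpr (Commute.inv_right hvd).eq]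
    refine three_inverted hs h' hone hd hc hud ?_ hcd
    show v * w * c * (v * w)⁻¹ = c⁻¹
    rw [hi, show v * w * (a * d ^ i) * (v * w)⁻¹ = v * (w * a * w⁻¹) * v⁻¹ * (v * w * d ^ i * (v * w)⁻¹) by group,
      conj_fix_iff.mpr hwa, show v * a * v⁻¹ = a⁻¹ from hva,
      show v * w * d ^ i * (v * w)⁻¹ = (d ^ i)⁻¹ from inverts_pow hud i, mul_inv_rev,
      ← (Commute.pow_right had i).inv_inv.eq]
  obtain ⟨S, hS⟩ := (IsPGroup.of_card (n := 1) (by rw [Nat.card_zpowers, he, pow_one]) :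
    IsPGroup 3 ↥(Subgroup.zpowers e)).exists_le_sylow
  haveI : Nontrivial ↥(S : Subgroup G) := (Subgroup.nontrivial_iff_ne_bot _).mpr fun hb => by
    have := hS (Subgroup.mem_zpowers e)
    rw [hb, Subgroup.mem_bot] at this
    rw [this, orderOf_one] at he
    omega
  haveI := S.2.center_nontrivial
  obtain ⟨⟨c', hc'⟩, hco⟩ := exists_prime_orderOf_dvd_card' (G := ↥(Subgroup.center ↥(S : Subgroup G))) 3 (by
    obtain ⟨k, hk⟩ := IsPGroup.iff_card.mp (S.2.to_subgroup (Subgroup.center ↥(S : Subgroup G)))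
    have : 1 < Nat.card ↥(Subgroup.center ↥(S : Subgroup G)) := Finite.one_lt_card
    rw [hk] at this ⊢
    rcases k with _ | k
    · simp at this
    · exact dvd_pow_self 3 (Nat.succ_ne_zero k))
  rw [Subgroup.orderOf_mk, ← Subgroup.orderOf_coe] at hco
  have hcent' : ∀ b ∈ (S : Subgroup G), b * (c' : G) = (c' : G) * b := fun b hb =>
    congrArg Subtype.val (Subgroup.mem_center_iff.mp hc' ⟨b, hb⟩)
  obtain ⟨v₀, -, d₀, hd₀, ho₀, -⟩ := h.exists_inverted (n := 3) (Or.inl rfl)
  obtain ⟨T, hT⟩ := (IsPGroup.of_card (n := 1) (by rw [Nat.card_zpowers, ho₀, pow_one]) :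
    IsPGroup 3 ↥(Subgroup.zpowers d₀)).exists_le_sylow
  obtain ⟨g, hg⟩ := MulAction.exists_smul_eq G T S
  have hgd : g * d₀ * g⁻¹ ∈ (S : Subgroup G) := by
    rw [← hg]
    exact ⟨d₀, hT (Subgroup.mem_zpowers d₀), rfl⟩
  have hC := hcent ((h.isInvCent hd₀ ho₀).conj g) hco (hcent' _ hgd).symm
  exact hcent hC he (hcent' e (hS (Subgroup.mem_zpowers e)))

end SevenType

end CfsgLib.J3Type
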