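import Cfsg.Agent.Lib.J3Type.FiveCent

/-!
Groups of `J₃` type: the centralizer of an element of order three or five and of an involution inverting it is a
generalized dihedral group.
-/

set_option autoImplicit false
set_option linter.unusedSectionVars false

namespace CfsgLib.J3Type

open Cfsg CfsgLargeExtra Equiv
open CfsgLib.HallJankoType (orb mem_cent conj_fix_iff ncard_orb orderOf_conj')

universe u

variable {G : Type u} [Group G] [Finite G] {z : G} {Q : Subgroup G} {pm : G → Perm (Fin 5)}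

/-- `K` consists of an abelian group of odd order and the coset of an involution inverting it. -/
def GenDih (K : Subgroup G) : Prop :=
  ∃ (N : Subgroup G) (v : G), v * v = 1 ∧ v ≠ 1 ∧ v ∈ K ∧ v ∉ N ∧ N ≤ K ∧ Odd (Nat.card ↥N) ∧
    (∀ a ∈ N, Inverts v a) ∧ ∀ a ∈ K, a ∈ N ∨ v * a ∈ N

/-- The centralizer of `a` and `w`. -/
def CC (a w : G) : Subgroup G := Subgroup.centralizer ({a} : Set G) ⊓ Subgroup.centralizer ({w} : Set G)

theorem mem_CC {a w b : G} : b ∈ CC a w ↔ b * a = a * b ∧ b * w = w * b :=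
  ⟨fun hb => ⟨mem_cent.mp hb.1, mem_cent.mp hb.2⟩, fun hb => ⟨mem_cent.mpr hb.1, mem_cent.mpr hb.2⟩⟩

/-- The centralizers of conjugate pairs. -/
noncomputable def ccEquiv (g a w : G) : ↥(CC a w) ≃ ↥(CC (g * a * g⁻¹) (g * w * g⁻¹)) where
  toFun b := ⟨g * b.1 * g⁻¹, mem_CC.mpr ⟨conj_comm (mem_CC.mp b.2).1, conj_comm (mem_CC.mp b.2).2⟩⟩
  invFun b := ⟨g⁻¹ * b.1 * g, mem_CC.mpr ⟨by
      have := conj_comm (g := g⁻¹) (mem_CC.mp b.2).1
      rwa [inv_inv, show g⁻¹ * (g * a * g⁻¹) * g = a by group] at this, by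
      have := conj_comm (g := g⁻¹) (mem_CC.mp b.2).2
      rwa [inv_inv, show g⁻¹ * (g * w * g⁻¹) * g = w by group] at this⟩⟩
  left_inv b := Subtype.ext (by show g⁻¹ * (g * b.1 * g⁻¹) * g = b.1; group)
  right_inv b := Subtype.ext (by show g * (g⁻¹ * b.1 * g) * g⁻¹ = b.1; group)

theorem card_CC_conj (g a w : G) : Nat.card ↥(CC (g * a * g⁻¹) (g * w * g⁻¹)) = Nat.card ↥(CC a w) :=
  (Nat.card_congr (ccEquiv g a w)).symm

theorem GenDih.of_conj {g a w : G} (hK : GenDih (CC (g * a * g⁻¹) (g * w * g⁻¹))) : GenDih (CC a w) := by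
  obtain ⟨N, v, hv, hv1, hvK, hvN, hNK, hodd, hinv, hcov⟩ := hK
  have hmem : ∀ b : G, b ∈ CC (g * a * g⁻¹) (g * w * g⁻¹) → g⁻¹ * b * g ∈ CC a w := fun b hb =>
    ((ccEquiv g a w).symm ⟨b, hb⟩).2
  have hmapN : ∀ b : G, b ∈ N.map (MulAut.conj g⁻¹).toMonoidHom ↔ g * b * g⁻¹ ∈ N := by
    intro b
    constructor
    · rintro ⟨c, hc, rfl⟩
      rwa [show g * (MulAut.conj g⁻¹).toMonoidHom c * g⁻¹ = c by
        show g * (g⁻¹ * c * g⁻¹⁻¹) * g⁻¹ = c
        group]
    · intro hb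
      exact ⟨_, hb, by show g⁻¹ * (g * b * g⁻¹) * g⁻¹⁻¹ = b; group⟩
  refine ⟨N.map (MulAut.conj g⁻¹).toMonoidHom, g⁻¹ * v * g, ?_, fun e => hv1 ?_, hmem v hvK, ?_, ?_, ?_, ?_, ?_⟩
  · rw [show g⁻¹ * v * g * (g⁻¹ * v * g) = g⁻¹ * (v * v) * g by group, hv]; group
  · rw [show v = g * (g⁻¹ * v * g) * g⁻¹ by group, e]; group
  · rw [hmapN, show g * (g⁻¹ * v * g) * g⁻¹ = v by group]; exact hvN
  · intro b hb
    have := hmem _ (hNK ((hmapN b).mp hb))
    rwa [show g⁻¹ * (g * b * g⁻¹) * g = b by group] at this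
  · rwa [Subgroup.card_map_of_injective (f := (MulAut.conj g⁻¹).toMonoidHom) (MulAut.conj g⁻¹).injective]
  · intro b hb
    have := inverts_conj (c := g⁻¹) (hinv _ ((hmapN b).mp hb))
    rwa [inv_inv, show g⁻¹ * (g * b * g⁻¹) * g = b by group] at this
  · intro b hb
    rw [hmapN, hmapN, show g * (g⁻¹ * v * g * b) * g⁻¹ = v * (g * b * g⁻¹) by group]
    exact hcov _ (ccEquiv g a w ⟨b, hb⟩).2

theorem GenDih.card_eq {K : Subgroup G} (hK : GenDih K) :
    Nat.card ↥K = 2 * {v : G | v ∈ K ∧ v * v = 1 ∧ v ≠ 1}.ncard := by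
  obtain ⟨N, v, hv, hv1, hvK, hvN, hNK, hodd, hinv, hcov⟩ := hK
  have hset : {u : G | u ∈ K ∧ u * u = 1 ∧ u ≠ 1} = (fun a => v * a) '' (N : Set G) := by
    ext u
    constructor
    · rintro ⟨hu, huu, hu1⟩
      rcases hcov u hu with hm | hm
      · exact absurd (eq_one_of_sq_odd huu (hodd.of_dvd_nat (Subgroup.orderOf_dvd_natCard N hm))) hu1
      · exact ⟨v * u, hm, by show v * (v * u) = u; rw [← mul_assoc, hv, one_mul]⟩
    · rintro ⟨a, ha, rfl⟩
      refine ⟨K.mul_mem hvK (hNK ha), ?_, fun e => hvN ?_⟩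
      · show v * a * (v * a) = 1
        rw [show v * a * (v * a) = v * a * v⁻¹ * a by rw [inv_eq_of_mul_eq_one_right hv]; group,
          show v * a * v⁻¹ = a⁻¹ from hinv a ha, inv_mul_cancel]
      · rw [eq_inv_of_mul_eq_one_left e]; exact N.inv_mem ha
  let g : Bool × ↥N → ↥K := fun p => ⟨(bif p.1 then v else 1) * p.2, by
    cases p.1
    · simpa using hNK p.2.2
    · exact K.mul_mem hvK (hNK p.2.2)⟩
  have hg : Function.Bijective g := by
    constructor
    · rintro ⟨b, a⟩ ⟨b', a'⟩ e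
      have e' := congrArg Subtype.val e
      simp only [g] at e'
      cases b <;> cases b' <;> simp only [cond_true, cond_false, one_mul] at e'
      · rw [Subtype.ext e']
      · exact absurd (show v ∈ N by rw [show v = (a : G) * (a' : G)⁻¹ by rw [e', mul_inv_cancel_right]]
                                    exact N.mul_mem a.2 (N.inv_mem a'.2)) hvN
      · exact absurd (show v ∈ N by rw [show v = (a' : G) * (a : G)⁻¹ by rw [← e', mul_inv_cancel_right]]
                                    exact N.mul_mem a'.2 (N.inv_mem a.2)) hvN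
      · rw [Subtype.ext (mul_left_cancel e')]
    · rintro ⟨a, ha⟩
      rcases hcov a ha with hm | hm
      · exact ⟨(false, ⟨a, hm⟩), Subtype.ext (one_mul a)⟩
      · exact ⟨(true, ⟨v * a, hm⟩), Subtype.ext (by show v * (v * a) = a; rw [← mul_assoc, hv, one_mul])⟩
  rw [← Nat.card_eq_of_bijective g hg, Nat.card_prod, Nat.card_eq_fintype_card, Fintype.card_bool, hset,
    Set.ncard_image_of_injective _ fun a b e => mul_left_cancel e, ← Nat.card_coe_set_eq]
  rfl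

/-- The centralizer of an element of order three or five and of an inverting involution. -/
theorem genDih_CC {p : ℕ} (hq : QType G p) (h : JT z Q pm) (hone : OneClass G) {n : ℕ} (hn : n = 3 ∨ n = 5) {a w : G}
    (ha : IsInvCent n a) (hw : w * w = 1) (hwa : Inverts w a) : GenDih (CC a w) := by
  rcases hn with rfl | rfl
  · obtain ⟨X, _, π, hX, hπ⟩ := hq a ha
    obtain ⟨v, b, ⟨hv, hv1⟩, hva, hvw, hba, hbw, hbo, hvb, -, hcov⟩ := hπ.cent_inverter hX h hone ha hw hwa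
    have hodd : Odd (Nat.card ↥(Subgroup.zpowers b)) := by
      rw [Nat.card_zpowers, hbo]
      rcases hX.hp with rfl | rfl <;> decide
    refine ⟨Subgroup.zpowers b, v, hv, hv1, mem_CC.mpr ⟨hva, hvw⟩, fun hm => hv1 (eq_one_of_sq_odd hv ?_),
      Subgroup.zpowers_le.mpr (mem_CC.mpr ⟨hba, hbw⟩), hodd, fun c hc => inverts_mem_zpowers hvb hc,
      fun c hc => hcov c (mem_CC.mp hc).1 (mem_CC.mp hc).2⟩
    exact hodd.of_dvd_nat (Subgroup.orderOf_dvd_natCard _ hm)
  · obtain ⟨ho, t, ht, ht1, hta⟩ := ha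
    obtain ⟨Q', pm', h'⟩ := h.atInv hone ht ht1
    obtain ⟨O, C⟩ := h'.exists_fiveCore hta.symm ho
    obtain ⟨c, hc, hcz, hcf⟩ := C.inverter_move hw hwa
    refine GenDih.of_conj (g := c) ?_
    rw [conj_fix_iff.mpr (C.cent c hc)]
    refine ⟨O ⊓ Subgroup.centralizer ({c * w * c⁻¹} : Set G), t, ht, ht1, mem_CC.mpr ⟨hta, hcz.symm⟩,
      fun hm => C.not_mem hm.1, fun b hb => mem_CC.mpr ⟨C.cent b hb.1, mem_cent.mp hb.2⟩,
      C.odd.of_dvd_nat (Subgroup.card_dvd_of_le inf_le_left),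
      fun b hb => C.fix_inverted hcz hcf hb.1 (mem_cent.mp hb.2).symm, fun b hb => ?_⟩
    obtain ⟨hb1, hb2⟩ := mem_CC.mp hb
    rcases C.cover b hb1 with hm | hm
    · exact Or.inl ⟨hm, mem_cent.mpr hb2⟩
    · exact Or.inr ⟨hm, mem_cent.mpr (Commute.mul_left hcz.symm hb2)⟩

/-- The centralizers of `f` and the inverters. -/
theorem FiveCore.CC_cases {h : JT z Q pm} {f : G} {O : Subgroup G} (C : FiveCore h f O) {v : G} (hv : v ∈ h.T)
    (hvf : Inverts v f) {w : G} (hw : w * w = 1) (hwf : Inverts w f) :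
    Nat.card ↥(CC f w) = 2 * Nat.card ↥(O ⊓ Subgroup.centralizer ({v} : Set G)) ∨
      Nat.card ↥(CC f w) = 2 * Nat.card ↥(O ⊓ Subgroup.centralizer ({v * z} : Set G)) := by
  obtain ⟨c, hc, hcw, hcwf⟩ := C.inverter_move hw hwf
  rw [← card_CC_conj c f w, conj_fix_iff.mpr (C.cent c hc)]
  obtain ⟨hwz, -, hwf'⟩ := C.vz_props hv.1 hv.2.1 hvf
  obtain ⟨i, -, e1⟩ := h.five_cent C.fz C.fo (Commute.mul_left hv.1 hcw)
    ((h.five_inverters_eq C.fz C.fo hv hvf).mp ⟨hcw, conj_sq c w hw, hcwf⟩).2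
  have hfold : ∀ b : G, Inverts b f → c * w * c⁻¹ = b * f ^ i →
      Nat.card ↥(CC f (c * w * c⁻¹)) = Nat.card ↥(CC f b) := by
    intro b hb hbw
    have h2 : (f ^ (2 * i))⁻¹ * (f ^ (2 * i))⁻¹ = f ^ i := by
      rw [← mul_inv_rev]
      refine inv_eq_of_mul_eq_one_right ?_
      rw [← pow_add, ← pow_add, show 2 * i + 2 * i + i = 5 * i by ring, pow_mul, C.f5, one_pow]
    have e2 : c * w * c⁻¹ = f ^ (2 * i) * b * (f ^ (2 * i))⁻¹ := by
      rw [hbw]
      calc b * f ^ i = b * (f ^ (2 * i))⁻¹ * b⁻¹ * b * (f ^ (2 * i))⁻¹ := by rw [← h2]; group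
        _ = f ^ (2 * i) * b * (f ^ (2 * i))⁻¹ := by rw [conj_inv_elem (inverts_pow hb (2 * i))]
    rw [e2]
    have e3 := card_CC_conj (f ^ (2 * i)) f b
    rwa [conj_fix_iff.mpr (Commute.pow_self f (2 * i)).eq] at e3
  rcases e1 with e | e
  · left
    rw [hfold v hvf (by rw [← e, ← mul_assoc, hv.2.1, one_mul])]
    exact C.cent_card hv.1
  · right
    rw [hfold (v * z) hwf' (by rw [mul_assoc v z, ← e, ← mul_assoc, hv.2.1, one_mul])]
    exact C.cent_card hwz

end CfsgLib.J3Type
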