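import Mathlib

/-!
An element of order fifteen acting regularly on the involutions of an elementary abelian group of order sixteen.
-/

set_option autoImplicit false
set_option maxRecDepth 100000

namespace CfsgLib.J3Type.Singer

variable {G : Type*} [Group G]

/-- The orbit of `a` under `o`. -/
def s (o a : G) (k : ℕ) : G := o ^ k * a * (o ^ k)⁻¹

/-- The consequences of one relation `a * s k = s j`. -/
def step (L : List (ℕ × ℕ)) : List (ℕ × ℕ) :=
  L ++ L.map (fun p => (p.2, p.1)) ++ L.map (fun p => (2 * p.1 % 15, 2 * p.2 % 15)) ++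
    L.map (fun p => ((15 - p.1) % 15, (p.2 + 15 - p.1) % 15))

/-- Two consequences disagree. -/
def conflict (L : List (ℕ × ℕ)) : Bool :=
  L.any fun p => L.any fun q => p.1 == q.1 && p.2 != q.2

theorem conflict_of : ∀ i < 15, 2 ≤ i → i ≠ 4 → i ≠ 12 → conflict (step (step (step [(1, i)]))) = true := by
  decide +kernel

/-- The hypotheses. -/
structure Cyc (A : Subgroup G) (o a : G) : Prop where
  sq : ∀ x ∈ A, x * x = 1
  mem : a ∈ A
  ne : a ≠ 1
  nor : ∀ x ∈ A, o * x * o⁻¹ ∈ A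
  pow : o ^ 15 = 1
  inj : ∀ k l, k < 15 → l < 15 → s o a k = s o a l → k = l
  surj : ∀ x ∈ A, x ≠ 1 → ∃ k < 15, x = s o a k

namespace Cyc

variable {A : Subgroup G} {o a : G} (C : Cyc A o a)
include C

theorem comm {x y : G} (hx : x ∈ A) (hy : y ∈ A) : x * y = y * x := by
  have e := inv_eq_of_mul_eq_one_right (C.sq _ (mul_mem hx hy))
  rw [mul_inv_rev, inv_eq_of_mul_eq_one_right (C.sq x hx), inv_eq_of_mul_eq_one_right (C.sq y hy)] at e
  exact e.symm

theorem s_zero : s o a 0 = a := by simp [s]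

theorem s_add (m k : ℕ) : o ^ m * s o a k * (o ^ m)⁻¹ = s o a (m + k) := by
  simp only [s, pow_add]; group

theorem s_mod (k : ℕ) : s o a (k % 15) = s o a k := by
  have : o ^ (k % 15) = o ^ k := by
    conv_rhs => rw [← Nat.mod_add_div k 15, pow_add, pow_mul, C.pow, one_pow, mul_one]
  simp only [s, this]

theorem s_mem (k : ℕ) : s o a k ∈ A := by
  induction k with
  | zero => rw [C.s_zero]; exact C.mem
  | succ n ih =>
    have := C.nor _ ih
    have e := C.s_add 1 n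
    rw [pow_one, add_comm] at e
    rwa [e] at this

/-- The relation `a * s k = s j`. -/
def R (_C : Cyc A o a) (p : ℕ × ℕ) : Prop := a * s o a p.1 = s o a p.2

theorem R_mod {k j : ℕ} (h : C.R (k, j)) : C.R (k % 15, j % 15) := by
  show a * s o a (k % 15) = s o a (j % 15)
  rwa [C.s_mod, C.s_mod]

theorem R_symm {k j : ℕ} (h : C.R (k, j)) : C.R (j, k) := by
  show a * s o a j = s o a k
  rw [← (h : a * s o a k = s o a j), ← mul_assoc, C.sq a C.mem, one_mul]

theorem R_shift {k j : ℕ} (h : C.R (k, j)) (m : ℕ) : s o a m * s o a (m + k) = s o a (m + j) := by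
  rw [← C.s_add m j, ← (h : a * s o a k = s o a j)]
  simp only [s, pow_add]; group

theorem R_double {k j : ℕ} (h : C.R (k, j)) : C.R (2 * k, 2 * j) := by
  show a * s o a (2 * k) = s o a (2 * j)
  rw [two_mul, two_mul, ← C.R_shift h j, add_comm j k, ← C.R_shift h k, ← (h : a * s o a k = s o a j), mul_assoc,
    ← mul_assoc (s o a k), C.sq _ (C.s_mem k), one_mul]

theorem R_neg {k j : ℕ} (hk : k ≤ 15) (h : C.R (k, j)) : C.R (15 - k, j + 15 - k) := by
  show a * s o a (15 - k) = s o a (j + 15 - k)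
  have h1 := C.R_shift h (15 - k)
  rw [Nat.sub_add_cancel hk, ← C.s_mod 15, Nat.mod_self, C.s_zero, C.comm (C.s_mem _) C.mem,
    show 15 - k + j = j + 15 - k by omega] at h1
  exact h1

theorem step_sound {L : List (ℕ × ℕ)} (hL : ∀ p ∈ L, C.R p ∧ p.1 < 15 ∧ p.2 < 15) :
    ∀ p ∈ step L, C.R p ∧ p.1 < 15 ∧ p.2 < 15 := by
  intro p hp
  simp only [step, List.mem_append, List.mem_map] at hp
  rcases hp with ((hp | ⟨q, hq, rfl⟩) | ⟨q, hq, rfl⟩) | ⟨q, hq, rfl⟩
  · exact hL p hp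
  · obtain ⟨h, h1, h2⟩ := hL q hq
    exact ⟨C.R_symm h, h2, h1⟩
  · obtain ⟨h, -, -⟩ := hL q hq
    exact ⟨C.R_mod (C.R_double h), Nat.mod_lt _ (by norm_num), Nat.mod_lt _ (by norm_num)⟩
  · obtain ⟨h, h1, -⟩ := hL q hq
    exact ⟨C.R_mod (C.R_neg h1.le h), Nat.mod_lt _ (by norm_num), Nat.mod_lt _ (by norm_num)⟩

/-- The two possible relations. -/
theorem zech : ∃ i, (i = 4 ∨ i = 12) ∧ a * s o a 1 = s o a i := by
  have h1 : a * s o a 1 ∈ A := mul_mem C.mem (C.s_mem 1)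
  have hne : a * s o a 1 ≠ 1 := fun e => by
    have e2 : s o a 1 = a := by
      rw [← inv_eq_of_mul_eq_one_right e]; exact inv_eq_of_mul_eq_one_right (C.sq a C.mem)
    have := C.inj 1 0 (by norm_num) (by norm_num) (e2.trans C.s_zero.symm)
    omega
  obtain ⟨i, hi, e⟩ := C.surj _ h1 hne
  refine ⟨i, ?_, e⟩
  by_contra hno
  push Not at hno
  have h2 : 2 ≤ i := by
    by_contra h2
    interval_cases i
    · rw [C.s_zero, mul_eq_left] at e
      exact C.ne (conj_eq_one_iff.mp (e : o ^ 1 * a * (o ^ 1)⁻¹ = 1))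
    · exact C.ne (mul_eq_right.mp e)
  obtain ⟨p, hp, hp'⟩ := List.any_eq_true.mp (conflict_of i hi h2 hno.1 hno.2)
  obtain ⟨q, hq, hpq⟩ := List.any_eq_true.mp hp'
  simp only [Bool.and_eq_true, beq_iff_eq, bne_iff_ne] at hpq
  have hbase : ∀ r ∈ [(1, i)], C.R r ∧ r.1 < 15 ∧ r.2 < 15 := by
    intro r hr
    rw [List.mem_singleton] at hr
    subst hr
    exact ⟨e, by norm_num, hi⟩
  have hall := C.step_sound (C.step_sound (C.step_sound hbase))
  obtain ⟨rp, -, jp⟩ := hall p hp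
  obtain ⟨rq, -, jq⟩ := hall q hq
  refine hpq.2 (C.inj _ _ jp jq ?_)
  rw [← (rp : a * s o a p.1 = _), ← (rq : a * s o a q.1 = _), hpq.1]

/-- No element fixing `a` inverts `o`. -/
theorem not_inverted {u : G} (hua : u * a * u⁻¹ = a) (huo : u * o * u⁻¹ = o⁻¹) : False := by
  obtain ⟨i, hi, e⟩ := C.zech
  have hpow : ∀ k ≤ 15, u * o ^ k * u⁻¹ = o ^ (15 - k) := fun k hk => by
    rw [← conj_pow, huo, inv_pow]
    refine inv_eq_of_mul_eq_one_right ?_
    rw [← pow_add, Nat.add_sub_cancel' hk, C.pow]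
  have hs : ∀ k ≤ 15, u * s o a k * u⁻¹ = s o a (15 - k) := fun k hk => by
    have : u * s o a k * u⁻¹ = (u * o ^ k * u⁻¹) * (u * a * u⁻¹) * (u * o ^ k * u⁻¹)⁻¹ := by
      simp only [s]; group
    rw [this, hpow k hk, hua]; rfl
  have hi15 : i ≤ 15 := by omega
  have h1 : C.R (14, 15 - i) := by
    show a * s o a (15 - 1) = _
    rw [← hs 1 (by norm_num), ← hs i hi15, ← e]
    calc a * (u * s o a 1 * u⁻¹) = (u * a * u⁻¹) * (u * s o a 1 * u⁻¹) := by rw [hua]
      _ = u * (a * s o a 1) * u⁻¹ := by group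
  have h2 := C.R_mod (C.R_neg (k := 1) (by norm_num) (e : C.R (1, i)))
  have h3 := C.inj ((i + 15 - 1) % 15) ((15 - i) % 15) (Nat.mod_lt _ (by norm_num)) (Nat.mod_lt _ (by norm_num))
    (by rw [← (h2 : a * _ = _), C.s_mod (15 - i), ← (h1 : a * _ = _)])
  omega

theorem inverse : Cyc A (o ^ 14) a where
  sq := C.sq
  mem := C.mem
  ne := C.ne
  nor x hx := by
    have : ∀ n, o ^ n * x * (o ^ n)⁻¹ ∈ A := fun n => by
      induction n with
      | zero => simpa using hx
      | succ n ih =>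
        have := C.nor _ ih
        rwa [show o * (o ^ n * x * (o ^ n)⁻¹) * o⁻¹ = o ^ (n + 1) * x * (o ^ (n + 1))⁻¹ by group] at this
    exact this 14
  pow := by rw [← pow_mul, mul_comm, pow_mul, C.pow, one_pow]
  inj k l hk hl e := by
    have e' : s o a (14 * k % 15) = s o a (14 * l % 15) := by
      rw [C.s_mod, C.s_mod]; simpa only [s, ← pow_mul] using e
    have := C.inj _ _ (Nat.mod_lt _ (by norm_num)) (Nat.mod_lt _ (by norm_num)) e'
    omega
  surj x hx hx1 := by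
    obtain ⟨k, hk, rfl⟩ := C.surj x hx hx1
    refine ⟨14 * k % 15, Nat.mod_lt _ (by norm_num), ?_⟩
    show _ = (o ^ 14) ^ _ * a * ((o ^ 14) ^ _)⁻¹
    rw [← pow_mul]
    show _ = s o a (14 * (14 * k % 15))
    rw [← C.s_mod (14 * (14 * k % 15)), show 14 * (14 * k % 15) % 15 = k by omega]

theorem inverse_four (e : a * s o a 1 = s o a 12) : a * s (o ^ 14) a 1 = s (o ^ 14) a 4 := by
  have h := C.R_symm (C.R_mod (C.R_neg (k := 12) (by norm_num) (C.R_symm (e : C.R (1, 12)))))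
  -- `(12, 1)` gives `(3, 4)`, hence `(4, 3)`, hence `(11, 14)`
  have h' := C.R_symm (C.R_mod (C.R_neg (k := 4) (by norm_num) h))
  show a * ((o ^ 14) ^ 1 * a * ((o ^ 14) ^ 1)⁻¹) = (o ^ 14) ^ 4 * a * ((o ^ 14) ^ 4)⁻¹
  rw [pow_one, ← pow_mul]
  show a * s o a 14 = s o a (14 * 4)
  rw [← C.s_mod (14 * 4)]
  exact h'

end Cyc

end CfsgLib.J3Type.Singer
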