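import Cfsg.Agent.Lib.J3Type.Free
import Cfsg.Agent.Lib.J3Type.NonfreeCount

/-!
Groups of `J₃` type: the free elements commuting with an element centralized by an involution; the alternating case.
-/

set_option autoImplicit false
set_option linter.unusedSectionVars false
set_option maxHeartbeats 800000

namespace CfsgLib.J3Type

open Cfsg CfsgLargeExtra Equiv
open CfsgLib.HallJankoType (orb mem_cent conj_fix_iff ncard_orb orderOf_conj')

universe u

variable {G : Type u} [Group G] [Finite G] {z : G} {Q : Subgroup G} {pm : G → Perm (Fin 5)}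

/-- The free elements commuting with some element of `clsE`. -/
def freeE (z : G) : Set G := {y | y ∈ free z ∧ ∃ a, a * y = y * a ∧ a ∈ clsE z}

/-- The free elements commuting with some element of `cls z 2`. -/
def freeTwo (z : G) : Set G := {y | y ∈ free z ∧ ∃ a, a * y = y * a ∧ a ∈ cls z 2}

namespace JT

variable (h : JT z Q pm)
include h

/-- An inverted element centralized by an involution is centralized by an involution of `C(z)`. -/
theorem invY_of_invCent {p : ℕ} (hq : QType G p) (hone : OneClass G) {n : ℕ} (hn : n = 3 ∨ n = 5) {y : G}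
    (hy : IsInvCent n y) (hzy : Inverts z y) : InvY z y := by
  rcases hn with rfl | rfl
  · obtain ⟨X, _, π, hX, hπ⟩ := hq y hy
    obtain ⟨v, hv, hv1, hvy, hzv⟩ := hπ.exists_commuting_invol hX hy h.zz hzy
    exact ⟨v, hv, hv1, hzv.symm, hvy⟩
  · obtain ⟨ho, t, ht, ht1, hty⟩ := hy
    obtain ⟨Q', pm', h'⟩ := h.atInv hone ht ht1
    obtain ⟨O, C⟩ := h'.exists_fiveCore hty.symm ho
    obtain ⟨c, hc, hcz, -⟩ := C.inverter_move h.zz hzy
    refine ⟨c⁻¹ * t * c, ?_, fun e => ht1 ?_, (conj_comm_back hcz).symm, ?_⟩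
    · rw [show c⁻¹ * t * c * (c⁻¹ * t * c) = c⁻¹ * (t * t) * c by group, ht]; group
    · rw [show t = c * (c⁻¹ * t * c) * c⁻¹ by group, e]; group
    · have := conj_comm (g := c⁻¹) hty
      rwa [inv_inv, show c⁻¹ * y * c = y by
        rw [mul_assoc, ← C.cent c hc, inv_mul_cancel_left]] at this

theorem invCent_not_free {p : ℕ} (hq : QType G p) (hone : OneClass G) {n : ℕ} (hn : n = 3 ∨ n = 5) {y : G}
    (hy : IsInvCent n y) (hf : y ∈ free z) : False :=
  free_not_invY hf (h.invY_of_invCent hq hone hn hy hf.1.2.2)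

/-- The pure orbits have orders prime to thirty. -/
theorem pure_coprime_thirty {p : ℕ} (hq : QType G p) (hone : OneClass G) {y : G} (hy : y ∈ pureF z) :
    Nat.gcd (Nat.card ↥(Subgroup.centralizer ({y} : Set G))) 30 = 1 := by
  have key : ∀ n : ℕ, n = 3 ∨ n = 5 → ¬ n ∣ Nat.card ↥(Subgroup.centralizer ({y} : Set G)) := by
    intro n hn hd
    haveI : Fact n.Prime := ⟨by rcases hn with rfl | rfl <;> norm_num⟩
    obtain ⟨v, -, o, hoz, hoo, -⟩ := h.exists_inverted hn
    obtain ⟨S, hS⟩ := (h.pure_selfCent hy).sylow_le hd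
    obtain ⟨T, hT⟩ := (IsPGroup.of_card (p := n) (G := ↥(Subgroup.zpowers o)) (n := 1)
      (by rw [Nat.card_zpowers, hoo, pow_one])).exists_le_sylow
    obtain ⟨g, hg⟩ := MulAction.exists_smul_eq G T S
    have hmem : g * o * g⁻¹ ∈ Subgroup.centralizer ({y} : Set G) := by
      refine hS ?_
      rw [← hg, Sylow.coe_subgroup_smul]
      exact Subgroup.smul_mem_pointwise_smul _ _ _ (hT (Subgroup.mem_zpowers o))
    have hi := (h.isInvCent hoz hoo).conj g
    exact h.invCent_not_free hq hone hn hi (hy.2 _ (mem_cent.mp hmem) (hi.odd hn).2.2)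
  have hodd := (h.free_cent hy.1).1
  have h3 := (Nat.prime_three.coprime_iff_not_dvd).mpr (key 3 (Or.inl rfl))
  have h5 := (Nat.prime_five.coprime_iff_not_dvd).mpr (key 5 (Or.inr rfl))
  show Nat.Coprime _ (2 * 3 * 5)
  exact ((Nat.coprime_two_right.mpr hodd).mul_right h3.symm).mul_right h5.symm

end JT

namespace SixType

variable (hs : SixType G) (h : JT z Q pm) (hone : OneClass G)
include hs h hone

theorem cls_five {k : ℕ} (hk : k = 2 ∨ k = 6) {a : G} (ha : a ∈ cls z k) : IsInvCent 5 a := by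
  rcases h.invY_order hone ha.1 ha.2.1 with e | e
  · rcases hs.vals h hone ha.1 ha.2.1 with ⟨-, e'⟩ | ⟨e', -⟩
    · rw [ha.2.2] at e'; omega
    · have := e.1; omega
  · exact e

theorem cls_ten {a : G} (ha : a ∈ cls z 10) : IsInvCent 3 a := by
  rcases h.invY_order hone ha.1 ha.2.1 with e | e
  · exact e
  · rcases hs.vals h hone ha.1 ha.2.1 with ⟨e', -⟩ | ⟨-, e' | e'⟩
    · have := e.1; omega
    · rw [ha.2.2] at e'; omega
    · rw [ha.2.2] at e'; omega

/-- The centralizer of an element of order five centralized by an involution. -/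
theorem five_group {a : G} (ha : IsInvCent 5 a) :
    ∃ (O : Subgroup G) (e : G), orderOf e = 3 ∧ IsInvCent 3 e ∧ e * a = a * e ∧ orderOf (e * a) = 15 ∧
      O = Subgroup.zpowers (e * a) ∧ a ∈ O ∧ e ∈ O ∧
      (∀ b : G, b * a = a * b → Odd (orderOf b) → b ∈ O) ∧
      ∀ u : G, u * u = 1 → u ≠ 1 → u * a = a * u → u * e * u⁻¹ = e⁻¹ := by
  obtain ⟨ho, t, ht, ht1, hta⟩ := ha
  obtain ⟨Q', pm', h'⟩ := h.atInv hone ht ht1
  obtain ⟨O, C⟩ := h'.exists_fiveCore hta.symm ho
  obtain ⟨v, -, e, heO, -, heo, heD, -, hte, ho15, hgen, -, -, -⟩ := hs.five_core h' hone C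
  refine ⟨O, e, heo, heD, C.cent e heO, ho15, hgen, C.f_mem, heO, C.mem_odd, fun u hu hu1 hua => ?_⟩
  have hm : t * u ∈ O := (C.cover u hua).resolve_left fun hm => hu1 (eq_one_of_sq_odd hu (C.odd_order hm))
  have hc : (t * u) * e * (t * u)⁻¹ = e :=
    conj_fix_iff.mpr (C.comm_of_order_three heO (heo ▸ pow_orderOf_eq_one e) hm)
  have htti : t⁻¹ = t := inv_eq_of_mul_eq_one_right ht
  calc u * e * u⁻¹ = t * ((t * u) * e * (t * u)⁻¹) * t⁻¹ := by
        rw [show t * ((t * u) * e * (t * u)⁻¹) * t⁻¹ = (t * t) * (u * e * u⁻¹) * (t * t)⁻¹ by group, ht]; group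
    _ = t * e * t⁻¹ := by rw [hc]
    _ = e⁻¹ := hte

/-- Two powers of one element commute. -/
theorem comm_of_gen {g a b : G} {O : Subgroup G} (hO : O = Subgroup.zpowers g) (ha : a ∈ O) (hb : b ∈ O) :
    a * b = b * a := by
  subst hO
  obtain ⟨i, rfl⟩ := ha
  obtain ⟨j, rfl⟩ := hb
  exact (Commute.zpow_zpow_self g i j).eq

/-- No free element commutes with an element of `cls z 6`. -/
theorem six_no_free {a y : G} (ha : a ∈ cls z 6) (hy : y ∈ free z) (hc : y * a = a * y) : False := by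
  haveI : Fact (Nat.Prime 3) := ⟨Nat.prime_three⟩
  obtain ⟨O, e, -, -, -, -, hgen, -, -, hmem, -⟩ := hs.five_group h hone (hs.cls_five h hone (Or.inr rfl) ha)
  obtain ⟨⟨o, ho⟩, hoo⟩ := exists_prime_orderOf_dvd_card' (G := ↥(CC a z)) 3 (by rw [ha.2.2]; norm_num)
  rw [Subgroup.orderOf_mk] at hoo
  obtain ⟨hoa, hoz⟩ := mem_CC.mp ho
  have hoy : o * y = y * o :=
    comm_of_gen hs h hone hgen (hmem o hoa (by rw [hoo]; decide)) (hmem y hc hy.1.2.1)
  have : o = 1 := Subgroup.mem_bot.mp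
    (Subgroup.eq_bot_of_card_eq _ hy.2 ▸ (mem_CC.mpr ⟨hoy, hoz⟩ : o ∈ CC y z))
  rw [this, orderOf_one] at hoo
  omega

/-- No inverted element commuting with an element of `cls z 10` maps onto one of order three. -/
theorem ten_three {a y : G} (ha : a ∈ cls z 10) (hy : y ∈ oddInverted z) (hc : y * a = a * y) {X : Type} [Group X]
    {π : G → X} (hX : XSix X) (hπ : ThreeQ a π) (e : π y ^ 3 = 1) (hs1 : π y ≠ 1) : False := by
  haveI : Finite X := Finite.of_surjective π fun s => (hπ.surj s).imp fun b hb => hb.2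
  have haD := hs.cls_ten h hone ha
  have ha3 : a ^ 3 = 1 := (haD.odd (Or.inl rfl)).2.1
  set s := π y with hsdef
  set I : Set G := {v | (v * v = 1 ∧ v ≠ 1) ∧ v * a = a * v ∧ Inverts (π v) s}
  have hI : I.ncard = 9 := by
    rw [← hX.three_inverters s e hs1]
    refine Set.ncard_congr (fun v _ => π v) (fun v hv => ⟨hπ.invol_map ha3 hv.1.1 hv.1.2 hv.2.1, hv.2.2⟩)
      (fun v w hv hw he => hπ.invol_unique ha3 hv.1.1 hw.1.1 hv.2.1 hw.2.1 he) fun x hx => ?_
    obtain ⟨v, h1, h2, h3, h4⟩ := hπ.lift_invol ha3 hx.1.1 hx.1.2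
    exact ⟨v, ⟨⟨h1, h2⟩, h3, by rw [h4]; exact hx.2⟩, h4⟩
  have hza : Inverts z a := ha.1.2.2
  have hcz : ∀ {b : G}, b * a = a * b → z * b * z⁻¹ * a = a * (z * b * z⁻¹) := fun hb =>
    ThreeQ.comm_of_inverts hza hb
  have hmap : ∀ v ∈ I, z * v * z⁻¹ ∈ I := by
    rintro v ⟨⟨hv, hv1⟩, hva, hvs⟩
    refine ⟨⟨conj_sq z v hv, fun e => hv1 (conj_eq_one_iff.mp e)⟩, hcz hva, ?_⟩
    have e1 : π (v * y * v⁻¹) = π y⁻¹ := by
      rw [hπ.map_conj hva hc, hπ.map_inv hc]; exact hvs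
    obtain ⟨j, hj⟩ := (hπ.eq_iff ha3 (Commute.mul_left (Commute.mul_left hva hc) (Commute.inv_left hva))
      (Commute.inv_left hc)).mp e1
    have hj' : v * y * v⁻¹ = y⁻¹ * (a ^ j)⁻¹ := by rw [hj]; group
    have e2 : z * v * z⁻¹ * y⁻¹ * (z * v * z⁻¹)⁻¹ = y * a ^ j := by
      calc z * v * z⁻¹ * y⁻¹ * (z * v * z⁻¹)⁻¹ = z * v * (z⁻¹ * y⁻¹ * z) * v⁻¹ * z⁻¹ := by group
        _ = z * (v * y * v⁻¹) * z⁻¹ := by
            rw [show z⁻¹ * y⁻¹ * z = z⁻¹ * (z * y * z⁻¹) * z by rw [show z * y * z⁻¹ = y⁻¹ from hy.2.2]]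
            group
        _ = z * y⁻¹ * z⁻¹ * (z * a ^ j * z⁻¹)⁻¹ := by rw [hj']; group
        _ = y * a ^ j := by
            rw [conj_inv_elem hy.2.2, show z * a ^ j * z⁻¹ = (a ^ j)⁻¹ from inverts_pow hza j, inv_inv]
    have e3 := congrArg π e2
    rw [hπ.map_conj (hcz hva) (Commute.inv_left hc), hπ.map_inv hc,
      hπ.mul _ _ hc (Commute.pow_self a j), hπ.map_pow rfl, hπ.map_d, one_pow, mul_one] at e3
    show π (z * v * z⁻¹) * s * (π (z * v * z⁻¹))⁻¹ = s⁻¹
    have := congrArg (·⁻¹) e3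
    simpa [mul_inv_rev, mul_assoc] using this
  have hmod := fixed_set_modEq (p := 2) (hp := ⟨Nat.prime_two⟩) I (s := z) (by rw [pow_two, h.zz]) fun v =>
    ⟨hmap v, fun hv => by
      have := hmap _ hv
      rwa [show z * (z * v * z⁻¹) * z⁻¹ = (z * z) * v * (z * z)⁻¹ by group, h.zz, one_mul, inv_one, mul_one] at this⟩
  rw [hI] at hmod
  obtain ⟨v, ⟨⟨hv, hv1⟩, hva, hvs⟩, hzv⟩ : {v | v ∈ I ∧ z * v = v * z}.Nonempty :=
    Set.nonempty_of_ncard_ne_zero fun e0 => by rw [e0] at hmod; exact absurd hmod (by decide)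
  set w := z * v with hw
  have hww : w * w = 1 := by
    calc w * w = z * (v * z) * v := by rw [hw]; group
      _ = z * (z * v) * v := by rw [← hzv, hw]
      _ = (z * z) * (v * v) := by group
      _ = 1 := by rw [h.zz, hv, one_mul]
  have hwa : Inverts w a := by
    show w * a * w⁻¹ = a⁻¹
    rw [hw, show z * v * a * (z * v)⁻¹ = z * (v * a * v⁻¹) * z⁻¹ by group, conj_fix_iff.mpr hva]
    exact hza
  have e1 : π (v * y * v⁻¹) = π y⁻¹ := by rw [hπ.map_conj hva hc, hπ.map_inv hc]; exact hvs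
  obtain ⟨j, hj⟩ := (hπ.eq_iff ha3 (Commute.mul_left (Commute.mul_left hva hc) (Commute.inv_left hva))
    (Commute.inv_left hc)).mp e1
  have hwy : w * y * w⁻¹ = y * a ^ j := by
    rw [hw, show z * v * y * (z * v)⁻¹ = z * (v * y * v⁻¹) * z⁻¹ by group,
      show v * y * v⁻¹ = y⁻¹ * (a ^ j)⁻¹ by rw [hj]; group,
      show z * (y⁻¹ * (a ^ j)⁻¹) * z⁻¹ = z * y⁻¹ * z⁻¹ * (z * (a ^ j)⁻¹ * z⁻¹) by group,
      conj_inv_elem hy.2.2, conj_inv_elem (inverts_pow hza j)]
  obtain ⟨i, hi⟩ := coset_fixed ha3 hww hwa hwy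
  obtain ⟨-, -, -, -, -, -, -, -, -, hcard, -⟩ := hπ.cent_inverter hX.toXBase h hone haD hww hwa
  have hb : y * a ^ i ∈ Subgroup.centralizer ({a} : Set G) ⊓ Subgroup.centralizer ({w} : Set G) :=
    ⟨mem_cent.mpr (Commute.mul_left hc (Commute.pow_self a i)), mem_cent.mpr hi.symm⟩
  have h10 : (y * a ^ i) ^ (2 * 5) = 1 :=
    orderOf_dvd_iff_pow_eq_one.mp (hcard ▸ Subgroup.orderOf_dvd_natCard _ hb)
  have hπb : π (y * a ^ i) = s := ((hπ.eq_iff ha3 hc (Commute.mul_left hc (Commute.pow_self a i))).mpr ⟨i, rfl⟩).symm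
  have h10' := congrArg π h10
  rw [hπ.map_pow (Commute.mul_left hc (Commute.pow_self a i)), hπb, hπ.map_one'] at h10'
  exact hs1 (orderOf_eq_one_iff.mp (Nat.eq_one_of_dvd_coprimes (by norm_num : Nat.Coprime 3 (2 * 5))
    (orderOf_dvd_of_pow_eq_one e) (orderOf_dvd_of_pow_eq_one h10')))

/-- A free element commuting with an element of `cls z 10` commutes with one of `cls z 2`. -/
theorem ten_free {a y : G} (ha : a ∈ cls z 10) (hy : y ∈ free z) (hc : y * a = a * y) :
    ∃ b, b * y = y * b ∧ b ∈ cls z 2 := by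
  have haD := hs.cls_ten h hone ha
  have ha3 : a ^ 3 = 1 := (haD.odd (Or.inl rfl)).2.1
  obtain ⟨X, _, π, hX, hπ⟩ := hs a haD
  haveI : Finite X := Finite.of_surjective π fun s => (hπ.surj s).imp fun b hb => hb.2
  set s := π y with hsdef
  have hso : Odd (orderOf s) := hy.1.2.1.of_dvd_nat (orderOf_dvd_of_pow_eq_one (by
    rw [hsdef, ← hπ.map_pow hc, pow_orderOf_eq_one, hπ.map_one']))
  have hs1 : s ≠ 1 := by
    intro e
    obtain ⟨i, hi⟩ := (isOfFinOrder_of_finite a).mem_powers_iff_mem_zpowers.mpr ((hπ.ker y hc).mp e)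
    have hi' : a ^ i = y := hi
    have hle : CC a z ≤ CC y z := fun b hb =>
      mem_CC.mpr ⟨hi' ▸ Commute.pow_right (mem_CC.mp hb).1 i, (mem_CC.mp hb).2⟩
    have := Subgroup.card_dvd_of_le hle
    rw [ha.2.2, hy.2] at this
    norm_num at this
  rcases hX.orders s with e | e | e
  · exact (hs.ten_three h hone ha hy.1 hc hX hπ e hs1).elim
  · exfalso
    have h2 : s * s = 1 := by
      rw [← pow_two]
      exact eq_one_of_sq_odd (by rw [← pow_add]; exact e) (hso.of_dvd_nat (orderOf_dvd_of_pow_eq_one (by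
        rw [← pow_mul, mul_comm, pow_mul, pow_orderOf_eq_one, one_pow])))
    exact hs1 (eq_one_of_sq_odd h2 hso)
  · have h5s : (s ^ 3) ^ 5 = 1 := by rw [← pow_mul, mul_comm, pow_mul, e, one_pow]
    have h3s : s ^ 3 ≠ 1 := fun e0 => hs1 (orderOf_eq_one_iff.mp (Nat.eq_one_of_dvd_coprimes
      (by norm_num : Nat.Coprime 3 5) (orderOf_dvd_of_pow_eq_one e0) (orderOf_dvd_of_pow_eq_one e)))
    obtain ⟨b, w, -, hba, hπb, hb5, hb1, hw, -, hwb, -, -, -, -⟩ := hπ.cent_lift hX.toXBase h hone haD h5s h3s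
    have hy3 : y ^ 3 * a = a * y ^ 3 := Commute.pow_left hc 3
    obtain ⟨j, hj⟩ := (hπ.eq_iff ha3 hba hy3).mp (by rw [hπb, hπ.map_pow hc])
    have hy15 : (y ^ 3) ^ 5 = 1 := by
      obtain ⟨i, hi⟩ := (isOfFinOrder_of_finite a).mem_powers_iff_mem_zpowers.mpr
        ((hπ.ker _ (Commute.pow_left hc 5)).mp (by rw [hπ.map_pow hc]; exact e))
      have hi' : a ^ i = y ^ 5 := hi
      rw [← pow_mul, mul_comm, pow_mul, ← hi', ← pow_mul, mul_comm, pow_mul, ha3, one_pow]
    have haj : a ^ j = 1 := by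
      have h1 := hy15
      rw [hj, (Commute.pow_right hba j).mul_pow, hb5, one_mul] at h1
      exact orderOf_eq_one_iff.mp (Nat.eq_one_of_dvd_coprimes (by norm_num : Nat.Coprime 3 5)
        (orderOf_dvd_of_pow_eq_one (by rw [← pow_mul, mul_comm, pow_mul, ha3, one_pow]))
        (orderOf_dvd_of_pow_eq_one h1))
    rw [haj, mul_one] at hj
    haveI : Fact (Nat.Prime 5) := ⟨Nat.prime_five⟩
    have hbI : IsInvCent 5 b := ⟨orderOf_eq_prime hb5 hb1, w, hw.1, hw.2, hwb⟩
    have hbz : Inverts z b := by rw [← hj]; exact inverts_pow hy.1.2.2 3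
    have hbY : b ∈ oddInverted z := ⟨hb1, by rw [hbI.1]; decide, hbz⟩
    have hbi := h.invY_of_invCent hs.qType hone (Or.inr rfl) hbI hbz
    have hby : y * b = b * y := by rw [← hj]; exact (Commute.self_pow y 3).eq
    refine ⟨b, hby.symm, hbY, hbi, ?_⟩
    rcases hs.vals h hone hbY hbi with ⟨e', -⟩ | ⟨-, e' | e'⟩
    · rw [hbI.1] at e'; omega
    · exact e'
    · exact (hs.six_no_free h hone ⟨hbY, hbi, e'⟩ hy hby).elim

/-- The free elements commuting with an element of `cls z 2`. -/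
theorem two_free {a : G} (ha : a ∈ cls z 2) :
    ∃ g : G, orderOf g = 15 ∧ orderOf (g ^ 3) = 5 ∧ a ∈ Subgroup.zpowers (g ^ 3) ∧ a ∈ Subgroup.zpowers g ∧
      {y | y ∈ free z ∧ y * a = a * y} = {y | y ∈ Subgroup.zpowers g ∧ orderOf y = 15} ∧
      ∀ y ∈ free z, y * a = a * y → Subgroup.centralizer ({y} : Set G) = Subgroup.zpowers g := by
  have haI := hs.cls_five h hone (Or.inl rfl) ha
  obtain ⟨O, e, heo, heD, hea, ho15, hgen, haO, heO, hmem, hue⟩ := hs.five_group h hone haI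
  have ha5 : a ^ 5 = 1 := (haI.odd (Or.inr rfl)).2.1
  have he3 : e ^ 3 = 1 := heo ▸ pow_orderOf_eq_one e
  have hg3 : (e * a) ^ 3 = a ^ 3 := by rw [(show Commute e a from hea).mul_pow, he3, one_mul]
  have hmem3 : a ∈ Subgroup.zpowers ((e * a) ^ 3) := by
    rw [hg3]
    refine Subgroup.mem_zpowers_iff.mpr ⟨2, ?_⟩
    rw [zpow_two, ← pow_add, show 3 + 3 = 5 + 1 from rfl, pow_succ, ha5, one_mul]
  have hodd : ∀ b ∈ O, Odd (orderOf b) := fun b hb =>
    (show Odd 15 by decide).of_dvd_nat (by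
      rw [← ho15, ← Nat.card_zpowers (e * a), ← hgen]; exact Subgroup.orderOf_dvd_natCard O hb)
  -- `z` inverts `O`
  have hzn : ∀ b ∈ O, z * b * z⁻¹ ∈ O := fun b hb => hmem _ (inverter_preserves ha.1.2.2
      (comm_of_gen hs h hone hgen hb haO)) (by rw [orderOf_conj']; exact hodd b hb)
  have hbot : ∀ b ∈ O, z * b = b * z → b = 1 := by
    intro b hb hbz
    have hd : orderOf b ∣ 2 := ha.2.2 ▸
      Subgroup.orderOf_dvd_natCard _ (mem_CC.mpr ⟨comm_of_gen hs h hone hgen hb haO, hbz.symm⟩)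
    exact eq_one_of_sq_odd (by rw [← pow_two]; exact orderOf_dvd_iff_pow_eq_one.mp hd) (hodd b hb)
  have hinv := inverts_of_fixed_free h.zz hzn hbot
  have hfo : ∀ y ∈ free z, y * a = a * y → y ∈ O ∧ orderOf y = 15 := by
    intro y hy hc
    have hyO := hmem y hc hy.1.2.1
    refine ⟨hyO, ?_⟩
    have hd : orderOf y ∣ 15 := by
      rw [← ho15, ← Nat.card_zpowers (e * a), ← hgen]; exact Subgroup.orderOf_dvd_natCard O hyO
    obtain ⟨k, hk⟩ := (isOfFinOrder_of_finite (e * a)).mem_powers_iff_mem_zpowers.mpr (hgen ▸ hyO)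
    have hk' : y = e ^ k * a ^ k := by rw [← (show Commute e a from hea).mul_pow]; exact hk.symm
    have h15 : orderOf y = 1 ∨ orderOf y = 3 ∨ orderOf y = 5 ∨ orderOf y = 15 := by
      have hm : orderOf y ∈ Nat.divisors 15 := Nat.mem_divisors.mpr ⟨hd, by norm_num⟩
      rw [show Nat.divisors 15 = {1, 3, 5, 15} by decide] at hm
      simpa using hm
    rcases h15 with e1 | e1 | e1 | e1
    · exact absurd (orderOf_eq_one_iff.mp e1) hy.1.1
    · exfalso
      refine h.invCent_not_free hs.qType hone (Or.inl rfl) ?_ hy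
      have hak : a ^ k = 1 := by
        have h1 := pow_orderOf_eq_one y
        rw [e1, hk', (Commute.pow_pow hea k k).mul_pow, ← pow_mul, mul_comm, pow_mul, he3, one_pow, one_mul,
          ← pow_mul] at h1
        have h2 : 5 ∣ k * 3 := haI.1 ▸ orderOf_dvd_of_pow_eq_one h1
        obtain ⟨m, hm⟩ := (Nat.Coprime.dvd_of_dvd_mul_right (by norm_num) h2 : 5 ∣ k)
        rw [hm, pow_mul, ha5, one_pow]
      obtain ⟨-, v, hv, hv1, hve⟩ := heD
      refine ⟨e1, v, hv, hv1, ?_⟩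
      rw [hk', hak, mul_one]
      exact (Commute.pow_right hve k).eq
    · exfalso
      have hek : e ^ k = 1 := by
        have h1 := pow_orderOf_eq_one y
        rw [e1, hk', (Commute.pow_pow hea k k).mul_pow, show (a ^ k) ^ 5 = 1 by rw [← pow_mul, mul_comm, pow_mul, ha5, one_pow],
          mul_one, ← pow_mul] at h1
        have h2 : 3 ∣ k * 5 := heo ▸ orderOf_dvd_of_pow_eq_one h1
        obtain ⟨m, hm⟩ := (Nat.Coprime.dvd_of_dvd_mul_right (by norm_num) h2 : 3 ∣ k)
        rw [hm, pow_mul, he3, one_pow]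
      rw [hek, one_mul] at hk'
      have hle : CC a z ≤ CC y z := fun b hb =>
        mem_CC.mpr ⟨by rw [hk']; exact (Commute.pow_right (mem_CC.mp hb).1 k).eq, (mem_CC.mp hb).2⟩
      have := Subgroup.card_dvd_of_le hle
      rw [ha.2.2, hy.2] at this
      norm_num at this
    · exact e1
  have hgo : ∀ y ∈ O, orderOf y = 15 → Subgroup.zpowers y = O := fun y hy ho =>
    Subgroup.eq_of_le_of_card_ge (Subgroup.zpowers_le.mpr hy) (by rw [hgen, Nat.card_zpowers, Nat.card_zpowers, ho, ho15])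
  refine ⟨e * a, ho15, ?_, hmem3, hgen ▸ haO, ?_, fun y hy hc => ?_⟩
  · haveI : Fact (Nat.Prime 5) := ⟨Nat.prime_five⟩
    refine orderOf_eq_prime (by rw [hg3, ← pow_mul, mul_comm, pow_mul, ha5, one_pow]) fun e1 => ?_
    rw [e1, Subgroup.zpowers_one_eq_bot, Subgroup.mem_bot] at hmem3
    exact (haI.odd (Or.inr rfl)).2.2 hmem3
  · ext y
    rw [← hgen]
    refine ⟨fun hy => hfo y hy.1 hy.2, ?_⟩
    rintro ⟨hyO, hyo⟩
    have hy1 : y ≠ 1 := fun e => by rw [e, orderOf_one] at hyo; omega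
    refine ⟨⟨⟨hy1, hodd y hyO, hinv y hyO⟩, ?_⟩, comm_of_gen hs h hone hgen hyO haO⟩
    have hcomm : ∀ b : G, b * y = y * b → ∀ c ∈ O, b * c = c * b := fun b hb c hc =>
      comm_mem_zpowers hb ((hgo y hyO hyo).symm ▸ hc)
    rw [Subgroup.card_eq_one, Subgroup.eq_bot_iff_forall]
    intro b hb
    obtain ⟨hby, hbz⟩ := mem_CC.mp hb
    have hd : orderOf b ∣ 2 := ha.2.2 ▸ Subgroup.orderOf_dvd_natCard _ (mem_CC.mpr ⟨hcomm b hby a haO, hbz⟩)
    by_contra hb1
    have h1 := hue b (by rw [← pow_two]; exact orderOf_dvd_iff_pow_eq_one.mp hd) hb1 (hcomm b hby a haO)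
    rw [conj_fix_iff.mpr (hcomm b hby e heO)] at h1
    have h2 : e = 1 := eq_one_of_sq_odd (by nth_rw 2 [h1]; exact mul_inv_cancel e) (by rw [heo]; decide)
    rw [h2, orderOf_one] at heo
    omega
  · rw [← hgen]
    obtain ⟨hyO, -⟩ := hfo y hy hc
    refine le_antisymm (fun b hb => hmem b (mem_cent.mp (h.free_cent_le hy hc.symm hb))
        ((h.free_cent hy).1.of_dvd_nat (Subgroup.orderOf_dvd_natCard _ hb))) fun b hb => ?_
    exact mem_cent.mpr (comm_of_gen hs h hone hgen hb hyO)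

/-- The number of free elements commuting with an element of `cls z 2`. -/
theorem freeTwo_count : (freeTwo z).ncard = 3840 := by
  haveI : Fact (Nat.Prime 5) := ⟨Nat.prime_five⟩
  have hcount := double_count (cls z 2) (freeTwo z) (fun a y => y * a = a * y) (a := 8) (b := 4) ?_ ?_
  · rw [(hs.nonfree_count h hone).2.1] at hcount
    omega
  · intro a ha
    obtain ⟨g, hgo, -, -, -, hset, -⟩ := hs.two_free h hone ha
    rw [show {y | y ∈ freeTwo z ∧ y * a = a * y} = {y | y ∈ free z ∧ y * a = a * y} from ?_, hset,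
      show {y | y ∈ Subgroup.zpowers g ∧ orderOf y = 15} =
        (fun k : Fin 15 => g ^ (k : ℕ)) '' {k : Fin 15 | Nat.gcd 15 k = 1} from ?_, Set.ncard_image_of_injective]
    · rw [Set.ncard_eq_toFinset_card']; rfl
    · intro i j e
      exact Fin.ext (pow_injOn_Iio_orderOf (by rw [hgo]; exact i.2) (by rw [hgo]; exact j.2) e)
    · ext y
      constructor
      · rintro ⟨hy, hyo⟩
        obtain ⟨k, hk⟩ := (isOfFinOrder_of_finite g).mem_powers_iff_mem_zpowers.mpr hy
        have hk' : g ^ k = y := hk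
        refine ⟨⟨k % 15, Nat.mod_lt _ (by norm_num)⟩, ?_, ?_⟩
        · show Nat.gcd 15 (k % 15) = 1
          rw [← hk', orderOf_pow, hgo] at hyo
          rw [Nat.gcd_comm, ← Nat.gcd_rec]
          have hm : Nat.gcd 15 k ∈ Nat.divisors 15 := Nat.mem_divisors.mpr ⟨Nat.gcd_dvd_left _ _, by norm_num⟩
          rw [show Nat.divisors 15 = {1, 3, 5, 15} by decide] at hm
          simp only [Finset.mem_insert, Finset.mem_singleton] at hm
          rcases hm with e | e | e | e <;> rw [e] at hyo ⊢ <;> norm_num at hyo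
        · show g ^ (k % 15) = y
          rw [← hk', ← hgo, pow_mod_orderOf]
      · rintro ⟨k, hk, rfl⟩
        refine ⟨Subgroup.pow_mem _ (Subgroup.mem_zpowers g) _, ?_⟩
        rw [orderOf_pow, hgo, show Nat.gcd 15 k = 1 from hk]
    · ext y
      exact ⟨fun hy => ⟨hy.1.1, hy.2⟩, fun hy => ⟨⟨hy.1, a, hy.2.symm, ha⟩, hy.2⟩⟩
  · rintro y ⟨hy, a, hay, ha⟩
    obtain ⟨g, hgo, hg3, ha3, -, -, hcent⟩ := hs.two_free h hone ha
    have hC := hcent y hy hay.symm
    have haI := hs.cls_five h hone (Or.inl rfl) ha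
    rw [show {x | x ∈ cls z 2 ∧ y * x = x * y} = {o : G | o ∈ Subgroup.zpowers (g ^ 3) ∧ orderOf o = 5} from ?_,
      ncard_order_prime (p := 5) (by rw [Nat.card_zpowers, hg3])]
    ext b
    constructor
    · rintro ⟨hb, hby⟩
      have hbo := (hs.cls_five h hone (Or.inl rfl) hb).1
      refine ⟨?_, hbo⟩
      obtain ⟨k, hk⟩ := (isOfFinOrder_of_finite g).mem_powers_iff_mem_zpowers.mpr (hC ▸ mem_cent.mpr hby.symm)
      have hk' : g ^ k = b := hk
      have h15 : 15 ∣ k * 5 := hgo ▸ orderOf_dvd_of_pow_eq_one (by rw [pow_mul, hk', ← hbo, pow_orderOf_eq_one])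
      obtain ⟨m, hm⟩ : 3 ∣ k := by omega
      rw [← hk', hm, pow_mul]
      exact Subgroup.pow_mem _ (Subgroup.mem_zpowers _) m
    · rintro ⟨hb, hbo⟩
      have hgen : Subgroup.zpowers b = Subgroup.zpowers (g ^ 3) :=
        Subgroup.eq_of_le_of_card_ge (Subgroup.zpowers_le.mpr hb) (by rw [Nat.card_zpowers, Nat.card_zpowers, hbo, hg3])
      have hgen' : Subgroup.zpowers a = Subgroup.zpowers (g ^ 3) :=
        Subgroup.eq_of_le_of_card_ge (Subgroup.zpowers_le.mpr ha3) (by rw [Nat.card_zpowers, Nat.card_zpowers, haI.1, hg3])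
      have hba : b ∈ Subgroup.zpowers a := hgen' ▸ hb
      have hab : a ∈ Subgroup.zpowers b := hgen ▸ ha3
      have hb1 : b ≠ 1 := fun e => by rw [e, orderOf_one] at hbo; omega
      obtain ⟨u, hu, hu1, huz, hua⟩ := ha.2.1
      refine ⟨⟨⟨hb1, by rw [hbo]; decide, inverts_mem_zpowers ha.1.2.2 hba⟩,
        ⟨u, hu, hu1, huz, comm_mem_zpowers hua hba⟩, ?_⟩, comm_mem_zpowers hay.symm hba⟩
      rw [← ha.2.2]
      congr 2
      ext c
      rw [mem_CC, mem_CC]
      exact ⟨fun hc => ⟨comm_mem_zpowers hc.1 hab, hc.2⟩, fun hc => ⟨comm_mem_zpowers hc.1 hba, hc.2⟩⟩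

/-- The special free elements commute with `cls z 2` or with `clsE z`. -/
theorem special_count : (specialF z).ncard = 3840 + (freeE z).ncard := by
  rw [← hs.freeTwo_count h hone, ← Set.ncard_union_eq]
  · congr 1
    ext y
    constructor
    · rintro ⟨hy, a, hay, ha⟩
      by_cases hi : InvY z a
      · rcases hs.vals h hone ha.1 hi with ⟨-, e⟩ | ⟨-, e | e⟩
        · obtain ⟨b, hby, hb⟩ := hs.ten_free h hone ⟨ha.1, hi, e⟩ hy hay.symm
          exact Or.inl ⟨hy, b, hby, hb⟩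
        · exact Or.inl ⟨hy, a, hay, ha.1, hi, e⟩
        · exact (hs.six_no_free h hone ⟨ha.1, hi, e⟩ hy hay.symm).elim
      · rcases h.card_free_invol ha.1 hi with e | e | e
        · exact absurd e ha.2
        · exact Or.inr ⟨hy, a, hay, ha.1, hi, e⟩
        · exfalso
          haveI : Fact (Nat.Prime 5) := ⟨Nat.prime_five⟩
          obtain ⟨⟨f, hf⟩, hfo⟩ := exists_prime_orderOf_dvd_card' (G := ↥(CC a z)) 5 (by rw [e])
          rw [Subgroup.orderOf_mk] at hfo
          obtain ⟨hfa, hfz⟩ := mem_CC.mp hf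
          obtain ⟨O, C⟩ := h.exists_fiveCore hfz hfo
          exact hi (hs.comm_five h hone C (C.mem_odd a hfa.symm ha.1.2.1) ha.1.1 ha.1.2.2).2.1
    · rintro (⟨hy, a, hay, ha⟩ | ⟨hy, a, hay, ha⟩)
      · exact ⟨hy, a, hay, nonfree_of_card ha.1 ha.2.2 (by norm_num)⟩
      · exact ⟨hy, a, hay, nonfree_of_card ha.1 ha.2.2 (by norm_num)⟩
  · rw [Set.disjoint_left]
    rintro y ⟨hy, a, hay, ha⟩ ⟨-, b, hby, hb⟩
    obtain ⟨g, hgo, -, -, hag, hset, hcent⟩ := hs.two_free h hone ha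
    have hbg : b ∈ Subgroup.zpowers g := hcent y hy hay.symm ▸ mem_cent.mpr hby
    have haI := hs.cls_five h hone (Or.inl rfl) ha
    obtain ⟨O, e, heo, heD, hea, ho15, hgen, haO, heO, hmem, -⟩ := hs.five_group h hone haI
    have hba : b * a = a * b := comm_of_gen hs h hone (O := Subgroup.zpowers g) rfl hbg hag
    have hbO := hmem b hba hb.1.2.1
    obtain ⟨k, hk⟩ := (isOfFinOrder_of_finite (e * a)).mem_powers_iff_mem_zpowers.mpr (hgen ▸ hbO)
    have hk' : b = e ^ k * a ^ k := by rw [← (show Commute e a from hea).mul_pow]; exact hk.symm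
    rcases eq_or_ne (orderOf b) 15 with e15 | e15
    · have hbf : b ∈ {y | y ∈ free z ∧ y * a = a * y} := by rw [hset]; exact ⟨hbg, e15⟩
      have := hbf.1.2
      rw [hb.2.2] at this
      omega
    · refine hb.2.1 ?_
      have hd : orderOf b ∣ 15 := hgo ▸ (Nat.card_zpowers g ▸ Subgroup.orderOf_dvd_natCard _ hbg)
      have hm : orderOf b ∈ Nat.divisors 15 := Nat.mem_divisors.mpr ⟨hd, by norm_num⟩
      rw [show Nat.divisors 15 = {1, 3, 5, 15} by decide] at hm
      simp only [Finset.mem_insert, Finset.mem_singleton] at hm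
      have h1 := pow_orderOf_eq_one b
      rcases hm with e1 | e1 | e1 | e1
      · exact absurd (orderOf_eq_one_iff.mp e1) hb.1.1
      · refine h.invY_of_invCent hs.qType hone (Or.inl rfl) ?_ hb.1.2.2
        obtain ⟨-, v, hv, hv1, hve⟩ := heD
        have hak : a ^ k = 1 := by
          rw [e1, hk', (Commute.pow_pow hea k k).mul_pow, ← pow_mul, mul_comm, pow_mul,
            show e ^ 3 = 1 from heo ▸ pow_orderOf_eq_one e, one_pow, one_mul, ← pow_mul] at h1
          have h2 : 5 ∣ k * 3 := haI.1 ▸ orderOf_dvd_of_pow_eq_one h1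
          obtain ⟨m, hm⟩ : 5 ∣ k := by omega
          rw [hm, pow_mul, (haI.odd (Or.inr rfl)).2.1, one_pow]
        refine ⟨e1, v, hv, hv1, ?_⟩
        rw [hk', hak, mul_one]
        exact (Commute.pow_right hve k).eq
      · obtain ⟨-, v, hv, hv1, hva⟩ := haI
        refine h.invY_of_invCent hs.qType hone (Or.inr rfl) ⟨e1, v, hv, hv1, ?_⟩ hb.1.2.2
        have hek : e ^ k = 1 := by
          have hao : orderOf a = 5 := (hs.cls_five h hone (Or.inl rfl) ha).1
          rw [e1, hk', (Commute.pow_pow hea k k).mul_pow,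
            show (a ^ k) ^ 5 = 1 by rw [← pow_mul, mul_comm, pow_mul, ← hao, pow_orderOf_eq_one, one_pow],
            mul_one, ← pow_mul] at h1
          have h2 : 3 ∣ k * 5 := heo ▸ orderOf_dvd_of_pow_eq_one h1
          obtain ⟨m, hm⟩ : 3 ∣ k := by omega
          rw [hm, pow_mul, show e ^ 3 = 1 from heo ▸ pow_orderOf_eq_one e, one_pow]
        rw [hk', hek, one_mul]
        exact (Commute.pow_right hva k).eq
      · exact absurd e1 e15

/-- The number of involutions in the alternating case. -/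
theorem involutions_count :
    {v : G | v * v = 1 ∧ v ≠ 1}.ncard = 16563 + (pureF z).ncard + (freeE z).ncard := by
  rw [h.ncard_involutions hone, h.oddInverted_split, (hs.nonfree_count h hone).1, hs.special_count h hone]
  omega

end SixType

end CfsgLib.J3Type
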