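import Cfsg.Agent.Lib.J3Type.SixteenCycle
import Cfsg.Agent.Lib.J3Type.A5Lift
import Cfsg.Agent.Lib.J3Type.Braid

/-!
Groups of `J₃` type: the braid relation between the elementary abelian group of order sixteen and an inverter of its
Singer cycle.
-/

set_option autoImplicit false
set_option linter.unusedSectionVars false
set_option maxRecDepth 100000

namespace CfsgLib.J3Type

open Cfsg CfsgLargeExtra Equiv
open CfsgLib.HallJankoType (orb mem_cent conj_fix_iff ncard_orb orderOf_conj' IsInv5)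
open Singer (Cyc s)

universe u

/-- A reference element of order three. -/
def refThree : Perm (Fin 5) := swap 0 1 * swap 1 2

theorem rot3_to_ref : ∀ e : Perm (Fin 5), IsRot 3 e → ∃ c : Perm (Fin 5), c * e * c⁻¹ = refThree := by decide +kernel

set_option synthInstance.maxHeartbeats 400000 in
set_option synthInstance.maxSize 2000 in
theorem pattern_ref : ∀ a : Perm (Fin 5), IsInv5 a → (refThree * a) ^ 3 = 1 →
    a * (refThree * a * refThree⁻¹) = (refThree * a * refThree⁻¹) * a →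
    ∀ w : Perm (Fin 5), IsInv5 w → w * refThree * w = refThree⁻¹ → ∃ j : Fin 3, ∃ i : Fin 3,
      A5Lift.Pattern (refThree ^ (j : ℕ) * a * (refThree ^ (j : ℕ))⁻¹) (w * refThree ^ (i : ℕ)) refThree := by
  decide +kernel

theorem inv5_map_iff (c σ : Perm (Fin 5)) : IsInv5 (MulAut.conj c σ) ↔ IsInv5 σ := by
  simp only [IsInv5, ← map_mul, MulEquiv.map_eq_one_iff, ne_eq]
  simp [MulAut.conj_apply, ← mul_assoc, mul_comm, Int.units_mul_self]

theorem rot_map_iff (c σ : Perm (Fin 5)) (n : ℕ) : IsRot n (MulAut.conj c σ) ↔ IsRot n σ := by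
  simp only [IsRot, ← map_pow, MulEquiv.map_eq_one_iff, ne_eq]
  simp [MulAut.conj_apply, ← mul_assoc, mul_comm, Int.units_mul_self]

theorem pattern_exists {a e w : Perm (Fin 5)} (ha : IsInv5 a) (he : IsRot 3 e) (hea : (e * a) ^ 3 = 1)
    (hc : a * (e * a * e⁻¹) = (e * a * e⁻¹) * a) (hw : IsInv5 w) (hwe : w * e * w = e⁻¹) :
    ∃ j : Fin 3, ∃ i : Fin 3, A5Lift.Pattern (e ^ (j : ℕ) * a * (e ^ (j : ℕ))⁻¹) (w * e ^ (i : ℕ)) e := by
  obtain ⟨c, hce⟩ := rot3_to_ref e he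
  set φ := MulAut.conj c with hφ
  have hφe : φ e = refThree := hce
  obtain ⟨j, i, hP⟩ := pattern_ref (φ a) ((inv5_map_iff c a).mpr ha)
    (by rw [← hφe, ← map_mul, ← map_pow, hea, map_one])
    (by rw [← hφe, ← map_inv, ← map_mul, ← map_mul, ← map_mul, hc, map_mul])
    (φ w) ((inv5_map_iff c w).mpr hw) (by rw [← hφe, ← map_mul, ← map_mul, hwe, map_inv])
  refine ⟨j, i, ?_⟩
  unfold A5Lift.Pattern at hP ⊢
  rw [← hφe] at hP
  simp only [← map_pow, ← map_inv, ← map_mul, hφ, inv5_map_iff, rot_map_iff, MulEquiv.apply_eq_iff_eq,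
    MulEquiv.map_eq_one_iff] at hP
  exact hP

theorem Singer.Cyc.rebase {G : Type u} [Group G] {A : Subgroup G} {o a : G} (C : Cyc A o a) (m : ℕ) :
    Cyc A o (s o a m) := by
  have hs : ∀ k, s o (s o a m) k = s o a (k + m) := fun k => C.s_add k m
  refine ⟨C.sq, C.s_mem m, fun e => C.ne (conj_eq_one_iff.mp e), C.nor, C.pow, fun k l hk hl e => ?_, fun x hx hx1 => ?_⟩
  · rw [hs, hs, ← C.s_mod (k + m), ← C.s_mod (l + m)] at e
    have := C.inj _ _ (Nat.mod_lt _ (by norm_num)) (Nat.mod_lt _ (by norm_num)) e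
    omega
  · obtain ⟨k, hk, rfl⟩ := C.surj x hx hx1
    refine ⟨(k + 15 * m - m) % 15, Nat.mod_lt _ (by norm_num), ?_⟩
    rw [hs, ← C.s_mod ((k + 15 * m - m) % 15 + m), show ((k + 15 * m - m) % 15 + m) % 15 = k by omega]

variable {G : Type u} [Group G] [Finite G] {z : G} {Q : Subgroup G} {pm : G → Perm (Fin 5)}

namespace JT

variable (h : JT z Q pm)
include h

theorem pow_five_mem {y : G} (hy : y * z = z * y) (hr : IsRot 5 (pm y)) :
    orderOf (y ^ 4) = 5 ∧ y ^ 4 ∉ Q ∧ (y ^ 5 = 1 ∨ y ^ 5 = z) := by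
  haveI : Fact (Nat.Prime 5) := ⟨Nat.prime_five⟩
  have hy5 : y ^ 5 ∈ Q := (h.pm_ker _ (Commute.pow_left hy 5)).mp (by rw [h.pm_pow hy]; exact hr.2.1)
  have h20 : (y ^ 4) ^ 5 = 1 := by
    rw [← pow_mul, show 4 * 5 = 5 * 4 by norm_num, pow_mul, show (4 : ℕ) = 2 * 2 from rfl, pow_mul, pow_two (y ^ 5)]
    rcases h.es.sq _ hy5 with e | e <;> rw [e]
    · exact one_pow 2
    · rw [pow_two, h.zz]
  have hne : pm (y ^ 4) ≠ 1 := fun e => hr.2.2 (by
    rw [h.pm_pow hy] at e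
    have h5 := hr.2.1
    rwa [pow_succ, e, one_mul] at h5)
  have hnQ : y ^ 4 ∉ Q := fun hq => hne (h.pm_Q hq)
  have ho : orderOf (y ^ 4) = 5 := orderOf_eq_prime h20 fun e => hnQ (e ▸ one_mem _)
  exact ⟨ho, hnQ, h.five_fix (Commute.pow_left hy 4) ho hnQ hy5 (Commute.pow_pow_self y 4 5).eq⟩

/-- The relation of `A₅` lifts to the centralizer of `z` up to `z`. -/
theorem lift_relation {a w e : G} (haz : a * z = z * a) (hwz : w * z = z * w) (hez : e * z = z * e)
    (ha : a * a = 1) (hw : w * w = 1) (he : e ^ 3 = 1) (hea : (e * a) ^ 3 = 1) (hwe : w * e * w = e⁻¹)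
    (hP : A5Lift.Pattern (pm a) (pm w) (pm e)) : (a * w) ^ 3 = 1 ∨ (a * w) ^ 3 = z := by
  set C := Subgroup.centralizer ({z} : Set G) with hC
  let zC : ↥C := ⟨z, mem_cent.mpr rfl⟩
  let Zs : Subgroup ↥C := Subgroup.zpowers zC
  haveI : Zs.Normal := ⟨fun b hb g => by
    obtain ⟨k, rfl⟩ := hb
    have hg : Commute g zC := Subtype.ext (mem_cent.mp g.2)
    show g * zC ^ k * g⁻¹ ∈ Zs
    rw [(hg.zpow_right k).eq, mul_inv_cancel_right]
    exact ⟨k, rfl⟩⟩
  have hzmem : ∀ b : ↥C, b ∈ Zs ↔ (b : G) = 1 ∨ (b : G) = z := fun b => by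
    constructor
    · rintro ⟨k, rfl⟩
      have hz2 : zC * zC = 1 := Subtype.ext h.zz
      have : zC ^ k = 1 ∨ zC ^ k = zC := by
        rcases Int.even_or_odd k with ⟨j, hj⟩ | ⟨j, hj⟩
        · left; rw [hj, ← two_mul, zpow_mul, zpow_two, hz2, one_zpow]
        · right; rw [hj, zpow_add, zpow_mul, zpow_two, hz2, one_zpow, one_mul, zpow_one]
      rcases this with e' | e' <;> simp only [e']
      · exact Or.inl rfl
      · exact Or.inr rfl
    · rintro (e' | e')
      · rw [show b = 1 from Subtype.ext e']; exact one_mem _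
      · rw [show b = zC from Subtype.ext e']; exact Subgroup.mem_zpowers zC
  let φ : ↥C →* Perm (Fin 5) :=
    MonoidHom.mk' (fun a => pm a) fun a b => h.pm_mul _ _ (mem_cent.mp a.2) (mem_cent.mp b.2)
  have hZφ : ∀ b ∈ Zs, φ b = 1 := fun b hb => by
    rcases (hzmem b).mp hb with e' | e' <;> show pm (b : G) = 1 <;> rw [e']
    exacts [h.pm_one, h.pm_z]
  let p : ↥C ⧸ Zs →* Perm (Fin 5) := QuotientGroup.lift Zs φ hZφ
  have hp : ∀ b : ↥C, p (QuotientGroup.mk' Zs b) = pm (b : G) := fun b => rfl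
  have hone : ∀ {b : ↥C}, ((b : G) = 1 ∨ (b : G) = z) → QuotientGroup.mk' Zs b = 1 := fun {b} hb =>
    (QuotientGroup.eq_one_iff b).mpr ((hzmem b).mpr hb)
  set aC : ↥C := ⟨a, mem_cent.mpr haz⟩
  set wC : ↥C := ⟨w, mem_cent.mpr hwz⟩
  set eC : ↥C := ⟨e, mem_cent.mpr hez⟩
  set π := QuotientGroup.mk' Zs with hπ
  have key := A5Lift.lift_three p
    (fun x => by obtain ⟨b, rfl⟩ := QuotientGroup.mk'_surjective Zs x; rw [hp]; exact h.pm_sign _ (mem_cent.mp b.2))
    (fun x hx => by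
      obtain ⟨b, rfl⟩ := QuotientGroup.mk'_surjective Zs x
      rw [hp] at hx
      rw [← map_mul]
      exact hone (h.es.sq _ ((h.pm_ker _ (mem_cent.mp b.2)).mp hx)))
    (fun y hy => by
      obtain ⟨b, rfl⟩ := QuotientGroup.mk'_surjective Zs y
      rw [hp] at hy
      rw [← map_pow]
      exact hone (by rw [SubmonoidClass.coe_pow]; exact (h.pow_five_mem (mem_cent.mp b.2) hy).2.2))
    (fun y x hy hx hc => by
      obtain ⟨b, rfl⟩ := QuotientGroup.mk'_surjective Zs y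
      obtain ⟨q, rfl⟩ := QuotientGroup.mk'_surjective Zs x
      rw [hp] at hy hx
      have hq := (h.pm_ker _ (mem_cent.mp q.2)).mp hx
      have hbz := mem_cent.mp b.2
      obtain ⟨ho, hnQ, -⟩ := h.pow_five_mem hbz hy
      have hd : π (b * q * b⁻¹ * q⁻¹) = 1 := by
        rw [map_mul, map_mul, map_mul, map_inv, map_inv, hc, mul_inv_cancel_right, mul_inv_cancel]
      have hd' := (hzmem _).mp ((QuotientGroup.eq_one_iff _).mp hd)
      simp only [Subgroup.coe_mul, InvMemClass.coe_inv] at hd'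
      have h2 : Commute ((b : G) ^ 2) (q : G) := by
        have hcj : (b : G) * q * (b : G)⁻¹ = q ∨ (b : G) * q * (b : G)⁻¹ = z * q :=
          hd'.imp (fun e' => by rw [mul_inv_eq_one] at e'; exact e') (fun e' => by rw [← e']; group)
        refine mul_inv_eq_iff_eq_mul.mp ?_
        calc (b : G) ^ 2 * q * ((b : G) ^ 2)⁻¹ = b * ((b : G) * q * (b : G)⁻¹) * (b : G)⁻¹ := by rw [pow_two]; group
          _ = q := by
            rcases hcj with e' | e' <;> rw [e']
            · exact e'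
            · rw [show (b : G) * (z * q) * (b : G)⁻¹ = (b : G) * z * (b : G)⁻¹ * ((b : G) * q * (b : G)⁻¹) by group, e',
                conj_fix_iff.mpr hbz, ← mul_assoc, h.zz, one_mul]
      have h4 : Commute ((b : G) ^ 4) (q : G) := by
        rw [show (4 : ℕ) = 2 * 2 from rfl, pow_mul]; exact h2.pow_left 2
      exact hone (h.five_fix (Commute.pow_left hbz 4) ho hnQ hq h4.eq))
    (a := π aC) (w := π wC) (e := π eC)
    (by rw [← map_mul]; exact hone (Or.inl ha)) (by rw [← map_mul]; exact hone (Or.inl hw))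
    (by rw [← map_pow]; exact hone (Or.inl (by rw [SubmonoidClass.coe_pow]; exact he)))
    (by rw [← map_mul, ← map_pow]; exact hone (Or.inl (by rw [SubmonoidClass.coe_pow]; exact hea)))
    (by rw [← map_mul, ← map_mul, ← map_inv]; exact congrArg π (Subtype.ext hwe))
    (by rw [hπ, hp, hp, hp]; exact hP)
  rw [← map_mul, ← map_pow] at key
  have := (hzmem _).mp ((QuotientGroup.eq_one_iff _).mp key)
  simpa using this

end JT

/-- The braid relation. -/
theorem CycleData.exists_relation (h : JT z Q pm) (hone : OneClass G) {A : Subgroup G} {a e f u v : G}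
    (D : CycleData A a e f u v) :
    ∃ a' w : G, Cyc A (e * f) a' ∧ u * a' = a' * u ∧ w * w = 1 ∧ w ∉ A ∧ w * (e * f) * w⁻¹ = (e * f)⁻¹ ∧
      w * u = u * w ∧ (a' * w) ^ 3 = 1 := by
  have C := D.cyc
  have hui : u⁻¹ = u := inv_eq_of_mul_eq_one_right D.uu
  have hvi : v⁻¹ = v := inv_eq_of_mul_eq_one_right D.vv
  have hu1 : u ≠ 1 := fun e1 => D.u_not (e1 ▸ one_mem _)
  obtain ⟨Qu, pu, hU⟩ := h.atInv hone D.uu hu1
  have hez : e * u = u * e := D.ue.symm
  have haz : a * u = u * a := D.ua.symm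
  have he3 : e ^ 3 = 1 := D.eo ▸ pow_orderOf_eq_one e
  have pe : IsRot 3 (pu e) := hU.pm_rot hez (Or.inl rfl) D.eo
  -- conjugates of `a` by `e`
  set b := e * a * e⁻¹ with hb
  have hbA : b ∈ A := D.nor_e a C.mem
  have hbz : b * u = u * b := Commute.mul_left (Commute.mul_left hez haz) (Commute.inv_left hez)
  have hea : (e * a) ^ 3 = 1 := by
    set c := e * b * e⁻¹ with hc
    have hcA : c ∈ A := D.nor_e b hbA
    have heee : e * c * e⁻¹ = a := by
      rw [hc, hb, show e * (e * (e * a * e⁻¹) * e⁻¹) * e⁻¹ = e ^ 3 * a * (e ^ 3)⁻¹ by rw [pow_succ, pow_two]; group, he3]; group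
    have e1 : (e * a) ^ 3 = b * c * a := by
      calc (e * a) ^ 3 = (e * a * e⁻¹) * (e * (e * a * e⁻¹) * e⁻¹) * e ^ 3 * a := by
            simp only [pow_succ, pow_zero, one_mul]; group
        _ = b * c * a := by rw [he3, mul_one]
    rw [e1]
    refine D.fix_e _ (mul_mem (mul_mem hbA hcA) C.mem) (mul_inv_eq_iff_eq_mul.mp ?_)
    rw [show e * (b * c * a) * e⁻¹ = (e * b * e⁻¹) * (e * c * e⁻¹) * (e * a * e⁻¹) by group, ← hc, heee, ← hb,
      C.comm (mul_mem hcA C.mem) hbA, ← mul_assoc]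
  have haQ : a ∉ Qu := by
    intro hq
    have hS : a ∈ hU.S := ⟨hq, C.sq a C.mem, C.ne, fun e1 => D.u_not (e1 ▸ C.mem)⟩
    rcases hU.ea hS (hU.nor_mem hez hq) (C.sq b hbA) (C.comm hbA C.mem) with e1 | e1 | e1 | e1
    · exact C.ne (conj_eq_one_iff.mp e1)
    · exact D.u_not (e1 ▸ hbA)
    · exact C.ne (D.fix_e a C.mem (mul_inv_eq_iff_eq_mul.mp e1))
    · refine D.u_not ?_
      have := mul_mem hbA C.mem
      rwa [hb, e1, mul_assoc, C.sq a C.mem, mul_one] at this
  have hvQ : pu v ≠ 1 := by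
    intro e1
    have hinv : v * e * v = e⁻¹ := by
      have := D.ve
      rwa [Inverts, hvi] at this
    have e2 : pu (v * e * v) = pu e := by
      rw [hU.pm_mul _ _ (Commute.mul_left D.vu hez) D.vu, hU.pm_mul _ _ D.vu hez, e1, one_mul, mul_one]
    rw [hinv, hU.pm_inv hez] at e2
    refine pe.2.2 ?_
    have h3 := pe.2.1
    have h2 : pu e * pu e = 1 := mul_eq_one_iff_eq_inv.mpr e2.symm
    rwa [pow_succ, pow_two, h2, one_mul] at h3
  have pa : IsInv5 (pu a) := hU.pm_T ⟨haz, C.sq a C.mem, haQ⟩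
  have pv : IsInv5 (pu v) := ⟨hU.pm_sign _ D.vu, by rw [← hU.pm_mul _ _ D.vu D.vu, D.vv, hU.pm_one], hvQ⟩
  have hve : v * e * v = e⁻¹ := by
    have := D.ve
    rwa [Inverts, hvi] at this
  obtain ⟨j, i, hP⟩ := pattern_exists pa pe
    (by rw [← hU.pm_mul _ _ hez haz, ← hU.pm_pow (Commute.mul_left hez haz), hea, hU.pm_one])
    (by
      have := congrArg pu (C.comm C.mem hbA)
      rwa [hU.pm_mul _ _ haz hbz, hU.pm_mul _ _ hbz haz, hb, hU.pm_conj hez haz] at this)
    pv (by rw [← hU.pm_inv hez, ← hve, hU.pm_mul _ _ (Commute.mul_left D.vu hez) D.vu,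
      hU.pm_mul _ _ D.vu hez])
  have hej : ∀ n : ℕ, e ^ n * u = u * e ^ n := fun n => (Commute.pow_left hez n).eq
  set a' := e ^ (j : ℕ) * a * (e ^ (j : ℕ))⁻¹ with ha'
  set V := v * e ^ (i : ℕ) with hV
  set W := u * V with hW
  have ha's : a' = s (e * f) a (10 * (j : ℕ)) := by
    have : (e * f) ^ (10 * (j : ℕ)) = e ^ (j : ℕ) := by
      rw [(show Commute e f from D.ef).mul_pow, show f ^ (10 * (j : ℕ)) = 1 by
        rw [show 10 * (j : ℕ) = 5 * (2 * j) by ring, pow_mul, show (5 : ℕ) = orderOf f from D.fo.symm, pow_orderOf_eq_one,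
          one_pow], mul_one, show 10 * (j : ℕ) = 3 * (3 * j) + j by ring, pow_add, pow_mul, he3, one_pow, one_mul]
    rw [ha', Singer.s, this]
  have C' : Cyc A (e * f) a' := ha's ▸ C.rebase _
  have ha'z : a' * u = u * a' :=
    Commute.mul_left (Commute.mul_left (hej _) haz) (Commute.inv_left (hej _))
  have hVu : V * u = u * V := Commute.mul_left D.vu (hej _)
  have hWu : W * u = u * W := Commute.mul_left (Commute.refl u) hVu
  have hVV : V * V = 1 := by
    calc V * V = (v * e ^ (i : ℕ) * v⁻¹) * e ^ (i : ℕ) := by rw [hvi, hV]; group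
      _ = 1 := by
        rw [show v * e ^ (i : ℕ) * v⁻¹ = (e ^ (i : ℕ))⁻¹ from inverts_pow D.ve _, inv_mul_cancel]
  have hWW : W * W = 1 := by
    rw [hW, show u * V * (u * V) = u * (V * u) * V by group, hVu, ← mul_assoc u u V, D.uu, one_mul, hVV]
  have hVf : V * f = f * V := Commute.mul_left D.vf (Commute.pow_left D.ef _)
  have hVe : V * e * V⁻¹ = e⁻¹ := by
    rw [hV, show v * e ^ (i : ℕ) * e * (v * e ^ (i : ℕ))⁻¹ = v * (e ^ (i : ℕ) * e * (e ^ (i : ℕ))⁻¹) * v⁻¹ by group,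
      conj_fix_iff.mpr (Commute.pow_self e _).eq]
    exact D.ve
  have hWe : W * e * W⁻¹ = e⁻¹ := by
    rw [hW, show u * V * e * (u * V)⁻¹ = u * (V * e * V⁻¹) * u⁻¹ by group, hVe,
      conj_fix_iff.mpr (Commute.inv_right D.ue).eq]
  have hWf : W * f * W⁻¹ = f⁻¹ := by
    rw [hW, show u * V * f * (u * V)⁻¹ = u * (V * f * V⁻¹) * u⁻¹ by group, conj_fix_iff.mpr hVf]
    exact D.uf
  have hWi : W⁻¹ = W := inv_eq_of_mul_eq_one_right hWW
  have ha'e : (e * a') ^ 3 = 1 := by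
    have hc : e ^ (j : ℕ) * e = e * e ^ (j : ℕ) := (Commute.pow_self e _).eq
    rw [show e * a' = e ^ (j : ℕ) * (e * a) * (e ^ (j : ℕ))⁻¹ by rw [ha', ← mul_assoc (e ^ (j : ℕ)) e a, hc]; group,
      conj_pow, hea, mul_one, mul_inv_cancel]
  have hpW : pu W = pu v * pu e ^ (i : ℕ) := by
    rw [hW, hU.pm_mul _ _ rfl hVu, hU.pm_z, one_mul, hV, hU.pm_mul _ _ D.vu (hej _), hU.pm_pow hez]
  have hpa : pu a' = pu e ^ (j : ℕ) * pu a * (pu e ^ (j : ℕ))⁻¹ := by
    rw [ha', hU.pm_conj (hej _) haz, hU.pm_pow hez]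
  have hWA : W ∉ A := fun hW' => by
    have h1 : e * (W * e * W⁻¹) * e⁻¹ * W * (e * W * e⁻¹)⁻¹ = e⁻¹ * W * (e * W * e⁻¹)⁻¹ := by
      rw [hWe]; group
    have h2 : e * W * e⁻¹ * W ∈ A := mul_mem (D.nor_e W hW') hW'
    have h3 : e * W * e⁻¹ * W = e * e := by
      calc e * W * e⁻¹ * W = e * (W * e⁻¹ * W⁻¹) := by rw [hWi]; group
        _ = e * (W * e * W⁻¹)⁻¹ := by group
        _ = e * e := by rw [hWe, inv_inv]
    have h4 := C.sq _ (h3 ▸ h2)
    have : orderOf e ∣ 4 := orderOf_dvd_of_pow_eq_one (by rw [← h4]; simp only [pow_succ, pow_zero, one_mul, mul_assoc])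
    rw [D.eo] at this
    norm_num at this
  rcases hU.lift_relation ha'z hWu hez (C'.sq _ C'.mem) hWW he3 ha'e (by rw [← hWe, hWi])
      (by rw [hpW, hpa]; exact hP) with hx | hx
  · refine ⟨a', W, C', ha'z.symm, hWW, hWA, ?_, hWu, hx⟩
    rw [show W * (e * f) * W⁻¹ = (W * e * W⁻¹) * (W * f * W⁻¹) by group, hWe, hWf, ← mul_inv_rev,
      show f * e = e * f from D.ef.symm]
  · exfalso
    have hcu : Commute u (a' * V) := Commute.mul_right ha'z.symm hVu.symm
    have hV3 : (a' * V) ^ 3 = 1 := by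
      have e1 : a' * W = u * (a' * V) := by rw [hW, ← mul_assoc, ha'z, mul_assoc]
      rw [e1, hcu.mul_pow, pow_succ u, pow_two u, D.uu, one_mul] at hx
      exact mul_eq_left.mp hx
    have ha'i : a'⁻¹ = a' := inv_eq_of_mul_eq_one_right (C'.sq _ C'.mem)
    have hVi : V⁻¹ = V := inv_eq_of_mul_eq_one_right hVV
    have hbr : V * a' * V = a' * V * a' := by
      calc V * a' * V = a'⁻¹ * (a' * V) ^ 3 * (V⁻¹ * a'⁻¹) * (a' * V * (V⁻¹ * a'⁻¹)) := by
            rw [pow_succ, pow_two]; group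
        _ = a' * V * a' := by rw [hV3, ha'i, hVi, mul_one, show a' * V * (V * a') = a' * (V * V) * a' by group, hVV,
              mul_one, C'.sq _ C'.mem, mul_one, ← mul_assoc]
    set t : ℕ → G := fun k => f ^ k * a' * (f ^ k)⁻¹ with ht
    have htA : ∀ k, t k ∈ A := fun k => by
      induction k with
      | zero => simpa [ht] using C'.mem
      | succ k ih =>
        have := D.nor_f _ ih
        rwa [show f * t k * f⁻¹ = t (k + 1) by simp only [ht]; group] at this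
    have htb : ∀ k, V * t k * V = t k * V * t k := fun k => by
      have hc : V * f ^ k = f ^ k * V := (Commute.pow_right hVf k).eq
      have hc' : (f ^ k)⁻¹ * V = V * (f ^ k)⁻¹ := ((show Commute V (f ^ k) from hc).inv_right).symm.eq
      calc V * t k * V = (V * f ^ k) * a' * ((f ^ k)⁻¹ * V) := by simp only [ht]; group
        _ = f ^ k * (V * a' * V) * (f ^ k)⁻¹ := by rw [hc, hc']; group
        _ = f ^ k * a' * V * ((f ^ k)⁻¹ * f ^ k) * a' * (f ^ k)⁻¹ := by rw [hbr]; group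
        _ = f ^ k * a' * (V * (f ^ k)⁻¹) * f ^ k * a' * (f ^ k)⁻¹ := by group
        _ = t k * V * t k := by rw [← hc']; simp only [ht]; group
    have hprod : t 0 * t 1 * t 2 * (t 3 * t 4) = 1 := by
      refine D.fix_f _ (mul_mem (mul_mem (mul_mem (htA 0) (htA 1)) (htA 2)) (mul_mem (htA 3) (htA 4)))
        (mul_inv_eq_iff_eq_mul.mp ?_)
      have hstep : ∀ k, f * t k * f⁻¹ = t (k + 1) := fun k => by simp only [ht]; group
      have h50 : t 5 = t 0 := by
        simp only [ht, show f ^ 5 = 1 from D.fo ▸ pow_orderOf_eq_one f]; simp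
      rw [show f * (t 0 * t 1 * t 2 * (t 3 * t 4)) * f⁻¹ =
        (f * t 0 * f⁻¹) * (f * t 1 * f⁻¹) * (f * t 2 * f⁻¹) * ((f * t 3 * f⁻¹) * (f * t 4 * f⁻¹)) by group,
        hstep, hstep, hstep, hstep, hstep, h50]
      show t 1 * t 2 * t 3 * (t 4 * t 0) = _
      calc t 1 * t 2 * t 3 * (t 4 * t 0) = (t 1 * t 2 * t 3 * t 4) * t 0 := by group
        _ = t 0 * (t 1 * t 2 * t 3 * t 4) :=
          C'.comm (mul_mem (mul_mem (mul_mem (htA 1) (htA 2)) (htA 3)) (htA 4)) (htA 0)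
        _ = t 0 * t 1 * t 2 * (t 3 * t 4) := by group
    have hne : t 3 ≠ t 4 := fun e1 => by
      refine C.ne ?_
      have hfa : f * t 3 = t 3 * f := by
        refine mul_inv_eq_iff_eq_mul.mp ?_
        rw [show f * t 3 * f⁻¹ = t 4 by simp only [ht]; group]; exact e1.symm
      have := D.fix_f _ (htA 3) hfa
      exact conj_eq_one_iff.mp (show e ^ (j : ℕ) * a * (e ^ (j : ℕ))⁻¹ = 1 from conj_eq_one_iff.mp this)
    have habc : t 0 * t 1 * t 2 = t 3 * t 4 := by
      rw [eq_inv_of_mul_eq_one_left hprod]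
      exact inv_eq_of_mul_eq_one_right (C'.sq _ (mul_mem (htA 3) (htA 4)))
    exact Braid.no_braid hVV (C'.sq _ (htA 0)) (C'.sq _ (htA 1)) (C'.sq _ (htA 2)) (C'.sq _ (htA 3)) (C'.sq _ (htA 4))
      (C'.comm (htA 0) (htA 1)) (C'.comm (htA 0) (htA 2)) (C'.comm (htA 1) (htA 2)) (C'.comm (htA 3) (htA 4))
      (htb 0) (htb 1) (htb 2) (htb 3) (htb 4) habc hne

end CfsgLib.J3Type
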