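import Cfsg.Agent.Lib.J3Type.SylowThree
import Mathlib.RingTheory.ZMod.UnitsCyclic

/-!
Groups of `J₃` type: the normalizers of the Sylow subgroups of orders seventeen and nineteen.
-/

set_option autoImplicit false
set_option linter.unusedSectionVars false
set_option maxHeartbeats 800000

namespace CfsgLib.J3Type

open Cfsg CfsgLargeExtra Equiv
open CfsgLib.HallJankoType (orb mem_cent conj_fix_iff ncard_orb orderOf_conj')

universe u

variable {G : Type u} [Group G] [Finite G] {z : G} {Q : Subgroup G} {pm : G → Perm (Fin 5)}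

/-- The centralizer of a subgroup of prime order is the centralizer of any of its nontrivial elements. -/
theorem cent_of_prime {p : ℕ} [hp : Fact p.Prime] {X : Subgroup G} (hX : Nat.card ↥X = p) {x : G} (hx : x ∈ X)
    (hx1 : x ≠ 1) : Subgroup.centralizer (X : Set G) = Subgroup.centralizer ({x} : Set G) := by
  refine le_antisymm (Subgroup.centralizer_le (Set.singleton_subset_iff.mpr hx)) fun b hb => ?_
  have hd : orderOf x ∣ p := hX ▸ Subgroup.orderOf_dvd_natCard X hx
  have hgen : Subgroup.zpowers x = X := Subgroup.eq_of_le_of_card_ge (Subgroup.zpowers_le.mpr hx) (le_of_eq (by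
    rw [hX, Nat.card_zpowers, (hp.out.eq_one_or_self_of_dvd _ hd).resolve_left (mt orderOf_eq_one_iff.mp hx1)]))
  refine Subgroup.mem_centralizer_iff.mpr fun a ha => ?_
  rw [← hgen] at ha
  exact (comm_mem_zpowers (mem_cent.mp hb) ha).symm

/-- The order of the normalizer of a subgroup of prime order. -/
theorem normalizer_card {p : ℕ} [hp : Fact p.Prime] {X : Subgroup G} (hX : Nat.card ↥X = p) :
    ∃ k : ℕ, k ∣ p - 1 ∧
      Nat.card ↥(Subgroup.normalizer (X : Set G)) = Nat.card ↥(Subgroup.centralizer (X : Set G)) * k := by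
  haveI : IsCyclic ↥X := isCyclic_of_prime_card hX
  refine ⟨Nat.card ↥X.normalizerMonoidHom.range, ?_, ?_⟩
  · have := Subgroup.card_subgroup_dvd_card X.normalizerMonoidHom.range
    rwa [IsCyclic.card_mulAut, hX, Nat.totient_prime hp.out] at this
  · rw [← Subgroup.index_ker, Subgroup.normalizerMonoidHom_ker,
      ← Nat.card_congr (Subgroup.subgroupOfEquivOfLe (Subgroup.centralizer_le_normalizer (X : Set G))).toEquiv]
    exact (Subgroup.card_mul_index _).symm

/-- A self-centralizing subgroup of prime order has cyclic normalizer quotient. -/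
theorem selfCent_quotient {p : ℕ} [hp : Fact p.Prime] (hp2 : p ≠ 2) {X : Subgroup G} (hX : Nat.card ↥X = p)
    (hc : Subgroup.centralizer (X : Set G) = X) {k : ℕ}
    (hN : Nat.card ↥(Subgroup.normalizer (X : Set G)) = p * k) :
    IsCyclic (↥(Subgroup.normalizer (X : Set G)) ⧸ X.subgroupOf (Subgroup.normalizer (X : Set G))) ∧
      Nat.card (↥(Subgroup.normalizer (X : Set G)) ⧸ X.subgroupOf (Subgroup.normalizer (X : Set G))) = k := by
  haveI : IsCyclic ↥X := isCyclic_of_prime_card hX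
  have hU : IsCyclic (ZMod (Nat.card ↥X))ˣ := by
    rw [hX, ← pow_one p]
    exact ZMod.isCyclic_units_of_prime_pow p hp.out hp2 1
  haveI : IsCyclic (MulAut ↥X) :=
    isCyclic_of_surjective (IsCyclic.mulAutMulEquiv ↥X).symm (IsCyclic.mulAutMulEquiv ↥X).symm.surjective
  have hker : X.normalizerMonoidHom.ker = X.subgroupOf (Subgroup.normalizer (X : Set G)) := by
    rw [Subgroup.normalizerMonoidHom_ker, hc]
  let e := (QuotientGroup.quotientMulEquivOfEq hker.symm).trans
    (QuotientGroup.quotientKerEquivRange X.normalizerMonoidHom)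
  refine ⟨isCyclic_of_surjective e.symm e.symm.surjective, ?_⟩
  have h1 := Subgroup.card_mul_index (X.subgroupOf (Subgroup.normalizer (X : Set G)))
  rw [Nat.card_congr (Subgroup.subgroupOfEquivOfLe (Subgroup.le_normalizer (H := X))).toEquiv, hX, hN] at h1
  exact Nat.eq_of_mul_eq_mul_left hp.out.pos h1

namespace SixType

variable (hs : SixType G) (h : JT z Q pm) (hone : OneClass G)
include hs h hone

theorem sylow_prime_card {p : ℕ} [hp : Fact p.Prime] (h1 : p ∣ 50232960) (h2 : ¬ p ^ 2 ∣ 50232960) (P : Sylow p G) :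
    Nat.card ↥(P : Subgroup G) = p := by
  obtain ⟨k, hk⟩ := IsPGroup.iff_card.mp P.2
  have hd : p ^ k ∣ 50232960 := hk ▸ hs.card_G h hone ▸ Subgroup.card_subgroup_dvd_card (P : Subgroup G)
  have hd1 : p ^ 1 ∣ Nat.card ↥(P : Subgroup G) :=
    P.pow_dvd_card_of_pow_dvd_card (by rw [hs.card_G h hone, pow_one]; exact h1)
  rw [hk] at hd1 ⊢
  have h1k : 1 ≤ k := (Nat.pow_dvd_pow_iff_le_right hp.out.one_lt).mp hd1
  have hk1 : k < 2 := by
    by_contra hle
    exact h2 ((pow_dvd_pow p (show 2 ≤ k by omega)).trans hd)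
  rw [show k = 1 by omega, pow_one]

theorem normalizer_index_mod {p : ℕ} [Fact p.Prime] (P : Sylow p G) :
    50232960 / Nat.card ↥(Subgroup.normalizer ((P : Subgroup G) : Set G)) % p = 1 % p := by
  have h1 := card_sylow_modEq_one p G
  rw [P.card_eq_index_normalizer] at h1
  rw [← hs.card_G h hone, ← Subgroup.card_mul_index (Subgroup.normalizer ((P : Subgroup G) : Set G)),
    Nat.mul_div_cancel_left _ Nat.card_pos]
  exact h1

/-- The centralizer of an element of order seventeen has order seventeen. -/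
theorem seventeen_cent {w : G} (hw : orderOf w = 17) : Nat.card ↥(Subgroup.centralizer ({w} : Set G)) = 17 := by
  haveI : Fact (Nat.Prime 17) := ⟨by norm_num⟩
  obtain ⟨y, hy⟩ : (pureF z).Nonempty :=
    Set.nonempty_of_ncard_ne_zero (by rw [hs.pure_eq h hone]; norm_num)
  have hY := (hs.pure_data h hone hy).1
  have hA := h.pure_selfCent hy
  obtain ⟨S, hS⟩ := hA.sylow_le (q := 17) (by rw [hY])
  obtain ⟨T, hT⟩ := (IsPGroup.of_card (p := 17) (G := ↥(Subgroup.zpowers w)) (n := 1)
    (by rw [Nat.card_zpowers, hw, pow_one])).exists_le_sylow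
  obtain ⟨g, hg⟩ := MulAction.exists_smul_eq G T S
  have hm : g * w * g⁻¹ ∈ Subgroup.centralizer ({y} : Set G) := by
    refine hS ?_
    rw [← hg, Sylow.coe_subgroup_smul]
    exact Subgroup.smul_mem_pointwise_smul _ _ _ (hT (Subgroup.mem_zpowers w))
  have hw1 : g * w * g⁻¹ ≠ 1 := fun e => by
    have : w = 1 := conj_eq_one_iff.mp e
    rw [this, orderOf_one] at hw
    omega
  rw [← card_cent_conj g w, hA _ hm hw1, hY]

/-- The Sylow seventeen-subgroups. -/
theorem seventeen (Y : Sylow 17 G) : Subgroup.centralizer ((Y : Subgroup G) : Set G) = Y ∧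
    Nat.card ↥(Y : Subgroup G) = 17 ∧ Nat.card ↥(Subgroup.normalizer ((Y : Subgroup G) : Set G)) = 17 * 8 := by
  haveI : Fact (Nat.Prime 17) := ⟨by norm_num⟩
  have hY := hs.sylow_prime_card h hone (p := 17) (by norm_num) (by norm_num) Y
  obtain ⟨⟨w, hwY⟩, hwo⟩ := exists_prime_orderOf_dvd_card' (G := ↥(Y : Subgroup G)) 17 (by rw [hY])
  rw [Subgroup.orderOf_mk] at hwo
  have hw1 : w ≠ 1 := fun e => by rw [e, orderOf_one] at hwo; omega
  have hcC := hs.seventeen_cent h hone hwo
  have hC := cent_of_prime hY hwY hw1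
  have hle : (Y : Subgroup G) ≤ Subgroup.centralizer ((Y : Subgroup G) : Set G) := by
    rw [hC]
    refine fun b hb => mem_cent.mpr ?_
    haveI : IsCyclic ↥(Y : Subgroup G) := isCyclic_of_prime_card hY
    exact congrArg Subtype.val (IsCyclic.commGroup.mul_comm (⟨b, hb⟩ : ↥(Y : Subgroup G)) ⟨w, hwY⟩)
  have heq : Subgroup.centralizer ((Y : Subgroup G) : Set G) = Y :=
    (Subgroup.eq_of_le_of_card_ge hle (by rw [hY, hC, hcC])).symm
  refine ⟨heq, hY, ?_⟩
  obtain ⟨k, hk, hN⟩ := normalizer_card hY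
  rw [heq, hY] at hN
  have hmod := hs.normalizer_index_mod h hone Y
  rw [hN, ← Nat.div_div_eq_div_mul] at hmod
  have key : ∀ k ∈ Nat.divisors 16, 50232960 / 17 / k % 17 = 1 % 17 → k = 8 := by decide +kernel
  rw [hN, key k (Nat.mem_divisors.mpr ⟨hk, by norm_num⟩) hmod]

/-- An element of order five commutes with no element of order nineteen. -/
theorem five_comm {f b : G} (hf : orderOf f = 5) (hb : Odd (orderOf b)) (hc : b * f = f * b) :
    orderOf b ∣ 15 ∧ (orderOf b = 3 → IsInvCent 3 b) := by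
  have hI := hs.five_invCent h hone hf
  obtain ⟨O, e, heo, heD, hef, ho15, hgen, -, -, hmem, -⟩ := hs.five_group h hone hI
  have hbO := hmem b hc hb
  refine ⟨?_, fun hb3 => ?_⟩
  · rw [← ho15, ← Nat.card_zpowers (e * f), ← hgen]
    exact Subgroup.orderOf_dvd_natCard O hbO
  · obtain ⟨m, hm⟩ := (isOfFinOrder_of_finite (e * f)).mem_powers_iff_mem_zpowers.mpr (hgen ▸ hbO)
    have hm' : (e * f) ^ m = b := hm
    have h15 : 15 ∣ m * 3 := ho15 ▸ orderOf_dvd_of_pow_eq_one (by rw [pow_mul, hm', ← hb3, pow_orderOf_eq_one])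
    obtain ⟨r, hr⟩ : 5 ∣ m := by omega
    have hfm : f ^ m = 1 := by rw [hr, pow_mul, ← hf, pow_orderOf_eq_one, one_pow]
    rw [(show Commute e f from hef).mul_pow, hfm, mul_one] at hm'
    rw [← hm']
    exact heD.pow Nat.prime_three (fun e1 => by rw [← hm', e1, orderOf_one] at hb3; omega)

/-- A group with no elements of orders two, five and seventeen has order dividing `3^5 * 19`. -/
theorem card_dvd_of_no {K : Subgroup G} (h2 : ∀ a ∈ K, orderOf a ≠ 2) (h5 : ∀ a ∈ K, orderOf a ≠ 5)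
    (h17 : ∀ a ∈ K, orderOf a ≠ 17) : Nat.card ↥K ∣ 4617 := by
  have key : ∀ p : ℕ, p.Prime → (∀ a ∈ K, orderOf a ≠ p) → Nat.Coprime p (Nat.card ↥K) := fun p hp hne => by
    haveI : Fact p.Prime := ⟨hp⟩
    refine hp.coprime_iff_not_dvd.mpr fun hd => ?_
    obtain ⟨⟨a, ha⟩, hao⟩ := exists_prime_orderOf_dvd_card' (G := ↥K) p hd
    rw [Subgroup.orderOf_mk] at hao
    exact hne a ha hao
  have hco : Nat.Coprime (Nat.card ↥K) (2 ^ 7 * 5 * 17) :=
    ((((key 2 Nat.prime_two h2).symm.pow_right 7).mul_right (key 5 Nat.prime_five h5).symm)).mul_right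
      (key 17 (by norm_num) h17).symm
  exact (Nat.Coprime.dvd_mul_left hco).mp
    (show Nat.card ↥K ∣ 2 ^ 7 * 5 * 17 * 4617 by
      rw [show (2 ^ 7 * 5 * 17 * 4617 : ℕ) = 50232960 by norm_num, ← hs.card_G h hone]
      exact Subgroup.card_subgroup_dvd_card K)

/-- No element of order nineteen is inverted by an involution. -/
theorem nineteen_not_inverted {y : G} (hy : orderOf y = 19) (hz : Inverts z y) : False := by
  have hy1 : y ≠ 1 := fun e => by rw [e, orderOf_one] at hy; omega
  have hyY : y ∈ oddInverted z := ⟨hy1, by rw [hy]; decide, hz⟩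
  by_cases hf : Nat.card ↥(CC y z) = 1
  swap
  · by_cases hi : InvY z y
    · rcases h.invY_order hone hyY hi with e | e
      · have := e.1; omega
      · have := e.1; omega
    · obtain ⟨_, _, _, _, -, -, -, -, -, -, -, -, -, h9⟩ :=
        hs.clsE_data h hone (hs.clsE_of_nonfree h hone ⟨hyY, hf⟩ hi)
      have := orderOf_dvd_of_pow_eq_one h9
      rw [hy] at this
      norm_num at this
  have hyf : y ∈ free z := ⟨hyY, hf⟩
  by_cases hp : ∀ a, a * y = y * a → a ≠ 1 → a ∈ free z
  · have hd := Subgroup.orderOf_dvd_natCard _ (mem_cent.mpr rfl : y ∈ Subgroup.centralizer ({y} : Set G))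
    rw [(hs.pure_data h hone ⟨hyf, hp⟩).1, hy] at hd
    norm_num at hd
  push Not at hp
  obtain ⟨a, hay, ha1, hna⟩ := hp
  have haY := h.free_cent_mem hyf hay ha1
  have hnf : a ∈ nonfree z := ⟨haY, fun e => hna ⟨haY, e⟩⟩
  have two : ∀ b ∈ cls z 2, b * y = y * b → False := fun b hb hby => by
    obtain ⟨g, hgo, -, -, -, hset, -⟩ := hs.two_free h hone hb
    have hm : y ∈ {y | y ∈ free z ∧ y * b = b * y} := ⟨hyf, hby.symm⟩
    rw [hset] at hm
    have := hm.2
    omega
  by_cases hi : InvY z a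
  · rcases hs.vals h hone haY hi with ⟨-, e⟩ | ⟨-, e | e⟩
    · obtain ⟨b, hby, hb⟩ := hs.ten_free h hone ⟨haY, hi, e⟩ hyf hay.symm
      exact two b hb hby
    · exact two a ⟨haY, hi, e⟩ hay
    · exact hs.six_no_free h hone ⟨haY, hi, e⟩ hyf hay.symm
  · have hd := Subgroup.orderOf_dvd_natCard _ (mem_cent.mpr hay.symm : y ∈ Subgroup.centralizer ({a} : Set G))
    rw [(hs.clsE_struct h hone (hs.clsE_of_nonfree h hone hnf hi)).1, hy] at hd
    norm_num at hd

/-- The normalizer of a subgroup of order nineteen. -/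
theorem nineteen_normalizer (X : Sylow 19 G) :
    Nat.card ↥(Subgroup.normalizer ((X : Subgroup G) : Set G)) = 19 * 9 := by
  haveI : Fact (Nat.Prime 19) := ⟨by norm_num⟩
  haveI : Fact (Nat.Prime 2) := ⟨Nat.prime_two⟩
  have hX := hs.sylow_prime_card h hone (p := 19) (by norm_num) (by norm_num) X
  obtain ⟨⟨x, hxX⟩, hxo⟩ := exists_prime_orderOf_dvd_card' (G := ↥(X : Subgroup G)) 19 (by rw [hX])
  rw [Subgroup.orderOf_mk] at hxo
  have hx1 : x ≠ 1 := fun e => by rw [e, orderOf_one] at hxo; omega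
  have hxodd : Odd (orderOf x) := by rw [hxo]; decide
  set N := Subgroup.normalizer ((X : Subgroup G) : Set G) with hNdef
  obtain ⟨k, hk, hN⟩ := normalizer_card hX
  rw [cent_of_prime hX hxX hx1] at hN
  have hC2 : ∀ v ∈ Subgroup.centralizer ({x} : Set G), orderOf v ≠ 2 := fun v hv hvo => by
    obtain ⟨g, hg⟩ := isConj_iff.mp (hone v z hvo h.hz)
    have hm : g * x * g⁻¹ ∈ Subgroup.centralizer ({z} : Set G) := by
      rw [← hg]
      exact mem_cent.mpr (conj_comm (mem_cent.mp hv).symm)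
    have hd := Subgroup.orderOf_dvd_natCard _ hm
    rw [h.card_C, orderOf_conj', hxo] at hd
    norm_num at hd
  have hC : Nat.card ↥(Subgroup.centralizer ({x} : Set G)) ∣ 4617 := by
    refine hs.card_dvd_of_no h hone hC2 (fun f hf hfo => ?_) fun w hw hwo => ?_
    · have := (hs.five_comm h hone hfo hxodd (mem_cent.mp hf).symm).1
      rw [hxo] at this
      norm_num at this
    · have hd := Subgroup.orderOf_dvd_natCard _
        (mem_cent.mpr (mem_cent.mp hw).symm : x ∈ Subgroup.centralizer ({w} : Set G))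
      rw [hs.seventeen_cent h hone hwo, hxo] at hd
      norm_num at hd
  -- an involution of the normalizer would centralize or invert an element of order nineteen
  have hN2 : Nat.Coprime 2 (Nat.card ↥N) := by
    refine Nat.prime_two.coprime_iff_not_dvd.mpr fun hd => ?_
    obtain ⟨⟨v, hv⟩, hvo⟩ := exists_prime_orderOf_dvd_card' (G := ↥N) 2 hd
    rw [Subgroup.orderOf_mk] at hvo
    have hvv : v * v = 1 := by rw [← pow_two, ← hvo, pow_orderOf_eq_one]
    set y := v * x * v⁻¹ * x⁻¹ with hy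
    have hm : v * x * v⁻¹ ∈ (X : Subgroup G) := (Subgroup.mem_normalizer_iff.mp hv x).mp hxX
    have hyX : y ∈ (X : Subgroup G) := Subgroup.mul_mem _ hm (Subgroup.inv_mem _ hxX)
    have hy1 : y ≠ 1 := fun e => hC2 v (mem_cent.mpr (conj_fix_iff.mp (mul_inv_eq_one.mp e))) hvo
    have hinv : Inverts v y := by
      show v * y * v⁻¹ = y⁻¹
      rw [hy, show v * (v * x * v⁻¹ * x⁻¹) * v⁻¹ = (v * v) * x * (v * v)⁻¹ * (v * x * v⁻¹)⁻¹ by group, hvv,
        one_mul, inv_one, mul_one]
      group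
    obtain ⟨g, hg⟩ := isConj_iff.mp (hone v z hvo h.hz)
    have hyo : orderOf y = 19 := (Nat.Prime.eq_one_or_self_of_dvd (by norm_num) _
      (hX ▸ Subgroup.orderOf_dvd_natCard _ hyX)).resolve_left fun e => hy1 (orderOf_eq_one_iff.mp e)
    refine hs.nineteen_not_inverted h hone (y := g * y * g⁻¹) (by rw [orderOf_conj', hyo]) ?_
    rw [← hg]
    exact inverts_conj hinv
  have hd : Nat.card ↥N ∣ 4617 := by
    have h9 : Nat.card ↥N ∣ 4617 * 9 := (Nat.Coprime.dvd_mul_left hN2.symm).mp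
      (show Nat.card ↥N ∣ 2 * (4617 * 9) by rw [hN]; exact (Nat.mul_dvd_mul hC hk).trans (by norm_num))
    have := Nat.dvd_gcd h9 (hs.card_G h hone ▸ Subgroup.card_subgroup_dvd_card N)
    rwa [show Nat.gcd (4617 * 9) 50232960 = 4617 by norm_num] at this
  obtain ⟨m, hm⟩ : 19 ∣ Nat.card ↥N := hX ▸ Subgroup.card_dvd_of_le Subgroup.le_normalizer
  have hm243 : m ∣ 243 := Nat.dvd_of_mul_dvd_mul_left (by norm_num) (show 19 * m ∣ 19 * 243 from hm ▸ hd)
  have hmod := hs.normalizer_index_mod h hone X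
  rw [← hNdef, hm, ← Nat.div_div_eq_div_mul] at hmod
  have key : ∀ m ∈ Nat.divisors 243, 50232960 / 19 / m % 19 = 1 % 19 → m = 9 := by decide +kernel
  rw [hm, key m (Nat.mem_divisors.mpr ⟨hm243, by norm_num⟩) hmod]

/-- No element of order three centralizes an element of order nineteen. -/
theorem three_nineteen {o x : G} (ho : orderOf o = 3) (hx : orderOf x = 19) (hc : x * o = o * x) : False := by
  haveI : Fact (Nat.Prime 19) := ⟨by norm_num⟩
  set C := Subgroup.centralizer ({o} : Set G) with hCdef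
  have hxC : x ∈ C := mem_cent.mpr hc
  have hnI : ¬ IsInvCent 3 o := fun hI => by
    obtain ⟨X, _, π, hX, hπ⟩ := hs o hI
    have hd := Subgroup.orderOf_dvd_natCard C hxC
    rw [hCdef, hπ.card_cent, ho, hX.card, hx] at hd
    norm_num at hd
  have hC : Nat.card ↥C ∣ 4617 := by
    refine hs.card_dvd_of_no h hone (fun v hv hvo => ?_) (fun f hf hfo => ?_) fun w hw hwo => ?_
    · exact hnI ⟨ho, v, by rw [← pow_two, ← hvo, pow_orderOf_eq_one],
        fun e => by rw [e, orderOf_one] at hvo; omega, mem_cent.mp hv⟩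
    · exact hnI ((hs.five_comm h hone hfo (by rw [ho]; decide) (mem_cent.mp hf).symm).2 ho)
    · have hd := Subgroup.orderOf_dvd_natCard _
        (mem_cent.mpr (mem_cent.mp hw).symm : o ∈ Subgroup.centralizer ({w} : Set G))
      rw [hs.seventeen_cent h hone hwo, ho] at hd
      norm_num at hd
  -- the subgroup of order nineteen is normal in the centralizer
  set T := Subgroup.zpowers (⟨x, hxC⟩ : ↥C) with hT
  have hTc : Nat.card ↥T = 19 := by rw [hT, Nat.card_zpowers, Subgroup.orderOf_mk, hx]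
  obtain ⟨S, hS⟩ := (IsPGroup.of_card (p := 19) (n := 1) (G := ↥T) (by rw [hTc, pow_one])).exists_le_sylow
  obtain ⟨X, hX⟩ := (S.2.map C.subtype).exists_le_sylow
  have hXc := hs.sylow_prime_card h hone (p := 19) (by norm_num) (by norm_num) X
  have hxX : x ∈ (X : Subgroup G) := hX ⟨⟨x, hxC⟩, hS (Subgroup.mem_zpowers _), rfl⟩
  have hSc : Nat.card ↥(S : Subgroup ↥C) = 19 := by
    refine le_antisymm ?_ ((le_of_eq hTc.symm).trans (Subgroup.card_le_of_le hS))
    exact (le_of_eq (Subgroup.card_map_of_injective C.subtype_injective).symm).trans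
      ((Subgroup.card_le_of_le hX).trans (le_of_eq hXc))
  have hXS : (S : Subgroup ↥C).map C.subtype = (X : Subgroup G) := Subgroup.eq_of_le_of_card_ge hX
    (by rw [hXc, Subgroup.card_map_of_injective C.subtype_injective, hSc])
  set NS := Subgroup.normalizer ((S : Subgroup ↥C) : Set ↥C) with hNS
  have hi : NS.index ∣ 243 := by
    have h19 : 19 ∣ Nat.card ↥NS := hSc ▸ Subgroup.card_dvd_of_le Subgroup.le_normalizer
    refine Nat.dvd_of_mul_dvd_mul_left (show 0 < 19 by norm_num) (Nat.dvd_trans ?_ hC)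
    rw [← Subgroup.card_mul_index NS]
    exact Nat.mul_dvd_mul_right h19 _
  have hone' : NS.index = 1 := by
    have h1 := card_sylow_modEq_one 19 ↥C
    rw [S.card_eq_index_normalizer] at h1
    have key : ∀ m ∈ Nat.divisors 243, m % 19 = 1 % 19 → m = 1 := by decide +kernel
    exact key _ (Nat.mem_divisors.mpr ⟨hi, by norm_num⟩) h1
  have hle : C ≤ Subgroup.normalizer ((X : Subgroup G) : Set G) := by
    intro a ha
    have hm : (⟨a, ha⟩ : ↥C) ∈ NS := (Subgroup.index_eq_one.mp hone').symm ▸ Subgroup.mem_top _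
    refine Subgroup.mem_normalizer_iff.mpr fun b => ?_
    rw [← hXS]
    constructor
    · rintro ⟨c, hcS, rfl⟩
      exact ⟨_, (Subgroup.mem_normalizer_iff.mp hm c).mp hcS, rfl⟩
    · rintro ⟨c, hcS, e⟩
      refine ⟨⟨a, ha⟩⁻¹ * c * ⟨a, ha⟩, ?_, ?_⟩
      · refine (Subgroup.mem_normalizer_iff.mp hm _).mpr ?_
        rwa [show (⟨a, ha⟩ : ↥C) * (⟨a, ha⟩⁻¹ * c * ⟨a, ha⟩) * (⟨a, ha⟩ : ↥C)⁻¹ = c by group]
      · have e' : (c : G) = a * b * a⁻¹ := e
        show a⁻¹ * (c : G) * a = b
        rw [e']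
        group
  have h27 := (hs.three_cent_dvd h hone ho).trans (Subgroup.card_dvd_of_le hle)
  rw [hs.nineteen_normalizer h hone X] at h27
  norm_num at h27

/-- The Sylow nineteen-subgroups are self-centralizing. -/
theorem nineteen (X : Sylow 19 G) : Subgroup.centralizer ((X : Subgroup G) : Set G) = X ∧
    Nat.card ↥(X : Subgroup G) = 19 ∧ Nat.card ↥(Subgroup.normalizer ((X : Subgroup G) : Set G)) = 19 * 9 := by
  haveI : Fact (Nat.Prime 19) := ⟨by norm_num⟩
  haveI : Fact (Nat.Prime 3) := ⟨Nat.prime_three⟩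
  have hN := hs.nineteen_normalizer h hone X
  have hX := hs.sylow_prime_card h hone (p := 19) (by norm_num) (by norm_num) X
  refine ⟨?_, hX, hN⟩
  obtain ⟨⟨x, hxX⟩, hxo⟩ := exists_prime_orderOf_dvd_card' (G := ↥(X : Subgroup G)) 19 (by rw [hX])
  rw [Subgroup.orderOf_mk] at hxo
  have hx1 : x ≠ 1 := fun e => by rw [e, orderOf_one] at hxo; omega
  have hCN : Nat.card ↥(Subgroup.centralizer ((X : Subgroup G) : Set G)) ∣ 19 * 9 :=
    hN ▸ Subgroup.card_dvd_of_le (Subgroup.centralizer_le_normalizer _)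
  have hco : Nat.Coprime (Nat.card ↥(Subgroup.centralizer ((X : Subgroup G) : Set G))) (3 ^ 2) := by
    refine Nat.Coprime.pow_right 2 (Nat.Coprime.symm (Nat.prime_three.coprime_iff_not_dvd.mpr fun hd => ?_))
    obtain ⟨⟨o, ho⟩, hoo⟩ := exists_prime_orderOf_dvd_card' (G := ↥(Subgroup.centralizer ((X : Subgroup G) : Set G))) 3 hd
    rw [Subgroup.orderOf_mk] at hoo
    exact hs.three_nineteen h hone hoo hxo (Subgroup.mem_centralizer_iff.mp ho x hxX)
  have h19 := Nat.le_of_dvd (by norm_num) ((Nat.Coprime.dvd_mul_right hco).mp (show _ ∣ 19 * 3 ^ 2 from hCN))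
  have hle : (X : Subgroup G) ≤ Subgroup.centralizer ((X : Subgroup G) : Set G) := by
    rw [cent_of_prime hX hxX hx1]
    refine fun b hb => mem_cent.mpr ?_
    haveI : IsCyclic ↥(X : Subgroup G) := isCyclic_of_prime_card hX
    exact congrArg Subtype.val (IsCyclic.commGroup.mul_comm (⟨b, hb⟩ : ↥(X : Subgroup G)) ⟨x, hxX⟩)
  exact (Subgroup.eq_of_le_of_card_ge hle (h19.trans (le_of_eq hX.symm))).symm

end SixType

end CfsgLib.J3Type
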