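import Cfsg.Agent.Lib.J3Type.SixteenNormal
import Cfsg.Agent.Lib.J3Type.SylowNormalizer
import Cfsg.Agent.Lib.J3Type.Singer

/-!
Groups of `J₃` type: a Singer cycle in the normalizer of an elementary abelian subgroup of order sixteen, with an
involution acting on it as a field automorphism and one centralizing the part of order five.
-/

set_option autoImplicit false
set_option linter.unusedSectionVars false
set_option maxRecDepth 100000

namespace CfsgLib.J3Type

open Cfsg CfsgLargeExtra Equiv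
open CfsgLib.HallJankoType (orb mem_cent conj_fix_iff ncard_orb orderOf_conj')
open Singer (Cyc s)

universe u

theorem exists_three_five {M : Type u} [Group M] [Finite M] (hM : Nat.card M = 2880) (P : Sylow 5 M)
    (hP : Subgroup.normalizer ((P : Subgroup M) : Set M) ≤ Subgroup.centralizer ((P : Subgroup M) : Set M)) :
    ∃ g d : M, orderOf g = 5 ∧ orderOf d = 3 ∧ d * g = g * d := by
  haveI : Fact (Nat.Prime 3) := ⟨Nat.prime_three⟩
  haveI : Fact (Nat.Prime 5) := ⟨Nat.prime_five⟩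
  have hP5 : Nat.card ↥(P : Subgroup M) = 5 := by
    rw [P.card_eq_multiplicity, hM, show (2880 : ℕ) = 5 * 576 by norm_num,
      Nat.factorization_mul (by norm_num) (by norm_num)]
    simp [Nat.Prime.factorization_self Nat.prime_five, Nat.factorization_eq_zero_of_not_dvd (show ¬ 5 ∣ 576 by norm_num)]
  set K := (MonoidHom.transferSylow P hP).ker with hK
  have hcompl := MonoidHom.ker_transferSylow_isComplement' P hP
  have hKc : Nat.card ↥K = 576 := by
    have := hcompl.card_mul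
    rw [hM, hP5] at this
    rw [hK]; omega
  obtain ⟨T⟩ : Nonempty (Sylow 3 ↥K) := inferInstance
  set D := (T : Subgroup ↥K).map K.subtype with hD
  have hD9 : Nat.card ↥D = 9 := by
    rw [hD, Subgroup.card_map_of_injective K.subtype_injective, T.card_eq_multiplicity, hKc,
      show (576 : ℕ) = 3 ^ 2 * 64 by norm_num, Nat.factorization_mul (by norm_num) (by norm_num),
      Nat.Prime.factorization_pow Nat.prime_three]
    simp [Nat.factorization_eq_zero_of_not_dvd (show ¬ 3 ∣ 64 by norm_num)]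
  have hfr : Subgroup.normalizer (D : Set M) ⊔ K = ⊤ := T.normalizer_sup_eq_top
  have h5 : 5 ∣ Nat.card ↥(Subgroup.normalizer (D : Set M)) := by
    let π := (QuotientGroup.mk' K).comp (Subgroup.normalizer (D : Set M)).subtype
    have hπ : π.range = ⊤ := by
      rw [MonoidHom.range_comp, Subgroup.range_subtype]
      have := congrArg (Subgroup.map (QuotientGroup.mk' K)) hfr
      rwa [Subgroup.map_sup, QuotientGroup.map_mk'_self, sup_bot_eq,
        Subgroup.map_top_of_surjective _ (QuotientGroup.mk'_surjective K)] at this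
    have := Subgroup.card_range_dvd π
    rw [hπ, Subgroup.card_top, ← Subgroup.index_eq_card] at this
    have hi := Subgroup.card_mul_index K
    rw [hKc, hM] at hi
    rwa [show K.index = 5 by omega] at this
  obtain ⟨⟨g, hg⟩, hgo⟩ := exists_prime_orderOf_dvd_card' (G := ↥(Subgroup.normalizer (D : Set M))) 5 h5
  rw [Subgroup.orderOf_mk] at hgo
  have hiff : ∀ a, a ∈ (D : Set M) ↔ g * a * g⁻¹ ∈ (D : Set M) := Subgroup.mem_normalizer_iff.mp hg
  have hmod := fixed_set_modEq (p := 5) (D : Set M) (s := g) (hgo ▸ pow_orderOf_eq_one g) hiff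
  rw [show (D : Set M).ncard = 9 by rw [← Nat.card_coe_set_eq]; exact hD9] at hmod
  obtain ⟨d, ⟨hdD, hdg⟩, hd1⟩ : ∃ d ∈ {a | a ∈ (D : Set M) ∧ g * a = a * g}, d ≠ 1 := by
    by_contra hall
    push Not at hall
    have h1 : ({a | a ∈ (D : Set M) ∧ g * a = a * g}) = {1} :=
      Set.eq_singleton_iff_unique_mem.mpr ⟨⟨D.one_mem, by simp⟩, fun a ha => hall a ha⟩
    rw [h1, Set.ncard_singleton] at hmod
    exact absurd hmod (by decide)
  have hdo : orderOf d ∣ 3 ^ 2 := by
    have := Subgroup.orderOf_dvd_natCard D hdD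
    rwa [hD9] at this
  obtain ⟨i, -, hdi⟩ := (Nat.dvd_prime_pow Nat.prime_three).mp hdo
  have hi0 : i ≠ 0 := fun e => hd1 (orderOf_eq_one_iff.mp (by rw [hdi, e, pow_zero]))
  refine ⟨g, d ^ 3 ^ (i - 1), hgo, ?_, (Commute.pow_left hdg.symm _).eq⟩
  rw [orderOf_pow, hdi]
  rcases i with _ | i
  · exact absurd rfl hi0
  · rw [Nat.add_sub_cancel, Nat.gcd_eq_right (pow_dvd_pow 3 (Nat.le_succ i)),
      Nat.pow_div (Nat.le_succ i) (by norm_num), Nat.succ_sub (le_refl i), Nat.sub_self, pow_one]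

theorem conj_pow_iterate {G : Type u} [Group G] {n f : G} {k : ℕ} (h : n * f * n⁻¹ = f ^ k) (m : ℕ) :
    n ^ m * f * (n ^ m)⁻¹ = f ^ (k ^ m) := by
  induction m with
  | zero => simp
  | succ m ih =>
    calc n ^ (m + 1) * f * (n ^ (m + 1))⁻¹ = n * (n ^ m * f * (n ^ m)⁻¹) * n⁻¹ := by group
      _ = (n * f * n⁻¹) ^ (k ^ m) := by rw [ih, conj_pow]
      _ = f ^ (k ^ (m + 1)) := by rw [h, ← pow_mul, ← pow_succ']

variable {G : Type u} [Group G] [Finite G] {z : G} {Q : Subgroup G} {pm : G → Perm (Fin 5)}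

/-- The elements used to build `SL₂(16)`. -/
structure CycleData (A : Subgroup G) (a e f u v : G) : Prop where
  cyc : Cyc A (e * f) a
  cent : ∀ g : G, (∀ b ∈ A, g * b = b * g) → g ∈ A
  eo : orderOf e = 3
  fo : orderOf f = 5
  ef : e * f = f * e
  nor_e : ∀ b ∈ A, e * b * e⁻¹ ∈ A
  nor_f : ∀ b ∈ A, f * b * f⁻¹ ∈ A
  nor_u : ∀ b ∈ A, u * b * u⁻¹ ∈ A
  fix_e : ∀ b ∈ A, e * b = b * e → b = 1
  fix_f : ∀ b ∈ A, f * b = b * f → b = 1
  uu : u * u = 1
  u_not : u ∉ A
  ua : u * a = a * u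
  ue : u * e = e * u
  uf : Inverts u f
  vv : v * v = 1
  v1 : v ≠ 1
  vf : v * f = f * v
  ve : Inverts v e
  vu : v * u = u * v

theorem Sixteen.exists_cycle (hs : SixType G) (h : JT z Q pm) (hone : OneClass G) {A : Subgroup G} (S : Sixteen A) :
    ∃ a e f u v : G, CycleData A a e f u v := by
  classical
  haveI : Fact (Nat.Prime 2) := ⟨Nat.prime_two⟩
  haveI : Fact (Nat.Prime 3) := ⟨Nat.prime_three⟩
  haveI : Fact (Nat.Prime 5) := ⟨Nat.prime_five⟩
  set N := Subgroup.normalizer (A : Set G) with hN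
  have hnor : ∀ {n : G}, n ∈ N → ∀ b ∈ A, n * b * n⁻¹ ∈ A := fun hn b hb => conj_of_mem_normalizer hn hb
  have hsmall : ∀ {n : G}, n ∈ A → Odd (orderOf n) → n = 1 := fun hn ho => eq_one_of_sq_odd (S.sq _ hn) ho
  -- invariant subgroups
  have hfix : ∀ {g : G}, g ∈ N → orderOf g = 5 → ∀ b ∈ A, g * b = b * g → b = 1 := by
    intro g hg hgo b hb hc
    set F := A ⊓ Subgroup.centralizer ({g} : Set G) with hF
    have hd : Nat.card ↥F ∣ 2 ^ 4 := by
      have := Subgroup.card_dvd_of_le (show F ≤ A from inf_le_left)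
      rwa [S.card] at this
    have hmod := fixed_set_modEq (p := 5) (A : Set G) (s := g) (hgo ▸ pow_orderOf_eq_one g)
      (Subgroup.mem_normalizer_iff.mp hg)
    rw [show {a | a ∈ (A : Set G) ∧ g * a = a * g} = (F : Set G) from Set.ext fun a =>
      ⟨fun ha => ⟨ha.1, mem_cent.mpr ha.2.symm⟩, fun ha => ⟨ha.1, (mem_cent.mp ha.2).symm⟩⟩,
      ← Nat.card_coe_set_eq, ← Nat.card_coe_set_eq (A : Set G)] at hmod
    change Nat.card ↥F ≡ Nat.card ↥A [MOD 5] at hmod
    rw [S.card] at hmod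
    obtain ⟨i, hi, hFi⟩ := (Nat.dvd_prime_pow Nat.prime_two).mp hd
    have hi4 : i = 0 ∨ i = 4 := by
      rw [hFi] at hmod
      interval_cases i <;> first | exact Or.inl rfl | exact Or.inr rfl | exact absurd hmod (by decide)
    rcases hi4 with rfl | rfl
    · have : b ∈ F := ⟨hb, mem_cent.mpr hc.symm⟩
      rw [Subgroup.card_eq_one.mp (hFi.trans (pow_zero 2))] at this
      exact Subgroup.mem_bot.mp this
    · have hFA : F = A := Subgroup.eq_of_le_of_card_ge inf_le_left (by rw [hFi, S.card]; norm_num)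
      have hgA := S.cent g fun c hc' => (mem_cent.mp (hFA ▸ hc' : c ∈ F).2).symm
      have := hsmall hgA (by rw [hgo]; decide)
      rw [this, orderOf_one] at hgo
      omega
  have hinv : ∀ {g : G}, g ∈ N → orderOf g = 5 → ∀ P : Subgroup G, P ≤ A → (∀ b ∈ P, g * b * g⁻¹ ∈ P) →
      P = ⊥ ∨ P = A := by
    intro g hg hgo P hPA hP
    have hmod := fixed_set_modEq (p := 5) (P : Set G) (s := g) (hgo ▸ pow_orderOf_eq_one g)
      (Subgroup.mem_normalizer_iff.mp (mem_normalizer_of_conj hP))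
    rw [show {a | a ∈ (P : Set G) ∧ g * a = a * g} = {1} from Set.eq_singleton_iff_unique_mem.mpr
      ⟨⟨P.one_mem, by simp⟩, fun a ha => hfix hg hgo a (hPA ha.1) ha.2⟩, Set.ncard_singleton,
      ← Nat.card_coe_set_eq] at hmod
    change 1 ≡ Nat.card ↥P [MOD 5] at hmod
    have hd : Nat.card ↥P ∣ 2 ^ 4 := by
      have := Subgroup.card_dvd_of_le hPA
      rwa [S.card] at this
    obtain ⟨i, hi, hPi⟩ := (Nat.dvd_prime_pow Nat.prime_two).mp hd
    rw [hPi] at hmod
    interval_cases i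
    all_goals first
      | exact absurd hmod (by decide)
      | exact Or.inl (Subgroup.card_eq_one.mp hPi)
      | exact Or.inr (Subgroup.eq_of_le_of_card_ge hPA (by rw [hPi, S.card]; norm_num))
  -- the element of order five
  obtain ⟨⟨f, hfN⟩, hfo⟩ := exists_prime_orderOf_dvd_card' (G := ↥N) 5 (by rw [S.card_normalizer]; norm_num)
  rw [Subgroup.orderOf_mk] at hfo
  set X := Subgroup.zpowers f with hX
  have hX5 : Nat.card ↥X = 5 := (Nat.card_zpowers f).trans hfo
  set M := N ⊓ Subgroup.normalizer (X : Set G) with hM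
  have hfM : f ∈ M := ⟨hfN, Subgroup.le_normalizer (Subgroup.mem_zpowers f)⟩
  have hpowX : ∀ {n : G}, n ∈ M → ∃ k < 5, n * f * n⁻¹ = f ^ k := by
    intro n hn
    obtain ⟨k, hk⟩ := (isOfFinOrder_of_finite f).mem_powers_iff_mem_zpowers.mpr
      (conj_of_mem_normalizer hn.2 (Subgroup.mem_zpowers f))
    exact ⟨k % 5, Nat.mod_lt _ (by norm_num), by rw [← hfo, pow_mod_orderOf]; exact hk.symm⟩
  have hMA : ∀ n ∈ M, n ∈ A → n = 1 := by
    intro n hn hnA
    refine hfix hfN hfo n hnA ?_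
    have h1 : n * (f * n⁻¹ * f⁻¹) ∈ A := mul_mem hnA (hnor hfN _ (inv_mem hnA))
    have h2 : n * (f * n⁻¹ * f⁻¹) ∈ X := by
      have := mul_mem (conj_of_mem_normalizer hn.2 (Subgroup.mem_zpowers f)) (inv_mem (Subgroup.mem_zpowers f))
      rwa [show n * f * n⁻¹ * f⁻¹ = n * (f * n⁻¹ * f⁻¹) by group] at this
    have hd := Subgroup.orderOf_dvd_natCard X h2
    rw [hX5] at hd
    have h3 := hsmall h1 (Odd.of_dvd_nat (by decide) hd)
    calc f * n = (n * (f * n⁻¹ * f⁻¹))⁻¹ * (n * f) := by group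
      _ = n * f := by rw [h3, inv_one, one_mul]
  have hM180 : Nat.card ↥M ∣ 180 := by
    haveI : (A.subgroupOf N).Normal := ⟨fun b hb n => hnor n.2 _ hb⟩
    let π : ↥M →* ↥N ⧸ A.subgroupOf N := (QuotientGroup.mk' _).comp (Subgroup.inclusion (inf_le_left : M ≤ N))
    have hπ : Function.Injective π := (injective_iff_map_eq_one π).mpr fun n hn =>
      Subtype.ext (hMA n n.2 (Subgroup.mem_subgroupOf.mp
        ((QuotientGroup.eq_one_iff (N := A.subgroupOf N) (Subgroup.inclusion (inf_le_left : M ≤ N) n)).mp hn)))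
    have hd := Subgroup.card_dvd_of_injective π hπ
    rw [← Subgroup.index_eq_card] at hd
    have hi := Subgroup.card_mul_index (A.subgroupOf N)
    rw [Nat.card_congr (Subgroup.subgroupOfEquivOfLe (Subgroup.le_normalizer (H := A))).toEquiv, S.card,
      S.card_normalizer] at hi
    rwa [show (A.subgroupOf N).index = 180 by omega] at hd
  set f' : ↥N := ⟨f, hfN⟩ with hf'
  obtain ⟨P, hP⟩ := (IsPGroup.of_card (n := 1) (by rw [Nat.card_zpowers, Subgroup.orderOf_mk, hfo, pow_one]) :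
    IsPGroup 5 ↥(Subgroup.zpowers f')).exists_le_sylow
  have hPX : (P : Subgroup ↥N) = Subgroup.zpowers f' := by
    refine (Subgroup.eq_of_le_of_card_ge hP (le_of_eq ?_)).symm
    rw [P.card_eq_multiplicity, S.card_normalizer, show (2880 : ℕ) = 5 * 576 by norm_num,
      Nat.factorization_mul (by norm_num) (by norm_num), Nat.card_zpowers, Subgroup.orderOf_mk, hfo]
    simp [Nat.Prime.factorization_self Nat.prime_five, Nat.factorization_eq_zero_of_not_dvd (show ¬ 5 ∣ 576 by norm_num)]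
  have hPmem : ∀ b : ↥N, b ∈ (P : Subgroup ↥N) ↔ (b : G) ∈ X := fun b => by
    rw [hPX, hX]
    constructor
    · rintro ⟨k, rfl⟩
      exact ⟨k, by simp [hf']⟩
    · rintro ⟨k, hk⟩
      exact ⟨k, Subtype.ext (by simpa [hf'] using hk)⟩
  have hPnor : Subgroup.normalizer ((P : Subgroup ↥N) : Set ↥N) = M.subgroupOf N := by
    ext n
    constructor
    · intro hn
      refine ⟨n.2, mem_normalizer_of_conj fun b hb => ?_⟩
      have hbN : b ∈ N := (Subgroup.zpowers_le.mpr hfN) hb
      exact (hPmem (n * ⟨b, hbN⟩ * n⁻¹)).mp (conj_of_mem_normalizer hn ((hPmem ⟨b, hbN⟩).mpr hb))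
    · intro hn
      exact mem_normalizer_of_conj fun b hb => (hPmem _).mpr (conj_of_mem_normalizer hn.2 ((hPmem b).mp hb))
  have hn5 : Nat.card ↥M * Nat.card (Sylow 5 ↥N) = 2880 := by
    have := Subgroup.card_mul_index (Subgroup.normalizer ((P : Subgroup ↥N) : Set ↥N))
    have hidx : Nat.card (Sylow 5 ↥N) = (Subgroup.normalizer ((P : Subgroup ↥N) : Set ↥N)).index :=
      P.card_eq_index_normalizer
    rwa [← hidx, hPnor,
      Nat.card_congr (Subgroup.subgroupOfEquivOfLe (inf_le_left : M ≤ N)).toEquiv, S.card_normalizer] at this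
  have hM5 : 5 ∣ Nat.card ↥M := hfo ▸ Subgroup.orderOf_dvd_natCard M hfM
  have hcases : Nat.card ↥M = 180 ∨ Nat.card ↥M = 30 ∨ Nat.card ↥M = 5 := by
    have hmod := card_sylow_modEq_one 5 ↥N
    rw [show Nat.card (Sylow 5 ↥N) = 2880 / Nat.card ↥M by
      rw [← hn5, Nat.mul_div_cancel_left _ Nat.card_pos]] at hmod
    have hmem : Nat.card ↥M ∈ Nat.divisors 180 := Nat.mem_divisors.mpr ⟨hM180, by norm_num⟩
    have key : ∀ k ∈ Nat.divisors 180, 5 ∣ k → 2880 / k % 5 = 1 % 5 → k = 180 ∨ k = 30 ∨ k = 5 := by decide +kernel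
    exact key _ hmem hM5 hmod
  -- the centralizer of `f`
  obtain ⟨-, t, htt, ht1, htf⟩ := hs.five_invCent h hone hfo
  obtain ⟨Q', pm', h'⟩ := h.atInv hone htt ht1
  obtain ⟨O, C⟩ := h'.exists_fiveCore htf.symm hfo
  obtain ⟨-, -, e', he'O, -, he'o, -, -, hte', ho15, hgen, hO15, -, -⟩ := hs.five_core h' hone C
  have hM30 : Nat.card ↥M = 30 := by
    rcases hcases with e1 | e1 | e1
    · obtain ⟨k, hk, hk'⟩ := normalizer_card (X := X) hX5
      have hle := Subgroup.card_dvd_of_le (inf_le_right : M ≤ Subgroup.normalizer (X : Set G))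
      rw [hk', e1, show Subgroup.centralizer (X : Set G) = Subgroup.centralizer ({f} : Set G) from
        cent_of_prime hX5 (Subgroup.mem_zpowers f) (fun e2 => by rw [e2, orderOf_one] at hfo; omega),
        C.card, hO15] at hle
      norm_num at hk
      have hk4 : k ≤ 4 := Nat.le_of_dvd (by norm_num) hk
      interval_cases k <;> revert hle hk <;> norm_num
    · exact e1
    · exfalso
      have hMX : M = X := (Subgroup.eq_of_le_of_card_ge (Subgroup.zpowers_le.mpr hfM) (by rw [e1, hX5])).symm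
      obtain ⟨g, d, hgo, hdo, hdg⟩ := exists_three_five S.card_normalizer P (by
        intro n hn
        rw [hPnor] at hn
        have hnX : (n : G) ∈ X := hMX ▸ hn
        refine Subgroup.mem_centralizer_iff.mpr fun b hb => Subtype.ext ?_
        obtain ⟨i, hi⟩ := (hPmem b).mp hb
        obtain ⟨j, hj⟩ := hnX
        show (b : G) * n = n * b
        rw [← hi, ← hj]
        exact (Commute.zpow_zpow_self f i j).eq)
      obtain ⟨R, hR⟩ := (IsPGroup.of_card (n := 1) (by rw [Nat.card_zpowers, hgo, pow_one]) :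
        IsPGroup 5 ↥(Subgroup.zpowers g)).exists_le_sylow
      obtain ⟨c, hc⟩ := MulAction.exists_smul_eq ↥N R P
      have hgP : c * g * c⁻¹ ∈ (P : Subgroup ↥N) := by
        rw [← hc, Sylow.coe_subgroup_smul]
        exact Subgroup.smul_mem_pointwise_smul _ _ _ (hR (Subgroup.mem_zpowers g))
      have hgX := (hPmem _).mp hgP
      set g₁ : G := ((c * g * c⁻¹ : ↥N) : G) with hg₁
      have hXg : X = Subgroup.zpowers g₁ := (Subgroup.eq_of_le_of_card_ge (Subgroup.zpowers_le.mpr hgX) (by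
        rw [hX5, Nat.card_zpowers, hg₁, Subgroup.orderOf_coe, orderOf_conj', hgo])).symm
      set d₁ : G := ((c * d * c⁻¹ : ↥N) : G) with hd₁
      have hd₁M : d₁ ∈ M := by
        refine ⟨(c * d * c⁻¹).2, mem_normalizer_of_conj fun b hb => ?_⟩
        rw [hXg] at hb ⊢
        obtain ⟨i, rfl⟩ := hb
        have hcd : d₁ * g₁ = g₁ * d₁ := congrArg Subtype.val (conj_comm (g := c) hdg)
        show d₁ * g₁ ^ i * d₁⁻¹ ∈ _
        rw [conj_fix_iff.mpr (Commute.zpow_right hcd i).eq]
        exact ⟨i, rfl⟩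
      have := Subgroup.orderOf_dvd_natCard M hd₁M
      rw [e1, hd₁, Subgroup.orderOf_coe, orderOf_conj', hdo] at this
      norm_num at this
  obtain ⟨⟨e, heM⟩, heo⟩ := exists_prime_orderOf_dvd_card' (G := ↥M) 3 (by rw [hM30]; norm_num)
  obtain ⟨⟨u, huM⟩, huo⟩ := exists_prime_orderOf_dvd_card' (G := ↥M) 2 (by rw [hM30]; norm_num)
  rw [Subgroup.orderOf_mk] at heo huo
  have huu : u * u = 1 := by rw [← pow_two, ← huo, pow_orderOf_eq_one]
  have hu1 : u ≠ 1 := fun e1 => by rw [e1, orderOf_one] at huo; omega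
  have huA : u ∉ A := fun hm => hu1 (hMA u huM hm)
  have hef : e * f = f * e := by
    obtain ⟨k, hk, hek⟩ := hpowX heM
    have h3 := conj_pow_iterate hek 3
    rw [show e ^ 3 = 1 from heo ▸ pow_orderOf_eq_one e, one_mul, inv_one, mul_one] at h3
    have h5 : k ^ 3 % 5 = 1 := by
      have := pow_injOn_Iio_orderOf (x := f)
      have e5 : f ^ (k ^ 3 % 5) = f ^ 1 := by rw [← hfo, pow_mod_orderOf, ← h3, pow_one]
      exact this (by rw [hfo]; exact Nat.mod_lt _ (by norm_num)) (by rw [hfo]; norm_num) e5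
    have hk1 : k = 1 := by interval_cases k <;> norm_num at h5; rfl
    rw [hk1, pow_one] at hek
    exact mul_inv_eq_iff_eq_mul.mp hek
  obtain ⟨b₀, hb₀, hb₀1, hb₀u⟩ : ∃ b ∈ A, b ≠ 1 ∧ u * b = b * u := by
    have hmod := fixed_set_modEq (p := 2) (A : Set G) (s := u) (by rw [pow_two, huu])
      (Subgroup.mem_normalizer_iff.mp huM.1)
    rw [← Nat.card_coe_set_eq (A : Set G)] at hmod
    change _ ≡ Nat.card ↥A [MOD 2] at hmod
    rw [S.card] at hmod
    by_contra hall
    push Not at hall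
    have h1 : ({a | a ∈ (A : Set G) ∧ u * a = a * u}) = {1} :=
      Set.eq_singleton_iff_unique_mem.mpr ⟨⟨A.one_mem, by simp⟩, fun a ha => by
        by_contra hne
        exact hall a ha.1 hne ha.2⟩
    rw [h1, Set.ncard_singleton] at hmod
    exact absurd hmod (by decide)
  have huf : Inverts u f := by
    obtain ⟨k, hk, huk⟩ := hpowX huM
    have h2 := conj_pow_iterate huk 2
    rw [show u ^ 2 = 1 by rw [pow_two, huu], one_mul, inv_one, mul_one] at h2
    have h5 : k ^ 2 % 5 = 1 := by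
      have := pow_injOn_Iio_orderOf (x := f)
      have e5 : f ^ (k ^ 2 % 5) = f ^ 1 := by rw [← hfo, pow_mod_orderOf, ← h2, pow_one]
      exact this (by rw [hfo]; exact Nat.mod_lt _ (by norm_num)) (by rw [hfo]; norm_num) e5
    interval_cases k <;> norm_num at h5
    · exfalso
      rw [pow_one] at huk
      have huf' : u * f = f * u := mul_inv_eq_iff_eq_mul.mp huk
      rcases hinv hfN hfo (A ⊓ Subgroup.centralizer ({u} : Set G)) inf_le_left (fun b hb =>
        ⟨hnor hfN b hb.1, mem_cent.mpr (Commute.mul_left (Commute.mul_left huf'.symm (mem_cent.mp hb.2))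
          (Commute.inv_left huf'.symm))⟩) with hb | hb
      · exact hb₀1 (Subgroup.mem_bot.mp (hb ▸ (⟨hb₀, mem_cent.mpr hb₀u.symm⟩ :
          b₀ ∈ A ⊓ Subgroup.centralizer ({u} : Set G))))
      · exact huA (S.cent u fun b hb' => (mem_cent.mp (hb.symm ▸ hb' :
          b ∈ A ⊓ Subgroup.centralizer ({u} : Set G)).2).symm)
    · show u * f * u⁻¹ = f⁻¹
      rw [huk]
      refine eq_inv_of_mul_eq_one_left ?_
      rw [← pow_succ, show 4 + 1 = orderOf f from hfo.symm, pow_orderOf_eq_one]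
  have hfixe : ∀ b ∈ A, e * b = b * e → b = 1 := by
    rcases hinv hfN hfo (A ⊓ Subgroup.centralizer ({e} : Set G)) inf_le_left (fun b hb =>
        ⟨hnor hfN b hb.1, mem_cent.mpr (Commute.mul_left (Commute.mul_left hef.symm (mem_cent.mp hb.2))
          (Commute.inv_left hef.symm))⟩) with hb | hb
    · exact fun b hb' hc => Subgroup.mem_bot.mp (hb ▸ (⟨hb', mem_cent.mpr hc.symm⟩ :
        b ∈ A ⊓ Subgroup.centralizer ({e} : Set G)))
    · exfalso
      have heA := S.cent e fun b hb' => (mem_cent.mp (hb.symm ▸ hb' :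
        b ∈ A ⊓ Subgroup.centralizer ({e} : Set G)).2).symm
      rw [hsmall heA (by rw [heo]; decide), orderOf_one] at heo
      omega
  set o := e * f with ho
  have hoo : orderOf o = 15 := by
    rw [ho, (show Commute e f from hef).orderOf_mul_eq_mul_orderOf_of_coprime (by rw [heo, hfo]; norm_num), heo, hfo]
  have hjfix : ∀ j : ℕ, o ^ j * b₀ = b₀ * o ^ j → j % 15 = 0 := by
    intro j hj
    have hc : ∀ m, o ^ (j * m) * b₀ = b₀ * o ^ (j * m) := fun m => by
      rw [pow_mul]; exact Commute.pow_left hj m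
    have key : ∀ {x : G} {n : ℕ}, orderOf x = n → n.Prime → (∀ b ∈ A, x * b = b * x → b = 1) → ∀ m,
        x ^ m * b₀ = b₀ * x ^ m → n ∣ m := by
      intro x n hx hn hfx m hm
      by_contra hnd
      obtain ⟨r, hr⟩ := Nat.exists_mul_mod_eq_one_of_coprime
        ((hn.coprime_iff_not_dvd.mpr hnd).symm) hn.one_lt
      refine hb₀1 (hfx b₀ hb₀ ?_)
      have := Commute.pow_left (show Commute (x ^ m) b₀ from hm) r
      rwa [← pow_mul, ← pow_mod_orderOf, hx, hr.2, pow_one] at this
    have h5 := hc 10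
    rw [ho, (show Commute e f from hef).mul_pow, show f ^ (j * 10) = 1 by
      rw [show j * 10 = 5 * (2 * j) by ring, pow_mul, ← hfo, pow_orderOf_eq_one, one_pow], mul_one] at h5
    have h3 := hc 6
    rw [ho, (show Commute e f from hef).mul_pow, show e ^ (j * 6) = 1 by
      rw [show j * 6 = 3 * (2 * j) by ring, pow_mul, ← heo, pow_orderOf_eq_one, one_pow], one_mul] at h3
    have d3 := key heo Nat.prime_three hfixe _ h5
    have d5 := key hfo Nat.prime_five (hfix hfN hfo) _ h3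
    omega
  have horepl : o ^ 15 = 1 := hoo ▸ pow_orderOf_eq_one o
  have hnoro : ∀ b ∈ A, o * b * o⁻¹ ∈ A := fun b hb => by
    rw [ho, show e * f * b * (e * f)⁻¹ = e * (f * b * f⁻¹) * e⁻¹ by group]
    exact hnor heM.1 _ (hnor hfN b hb)
  have hinj : ∀ k l, k < 15 → l < 15 → s o b₀ k = s o b₀ l → k = l := by
    have main : ∀ k l, k ≤ l → l < 15 → s o b₀ k = s o b₀ l → k = l := by
      intro k l hkl hl e1
      have h2 : o ^ (l - k) * b₀ * (o ^ (l - k))⁻¹ = b₀ := by
        calc o ^ (l - k) * b₀ * (o ^ (l - k))⁻¹ = (o ^ k)⁻¹ * (o ^ (k + (l - k)) * b₀ * (o ^ (k + (l - k)))⁻¹) * o ^ k := by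
              rw [pow_add]; group
          _ = (o ^ k)⁻¹ * (o ^ k * b₀ * (o ^ k)⁻¹) * o ^ k := by
              rw [Nat.add_sub_cancel' hkl]; simp only [s] at e1; rw [← e1]
          _ = b₀ := by group
      have := hjfix _ (mul_inv_eq_iff_eq_mul.mp h2)
      omega
    intro k l hk hl e1
    rcases le_total k l with hkl | hkl
    · exact main k l hkl hl e1
    · exact (main l k hkl hk e1.symm).symm
  have hsmem : ∀ k, s o b₀ k ∈ A := fun k => by
    induction k with
    | zero => simpa [s] using hb₀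
    | succ k ih =>
      have := hnoro _ ih
      rwa [show o * s o b₀ k * o⁻¹ = s o b₀ (k + 1) by simp only [s]; group] at this
  have hcyc : Cyc A o b₀ := by
    refine ⟨S.sq, hb₀, hb₀1, hnoro, horepl, hinj, fun x hx hx1 => ?_⟩
    have hsub : s o b₀ '' Set.Iio 15 ⊆ (A : Set G) \ {1} := by
      rintro _ ⟨k, -, rfl⟩
      exact ⟨hsmem k, fun e1 => hb₀1 (conj_eq_one_iff.mp e1)⟩
    have hA15 : ((A : Set G) \ {1}).ncard = 15 := by
      rw [Set.ncard_sdiff_singleton_of_mem (one_mem A), ← Nat.card_coe_set_eq]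
      show Nat.card ↥A - 1 = 15
      rw [S.card]
    have heq : s o b₀ '' Set.Iio 15 = (A : Set G) \ {1} := by
      refine Set.eq_of_subset_of_ncard_le hsub (le_of_eq ?_) (Set.toFinite _)
      rw [hA15, Set.InjOn.ncard_image (s := Set.Iio (15 : ℕ)) (fun k hk l hl e1 => hinj k l hk hl e1),
        Set.ncard_eq_toFinset_card' (Set.Iio 15), Set.toFinset_Iio, Nat.card_Iio]
    obtain ⟨k, hk, hkx⟩ : x ∈ s o b₀ '' Set.Iio 15 := heq ▸ ⟨hx, hx1⟩
    exact ⟨k, hk, hkx.symm⟩
  have heO : e ∈ O := C.mem_odd e hef (by rw [heo]; decide)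
  have hOo : O = Subgroup.zpowers o := (Subgroup.eq_of_le_of_card_ge
    (Subgroup.zpowers_le.mpr (O.mul_mem heO C.f_mem)) (by rw [hO15, Nat.card_zpowers, hoo])).symm
  have hthree : ∀ {g x : G}, g ∈ Subgroup.zpowers (x * f) → x * f = f * x → orderOf x = 3 → g ^ 3 = 1 →
      ∃ m, g = x ^ m := by
    intro g x hg hxf hx hg3
    obtain ⟨m, hm⟩ := (isOfFinOrder_of_finite (x * f)).mem_powers_iff_mem_zpowers.mpr hg
    have hm' : (x * f) ^ m = g := hm
    have h15 : 15 ∣ m * 3 := by
      have hx15 : orderOf (x * f) = 15 := by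
        rw [(show Commute x f from hxf).orderOf_mul_eq_mul_orderOf_of_coprime (by rw [hx, hfo]; norm_num), hx, hfo]
      rw [← hx15]
      exact orderOf_dvd_of_pow_eq_one (by rw [pow_mul, hm', hg3])
    obtain ⟨r, hr⟩ : 5 ∣ m := by omega
    refine ⟨m, ?_⟩
    rw [← hm', (show Commute x f from hxf).mul_pow, show f ^ m = 1 by
      rw [hr, pow_mul, ← hfo, pow_orderOf_eq_one, one_pow], mul_one]
  have he3 : e ^ 3 = 1 := heo ▸ pow_orderOf_eq_one e
  have hue : u * e = e * u := by
    have huef : u * e * u⁻¹ * f = f * (u * e * u⁻¹) := inverter_preserves huf hef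
    have hmO := C.mem_odd _ huef (by rw [CfsgLib.HallJankoType.orderOf_conj', heo]; decide)
    obtain ⟨m, hm⟩ := hthree (hOo ▸ hmO) hef heo (by rw [conj_pow, he3]; group)
    have hm3 : m % 3 = 1 ∨ m % 3 = 2 := by
      by_contra hno
      have hm0 : m % 3 = 0 := by omega
      rw [← pow_mod_orderOf, heo, hm0, pow_zero] at hm
      rw [conj_eq_one_iff.mp hm, orderOf_one] at heo
      omega
    rw [← pow_mod_orderOf, heo] at hm
    rcases hm3 with e1 | e1 <;> rw [e1] at hm
    · rw [pow_one] at hm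
      exact mul_inv_eq_iff_eq_mul.mp hm
    · exfalso
      refine hcyc.not_inverted (conj_fix_iff.mpr hb₀u) ?_
      have hinv' : u * e * u⁻¹ = e⁻¹ := by
        rw [hm]; exact eq_inv_of_mul_eq_one_left (by rw [← pow_succ, he3])
      calc u * (e * f) * u⁻¹ = (u * e * u⁻¹) * (u * f * u⁻¹) := by group
        _ = e⁻¹ * f⁻¹ := by rw [hinv', show u * f * u⁻¹ = f⁻¹ from huf]
        _ = (e * f)⁻¹ := by rw [← mul_inv_rev, show f * e = e * f from hef.symm]
  -- the involution centralizing `f`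
  have hte : Inverts t e := by
    obtain ⟨m, hm⟩ := hthree (hgen ▸ heO) (C.cent e' he'O) he'o he3
    rw [hm]
    exact inverts_pow hte' m
  have htu : t * u = u * t := by
    set t₁ := u * t * u⁻¹ with ht₁
    have ht₁f : t₁ * f = f * t₁ := inverter_preserves huf htf
    have ht₁t : t₁ * t₁ = 1 := conj_sq u t htt
    have hpO : t * t₁ ∈ O := (C.cover t₁ ht₁f).resolve_left fun hm =>
      ht1 (conj_eq_one_iff.mp (eq_one_of_sq_odd ht₁t (C.odd_order hm)))
    obtain ⟨m, hm⟩ := (isOfFinOrder_of_finite o).mem_powers_iff_mem_zpowers.mpr (hOo ▸ hpO)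
    have hm' : o ^ m = t * t₁ := hm
    have hpi : Inverts t (o ^ m) := hm' ▸ inverts_prod htt ht₁t
    have hoe : o ^ m = e ^ m * f ^ m := (show Commute e f from hef).mul_pow m
    have htp : t * o ^ m * t⁻¹ = (e ^ m)⁻¹ * f ^ m := by
      rw [hoe, show t * (e ^ m * f ^ m) * t⁻¹ = (t * e ^ m * t⁻¹) * (t * f ^ m * t⁻¹) by group,
        show t * e ^ m * t⁻¹ = (e ^ m)⁻¹ from inverts_pow hte m, conj_fix_iff.mpr (Commute.pow_right htf m).eq]
    rw [show t * o ^ m * t⁻¹ = (o ^ m)⁻¹ from hpi, hoe, mul_inv_rev,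
      ((Commute.pow_pow hef m m).symm.inv_left.inv_right).eq, mul_left_cancel_iff] at htp
    have hfm : f ^ m = 1 := by
      refine eq_one_of_sq_odd (inv_eq_iff_mul_eq_one.mp htp) ?_
      exact (show Odd 5 by decide).of_dvd_nat (hfo ▸ orderOf_pow_dvd m)
    have hp : t * t₁ = e ^ m := by rw [← hm', hoe, hfm, mul_one]
    have hup : u * (t * t₁) * u⁻¹ = t₁ * t := by
      have huinv : u⁻¹ = u := inv_eq_of_mul_eq_one_right huu
      calc u * (t * t₁) * u⁻¹ = u * t * (u * t * u⁻¹) * u⁻¹ := by rw [ht₁]; group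
        _ = u * t * u⁻¹ * t := by
          rw [huinv, show u * t * (u * t * u) * u = u * t * u * t * (u * u) by group, huu, mul_one]
    have hfix2 : t₁ * t = t * t₁ := by
      rw [← hup, hp]
      exact conj_fix_iff.mpr (Commute.pow_right hue m).eq
    have hp1 : t * t₁ = 1 := eq_one_of_sq_odd (by
      rw [show t * t₁ * (t * t₁) = t * (t₁ * t) * t₁ by group, hfix2, ← mul_assoc t t, htt, one_mul, ht₁t])
      (C.odd_order hpO)
    have : t₁ = t := by
      rw [← inv_eq_of_mul_eq_one_right hp1]; exact inv_eq_of_mul_eq_one_right htt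
    exact (mul_inv_eq_iff_eq_mul.mp this).symm
  exact ⟨b₀, e, f, u, t, ⟨hcyc, S.cent, heo, hfo, hef, hnor heM.1, hnor hfN, hnor huM.1, hfixe, hfix hfN hfo, huu,
    huA, hb₀u, hue, huf, htt, ht1, htf, hte, htu⟩⟩

end CfsgLib.J3Type
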