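import Cfsg.Agent.Lib.J3Type.ThreeCent

/-!
Groups of `J₃` type: the two possible types, and the centralizer of an element of order three and an involution
inverting it.
-/

set_option autoImplicit false
set_option linter.unusedSectionVars false
set_option maxHeartbeats 400000

namespace CfsgLib.J3Type

open Cfsg CfsgLargeExtra Equiv
open CfsgLib.HallJankoType (orb mem_cent conj_fix_iff ncard_orb orderOf_conj')

universe u

variable {G : Type u} [Group G] [Finite G] {z : G} {Q : Subgroup G} {pm : G → Perm (Fin 5)}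

/-- An element of order `n` centralized by an involution. -/
def IsInvCent (n : ℕ) (a : G) : Prop := orderOf a = n ∧ ∃ v : G, v * v = 1 ∧ v ≠ 1 ∧ v * a = a * v

theorem IsInvCent.conj {n : ℕ} {a : G} (ha : IsInvCent n a) (g : G) : IsInvCent n (g * a * g⁻¹) := by
  obtain ⟨ho, v, h1, h2, h3⟩ := ha
  exact ⟨by rw [orderOf_conj', ho], g * v * g⁻¹, conj_sq g v h1, fun e => h2 (conj_eq_one_iff.mp e), conj_comm h3⟩

theorem IsInvCent.odd {n : ℕ} (hn : n = 3 ∨ n = 5) {a : G} (ha : IsInvCent n a) : Odd (orderOf a) ∧ a ^ n = 1 ∧ a ≠ 1 := by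
  refine ⟨by rw [ha.1]; rcases hn with rfl | rfl <;> decide, ha.1 ▸ pow_orderOf_eq_one a, fun e => ?_⟩
  have := ha.1
  rw [e, orderOf_one] at this
  omega

/-- Every quotient `C(d)/d` has the properties `XBase X p`. -/
def QType (G : Type u) [Group G] (p : ℕ) : Prop :=
  ∀ d : G, IsInvCent 3 d → ∃ (X : Type) (_ : Group X) (π : G → X), XBase X p ∧ ThreeQ d π

/-- Every quotient `C(d)/d` is alternating of degree six. -/
def SixType (G : Type u) [Group G] : Prop :=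
  ∀ d : G, IsInvCent 3 d → ∃ (X : Type) (_ : Group X) (π : G → X), XSix X ∧ ThreeQ d π

/-- Every quotient `C(d)/d` is the simple group of order 168. -/
def SevenType (G : Type u) [Group G] : Prop :=
  ∀ d : G, IsInvCent 3 d → ∃ (X : Type) (_ : Group X) (π : G → X), XSeven X ∧ ThreeQ d π

theorem SixType.qType (hs : SixType G) : QType G 5 := fun d hd =>
  let ⟨X, i, π, hX, hπ⟩ := hs d hd
  ⟨X, i, π, hX.toXBase, hπ⟩

theorem SevenType.qType (hs : SevenType G) : QType G 3 := fun d hd =>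
  let ⟨X, i, π, hX, hπ⟩ := hs d hd
  ⟨X, i, π, hX.toXBase, hπ⟩

theorem ThreeQ.conj {d : G} {X : Type*} [Group X] {π : G → X} (hπ : ThreeQ d π) (g : G) :
    ThreeQ (g * d * g⁻¹) (fun a => π (g⁻¹ * a * g)) := by
  have back : ∀ {a : G}, a * (g * d * g⁻¹) = g * d * g⁻¹ * a → g⁻¹ * a * g * d = d * (g⁻¹ * a * g) :=
    fun {a} ha => (conj_comm_back ha.symm).symm
  refine ⟨fun a b ha hb => ?_, fun x => ?_, fun a ha => ?_⟩
  · show π (g⁻¹ * (a * b) * g) = _
    rw [show g⁻¹ * (a * b) * g = (g⁻¹ * a * g) * (g⁻¹ * b * g) by group, hπ.mul _ _ (back ha) (back hb)]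
  · obtain ⟨a, ha, e⟩ := hπ.surj x
    exact ⟨g * a * g⁻¹, conj_comm ha, by
      show π (g⁻¹ * (g * a * g⁻¹) * g) = x
      rw [show g⁻¹ * (g * a * g⁻¹) * g = a by group, e]⟩
  · rw [hπ.ker _ (back ha)]
    constructor
    · intro hm
      have := mem_zpowers_conj g hm
      rwa [show g * (g⁻¹ * a * g) * g⁻¹ = a by group] at this
    · intro hm
      have := mem_zpowers_conj g⁻¹ hm
      rwa [inv_inv, show g⁻¹ * (g * d * g⁻¹) * g = d by group] at this

namespace JT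

variable (h : JT z Q pm)
include h

/-- The structure at any involution. -/
theorem atInv (hone : OneClass G) {v : G} (hv : v * v = 1) (hv1 : v ≠ 1) :
    ∃ (Q' : Subgroup G) (pm' : G → Perm (Fin 5)), JT v Q' pm' := by
  obtain ⟨g, hg⟩ := hone.move h hv hv1
  have e : g⁻¹ * z * g⁻¹⁻¹ = v := by rw [inv_inv]; exact conj_back_of_eq hg
  exact ⟨_, _, e ▸ h.conjBy g⁻¹⟩

theorem move_invCent (hone : OneClass G) {n : ℕ} {a : G} (ha : IsInvCent n a) :
    ∃ g : G, g * a * g⁻¹ * z = z * (g * a * g⁻¹) ∧ orderOf (g * a * g⁻¹) = n := by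
  obtain ⟨ho, v, h1, h2, h3⟩ := ha
  obtain ⟨g, hg⟩ := hone.move h h1 h2
  exact ⟨g, by rw [← hg]; exact conj_comm h3.symm, by rw [orderOf_conj', ho]⟩

theorem isInvCent {n : ℕ} {a : G} (ha : a * z = z * a) (ho : orderOf a = n) : IsInvCent n a :=
  ⟨ho, z, h.zz, h.es.ne, ha.symm⟩

/-- One of the two types holds. -/
theorem type_cases (hone : OneClass G) : SixType G ∨ SevenType G := by
  obtain ⟨v, -, d₀, hd₀, ho₀, -⟩ := h.exists_inverted (Or.inl rfl)
  have key : ∀ d : G, IsInvCent 3 d → ∃ g : G, g * d₀ * g⁻¹ = d := fun d hd => by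
    obtain ⟨g, hgz, hgo⟩ := h.move_invCent hone hd
    obtain ⟨c, -, hc⟩ := h.conj_three hd₀ hgz ho₀ hgo
    exact ⟨g⁻¹ * c⁻¹, by rw [← hc]; group⟩
  rcases h.three_quot hone hd₀ ho₀ with ⟨π, hπ⟩ | ⟨π, hπ⟩
  · refine Or.inl fun d hd => ?_
    obtain ⟨g, rfl⟩ := key d hd
    exact ⟨AltSix.A, inferInstance, _, AltSix.xSix, hπ.conj g⟩
  · refine Or.inr fun d hd => ?_
    obtain ⟨g, rfl⟩ := key d hd
    exact ⟨CfsgLib.Order168Model.T, inferInstance, _, GlThree.xSeven, hπ.conj g⟩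

end JT

namespace ThreeQ

variable {d : G} {X : Type*} [Group X] {π : G → X} {p : ℕ}

theorem cube_of (hd : IsInvCent 3 d) : d ^ 3 = 1 := (hd.odd (Or.inl rfl)).2.1

/-- An inverted element of prime order of the quotient lifts to one centralized by an involution inverting `d`. -/
theorem cent_lift (hπ : ThreeQ d π) (hX : XBase X p) (h : JT z Q pm) (hone : OneClass G) (hd : IsInvCent 3 d) {s : X}
    (hs : s ^ p = 1) (hs1 : s ≠ 1) :
    ∃ a w v : G, a * d = d * a ∧ π a = s ∧ a ^ p = 1 ∧ a ≠ 1 ∧ (w * w = 1 ∧ w ≠ 1) ∧ Inverts w d ∧ w * a = a * w ∧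
      (v * v = 1 ∧ v ≠ 1) ∧ v * d = d * v ∧ Inverts v a ∧ v * w = w * v := by
  obtain ⟨t, ht, ht1, hti⟩ := hX.inverter s hs hs1
  obtain ⟨v, hv, hv1, hvd, rfl⟩ := hπ.lift_invol (cube_of hd) ht ht1
  obtain ⟨Q', pm', h'⟩ := h.atInv hone hv hv1
  obtain ⟨x, y, F⟩ := h'.exists_frame3 hvd.symm hd.1
  obtain ⟨w₀, hw₀, hw₀d⟩ := h'.exists_inverter (Or.inl rfl) hvd.symm hd.1
  obtain ⟨w, a, ⟨hwz, hw, hwd⟩, had, hap, ha1, hwa, hva, hπa⟩ :=
    hπ.exists_cent_inverter hX F hw₀ hw₀d hone ⟨⟨hs, hs1⟩, hti⟩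
  exact ⟨a, w, v, had, hπa, hap, ha1, ⟨hw, h'.T_ne_one (F.inverter_mem_T hwz hw hwd)⟩, hwd, hwa, ⟨hv, hv1⟩, hvd, hva,
    hwz.symm⟩

theorem comm_of_inverts {w b : G} (hwd : Inverts w d) (hb : b * d = d * b) :
    w * b * w⁻¹ * d = d * (w * b * w⁻¹) := by
  have hwi : w * d⁻¹ * w⁻¹ = d := by
    rw [show w * d⁻¹ * w⁻¹ = (w * d * w⁻¹)⁻¹ by group, show w * d * w⁻¹ = d⁻¹ from hwd, inv_inv]
  have := conj_comm (g := w) (Commute.inv_right hb : b * d⁻¹ = d⁻¹ * b)
  rwa [hwi] at this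

/-- An involution inverting `d` centralizes an involution of `C(d)`. -/
theorem exists_commuting_invol (hπ : ThreeQ d π) (hX : XBase X p) (hd : IsInvCent 3 d) {w : G} (hw : w * w = 1)
    (hwd : Inverts w d) : ∃ v : G, v * v = 1 ∧ v ≠ 1 ∧ v * d = d * v ∧ w * v = v * w := by
  haveI : Fact (Nat.Prime 2) := ⟨Nat.prime_two⟩
  have hmap : ∀ v : G, (v * v = 1 ∧ v ≠ 1) ∧ v * d = d * v →
      (w * v * w⁻¹ * (w * v * w⁻¹) = 1 ∧ w * v * w⁻¹ ≠ 1) ∧ w * v * w⁻¹ * d = d * (w * v * w⁻¹) := fun v hv =>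
    ⟨⟨conj_sq w v hv.1.1, fun e => hv.1.2 (conj_eq_one_iff.mp e)⟩, comm_of_inverts hwd hv.2⟩
  have hww : ∀ v : G, w * (w * v * w⁻¹) * w⁻¹ = v := fun v => by
    rw [show w * (w * v * w⁻¹) * w⁻¹ = (w * w) * v * (w * w)⁻¹ by group, hw]; group
  have hmod := fixed_set_modEq (p := 2) {v : G | (v * v = 1 ∧ v ≠ 1) ∧ v * d = d * v} (s := w) (by rw [pow_two, hw])
    fun a => ⟨hmap a, fun ha => by have := hmap _ ha; rwa [hww] at this⟩
  rw [hπ.ncard_invol (cube_of hd)] at hmod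
  obtain ⟨v, ⟨⟨hv, hv1⟩, hvd⟩, hwv⟩ :
      {a | a ∈ {v : G | (v * v = 1 ∧ v ≠ 1) ∧ v * d = d * v} ∧ w * a = a * w}.Nonempty := by
    refine Set.nonempty_of_ncard_ne_zero fun e => ?_
    rw [e] at hmod
    have := Nat.odd_iff.mp hX.inv_odd
    unfold Nat.ModEq at hmod
    omega
  exact ⟨v, hv, hv1, hvd, hwv⟩

/-- The centralizer of `d` and of an involution inverting it is dihedral of order `2p`. -/
theorem cent_inverter (hπ : ThreeQ d π) (hX : XBase X p) (h : JT z Q pm) (hone : OneClass G) (hd : IsInvCent 3 d)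
    {w : G} (hw : w * w = 1) (hwd : Inverts w d) :
    ∃ v a : G, (v * v = 1 ∧ v ≠ 1) ∧ v * d = d * v ∧ v * w = w * v ∧ a * d = d * a ∧ a * w = w * a ∧
      orderOf a = p ∧ Inverts v a ∧
      Nat.card ↥(Subgroup.centralizer ({d} : Set G) ⊓ Subgroup.centralizer ({w} : Set G)) = 2 * p ∧
      ∀ b : G, b * d = d * b → b * w = w * b → b ∈ Subgroup.zpowers a ∨ v * b ∈ Subgroup.zpowers a := by
  have hd3 := cube_of hd
  have hp5 := hX.hp
  haveI : Fact p.Prime := ⟨by rcases hp5 with rfl | rfl <;> norm_num⟩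
  obtain ⟨v, hv, hv1, hvd, hwv⟩ := hπ.exists_commuting_invol hX hd hw hwd
  obtain ⟨Q', pm', h'⟩ := h.atInv hone hv hv1
  obtain ⟨x, y, F⟩ := h'.exists_frame3 hvd.symm hd.1
  have hwT := F.inverter_mem_T hwv hw hwd
  obtain ⟨hvv', hv1'⟩ := hπ.invol_map hd3 hv hv1 hvd
  obtain ⟨s, hs⟩ : {s : X | (s ^ p = 1 ∧ s ≠ 1) ∧ Inverts (π v) s}.Nonempty :=
    Set.nonempty_of_ncard_ne_zero (by rw [hX.inverted _ hvv' hv1']; rcases hp5 with rfl | rfl <;> norm_num)
  obtain ⟨w', a₀, ⟨hw'z, hw', hw'd⟩, ha₀d, ha₀p, ha₀1, hw'a, hva₀, -⟩ := hπ.exists_cent_inverter hX F hwT hwd hone hs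
  have hw'T := F.inverter_mem_T hw'z hw' hw'd
  obtain ⟨e, hev, hed, rfl⟩ := F.inverters_conj hw'T hw'd hwv hw hwd
  have hei : e * v * e⁻¹ = v := conj_fix_iff.mpr hev
  have hedi : e * d * e⁻¹ = d := conj_fix_iff.mpr hed
  set a := e * a₀ * e⁻¹ with ha
  have had : a * d = d * a := by rw [← hedi]; exact conj_comm ha₀d
  have haw : a * (e * w' * e⁻¹) = e * w' * e⁻¹ * a := conj_comm hw'a.symm
  have hao : orderOf a = p := by rw [ha, orderOf_conj', orderOf_eq_prime ha₀p ha₀1]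
  have hva : Inverts v a := by rw [← hei]; exact inverts_conj hva₀
  set w := e * w' * e⁻¹
  set K := Subgroup.centralizer ({d} : Set G) ⊓ Subgroup.centralizer ({w} : Set G) with hK
  have mK : ∀ {b : G}, b ∈ K ↔ b * d = d * b ∧ b * w = w * b := fun {b} =>
    ⟨fun hb => ⟨mem_cent.mp hb.1, mem_cent.mp hb.2⟩, fun hb => ⟨mem_cent.mpr hb.1, mem_cent.mpr hb.2⟩⟩
  have hfixd : ∀ t ∈ Subgroup.zpowers d, w * t = t * w → t = 1 := fun t ht hc => by
    obtain ⟨n, hn⟩ := (isOfFinOrder_of_finite d).mem_powers_iff_mem_zpowers.mpr ht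
    have hn' : d ^ n = t := hn
    refine inverts_comm_eq_one (hn' ▸ inverts_pow hwd n) hc (odd_orderOf_of_pow (n := 3) (by decide) ?_)
    rw [← hn', ← pow_mul, mul_comm, pow_mul, hd3, one_pow]
  have hKv : ∀ b ∈ K, b * v = v * b → b = 1 ∨ b = v := by
    intro b hb hbv
    obtain ⟨hbd, hbw⟩ := mK.mp hb
    obtain ⟨c, hc, i, hbi⟩ := F.cent_cases hbv hbd
    obtain ⟨q, hq, hdq, hbq⟩ : ∃ q : G, q ∈ Q' ∧ d * q = q * d ∧ b = q * d ^ i := by
      rcases hbi with e | e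
      · exact ⟨c, (F.L_props hc).1, (F.L_props hc).2.1, e⟩
      · exact ⟨c * x, mul_mem (F.L_props hc).1 F.xS.1, Commute.mul_right (F.L_props hc).2.1 F.dx, e⟩
    have hflip : w * q * w⁻¹ = q * (d ^ i * d ^ i) := by
      have h1 : w * b * w⁻¹ = b := conj_fix_iff.mpr hbw.symm
      rw [hbq, show w * (q * d ^ i) * w⁻¹ = w * q * w⁻¹ * (w * d ^ i * w⁻¹) by group,
        show w * d ^ i * w⁻¹ = (d ^ i)⁻¹ from inverts_pow hwd i] at h1
      rw [← mul_assoc, ← h1]; group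
    have hdi : d ^ i = 1 := by
      have hmQ : d ^ i * d ^ i ∈ Q' := by
        have := mul_mem (inv_mem hq) (h'.nor_mem hwv hq)
        rwa [hflip, inv_mul_cancel_left] at this
      have h1 := Subgroup.orderOf_dvd_natCard _ hmQ
      rw [h'.card] at h1
      have h2 : orderOf (d ^ i * d ^ i) ∣ 3 := orderOf_dvd_of_pow_eq_one (by
        rw [← pow_add, ← pow_mul, mul_comm, pow_mul, hd3, one_pow])
      refine eq_one_of_sq_odd (orderOf_eq_one_iff.mp (Nat.eq_one_of_dvd_coprimes (by norm_num : Nat.Coprime 32 3) h1 h2)) ?_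
      exact odd_orderOf_of_pow (n := 3) (by decide) (by rw [← pow_mul, mul_comm, pow_mul, hd3, one_pow])
    rw [hdi, mul_one, mul_one] at hflip
    rw [hdi, mul_one] at hbq
    rw [hbq]
    exact F.inverter_cent hwT hwd hq hdq (conj_fix_iff.mp hflip)
  have hvK : v ∈ K := mK.mpr ⟨hvd, hwv.symm⟩
  have h4 : ¬ 4 ∣ Nat.card ↥(K ⊓ Subgroup.centralizer ({v} : Set G)) := by
    have hle : K ⊓ Subgroup.centralizer ({v} : Set G) ≤ Subgroup.zpowers v := fun b hb => by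
      rcases hKv b hb.1 (mem_cent.mp hb.2) with rfl | rfl
      exacts [one_mem _, Subgroup.mem_zpowers _]
    have := Subgroup.card_dvd_of_le hle
    rw [Nat.card_zpowers, orderOf_two hv hv1] at this
    intro h4'
    exact absurd (h4'.trans this) (by norm_num)
  obtain ⟨N, hNK, hcard, hNodd, hvN, hNn, hNmem, hNcov⟩ := odd_half hvK hv hv1 h4
  have hNinv : ∀ b ∈ N, Inverts v b := inverts_of_fixed_free hv (fun b hb => hNn v hvK b hb) fun b hb hc => by
    rcases hKv b (hNK hb) hc.symm with rfl | rfl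
    exacts [rfl, absurd hb hvN]
  have haN : a ∈ N := hNmem a (mK.mpr ⟨had, haw⟩) (by rw [hao]; rcases hp5 with rfl | rfl <;> decide)
  have hN : N = Subgroup.zpowers a := by
    refine le_antisymm (fun b hb => ?_) (Subgroup.zpowers_le.mpr haN)
    obtain ⟨hbd, hbw⟩ := mK.mp (hNK hb)
    have hπa1 : π a ≠ 1 := fun e => by
      have := hfixd a ((hπ.ker a had).mp e) haw.symm
      rw [this, orderOf_one] at hao
      exact (Fact.out : p.Prime).one_lt.ne hao
    have hπap : π a ^ p = 1 := by rw [← hπ.map_pow had, ← hao, pow_orderOf_eq_one, hπ.map_one']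
    have hm := hX.cent (π a) (π b) hπap hπa1 (by
      rw [← hπ.mul _ _ hbd had, comm_of_inverted hNinv hb haN, hπ.mul _ _ had hbd])
    have hπaf : IsOfFinOrder (π a) := isOfFinOrder_iff_pow_eq_one.mpr ⟨p, (Fact.out : p.Prime).pos, hπap⟩
    obtain ⟨i, hi⟩ := hπaf.mem_powers_iff_mem_zpowers.mpr hm
    have haid : a ^ i * d = d * a ^ i := Commute.pow_left had i
    have hid : (a ^ i)⁻¹ * b * d = d * ((a ^ i)⁻¹ * b) := Commute.mul_left (Commute.inv_left haid) hbd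
    have := hfixd _ ((hπ.ker _ hid).mp (by
      rw [hπ.mul _ _ (Commute.inv_left haid) hbd, hπ.map_inv haid, hπ.map_pow had, show π a ^ i = π b from hi,
        inv_mul_cancel]))
      (Commute.mul_right (Commute.inv_right (Commute.pow_right haw.symm i)) hbw.symm).eq
    rw [← inv_mul_eq_one.mp this]
    exact Subgroup.pow_mem _ (Subgroup.mem_zpowers a) i
  refine ⟨v, a, ⟨hv, hv1⟩, hvd, hwv.symm, had, haw, hao, hva, ?_, fun b hbd hbw => ?_⟩
  · rw [hcard, hN, Nat.card_zpowers, hao]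
  · rw [← hN]
    exact hNcov b (mK.mpr ⟨hbd, hbw⟩)

end ThreeQ

end CfsgLib.J3Type
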