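import Cfsg.Agent.Lib.J3Type.Local
import Cfsg.Agent.Lib.J3Type.ThreeType

/-!
Groups of `J₃` type: the normalizer of an elementary abelian subgroup of order sixteen.
-/

set_option autoImplicit false
set_option linter.unusedSectionVars false

namespace CfsgLib.J3Type

open Cfsg CfsgLargeExtra Equiv
open CfsgLib.HallJankoType (orb mem_cent conj_fix_iff ncard_orb)

universe u

variable {G : Type u} [Group G] [Finite G] {z : G} {Q : Subgroup G} {pm : G → Perm (Fin 5)}

theorem mem_normalizer_of_conj {A : Subgroup G} {n : G} (h : ∀ x ∈ A, n * x * n⁻¹ ∈ A) :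
    n ∈ Subgroup.normalizer (A : Set G) := by
  rw [Subgroup.mem_normalizer_iff]
  have hmap : A.map (MulAut.conj n).toMonoidHom = A := by
    refine Subgroup.eq_of_le_of_card_ge ?_ (le_of_eq ?_)
    · rintro _ ⟨x, hx, rfl⟩
      exact h x hx
    · rw [Subgroup.card_map_of_injective (f := (MulAut.conj n).toMonoidHom) (MulAut.conj n).injective]
  intro x
  refine ⟨h x, fun hx => ?_⟩
  have hx' : n * x * n⁻¹ ∈ A.map (MulAut.conj n).toMonoidHom := hmap.symm ▸ hx
  obtain ⟨y, hy, e⟩ := hx'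
  rwa [show x = y from (MulAut.conj n).injective e.symm]

theorem conj_of_mem_normalizer {A : Subgroup G} {n x : G} (hn : n ∈ Subgroup.normalizer (A : Set G)) (hx : x ∈ A) :
    n * x * n⁻¹ ∈ A :=
  (Subgroup.mem_normalizer_iff.mp hn x).mp hx

/-- An elementary abelian self-centralising subgroup of order sixteen with normalizer of order 2880. -/
structure Sixteen (A : Subgroup G) : Prop where
  card : Nat.card ↥A = 16
  sq : ∀ a ∈ A, a * a = 1
  cent : ∀ g : G, (∀ a ∈ A, g * a = a * g) → g ∈ A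
  card_normalizer : Nat.card ↥(Subgroup.normalizer (A : Set G)) = 2880

theorem Sixteen.comm {A : Subgroup G} (S : Sixteen A) {a b : G} (ha : a ∈ A) (hb : b ∈ A) : a * b = b * a := by
  have e := inv_eq_of_mul_eq_one_right (S.sq _ (mul_mem ha hb))
  rw [mul_inv_rev, inv_eq_of_mul_eq_one_right (S.sq a ha), inv_eq_of_mul_eq_one_right (S.sq b hb)] at e
  exact e.symm

/-- A group of `J₃` type contains such a subgroup. -/
theorem exists_sixteen (h : JT z Q pm) (hone : OneClass G) : ∃ A : Subgroup G, Sixteen A := by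
  classical
  obtain ⟨x, t, t', Q', pm', K⟩ := exists_cfg_of_JT h
  set A := K.E with hA
  have hzA : z ∈ A := K.U_le_E K.P.zU
  have hcent : ∀ g : G, (∀ a ∈ A, g * a = a * g) → g ∈ A := fun g hg =>
    K.mem_E.mpr ⟨hg z hzA, hg t K.t_mem_E⟩
  have htT : t ∈ h.T := ⟨K.tz, K.tt, K.t_not_Q⟩
  -- the subgroups of the same shape through `z`
  have huniq : ∀ B : Subgroup G, Nat.card ↥B = 16 → (∀ b ∈ B, b * b = 1) → z ∈ B →
      ∃ c : G, c * z = z * c ∧ ∀ a ∈ A, c * a * c⁻¹ ∈ B := by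
    intro B hB hsq hzB
    have hcomm : ∀ {p q : G}, p ∈ B → q ∈ B → p * q = q * p := fun {p q} hp hq => by
      have e := inv_eq_of_mul_eq_one_right (hsq _ (mul_mem hp hq))
      rw [mul_inv_rev, inv_eq_of_mul_eq_one_right (hsq p hp), inv_eq_of_mul_eq_one_right (hsq q hq)] at e
      exact e.symm
    obtain ⟨y, hy, hyQ⟩ : ∃ y ∈ B, y ∉ Q := by
      by_contra hall
      push Not at hall
      have hsmall : ∀ (p : G), p ∈ B → p ≠ 1 → p ≠ z → (B : Set G) ⊆ {1, z, p, z * p} := fun p hp h1 h2 b hb =>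
        h.ea ⟨hall p hp, hsq p hp, h1, h2⟩ (hall b hb) (hsq b hb) (hcomm hb hp)
      have hBc : (B : Set G).ncard = 16 := by rw [← Nat.card_coe_set_eq]; exact hB
      by_cases hp : ∃ p ∈ B, p ≠ 1 ∧ p ≠ z
      · obtain ⟨p, hp, h1, h2⟩ := hp
        have := Set.ncard_le_ncard (hsmall p hp h1 h2) (Set.toFinite _)
        have a1 := Set.ncard_insert_le (1 : G) {z, p, z * p}
        have a2 := Set.ncard_insert_le z {p, z * p}
        have a3 := Set.ncard_insert_le p {z * p}
        rw [Set.ncard_singleton] at a3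
        omega
      · push Not at hp
        have hsub : (B : Set G) ⊆ {1, z} := fun b hb => by
          by_cases e : b = 1
          · exact Or.inl e
          · exact Or.inr (hp b hb e)
        have := Set.ncard_le_ncard hsub (Set.toFinite _)
        have a1 := Set.ncard_insert_le (1 : G) {z}
        rw [Set.ncard_singleton] at a1
        omega
    have hyT : y ∈ h.T := ⟨hcomm hy hzB, hsq y hy, hyQ⟩
    obtain ⟨c, hc, hcy⟩ := h.trans_T htT hyT
    refine ⟨c, hc, ?_⟩
    have hBeq : B = A.map (MulAut.conj c).toMonoidHom := by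
      refine Subgroup.eq_of_le_of_card_ge (fun b hb => ?_) (le_of_eq ?_)
      · refine ⟨c⁻¹ * b * c, K.mem_E.mpr ⟨Commute.mul_left (Commute.mul_left (Commute.inv_left hc) (hcomm hb hzB)) hc,
          ?_⟩, by simp [MulAut.conj_apply, mul_assoc]⟩
        have := hcomm hb hy
        rw [← hcy] at this
        calc c⁻¹ * b * c * t = c⁻¹ * (b * (c * t * c⁻¹)) * c := by group
          _ = c⁻¹ * (c * t * c⁻¹ * b) * c := by rw [this]
          _ = t * (c⁻¹ * b * c) := by group
      · rw [Subgroup.card_map_of_injective (f := (MulAut.conj c).toMonoidHom) (MulAut.conj c).injective, hB, K.card_E]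
    intro a ha
    rw [hBeq]
    exact ⟨a, ha, rfl⟩
  refine ⟨A, K.card_E, fun a ha => K.E_sq ha, hcent, ?_⟩
  set N := Subgroup.normalizer (A : Set G) with hN
  set M := N ⊓ Subgroup.centralizer ({z} : Set G) with hM
  -- transitivity on the involutions of `A`
  have horbN : orb N z = {a | a ∈ A ∧ a ≠ 1} := by
    ext y
    constructor
    · rintro ⟨n, hn, rfl⟩
      exact ⟨conj_of_mem_normalizer hn hzA, fun e => h.es.ne (conj_eq_one_iff.mp e)⟩
    · rintro ⟨hy, hy1⟩
      obtain ⟨g, hg⟩ := hone.move h (K.E_sq hy) hy1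
      obtain ⟨c, hc, hcA⟩ := huniq (A.map (MulAut.conj g).toMonoidHom)
        (by rw [Subgroup.card_map_of_injective (f := (MulAut.conj g).toMonoidHom) (MulAut.conj g).injective, K.card_E])
        (by rintro _ ⟨a, ha, rfl⟩
            exact conj_sq g a (K.E_sq ha))
        ⟨y, hy, hg⟩
      refine ⟨g⁻¹ * c, mem_normalizer_of_conj fun a ha => ?_, ?_⟩
      · obtain ⟨b, hb, e⟩ := hcA a ha
        have e' : g * b * g⁻¹ = c * a * c⁻¹ := e
        rwa [show g⁻¹ * c * a * (g⁻¹ * c)⁻¹ = g⁻¹ * (c * a * c⁻¹) * g by group, ← e',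
          show g⁻¹ * (g * b * g⁻¹) * g = b by group]
      · rw [show g⁻¹ * c * z * (g⁻¹ * c)⁻¹ = g⁻¹ * (c * z * c⁻¹) * g by group, conj_fix_iff.mpr hc, ← hg]
        group
  have horbM : orb M t = {a | a ∈ A ∧ a ∉ Q} := by
    ext y
    constructor
    · rintro ⟨n, hn, rfl⟩
      exact ⟨conj_of_mem_normalizer hn.1 K.t_mem_E,
        fun e => K.t_not_Q ((h.nor_mem_iff (mem_cent.mp hn.2)).mp e)⟩
    · rintro ⟨hy, hyQ⟩
      obtain ⟨c, hc, e⟩ := h.trans_T htT ⟨(K.mem_E.mp hy).1, K.E_sq hy, hyQ⟩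
      refine ⟨c, ⟨mem_normalizer_of_conj fun a ha => ?_, mem_cent.mpr hc⟩, e⟩
      refine hcent _ fun b hb => ?_
      have hb' : c⁻¹ * b * c ∈ A := K.mem_E.mpr ⟨Commute.mul_left (Commute.mul_left (Commute.inv_left hc)
        (K.mem_E.mp hb).1) hc, by
        have := K.E_comm hb hy
        rw [← e] at this
        calc c⁻¹ * b * c * t = c⁻¹ * (b * (c * t * c⁻¹)) * c := by group
          _ = c⁻¹ * (c * t * c⁻¹ * b) * c := by rw [this]
          _ = t * (c⁻¹ * b * c) := by group⟩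
      have := conj_comm (g := c) (K.E_comm ha hb')
      rwa [show c * (c⁻¹ * b * c) * c⁻¹ = b by group] at this
  have hstab : M ⊓ Subgroup.centralizer ({t} : Set G) = A := by
    refine le_antisymm (fun g hg => K.mem_E.mpr ⟨mem_cent.mp hg.1.2, mem_cent.mp hg.2⟩) fun a ha => ?_
    exact ⟨⟨Subgroup.le_normalizer ha, mem_cent.mpr (K.mem_E.mp ha).1⟩, mem_cent.mpr (K.mem_E.mp ha).2⟩
  have h15 : ({a | a ∈ A ∧ a ≠ 1} : Set G).ncard = 15 := by
    have : ({a | a ∈ A ∧ a ≠ 1} : Set G) = (A : Set G) \ {1} := rfl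
    rw [this, Set.ncard_sdiff_singleton_of_mem (one_mem A), ← Nat.card_coe_set_eq]
    show Nat.card ↥A - 1 = 15
    rw [K.card_E]
  have h12 : ({a | a ∈ A ∧ a ∉ Q} : Set G).ncard = 12 := by
    have e : ({a | a ∈ A ∧ a ∉ Q} : Set G) = (A : Set G) \ (K.P.U : Set G) := by
      ext a
      exact ⟨fun ⟨h1, h2⟩ => ⟨h1, fun hu => h2 (K.P.U_mem hu).1⟩,
        fun ⟨h1, h2⟩ => ⟨h1, fun hq => h2 (K.E_inter_Q h1 hq)⟩⟩
    rw [e, Set.ncard_sdiff (fun u hu => K.U_le_E hu), ← Nat.card_coe_set_eq (A : Set G),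
      ← Nat.card_coe_set_eq (K.P.U : Set G)]
    show Nat.card ↥A - Nat.card ↥K.P.U = 12
    rw [K.card_E, K.P.card_U]
  have e1 := ncard_orb M t
  rw [horbM, hstab, h12, K.card_E] at e1
  have e2 := ncard_orb N z
  rw [horbN, h15, ← hM, ← e1] at e2
  exact e2.symm

end CfsgLib.J3Type
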