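import Cfsg.Agent.Lib.J3Type.SixIndex

/-!
Groups of `J₃` type, alternating case: the pure orbit, the centralizer of an element of `clsE` as a Sylow
three-subgroup, and the centralizers of the elements of order three.
-/

set_option autoImplicit false
set_option linter.unusedSectionVars false
set_option maxHeartbeats 800000

namespace CfsgLib.J3Type

open Cfsg CfsgLargeExtra Equiv
open CfsgLib.HallJankoType (orb mem_cent conj_fix_iff ncard_orb orderOf_conj')

universe u

variable {G : Type u} [Group G] [Finite G] {z : G} {Q : Subgroup G} {pm : G → Perm (Fin 5)}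

namespace SixType

variable (hs : SixType G) (h : JT z Q pm) (hone : OneClass G)
include hs h hone

theorem card_G : Nat.card G = 50232960 := by rw [h.card_eq_index hone, hs.index_eq h hone]

theorem free_sum : (pureF z).ncard + (freeE z).ncard = 9600 := by
  have := hs.involutions_count h hone
  rw [hs.index_eq h hone] at this
  omega

/-- The centralizer of a pure element has order seventeen, and its conjugates cover `3840` pure elements. -/
theorem pure_data {y : G} (hy : y ∈ pureF z) :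
    Nat.card ↥(Subgroup.centralizer ({y} : Set G)) = 17 ∧
      (conjUnion (Subgroup.centralizer ({z} : Set G))
        ((Subgroup.centralizer ({y} : Set G) : Set G) \ {1})).ncard = 3840 := by
  set A := Subgroup.centralizer ({y} : Set G) with hA
  have hsc : SelfCent A := h.pure_selfCent hy
  obtain ⟨hAo, hAi⟩ := h.free_cent hy.1
  have h30 := h.pure_coprime_thirty hs.qType hone hy
  have hA1 : A ≠ ⊥ := fun e => hy.1.1.1 (Subgroup.mem_bot.mp (e ▸ (mem_cent.mpr rfl : y ∈ A)))
  obtain ⟨u, hu, h7, hmod, hcg, hU⟩ := h.selfCent_item hone hsc hAi hAo h30 hA1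
  have hle : (conjUnion (Subgroup.centralizer ({z} : Set G)) ((A : Set G) \ {1})).ncard ≤ 9600 := by
    refine le_trans (Set.ncard_le_ncard ?_ (Set.toFinite _)) ((le_add_right le_rfl).trans (hs.free_sum h hone).le)
    rintro x ⟨c, hc, hm, hm1⟩
    have hcy : c⁻¹ * x * c ∈ pureF z := by
      refine ⟨hy.2 _ (mem_cent.mp hm) hm1, fun b hb hb1 => hy.2 b (mem_cent.mp ?_) hb1⟩
      show b ∈ A
      rw [← hsc _ hm hm1]
      exact mem_cent.mpr hb
    have := pureF_conj (mem_cent.mp hc) hcy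
    rwa [show c * (c⁻¹ * x * c) * c⁻¹ = x by group] at this
  rw [hs.index_eq h hone] at hcg
  rw [hU] at hle ⊢
  generalize Nat.card ↥A = a at *
  have ha : a ∣ 26163 := by
    simp only [Arith.congr, Bool.and_eq_true, Nat.beq_eq] at hcg
    exact Nat.dvd_of_mod_eq_zero hcg.1
  have ha' : a ∈ Nat.divisors 323 := Nat.mem_divisors.mpr ⟨(Nat.Coprime.dvd_mul_left
    (Nat.Coprime.coprime_dvd_right (show 81 ∣ 30 ^ 4 by norm_num) (Nat.Coprime.pow_right 4 h30))).mp
      (show a ∣ 81 * 323 from ha), by norm_num⟩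
  have key : ∀ a ∈ Nat.divisors 323, ∀ u ∈ Arith.mults false, Nat.ble 7 a = true → u * (a - 1) % 1920 = 0 →
      Nat.ble (u * (a - 1)) 9600 = true → Arith.congr 26163 false a u = true → a = 17 ∧ u * (a - 1) = 3840 := by
    decide +kernel
  exact key a ha' u hu (Nat.ble_eq.mpr h7) hmod (Nat.ble_eq.mpr hle) hcg

/-- There are no or `3840` pure elements. -/
theorem pure_cases : (pureF z).ncard = 0 ∨ (pureF z).ncard = 3840 := by
  rcases (pureF z).eq_empty_or_nonempty with e | ⟨y, hy⟩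
  · exact Or.inl (by rw [e, Set.ncard_empty])
  refine Or.inr ?_
  obtain ⟨hc, hU⟩ := hs.pure_data h hone hy
  rw [← hU]
  congr 1
  ext x
  constructor
  · intro hx
    haveI : Fact (Nat.Prime 17) := ⟨by norm_num⟩
    obtain ⟨hAo, hAi⟩ := h.free_cent hy.1
    obtain ⟨hBo, hBi⟩ := h.free_cent hx.1
    obtain ⟨c, hcz, hiff⟩ := (h.pure_selfCent hy).conj_of_share (h.pure_selfCent hx) h.zz hAi hBi hBo
      (q := 17) (by rw [hc]) (by rw [(hs.pure_data h hone hx).1])
    refine ⟨c, mem_cent.mpr hcz, (hiff _).mpr ?_, fun e => hx.1.1.1 ?_⟩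
    · rw [show c * (c⁻¹ * x * c) * c⁻¹ = x by group]
      exact mem_cent.mpr rfl
    · rw [show x = c * (c⁻¹ * x * c) * c⁻¹ by group, Set.mem_singleton_iff.mp e]
      group
  · rintro ⟨c, hc', hm, hm1⟩
    have hcy : c⁻¹ * x * c ∈ pureF z := by
      refine ⟨hy.2 _ (mem_cent.mp hm) hm1, fun b hb hb1 => hy.2 b (mem_cent.mp ?_) hb1⟩
      rw [← h.pure_selfCent hy _ hm hm1]
      exact mem_cent.mpr hb
    have := pureF_conj (mem_cent.mp hc') hcy
    rwa [show c * (c⁻¹ * x * c) * c⁻¹ = x by group] at this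

theorem sylow_three_card (P : Sylow 3 G) : Nat.card ↥(P : Subgroup G) = 243 := by
  haveI : Fact (Nat.Prime 3) := ⟨Nat.prime_three⟩
  obtain ⟨k, hk⟩ := IsPGroup.iff_card.mp P.2
  have hd : Nat.card ↥(P : Subgroup G) ∣ 50232960 :=
    hs.card_G h hone ▸ Subgroup.card_subgroup_dvd_card (P : Subgroup G)
  have h5 : 3 ^ 5 ∣ Nat.card ↥(P : Subgroup G) :=
    P.pow_dvd_card_of_pow_dvd_card (by rw [hs.card_G h hone]; norm_num)
  rw [hk] at hd h5 ⊢
  have h3 : 3 ^ k ∣ 243 := (Nat.Coprime.dvd_mul_left ((Nat.Coprime.pow_left k (by norm_num : Nat.Coprime 3 206720)))).mp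
    (show 3 ^ k ∣ 206720 * 243 from hd)
  exact Nat.dvd_antisymm h3 h5

/-- A three-subgroup is conjugate into any subgroup of order `3^5`. -/
theorem conj_into {R E : Subgroup G} (hR : IsPGroup 3 ↥R) (hE : Nat.card ↥E = 243) :
    ∃ g : G, ∀ r ∈ R, g * r * g⁻¹ ∈ E := by
  haveI : Fact (Nat.Prime 3) := ⟨Nat.prime_three⟩
  obtain ⟨S, hS⟩ := (IsPGroup.of_card (p := 3) (n := 5) (G := ↥E) (by rw [hE]; norm_num)).exists_le_sylow
  have heq : E = (S : Subgroup G) :=
    Subgroup.eq_of_le_of_card_ge hS (by rw [hs.sylow_three_card h hone S, hE])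
  obtain ⟨T, hT⟩ := hR.exists_le_sylow
  obtain ⟨g, hg⟩ := MulAction.exists_smul_eq G T S
  refine ⟨g, fun r hr => ?_⟩
  rw [heq, ← hg, Sylow.coe_subgroup_smul]
  exact Subgroup.smul_mem_pointwise_smul _ _ _ (hT hr)

/-- The structure of the centralizer of an element of `clsE` in the closed case. -/
theorem closed_struct {e : G} {A : Subgroup G} (D : ClosedData z e A) :
    Nat.card ↥(Subgroup.centralizer ({e} : Set G)) = 243 ∧
      ∃ Z : Subgroup G, 9 ≤ Nat.card ↥Z ∧
        ∀ c ∈ Z, Inverts z c ∧ ∀ a ∈ Subgroup.centralizer ({e} : Set G), a * c = c * a := by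
  haveI : Fact (Nat.Prime 3) := ⟨Nat.prime_three⟩
  obtain ⟨u, hu, h3, hodd, -, h640, -, hcg⟩ := hs.closed_item h hone D
  rw [hs.index_eq h hone] at hcg
  have hsum := hs.free_sum h hone
  have key : ∀ v ∈ [10240, 6400], ∀ u ∈ Arith.mults true, v % u = 0 → (v / u + 1) % 3 = 0 →
      Arith.congr 26163 true (v / u + 1) u = true → v / u + 1 = 81 := by decide +kernel
  have hA81 : Nat.card ↥A = 81 := by
    set M := Nat.card ↥A with hM
    have hv : u * (M - 1) ∈ [10240, 6400] := by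
      rcases hs.pure_cases h hone with e1 | e1 <;> rw [h640] <;> simp <;> omega
    have hu0 := (Arith.mult_bounds hu).1
    have hdiv : u * (M - 1) / u + 1 = M := by
      rw [Nat.mul_div_cancel_left _ hu0]
      have := hodd.pos
      omega
    have := key _ hv u hu (Nat.mul_mod_right _ _) (by rw [hdiv]; omega) (by rw [hdiv]; exact hcg)
    rwa [hdiv] at this
  set E := Subgroup.centralizer ({e} : Set G) with hEdef
  have hE : Nat.card ↥E = 243 := by
    rw [(hs.clsE_cent h hone D.he).2.2, show (invC z e).ncard = Nat.card ↥A from ?_, hA81]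
    rw [← Nat.card_coe_set_eq]
    exact Nat.card_congr (Equiv.setCongr (Set.ext fun x => (D.mem x).symm))
  refine ⟨hE, ?_⟩
  have hinv : ∀ x ∈ A, Inverts z x := fun x hx => ((D.mem x).mp hx).2
  have hAE : A ≤ E := fun x hx => mem_cent.mpr ((D.mem x).mp hx).1
  -- an element of order three centralized by an involution, with a Sylow subgroup of its centralizer inside `E`
  obtain ⟨d, X, _, π, hX, hπ, -, hdo, hdI, -⟩ := hs.clsE_data h hone D.he
  set C := Subgroup.centralizer ({d} : Set G) with hC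
  have hd3 : IsPGroup 3 ↥(Subgroup.zpowers (⟨d, mem_cent.mpr rfl⟩ : ↥C)) :=
    IsPGroup.of_card (n := 1) (by rw [Nat.card_zpowers, Subgroup.orderOf_mk, hdo, pow_one])
  obtain ⟨R, hR⟩ := hd3.exists_le_sylow
  have hR27 : 27 ∣ Nat.card ↥(R : Subgroup ↥C) :=
    R.pow_dvd_card_of_pow_dvd_card (n := 3) (by rw [hπ.card_cent, hdo, hX.card]; norm_num)
  set R' := (R : Subgroup ↥C).map C.subtype with hR'
  have hR'27 : 27 ≤ Nat.card ↥R' := by
    rw [hR', Subgroup.card_map_of_injective C.subtype_injective]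
    exact Nat.le_of_dvd Nat.card_pos hR27
  obtain ⟨g, hg⟩ := hs.conj_into h hone (R.2.map C.subtype) hE
  set d' := g * d * g⁻¹ with hd'
  have hd'E : d' ∈ E := hg d ⟨⟨d, mem_cent.mpr rfl⟩, hR (Subgroup.mem_zpowers _), rfl⟩
  have hd'A : d' ∉ A := by
    intro hm
    have hi := hdI.conj g
    have hne : d' ≠ 1 := (hi.odd (Or.inl rfl)).2.2
    rcases D.cases d' hm hne with hf | hf
    · exact h.invCent_not_free hs.qType hone (Or.inl rfl) hi hf
    · exact hf.2.1 (h.invY_of_invCent hs.qType hone (Or.inl rfl) hi (hinv d' hm))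
  set H := E ⊓ Subgroup.centralizer ({d'} : Set G) with hH
  have hH27 : 27 ≤ Nat.card ↥H := by
    refine le_trans hR'27 (Nat.card_le_card_of_injective (fun r => (⟨g * r.1 * g⁻¹, hg r r.2, mem_cent.mpr ?_⟩ : ↥H)) ?_)
    · obtain ⟨a, -, ha⟩ := r.2
      exact conj_comm (ha ▸ mem_cent.mp a.2)
    · exact fun a b e1 => Subtype.ext (mul_left_cancel (mul_right_cancel (congrArg Subtype.val e1)))
  refine ⟨A ⊓ H, ?_, fun c hc => ⟨hinv c hc.1, fun a ha => ?_⟩⟩
  · have h1 : A.relIndex E = 3 := by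
      have := Subgroup.card_mul_index (A.subgroupOf E)
      rw [Nat.card_congr (Subgroup.subgroupOfEquivOfLe hAE).toEquiv, hA81, hE] at this
      show (A.subgroupOf E).index = 3
      omega
    have h2 : A.relIndex H ≤ 3 := h1 ▸ Subgroup.relIndex_le_of_le_right inf_le_left (by rw [h1]; norm_num)
    have h4 : Nat.card ↥(A ⊓ H) * A.relIndex H = Nat.card ↥H := by
      rw [← Subgroup.inf_relIndex_right, ← Nat.card_congr (Subgroup.subgroupOfEquivOfLe (inf_le_right (a := A) (b := H))).toEquiv]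
      exact Subgroup.card_mul_index _
    have := Nat.mul_le_mul_left (Nat.card ↥(A ⊓ H)) h2
    omega
  · have hmem : ∀ b, b ∈ A ∨ b = d' → b ∈ E ⊓ Subgroup.centralizer ({c} : Set G) := by
      rintro b (hb | rfl)
      · exact ⟨hAE hb, mem_cent.mpr (comm_of_inverted hinv hb hc.1)⟩
      · exact ⟨hd'E, mem_cent.mpr (mem_cent.mp hc.2.2).symm⟩
    set K := E ⊓ Subgroup.centralizer ({c} : Set G)
    have hlt : A < K := lt_of_le_of_ne (fun b hb => hmem b (Or.inl hb)) fun e1 => hd'A (e1 ▸ hmem d' (Or.inr rfl))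
    have hKd : Nat.card ↥K ∣ 3 ^ 5 := by
      rw [show (3 : ℕ) ^ 5 = 243 by norm_num, ← hE]
      exact Subgroup.card_dvd_of_le inf_le_left
    obtain ⟨k, hk, hk'⟩ := (Nat.dvd_prime_pow Nat.prime_three).mp hKd
    have h81 : 81 < Nat.card ↥K := hA81 ▸ Set.Finite.card_lt_card (Set.toFinite _) (SetLike.coe_ssubset_coe.mpr hlt)
    have hk5 : k = 5 := by
      by_contra hne
      have := Nat.pow_le_pow_right (show 1 ≤ 3 by norm_num) (show k ≤ 4 by omega)
      omega
    have hKE : K = E := Subgroup.eq_of_le_of_card_ge inf_le_left (by rw [hk', hk5, hE]; norm_num)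
    exact mem_cent.mp (hKE.symm ▸ ha : a ∈ K).2

/-- The centralizer of an element of `clsE` is a Sylow three-subgroup with a central inverted subgroup of order at
least nine. -/
theorem clsE_struct {e : G} (he : e ∈ clsE z) :
    Nat.card ↥(Subgroup.centralizer ({e} : Set G)) = 243 ∧
      ∃ Z : Subgroup G, 9 ≤ Nat.card ↥Z ∧
        ∀ c ∈ Z, Inverts z c ∧ ∀ a ∈ Subgroup.centralizer ({e} : Set G), a * c = c * a := by
  haveI : Fact (Nat.Prime 3) := ⟨Nat.prime_three⟩
  by_cases hcl : ∀ x ∈ invC z e, ∀ y ∈ invC z e, x * y ∈ invC z e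
  · obtain ⟨A, D⟩ := hs.exists_closedData h hone he hcl
    exact hs.closed_struct h hone D
  obtain ⟨-, -, hc, hi, h9⟩ := hs.general_case h hone he hcl
  obtain ⟨d, X, _, π, hX, hπ, hdz, hdo, -, hed, -, h3, h1, -⟩ := hs.clsE_data h hone he
  set E := Subgroup.centralizer ({e} : Set G) with hEdef
  have h243 : Nat.card ↥E = 243 := by
    refine hc.resolve_left fun h81 => ?_
    obtain ⟨P, hP⟩ := (IsPGroup.of_card (p := 3) (n := 4) (G := ↥E) (by rw [h81]; norm_num)).exists_le_sylow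
    have hPc := hs.sylow_three_card h hone P
    haveI : Nontrivial ↥(P : Subgroup G) := Finite.one_lt_card_iff_nontrivial.mp (by rw [hPc]; norm_num)
    haveI := IsPGroup.center_nontrivial P.2
    obtain ⟨⟨⟨c, hcP⟩, hcc⟩, hc1⟩ := exists_ne (1 : Subgroup.center ↥(P : Subgroup G))
    have hcomm : ∀ b ∈ (P : Subgroup G), b * c = c * b := fun b hb =>
      congrArg Subtype.val (Subgroup.mem_center_iff.mp hcc ⟨b, hb⟩)
    have hc1' : c ≠ 1 := fun e1 => hc1 (Subtype.ext (Subtype.ext e1))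
    have hcE : c ∈ E := mem_cent.mpr (hcomm e (hP (mem_cent.mpr rfl))).symm
    have hinv := hi c hcE fun a ha => hcomm a (hP ha)
    have hodd : Odd (orderOf c) :=
      (show Odd 81 by decide).of_dvd_nat (h81 ▸ Subgroup.orderOf_dvd_natCard E hcE)
    have hcd : c * d = d * c := (hcomm d (hP (mem_cent.mpr hed.symm))).symm
    have hcls : c ∈ clsE z := (hs.clsE_comm h hone he ⟨hc1', hodd, hinv⟩ (mem_cent.mp hcE)).resolve_left fun hf => by
      have hd1 : d = 1 := Subgroup.mem_bot.mp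
        (Subgroup.eq_bot_of_card_eq _ hf.2 ▸ (mem_CC.mpr ⟨hcd.symm, hdz⟩ : d ∈ CC c z))
      rw [hd1, orderOf_one] at hdo
      omega
    obtain ⟨g, -, hg⟩ := hs.clsE_orbit h hone he hcls
    have hle : Nat.card ↥(P : Subgroup G) ≤ Nat.card ↥(Subgroup.centralizer ({c} : Set G)) :=
      Subgroup.card_le_of_le fun b hb => mem_cent.mpr (hcomm b hb)
    rw [hPc, ← hg, card_cent_conj, h81] at hle
    omega
  refine ⟨h243, (Subgroup.center ↥E).map E.subtype, ?_, ?_⟩
  · rw [Subgroup.card_map_of_injective E.subtype_injective]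
    exact h9 h243
  · rintro _ ⟨⟨c, hcE⟩, hcc, rfl⟩
    have hcomm : ∀ a ∈ E, a * c = c * a := fun a ha =>
      congrArg Subtype.val (Subgroup.mem_center_iff.mp hcc ⟨a, ha⟩)
    exact ⟨hi c hcE hcomm, hcomm⟩

/-- Every element of order three has centralizer of order divisible by `27`. -/
theorem three_cent_dvd {o : G} (ho : orderOf o = 3) : 27 ∣ Nat.card ↥(Subgroup.centralizer ({o} : Set G)) := by
  haveI : Fact (Nat.Prime 3) := ⟨Nat.prime_three⟩
  obtain ⟨e, he⟩ : (clsE z).Nonempty :=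
    Set.nonempty_of_ncard_ne_zero (by rw [(hs.nonfree_count h hone).2.2]; norm_num)
  obtain ⟨hE, Z, hZ, hZc⟩ := hs.clsE_struct h hone he
  set E := Subgroup.centralizer ({e} : Set G) with hEdef
  obtain ⟨g, hg⟩ := hs.conj_into h hone (R := Subgroup.zpowers o) (E := E)
    (IsPGroup.of_card (n := 1) (by rw [Nat.card_zpowers, ho, pow_one])) hE
  rw [← card_cent_conj g o]
  set o' := g * o * g⁻¹
  have ho' : o' ∈ E := hg o (Subgroup.mem_zpowers o)
  have hZE : Z ≤ E := fun c hc => mem_cent.mpr ((hZc c hc).2 e (mem_cent.mpr rfl)).symm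
  set K := E ⊓ Subgroup.centralizer ({o'} : Set G)
  have hZK : Z ≤ K := fun c hc => ⟨hZE hc, mem_cent.mpr ((hZc c hc).2 o' ho').symm⟩
  obtain ⟨k, -, hk⟩ := (Nat.dvd_prime_pow Nat.prime_three).mp
    (show Nat.card ↥K ∣ 3 ^ 5 by
      rw [show (3 : ℕ) ^ 5 = 243 by norm_num, ← hE]; exact Subgroup.card_dvd_of_le inf_le_left)
  refine Dvd.dvd.trans ?_ (Subgroup.card_dvd_of_le (inf_le_right (a := E)))
  rw [hk, show (27 : ℕ) = 3 ^ 3 by norm_num]
  refine pow_dvd_pow 3 ?_
  by_contra hlt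
  have h9 : Nat.card ↥K ≤ 9 := by
    rw [hk]
    exact (Nat.pow_le_pow_right (show 1 ≤ 3 by norm_num) (show k ≤ 2 by omega)).trans (by norm_num)
  have hZeq : Z = K := Subgroup.eq_of_le_of_card_ge hZK (h9.trans hZ)
  have hoZ : o' ∈ Z := hZeq.symm ▸ (⟨ho', mem_cent.mpr rfl⟩ : o' ∈ K)
  have : Nat.card ↥E ≤ Nat.card ↥K :=
    Subgroup.card_le_of_le fun a ha => ⟨ha, mem_cent.mpr ((hZc o' hoZ).2 a ha)⟩
  omega

/-- There are `3840` pure elements. -/
theorem pure_eq : (pureF z).ncard = 3840 := by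
  refine (hs.pure_cases h hone).resolve_left fun e0 => ?_
  have hsum := hs.free_sum h hone
  have hle := double_count_le (freeE z) (clsE z) (fun y a => y * a = a * y) (a := 8) (b := 81) ?_ ?_
  · rw [(hs.nonfree_count h hone).2.2] at hle
    omega
  · rintro y ⟨hy, e, hey, he⟩
    obtain ⟨-, Z, hZ, hZc⟩ := hs.clsE_struct h hone he
    obtain ⟨d, -, -, -, -, -, hdz, hdo, -, hed, -⟩ := hs.clsE_data h hone he
    refine le_trans ?_ (Set.ncard_le_ncard (s := (Z : Set G) \ {1}) ?_ (Set.toFinite _))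
    · rw [Set.ncard_sdiff (by simp [one_mem]), Set.ncard_singleton, ← Nat.card_coe_set_eq]
      exact Nat.le_sub_one_of_lt hZ
    · rintro c ⟨hcZ, hc1⟩
      obtain ⟨hci, hcc⟩ := hZc c hcZ
      have hce : c * e = e * c := (hcc e (mem_cent.mpr rfl)).symm
      have hodd : Odd (orderOf c) :=
        (hs.clsE_cent h hone he).1.of_dvd_nat (Subgroup.orderOf_dvd_natCard _ (mem_cent.mpr hce))
      refine ⟨(hs.clsE_comm h hone he ⟨hc1, hodd, hci⟩ hce).resolve_left fun hf => ?_,
        hcc y (mem_cent.mpr hey.symm)⟩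
      have hd1 : d = 1 := Subgroup.mem_bot.mp (Subgroup.eq_bot_of_card_eq _ hf.2 ▸
        (mem_CC.mpr ⟨hcc d (mem_cent.mpr hed.symm), hdz⟩ : d ∈ CC c z))
      rw [hd1, orderOf_one] at hdo
      omega
  · intro e he
    have hc := (hs.clsE_cent h hone he).2.2
    rw [(hs.clsE_struct h hone he).1] at hc
    refine le_trans (Set.ncard_le_ncard (t := invC z e) ?_ (Set.toFinite _)) (by omega)
    exact fun y hy => ⟨hy.2, hy.1.1.1.2.2⟩

end SixType

end CfsgLib.J3Type
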