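import Cfsg.Agent.Lib.J3Type.Local
import Cfsg.Agent.Lib.J3Type.Count
import Cfsg.Agent.Lib.DihedralShape

/-!
Groups of `J₃` type: the elements of order three of the centralizer and the involutions inverting them.
-/

set_option autoImplicit false
set_option linter.unusedSectionVars false

namespace CfsgLib.J3Type

open Cfsg CfsgLargeExtra Equiv
open CfsgLib.HallJankoType (orb mem_cent conj_fix_iff ncard_orb IsInv5 inv5_conj conj_of_sylow_prime)

universe u

variable {G : Type u} [Group G] [Finite G] {z : G} {Q : Subgroup G} {pm : G → Perm (Fin 5)}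

/-- Conjugation by `v` inverts `a`. -/
def Inverts (v a : G) : Prop := v * a * v⁻¹ = a⁻¹

theorem inverts_pow {v a : G} (hv : Inverts v a) (n : ℕ) : Inverts v (a ^ n) := by
  show v * a ^ n * v⁻¹ = (a ^ n)⁻¹
  rw [← conj_pow, show v * a * v⁻¹ = a⁻¹ from hv, inv_pow]

theorem inverts_conj {v a c : G} (hv : Inverts v a) : Inverts (c * v * c⁻¹) (c * a * c⁻¹) := by
  show c * v * c⁻¹ * (c * a * c⁻¹) * (c * v * c⁻¹)⁻¹ = (c * a * c⁻¹)⁻¹
  rw [show c * v * c⁻¹ * (c * a * c⁻¹) * (c * v * c⁻¹)⁻¹ = c * (v * a * v⁻¹) * c⁻¹ by group,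
    show v * a * v⁻¹ = a⁻¹ from hv]
  group

theorem inverts_prod {v w : G} (hv : v * v = 1) (hw : w * w = 1) : Inverts v (v * w) := by
  show v * (v * w) * v⁻¹ = (v * w)⁻¹
  rw [mul_inv_rev, inv_eq_of_mul_eq_one_right hw, inv_eq_of_mul_eq_one_right hv, ← mul_assoc, hv, one_mul]

namespace JT

variable (h : JT z Q pm)
include h

theorem prime_sylow {n : ℕ} (hn : n = 3 ∨ n = 5) {a b : G} (ha : a * z = z * a) (hb : b * z = z * b)
    (hoa : orderOf a = n) (hob : orderOf b = n) :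
    ∃ c : G, c * z = z * c ∧ c * b * c⁻¹ ∈ Subgroup.zpowers a := by
  haveI : Fact n.Prime := ⟨by rcases hn with rfl | rfl <;> norm_num⟩
  obtain ⟨c, hc, hm⟩ := conj_of_sylow_prime (p := n) (H := Subgroup.centralizer ({z} : Set G))
    (by rw [h.card_C]; rcases hn with rfl | rfl <;> norm_num)
    (by rw [h.card_C]; rcases hn with rfl | rfl <;> norm_num) (mem_cent.mpr ha) (mem_cent.mpr hb) hoa hob
  exact ⟨c, mem_cent.mp hc, hm⟩

/-- Some involution outside `Q` inverts an element of order three, and some one of order five. -/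
theorem exists_inverted {n : ℕ} (hn : n = 3 ∨ n = 5) :
    ∃ v ∈ h.T, ∃ a : G, a * z = z * a ∧ orderOf a = n ∧ Inverts v a := by
  obtain ⟨σ, hσ, τ, hτ, hr⟩ : ∃ σ : Perm (Fin 5), IsInv5 σ ∧ ∃ τ, IsInv5 τ ∧ IsRot n (σ * τ) := by
    rcases hn with rfl | rfl
    exacts [exists_inv_prod.1, exists_inv_prod.2]
  have lift : ∀ ρ : Perm (Fin 5), IsInv5 ρ → ∃ v ∈ h.T, pm v = ρ := fun ρ hρ => by
    obtain ⟨y, hy⟩ : h.T.Nonempty := Set.nonempty_of_ncard_ne_zero (by rw [h.ncard_T]; omega)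
    obtain ⟨κ, hκ, e⟩ := inv5_conj (h.pm_T hy) hρ
    obtain ⟨c, hc, rfl⟩ := h.pm_surj κ hκ
    exact ⟨_, h.T_conj hc hy, by rw [h.pm_conj hc hy.1, e]⟩
  obtain ⟨v, hv, rfl⟩ := lift σ hσ
  obtain ⟨w, hw, rfl⟩ := lift τ hτ
  have hyz : v * w * z = z * (v * w) := Commute.mul_left hv.1 hw.1
  rw [← h.pm_mul _ _ hv.1 hw.1] at hr
  have hyn : (v * w) ^ n ∈ Q := (h.pm_ker _ (Commute.pow_left hyz n)).mp (by rw [h.pm_pow hyz, hr.2.1])
  have hy4 : (v * w) ^ (n * 4) = 1 := by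
    rw [pow_mul]; exact congrArg Subtype.val (h.es.toExt.pow_four ⟨_, hyn⟩)
  obtain ⟨k, hk1, hk⟩ : ∃ k : ℕ, n * 4 ∣ k * n ∧ ∃ m, k = n * m + 1 := by
    rcases hn with rfl | rfl
    · exact ⟨4, by norm_num, 1, rfl⟩
    · exact ⟨16, by norm_num, 3, rfl⟩
  have hpk : pm ((v * w) ^ k) = pm (v * w) := by
    obtain ⟨m, rfl⟩ := hk
    rw [h.pm_pow hyz, pow_succ, pow_mul, hr.2.1, one_pow, one_mul]
  refine ⟨v, hv, (v * w) ^ k, Commute.pow_left hyz k, ?_, inverts_pow (inverts_prod hv.2.1 hw.2.1) k⟩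
  refine orderOf_eq_prime (hp := ⟨by rcases hn with rfl | rfl <;> norm_num⟩) ?_ fun e => hr.2.2 ?_
  · rw [← pow_mul]
    obtain ⟨j, hj⟩ := hk1
    rw [hj, pow_mul, hy4, one_pow]
  · rw [← hpk, e, h.pm_one]

theorem exists_inverter {n : ℕ} (hn : n = 3 ∨ n = 5) {a : G} (ha : a * z = z * a) (ho : orderOf a = n) :
    ∃ v ∈ h.T, Inverts v a := by
  haveI : Fact n.Prime := ⟨by rcases hn with rfl | rfl <;> norm_num⟩
  obtain ⟨v, hv, b, hb, hob, hvb⟩ := h.exists_inverted hn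
  obtain ⟨c, hc, hm⟩ := h.prime_sylow hn hb ha hob ho
  obtain ⟨i, hi⟩ := (isOfFinOrder_of_finite b).mem_powers_iff_mem_zpowers.mpr hm
  refine ⟨c⁻¹ * v * c, ?_, ?_⟩
  · have := h.T_conj (Commute.inv_left hc) hv
    rwa [inv_inv] at this
  · have := inverts_conj (c := c⁻¹) (inverts_pow hvb i)
    rwa [inv_inv, show b ^ i = c * a * c⁻¹ from hi, show c⁻¹ * (c * a * c⁻¹) * c = a by group] at this

theorem conj_three {a b : G} (ha : a * z = z * a) (hb : b * z = z * b) (hoa : orderOf a = 3) (hob : orderOf b = 3) :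
    ∃ c : G, c * z = z * c ∧ c * b * c⁻¹ = a := by
  obtain ⟨c, hc, hm⟩ := h.prime_sylow (Or.inl rfl) ha hb hoa hob
  obtain ⟨v, hv, hva⟩ := h.exists_inverter (Or.inl rfl) ha hoa
  obtain ⟨i, hi⟩ := (isOfFinOrder_of_finite a).mem_powers_iff_mem_zpowers.mpr hm
  have hi3 : a ^ (i % 3) = c * b * c⁻¹ := by rw [← hoa, pow_mod_orderOf]; exact hi
  have hlt : i % 3 < 3 := Nat.mod_lt _ (by norm_num)
  interval_cases (i % 3)
  · rw [pow_zero] at hi3
    rw [conj_eq_one_iff.mp hi3.symm, orderOf_one] at hob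
    omega
  · exact ⟨c, hc, by rw [← hi3, pow_one]⟩
  · refine ⟨v * c, Commute.mul_left hv.1 hc, ?_⟩
    have h3 : a ^ 2 = a⁻¹ := eq_inv_of_mul_eq_one_left (by rw [← pow_succ, show 2 + 1 = orderOf a from hoa.symm, pow_orderOf_eq_one])
    rw [show v * c * b * (v * c)⁻¹ = v * (c * b * c⁻¹) * v⁻¹ by group, ← hi3, h3,
      show v * a⁻¹ * v⁻¹ = (v * a * v⁻¹)⁻¹ by group, show v * a * v⁻¹ = a⁻¹ from hva, inv_inv]

/-- No involution outside `Q` multiplies an involution of `Q` by `z`. -/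
theorem T_not_shift {v p : G} (hv : v ∈ h.T) (hp : p ∈ h.S) : v * p * v⁻¹ ≠ p * z := by
  obtain ⟨x, t, t', Q', pm', K⟩ := exists_cfg_of_JT h
  obtain ⟨c, hc, rfl⟩ := K.exists_conj_t hv.1 hv.2.1 hv.2.2
  intro e
  have hS := h.S_conj (Commute.inv_left hc : c⁻¹ * z = z * c⁻¹) hp
  rw [inv_inv] at hS
  have e' : t * (c⁻¹ * p * c) = c⁻¹ * p * c * z * t := by
    have hz' : c⁻¹ * z * c = z := by
      have : c⁻¹ * z = z * c⁻¹ := Commute.inv_left hc
      rw [this, inv_mul_cancel_right]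
    calc t * (c⁻¹ * p * c) = c⁻¹ * (c * t * c⁻¹ * p * (c * t * c⁻¹)⁻¹) * c * t := by group
      _ = c⁻¹ * (p * z) * c * t := by rw [e]
      _ = c⁻¹ * p * c * (c⁻¹ * z * c) * t := by group
      _ = c⁻¹ * p * c * z * t := by rw [hz']
  have e'' : c⁻¹ * p * c * t = z * (t * (c⁻¹ * p * c)) := by
    rw [e', h.es.comm _ hS.1, ← mul_assoc, ← mul_assoc, h.zz, one_mul]
  have hU : c⁻¹ * p * c ∈ K.P.U := K.P.h.ea K.P.memS hS.1 hS.2.1 (K.flipx _ hS.1 (Or.inr e''))
  rw [K.U_comm_t hU] at e''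
  exact h.es.ne (mul_eq_right.mp e''.symm)

/-- An element of order five is not centralized by an involution of `Q` other than `z`. -/
theorem S_no_five {p g : G} (hp : p ∈ h.S) (hg : g * z = z * g) (hgp : g * p = p * g) : ¬ IsRot 5 (pm g) := by
  intro hr
  have hg5 : g ^ 5 ∈ Q := (h.pm_ker _ (Commute.pow_left hg 5)).mp (by rw [h.pm_pow hg, hr.2.1])
  have hg20 : (g ^ 5) ^ 4 = 1 := congrArg Subtype.val (h.es.toExt.pow_four ⟨_, hg5⟩)
  have hpf : pm (g ^ 16) = pm g := by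
    rw [h.pm_pow hg, show (16 : ℕ) = 5 * 3 + 1 from rfl, pow_succ, pow_mul, hr.2.1, one_pow, one_mul]
  have ho : orderOf (g ^ 16) = 5 := by
    refine orderOf_eq_prime (hp := ⟨Nat.prime_five⟩) ?_ fun e => hr.2.2 (by rw [← hpf, e, h.pm_one])
    rw [← pow_mul, show 16 * 5 = (5 * 4) * 4 from rfl, pow_mul, pow_mul, hg20, one_pow]
  have hfQ : g ^ 16 ∉ Q := fun hq => hr.2.2 (by rw [← hpf, h.pm_Q hq])
  rcases h.five_fix (Commute.pow_left hg 16) ho hfQ hp.1 (Commute.pow_left hgp 16) with e | e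
  exacts [hp.2.2.1 e, hp.2.2.2 e]

/-- An involution outside `Q` inverting an element of order three moves its fixed points in `Q`. -/
theorem inverter_moves {v d p : G} (hv : v ∈ h.T) (hd : d * z = z * d) (ho : orderOf d = 3) (hvd : Inverts v d)
    (hp : p ∈ h.S) (hdp : d * p = p * d) : v * p * v⁻¹ ≠ p := by
  intro e
  have hvp : v * p = p * v := conj_fix_iff.mp e
  obtain ⟨x, t, t', Q', pm', K⟩ := exists_cfg_of_JT h
  obtain ⟨c, hc, rfl⟩ := K.exists_conj_t hv.1 hv.2.1 hv.2.2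
  have hS := h.S_conj (Commute.inv_left hc : c⁻¹ * z = z * c⁻¹) hp
  rw [inv_inv] at hS
  have back : ∀ {a b : G}, a * b = b * a → c⁻¹ * a * c * (c⁻¹ * b * c) = c⁻¹ * b * c * (c⁻¹ * a * c) :=
    fun {a b} e => by
      have := conj_comm (g := c⁻¹) e
      rwa [inv_inv] at this
  have h1 : c⁻¹ * (c * t * c⁻¹) * c = t := by group
  have hpt : c⁻¹ * p * c * t = t * (c⁻¹ * p * c) := by
    have := back hvp.symm
    rwa [h1] at this
  have hU : c⁻¹ * p * c ∈ K.P.U := K.centQ _ hS.1 hpt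
  have hd' : c⁻¹ * d * c * z = z * (c⁻¹ * d * c) :=
    Commute.mul_left (Commute.mul_left (Commute.inv_left hc) hd) hc
  have hdp' := back hdp
  have hpt' : t' * (c⁻¹ * p * c) = c⁻¹ * p * c * t' := (K.P.U_central hU K.tz' K.tx').symm
  have hinv : Inverts t (c⁻¹ * d * c) := by
    have := inverts_conj (c := c⁻¹) hvd
    rwa [inv_inv, h1] at this
  have hod : orderOf (c⁻¹ * d * c) = 3 := by
    have := CfsgLib.HallJankoType.orderOf_conj' c⁻¹ d
    rwa [inv_inv, ho] at this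
  have hr := h.pm_rot hd' (Or.inl rfl) hod
  have hσ : pm t * pm (c⁻¹ * d * c) * pm t = (pm (c⁻¹ * d * c))⁻¹ := by
    rw [← h.pm_inv hd', ← show t * (c⁻¹ * d * c) * t⁻¹ = (c⁻¹ * d * c)⁻¹ from hinv, h.pm_conj K.tz hd',
      inv_eq_of_mul_eq_one_right K.inv.2.1]
  rcases three_four_gen _ hr _ K.inv hσ _ K.inv' K.pm_comm K.pm_ne with h5 | h5 | h5
  · rw [← h.pm_mul _ _ hd' K.tz'] at h5
    exact h.S_no_five hS (Commute.mul_left hd' K.tz') (Commute.mul_left hdp' hpt') h5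
  · rw [← h.pm_mul _ _ hd' K.tz, ← h.pm_mul _ _ (Commute.mul_left hd' K.tz) K.tz'] at h5
    exact h.S_no_five hS (Commute.mul_left (Commute.mul_left hd' K.tz) K.tz')
      (Commute.mul_left (Commute.mul_left hdp' hpt.symm) hpt') h5
  · rw [← h.pm_mul _ _ hd' hd', ← h.pm_mul _ _ (Commute.mul_left hd' hd') K.tz'] at h5
    exact h.S_no_five hS (Commute.mul_left (Commute.mul_left hd' hd') K.tz')
      (Commute.mul_left (Commute.mul_left hdp' hdp') hpt') h5

end JT

/-- An element of order three of `C(z)` with two noncommuting involutions of `Q` that it centralizes. -/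
structure Frame3 (h : JT z Q pm) (d x y : G) : Prop where
  dz : d * z = z * d
  od : orderOf d = 3
  xS : x ∈ h.S
  yS : y ∈ h.S
  dx : d * x = x * d
  dy : d * y = y * d
  nc : x * y ≠ y * x

theorem JT.exists_frame3 (h : JT z Q pm) {d : G} (hd : d * z = z * d) (ho : orderOf d = 3) :
    ∃ x y : G, Frame3 h d x y := by
  haveI : Fact (Nat.Prime 3) := ⟨Nat.prime_three⟩
  have hd3 : d ^ 3 = 1 := ho ▸ pow_orderOf_eq_one d
  set F := {p | p ∈ h.S ∧ d * p = p * d} with hF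
  have hmod : F.ncard ≡ 10 [MOD 3] := by
    have hiff : ∀ a, a ∈ h.S ↔ d * a * d⁻¹ ∈ h.S := fun a => ⟨h.S_conj hd, fun ha => by
      have := h.S_conj (Commute.inv_left hd) ha
      simpa [mul_assoc] using this⟩
    have := fixed_set_modEq h.S hd3 hiff
    rwa [h.ncard_S] at this
  obtain ⟨x, hx⟩ : F.Nonempty := Set.nonempty_of_ncard_ne_zero (fun e => by rw [e] at hmod; exact absurd hmod (by decide))
  by_contra hno
  push Not at hno
  have hsub : F ⊆ {x, z * x} := fun p hp => by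
    by_cases hc : x * p = p * x
    · rcases h.ea hx.1 hp.1.1 hp.1.2.1 hc.symm with e | e | e | e
      exacts [absurd e hp.1.2.2.1, absurd e hp.1.2.2.2, Or.inl e, Or.inr e]
    · exact absurd ⟨hd, ho, hx.1, hp.1, hx.2, hp.2, hc⟩ (hno x p)
  have hzx : z * x ∈ F := by
    refine ⟨⟨mul_mem h.es.mem hx.1.1, ?_, fun e => hx.1.2.2.2 ?_, fun e => hx.1.2.2.1 (mul_eq_left.mp e)⟩,
      Commute.mul_right hd hx.2⟩
    · rw [show z * x * (z * x) = z * (x * z) * x by group, h.es.comm x hx.1.1,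
        show z * (z * x) * x = z * z * (x * x) by group, h.zz, hx.1.2.1, one_mul]
    · exact (eq_inv_of_mul_eq_one_right e).trans (inv_eq_of_mul_eq_one_right h.zz)
  have hsup : ({x, z * x} : Set G) ⊆ F := by
    rintro p (rfl | rfl)
    exacts [hx, hzx]
  rw [Set.Subset.antisymm hsub hsup, Set.ncard_pair (fun e => h.es.ne (mul_eq_right.mp e.symm))] at hmod
  exact absurd hmod (by decide)

namespace Frame3

variable {h : JT z Q pm} {d x y : G} (F : Frame3 h d x y)
include F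

theorem r_sq : x * y * (x * y) = z := by
  rcases h.es.sq (x * y) (mul_mem F.xS.1 F.yS.1) with e | e
  · refine absurd ?_ F.nc
    have := inv_eq_of_mul_eq_one_right e
    rw [mul_inv_rev, inv_eq_of_mul_eq_one_right F.xS.2.1, inv_eq_of_mul_eq_one_right F.yS.2.1] at this
    exact this.symm
  · exact e

theorem r_inv : (x * y)⁻¹ = z * (x * y) :=
  inv_eq_of_mul_eq_one_right (by rw [← mul_assoc, h.es.comm _ (mul_mem F.xS.1 F.yS.1), mul_assoc, F.r_sq, h.zz])

theorem r_ne : x * y ≠ 1 ∧ x * y ≠ z := by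
  refine ⟨fun e => ?_, fun e => ?_⟩ <;> have := F.r_sq <;> rw [e] at this
  · rw [mul_one] at this; exact h.es.ne this.symm
  · rw [h.zz] at this; exact h.es.ne this.symm

theorem zr_inv : (z * (x * y))⁻¹ = z * (x * y)⁻¹ := by
  rw [mul_inv_rev (z), inv_eq_of_mul_eq_one_right h.zz, h.es.comm _ (inv_mem (mul_mem F.xS.1 F.yS.1))]

theorem x_r : x * (x * y) * x = (x * y)⁻¹ := by
  rw [mul_inv_rev, inv_eq_of_mul_eq_one_right F.xS.2.1, inv_eq_of_mul_eq_one_right F.yS.2.1, ← mul_assoc,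
    F.xS.2.1, one_mul]

/-- The fixed points of `d` on `Q`. -/
theorem fix_set : ({1, z, x * y, z * (x * y)} : Set G) ∪ (fun c => c * x) '' {1, z, x * y, z * (x * y)} =
      ((Q ⊓ Subgroup.centralizer ({d} : Set G) : Subgroup G) : Set G) ∧
    Nat.card ↥(Q ⊓ Subgroup.centralizer ({d} : Set G)) = 8 := by
  haveI : Fact (Nat.Prime 3) := ⟨Nat.prime_three⟩
  set W := Q ⊓ Subgroup.centralizer ({d} : Set G) with hW
  have hmemW : ∀ {w : G}, w ∈ Q → d * w = w * d → w ∈ W := fun hw e => ⟨hw, mem_cent.mpr e.symm⟩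
  have hmod : Nat.card ↥W ≡ 32 [MOD 3] := by
    have hiff : ∀ a, a ∈ (Q : Set G) ↔ d * a * d⁻¹ ∈ (Q : Set G) := fun a => (h.nor_mem_iff F.dz).symm
    have := fixed_set_modEq (Q : Set G) (F.od ▸ pow_orderOf_eq_one d) hiff
    rw [← Nat.card_coe_set_eq (Q : Set G)] at this
    rw [show Nat.card ↥(Q : Set G) = 32 from h.card] at this
    convert this using 1
    rw [← Nat.card_coe_set_eq]
    exact Nat.card_congr (Equiv.subtypeEquivRight fun a => and_congr_right fun _ => ⟨fun e => (mem_cent.mp e).symm,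
      fun e => mem_cent.mpr e.symm⟩)
  have hd32 : Nat.card ↥W ∣ 32 := h.card ▸ Subgroup.card_dvd_of_le inf_le_left
  have hne32 : Nat.card ↥W ≠ 32 := fun e => by
    have hWQ : W = Q := Subgroup.eq_of_le_of_card_ge inf_le_left (by rw [e, h.card])
    have hall : ∀ p ∈ Q, d * p = p * d := fun p hp => (mem_cent.mp (hWQ ▸ hp : p ∈ W).2).symm
    have hod := F.od
    rcases h.es.cen d hall with e' | e' <;> rw [e'] at hod
    · rw [orderOf_one] at hod; omega
    · rw [h.hz] at hod; omega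
  let L : Set G := {1, z, x * y, z * (x * y)}
  have hLW : L ∪ (fun c => c * x) '' L ⊆ (W : Set G) := by
    have m1 : (1 : G) ∈ W := one_mem _
    have mz : z ∈ W := hmemW h.es.mem F.dz
    have mx : x ∈ W := hmemW F.xS.1 F.dx
    have mr : x * y ∈ W := mul_mem mx (hmemW F.yS.1 F.dy)
    have mL : L ⊆ (W : Set G) := by
      rintro c (rfl | rfl | rfl | rfl)
      exacts [m1, mz, mr, mul_mem mz mr]
    rintro c (hc | ⟨c, hc, rfl⟩)
    exacts [mL hc, mul_mem (mL hc) mx]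
  have hL4 : L.ncard = 4 := by
    have hzr1 : z * (x * y) ≠ 1 := fun e => F.r_ne.2
      ((eq_inv_of_mul_eq_one_right e).trans (inv_eq_of_mul_eq_one_right h.zz))
    show ({1, z, x * y, z * (x * y)} : Set G).ncard = 4
    rw [Set.ncard_insert_of_notMem, Set.ncard_insert_of_notMem, Set.ncard_pair]
    · exact fun e => h.es.ne (mul_eq_right.mp e.symm)
    · rintro (e | e)
      exacts [F.r_ne.2 e.symm, F.r_ne.1 (mul_eq_left.mp e.symm)]
    · rintro (e | e | e)
      exacts [h.es.ne e.symm, F.r_ne.1 e.symm, hzr1 e.symm]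
  have hdisj : Disjoint L ((fun c => c * x) '' L) := by
    rw [Set.disjoint_left]
    rintro a ha ⟨c, hc, rfl⟩
    have hcomm : ∀ u ∈ L, u * (x * y) = x * y * u := by
      have hzr := h.es.comm _ (mul_mem F.xS.1 F.yS.1)
      rintro u (rfl | rfl | rfl | rfl)
      · simp
      · exact hzr.symm
      · rfl
      · exact Commute.mul_left hzr.symm rfl
    have hx : x * (x * y) = x * y * x :=
      (Commute.mul_left (Commute.inv_left (hcomm c hc) : c⁻¹ * (x * y) = x * y * c⁻¹) (hcomm _ ha) :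
        Commute (c⁻¹ * (c * x)) (x * y)).eq |> fun e => by rwa [inv_mul_cancel_left] at e
    rw [← mul_assoc, F.xS.2.1, one_mul, mul_assoc] at hx
    refine F.nc ?_
    calc x * y = x * (x * (y * x)) := by rw [← hx]
      _ = y * x := by rw [← mul_assoc, F.xS.2.1, one_mul]
  have h8 : (L ∪ (fun c => c * x) '' L).ncard = 8 := by
    rw [Set.ncard_union_eq hdisj, Set.ncard_image_of_injective _ (fun a b e => mul_right_cancel e), hL4]
  have hW8 : Nat.card ↥W = 8 := by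
    have hge : 8 ≤ Nat.card ↥W := by
      rw [← h8, show Nat.card ↥W = (W : Set G).ncard from Nat.card_coe_set_eq _]
      exact Set.ncard_le_ncard hLW (Set.toFinite _)
    rcases (Nat.dvd_prime_pow Nat.prime_two).mp (show Nat.card ↥W ∣ 2 ^ 5 from hd32) with ⟨i, hi, e⟩
    rw [e] at hge hne32 hmod ⊢
    unfold Nat.ModEq at hmod
    interval_cases i <;> simp_all
  exact ⟨Set.eq_of_subset_of_ncard_le hLW (by rw [h8, ← Nat.card_coe_set_eq]; exact hW8.le) (Set.toFinite _), hW8⟩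

theorem fix_cases {q : G} (hq : q ∈ Q) (hdq : d * q = q * d) :
    ∃ c ∈ ({1, z, x * y, z * (x * y)} : Set G), q = c ∨ q = c * x := by
  have : q ∈ (Q ⊓ Subgroup.centralizer ({d} : Set G) : Subgroup G) := ⟨hq, mem_cent.mpr hdq.symm⟩
  rw [← SetLike.mem_coe, ← F.fix_set.1] at this
  rcases this with hc | ⟨c, hc, e⟩
  · exact ⟨q, hc, Or.inl rfl⟩
  · exact ⟨c, hc, Or.inr e.symm⟩

/-- The centralizer of `d` in `C(z)`. -/
theorem cent_cases {a : G} (ha : a * z = z * a) (had : a * d = d * a) :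
    ∃ c ∈ ({1, z, x * y, z * (x * y)} : Set G), ∃ i : ℕ, a = c * d ^ i ∨ a = c * x * d ^ i := by
  have hr := h.pm_rot F.dz (Or.inl rfl) F.od
  obtain ⟨i, hi⟩ : ∃ i : ℕ, pm a = pm (d ^ i) := by
    rcases rot3_cent _ hr _ (h.pm_sign a ha) (by rw [← h.pm_mul _ _ ha F.dz, had, h.pm_mul _ _ F.dz ha]) with e | e | e
    · exact ⟨0, by rw [e, pow_zero, h.pm_one]⟩
    · exact ⟨1, by rw [e, pow_one]⟩
    · exact ⟨2, by rw [e, pow_two, h.pm_mul _ _ F.dz F.dz]⟩
  have hiz : d ^ i * z = z * d ^ i := Commute.pow_left F.dz i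
  have hiiz : (d ^ i)⁻¹ * z = z * (d ^ i)⁻¹ := Commute.inv_left hiz
  have hq : a * (d ^ i)⁻¹ ∈ Q := (h.pm_ker _ (Commute.mul_left ha hiiz)).mp (by
    rw [h.pm_mul _ _ ha hiiz, h.pm_inv hiz, hi, mul_inv_cancel])
  obtain ⟨c, hc, e⟩ := F.fix_cases hq (Commute.mul_right (had.symm : Commute d a) (Commute.self_pow d i).inv_right)
  exact ⟨c, hc, i, e.imp (fun e' => by rw [← e']; group) fun e' => by rw [← e']; group⟩

theorem L_props {c : G} (hc : c ∈ ({1, z, x * y, z * (x * y)} : Set G)) :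
    c ∈ Q ∧ d * c = c * d ∧ c * (x * y) = x * y * c ∧ x * c * x = c⁻¹ := by
  have hrQ : x * y ∈ Q := mul_mem F.xS.1 F.yS.1
  have hdr : d * (x * y) = x * y * d := Commute.mul_right F.dx F.dy
  have hzr : z * (x * y) = x * y * z := (h.es.comm _ hrQ).symm
  rcases hc with rfl | rfl | rfl | rfl
  · exact ⟨one_mem _, by simp, by simp, by simp [F.xS.2.1]⟩
  · refine ⟨h.es.mem, F.dz, hzr, ?_⟩
    rw [h.es.comm x F.xS.1, mul_assoc, F.xS.2.1, mul_one, inv_eq_of_mul_eq_one_right h.zz]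
  · exact ⟨hrQ, hdr, rfl, F.x_r⟩
  · refine ⟨mul_mem h.es.mem hrQ, Commute.mul_right F.dz hdr, Commute.mul_left hzr rfl, ?_⟩
    rw [mul_inv_rev, inv_eq_of_mul_eq_one_right h.zz, ← mul_assoc x z, h.es.comm x F.xS.1,
      show z * x * (x * y) * x = z * (x * (x * y) * x) by group, F.x_r]
    exact (h.es.comm _ (inv_mem hrQ)).symm

theorem d3 : d ^ 3 = 1 := F.od ▸ pow_orderOf_eq_one d

theorem Qd_inj {q q' : G} (hq : q ∈ Q) (hq' : q' ∈ Q) {i j : Fin 3} (e : q * d ^ (i : ℕ) = q' * d ^ (j : ℕ)) :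
    q = q' ∧ i = j := by
  have hr := h.pm_rot F.dz (Or.inl rfl) F.od
  have e' : pm d ^ (i : ℕ) = pm d ^ (j : ℕ) := by
    have := congrArg pm e
    rwa [h.pm_mul _ _ (h.es.comm q hq) (Commute.pow_left F.dz i), h.pm_mul _ _ (h.es.comm q' hq') (Commute.pow_left F.dz j),
      h.pm_Q hq, h.pm_Q hq', one_mul, one_mul, h.pm_pow F.dz, h.pm_pow F.dz] at this
  haveI : Fact (Nat.Prime 3) := ⟨Nat.prime_three⟩
  rw [pow_eq_pow_iff_modEq, orderOf_eq_prime hr.2.1 hr.2.2] at e'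
  have hij : i = j := Fin.ext (by
    have h1 := i.isLt
    have h2 := j.isLt
    unfold Nat.ModEq at e'
    omega)
  subst hij
  exact ⟨mul_right_cancel e, rfl⟩

theorem card_cent : Nat.card ↥(Subgroup.centralizer ({z} : Set G) ⊓ Subgroup.centralizer ({d} : Set G)) = 24 := by
  set W := Q ⊓ Subgroup.centralizer ({d} : Set G) with hW
  let f : ↥W × Fin 3 → ↥(Subgroup.centralizer ({z} : Set G) ⊓ Subgroup.centralizer ({d} : Set G)) := fun p =>
    ⟨p.1.1 * d ^ (p.2 : ℕ), mem_cent.mpr (Commute.mul_left (h.es.comm _ p.1.2.1) (Commute.pow_left F.dz _)),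
      mem_cent.mpr (Commute.mul_left (mem_cent.mp p.1.2.2) (Commute.pow_self d _))⟩
  have hf : Function.Bijective f := by
    refine ⟨fun p p' e => ?_, fun a => ?_⟩
    · obtain ⟨e1, e2⟩ := F.Qd_inj p.1.2.1 p'.1.2.1 (congrArg Subtype.val e)
      exact Prod.ext (Subtype.ext e1) e2
    · obtain ⟨c, hc, i, e⟩ := F.cent_cases (mem_cent.mp a.2.1) (mem_cent.mp a.2.2)
      have hcW : c ∈ (W : Set G) ∧ c * x ∈ (W : Set G) := by
        rw [← F.fix_set.1]
        exact ⟨Or.inl hc, Or.inr ⟨c, hc, rfl⟩⟩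
      have hi : d ^ (i % 3) = d ^ i := by rw [← F.od, pow_mod_orderOf]
      rcases e with e | e
      · exact ⟨(⟨c, hcW.1⟩, ⟨i % 3, Nat.mod_lt _ (by norm_num)⟩), Subtype.ext (by
          show c * d ^ (i % 3) = (a : G)
          rw [hi, e])⟩
      · exact ⟨(⟨c * x, hcW.2⟩, ⟨i % 3, Nat.mod_lt _ (by norm_num)⟩), Subtype.ext (by
          show c * x * d ^ (i % 3) = (a : G)
          rw [hi, e])⟩
  rw [← Nat.card_eq_of_bijective f hf, Nat.card_prod, F.fix_set.2, Nat.card_fin]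

variable {v : G}

theorem inverter_mem_T (hvz : v * z = z * v) (hv : v * v = 1) (hvd : Inverts v d) : v ∈ h.T := by
  refine ⟨hvz, hv, fun hq => ?_⟩
  have hr := h.pm_rot F.dz (Or.inl rfl) F.od
  have e : pm d = (pm d)⁻¹ := by
    rw [← h.pm_inv F.dz, ← show v * d * v⁻¹ = d⁻¹ from hvd, h.pm_conj hvz F.dz, h.pm_Q hq, inv_one, one_mul, mul_one]
  have h2 : pm d * pm d = 1 := by
    nth_rewrite 2 [e]
    exact mul_inv_cancel _
  have h3 := hr.2.1
  rw [pow_succ, pow_two, h2, one_mul] at h3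
  exact hr.2.2 h3

theorem conj_fix {c : G} (hvd : Inverts v d) (hc : d * c = c * d) : d * (v * c * v⁻¹) = v * c * v⁻¹ * d := by
  have h1 : v * d⁻¹ * v⁻¹ = d := by
    rw [show v * d⁻¹ * v⁻¹ = (v * d * v⁻¹)⁻¹ by group, show v * d * v⁻¹ = d⁻¹ from hvd, inv_inv]
  conv_lhs => arg 1; rw [← h1]
  conv_rhs => arg 2; rw [← h1]
  exact conj_comm (Commute.inv_left hc)

theorem move_x (hv : v ∈ h.T) (hvd : Inverts v d) :
    ∃ c ∈ ({x * y, z * (x * y)} : Set G), v * x * v⁻¹ = c * x := by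
  have hS := h.S_conj hv.1 F.xS
  obtain ⟨c, hc, e⟩ := F.fix_cases hS.1 (F.conj_fix hvd F.dx)
  rcases hc with rfl | rfl | rfl | rfl
  · rcases e with e | e
    · exact absurd e hS.2.2.1
    · rw [one_mul] at e
      exact absurd e (h.inverter_moves hv F.dz F.od hvd F.xS F.dx)
  · rcases e with e | e
    · exact absurd e hS.2.2.2
    · rw [← h.es.comm x F.xS.1] at e
      exact absurd e (h.T_not_shift hv F.xS)
  all_goals rcases e with e | e
  · have := hS.2.1
    rw [e, F.r_sq] at this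
    exact absurd this h.es.ne
  · exact ⟨_, Or.inl rfl, e⟩
  · have := hS.2.1
    rw [e, show z * (x * y) * (z * (x * y)) = z * ((x * y) * z) * (x * y) by group,
      h.es.comm _ (mul_mem F.xS.1 F.yS.1), show z * (z * (x * y)) * (x * y) = z * z * (x * y * (x * y)) by group,
      h.zz, one_mul, F.r_sq] at this
    exact absurd this h.es.ne
  · exact ⟨_, Or.inr rfl, e⟩

theorem r_flip (hv : v ∈ h.T) (hvd : Inverts v d) : v * (x * y) * v⁻¹ = (x * y)⁻¹ := by
  obtain ⟨c, hc, e⟩ := F.move_x hv hvd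
  have hcL : c ∈ ({1, z, x * y, z * (x * y)} : Set G) := Or.inr (Or.inr hc)
  have hvi : v⁻¹ = v := inv_eq_of_mul_eq_one_right hv.2.1
  have h1 : v * c * v⁻¹ * (c * x) = x := by
    rw [← e, show v * c * v⁻¹ * (v * x * v⁻¹) = v * (c * x) * v⁻¹ by group, ← e,
      show v * (v * x * v⁻¹) * v⁻¹ = (v * v) * x * (v * v)⁻¹ by group, hv.2.1, one_mul, inv_one, mul_one]
  have h2 : v * c * v⁻¹ = c⁻¹ := by
    rw [← (F.L_props hcL).2.2.2]
    calc v * c * v⁻¹ = v * c * v⁻¹ * (c * x) * (c * x)⁻¹ := by group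
      _ = x * (c * x)⁻¹ := by rw [h1]
      _ = x * c * x := by
        have hcx : c * x * (c * x) = 1 := by
          rw [show c * x * (c * x) = c * (x * c * x) by group, (F.L_props hcL).2.2.2, mul_inv_cancel]
        rw [inv_eq_of_mul_eq_one_right hcx, mul_assoc]
  rcases hc with rfl | rfl
  · exact h2
  · have hvz : v * z * v⁻¹ = z := conj_fix_iff.mpr hv.1
    rw [show v * (z * (x * y)) * v⁻¹ = v * z * v⁻¹ * (v * (x * y) * v⁻¹) by group, hvz, F.zr_inv] at h2
    exact mul_left_cancel h2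

/-- An inverting involution centralizes only `z` among the fixed points of `d` in `Q`. -/
theorem inverter_cent (hv : v ∈ h.T) (hvd : Inverts v d) {q : G} (hq : q ∈ Q) (hdq : d * q = q * d)
    (hvq : v * q = q * v) : q = 1 ∨ q = z := by
  obtain ⟨c, hc, e | e⟩ := F.fix_cases hq hdq
  · subst e
    rcases hc with rfl | rfl | rfl | rfl
    · exact Or.inl rfl
    · exact Or.inr rfl
    · have := conj_fix_iff.mpr hvq
      rw [F.r_flip hv hvd, F.r_inv] at this
      exact absurd (mul_eq_right.mp this) h.es.ne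
    · have := conj_fix_iff.mpr hvq
      rw [show v * (z * (x * y)) * v⁻¹ = v * z * v⁻¹ * (v * (x * y) * v⁻¹) by group, conj_fix_iff.mpr hv.1,
        F.r_flip hv hvd, F.r_inv] at this
      exact absurd (mul_eq_right.mp (mul_left_cancel this)) h.es.ne
  · exfalso
    have hx : q * (x * y) * q⁻¹ = (x * y)⁻¹ := by
      rw [e, show c * x * (x * y) * (c * x)⁻¹ = c * (x * (x * y) * x⁻¹) * c⁻¹ by group,
        inv_eq_of_mul_eq_one_right F.xS.2.1, F.x_r]
      exact conj_fix_iff.mpr (Commute.inv_right (F.L_props hc).2.2.1)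
    have h1 : v * (x * q) * v⁻¹ = x * q := by
      have hS := h.S_conj hv.1 F.xS
      obtain ⟨c', hc', e'⟩ := F.move_x hv hvd
      have hvc : v * c * v⁻¹ = c⁻¹ := by
        have hr := F.r_flip hv hvd
        rcases hc with rfl | rfl | rfl | rfl
        · simp
        · rw [conj_fix_iff.mpr hv.1, inv_eq_of_mul_eq_one_right h.zz]
        · exact hr
        · rw [show v * (z * (x * y)) * v⁻¹ = v * z * v⁻¹ * (v * (x * y) * v⁻¹) by group, conj_fix_iff.mpr hv.1, hr,
            F.zr_inv]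
      have h3 : c⁻¹ * (c' * x) = c * x := by
        rw [← hvc, ← e', show v * c * v⁻¹ * (v * x * v⁻¹) = v * (c * x) * v⁻¹ by group, ← e, conj_fix_iff.mpr hvq]
      have h4 : c' = c * c := by
        rw [← mul_assoc] at h3
        exact inv_mul_eq_iff_eq_mul.mp (mul_right_cancel h3)
      exfalso
      have hcc : c * c = 1 ∨ c * c = z := h.es.sq c (F.L_props hc).1
      rcases hc' with rfl | rfl <;> rcases hcc with e'' | e'' <;> rw [e''] at h4
      · exact F.r_ne.1 h4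
      · exact F.r_ne.2 h4
      · exact F.r_ne.2 ((eq_inv_of_mul_eq_one_right h4).trans (inv_eq_of_mul_eq_one_right h.zz))
      · exact F.r_ne.1 (mul_eq_left.mp h4)
    have hvx : v * x * v⁻¹ = x := by
      have := h1
      rw [show v * (x * q) * v⁻¹ = v * x * v⁻¹ * (v * q * v⁻¹) by group, conj_fix_iff.mpr hvq] at this
      exact mul_right_cancel this
    exact h.inverter_moves hv F.dz F.od hvd F.xS F.dx hvx

/-- The involutions inverting `d`. -/
theorem inverters_eq (hv : v ∈ h.T) (hvd : Inverts v d) {w : G} :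
    (w * z = z * w ∧ w * w = 1 ∧ Inverts w d) ↔
      ∃ c ∈ ({1, z, x * y, z * (x * y)} : Set G), ∃ i : ℕ, w = v * (c * d ^ i) := by
  have hvi : v⁻¹ = v := inv_eq_of_mul_eq_one_right hv.2.1
  have flipL : ∀ {c : G}, c ∈ ({1, z, x * y, z * (x * y)} : Set G) → v * c * v⁻¹ = c⁻¹ := by
    rintro c (rfl | rfl | rfl | rfl)
    · simp
    · rw [conj_fix_iff.mpr hv.1, inv_eq_of_mul_eq_one_right h.zz]
    · exact F.r_flip hv hvd
    · rw [show v * (z * (x * y)) * v⁻¹ = v * z * v⁻¹ * (v * (x * y) * v⁻¹) by group, conj_fix_iff.mpr hv.1,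
        F.r_flip hv hvd, F.zr_inv]
  constructor
  · rintro ⟨hwz, hww, hwd⟩
    have hwT := F.inverter_mem_T hwz hww hwd
    have had : v * w * d = d * (v * w) := by
      refine conj_fix_iff.mp ?_
      rw [show v * w * d * (v * w)⁻¹ = v * (w * d * w⁻¹) * v⁻¹ by group, show w * d * w⁻¹ = d⁻¹ from hwd,
        show v * d⁻¹ * v⁻¹ = (v * d * v⁻¹)⁻¹ by group, show v * d * v⁻¹ = d⁻¹ from hvd, inv_inv]
    obtain ⟨c, hc, i, e | e⟩ := F.cent_cases (Commute.mul_left hv.1 hwz) had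
    · exact ⟨c, hc, i, by rw [← e, ← mul_assoc, hv.2.1, one_mul]⟩
    · exfalso
      have hw' : w = v * (c * x * d ^ i) := by rw [← e, ← mul_assoc, hv.2.1, one_mul]
      have hfix : c * x * d ^ i * (x * y) * (c * x * d ^ i)⁻¹ = (x * y)⁻¹ := by
        rw [show c * x * d ^ i * (x * y) * (c * x * d ^ i)⁻¹ =
            c * (x * (d ^ i * (x * y) * (d ^ i)⁻¹) * x⁻¹) * c⁻¹ by group,
          conj_fix_iff.mpr (Commute.pow_left (Commute.mul_right F.dx F.dy) i),
          inv_eq_of_mul_eq_one_right F.xS.2.1, F.x_r]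
        exact conj_fix_iff.mpr (Commute.inv_right (F.L_props hc).2.2.1)
      have h1 := F.r_flip hwT hwd
      rw [hw', show v * (c * x * d ^ i) * (x * y) * (v * (c * x * d ^ i))⁻¹ =
          v * (c * x * d ^ i * (x * y) * (c * x * d ^ i)⁻¹) * v⁻¹ by group, hfix,
        show v * (x * y)⁻¹ * v⁻¹ = (v * (x * y) * v⁻¹)⁻¹ by group, F.r_flip hv hvd, inv_inv, F.r_inv] at h1
      exact h.es.ne (mul_eq_right.mp h1.symm)
  · rintro ⟨c, hc, i, rfl⟩
    obtain ⟨hcQ, hdc, -, -⟩ := F.L_props hc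
    have hcd : Commute c (d ^ i) := (Commute.pow_left hdc i).symm
    have hflip : v * (c * d ^ i) * v⁻¹ = (c * d ^ i)⁻¹ := by
      rw [show v * (c * d ^ i) * v⁻¹ = v * c * v⁻¹ * (v * d ^ i * v⁻¹) by group, flipL hc,
        show v * d ^ i * v⁻¹ = (d ^ i)⁻¹ from inverts_pow hvd i, ← mul_inv_rev, hcd.eq]
    refine ⟨Commute.mul_left hv.1 (Commute.mul_left (h.es.comm c hcQ) (Commute.pow_left F.dz i)), ?_, ?_⟩
    · rw [show v * (c * d ^ i) * (v * (c * d ^ i)) = v * (c * d ^ i) * v * (c * d ^ i) by group]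
      nth_rewrite 2 [← hvi]
      rw [hflip, inv_mul_cancel]
    · show v * (c * d ^ i) * d * (v * (c * d ^ i))⁻¹ = d⁻¹
      rw [show v * (c * d ^ i) * d * (v * (c * d ^ i))⁻¹ = v * (c * d ^ i * d * (c * d ^ i)⁻¹) * v⁻¹ by group,
        conj_fix_iff.mpr (Commute.mul_left hdc.symm (Commute.pow_self d i))]
      exact hvd

theorem ncard_inverters (hv : v ∈ h.T) (hvd : Inverts v d) :
    {w | w * z = z * w ∧ w * w = 1 ∧ Inverts w d}.ncard = 12 := by
  classical
  let f : ↥({1, z, x * y, z * (x * y)} : Set G) × Fin 3 → G := fun p => v * (p.1.1 * d ^ (p.2 : ℕ))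
  have hf : Function.Injective f := fun p p' e => by
    obtain ⟨e1, e2⟩ := F.Qd_inj (F.L_props p.1.2).1 (F.L_props p'.1.2).1 (mul_left_cancel e)
    exact Prod.ext (Subtype.ext e1) e2
  have hset : {w | w * z = z * w ∧ w * w = 1 ∧ Inverts w d} = Set.range f := by
    ext w
    refine ⟨fun hw => ?_, ?_⟩
    · obtain ⟨c, hc, i, rfl⟩ := (F.inverters_eq hv hvd).mp hw
      exact ⟨(⟨c, hc⟩, ⟨i % 3, Nat.mod_lt _ (by norm_num)⟩), by
        show v * (c * d ^ (i % 3)) = _
        rw [← F.od, pow_mod_orderOf]⟩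
    · rintro ⟨p, rfl⟩
      exact (F.inverters_eq hv hvd).mpr ⟨p.1.1, p.1.2, p.2, rfl⟩
  rw [hset, Set.ncard_range_of_injective hf, Nat.card_prod, Nat.card_fin, Nat.card_coe_set_eq]
  have hzr1 : z * (x * y) ≠ 1 := fun e => F.r_ne.2
    ((eq_inv_of_mul_eq_one_right e).trans (inv_eq_of_mul_eq_one_right h.zz))
  rw [Set.ncard_insert_of_notMem, Set.ncard_insert_of_notMem, Set.ncard_pair]
  · exact fun e => h.es.ne (mul_eq_right.mp e.symm)
  · rintro (e | e)
    exacts [F.r_ne.2 e.symm, F.r_ne.1 (mul_eq_left.mp e.symm)]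
  · rintro (e | e | e)
    exacts [h.es.ne e.symm, F.r_ne.1 e.symm, hzr1 e.symm]

/-- The involutions inverting `d` form one class under the centralizer of `d`. -/
theorem inverters_conj (hv : v ∈ h.T) (hvd : Inverts v d) {w : G} (hwz : w * z = z * w) (hw : w * w = 1)
    (hwd : Inverts w d) : ∃ e : G, e * z = z * e ∧ e * d = d * e ∧ e * v * e⁻¹ = w := by
  obtain ⟨c, hc, i, rfl⟩ := (F.inverters_eq hv hvd).mp ⟨hwz, hw, hwd⟩
  obtain ⟨hcQ, hdc, -, -⟩ := F.L_props hc
  have hrQ : x * y ∈ Q := mul_mem F.xS.1 F.yS.1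
  have hrd : x * y * d = d * (x * y) := (Commute.mul_right F.dx F.dy).symm.eq
  obtain ⟨b, hb, hbd, hb'⟩ : ∃ b : G, b * z = z * b ∧ b * d = d * b ∧ b * v * b⁻¹ = v * c := by
    have hr : x * y * v * (x * y)⁻¹ = v * z := by
      have h1 : v⁻¹ * (x * y) * v = (x * y)⁻¹ := by
        have := F.r_flip hv hvd
        rw [inv_eq_of_mul_eq_one_right hv.2.1] at this ⊢
        exact this
      calc x * y * v * (x * y)⁻¹ = v * (v⁻¹ * (x * y) * v) * (x * y)⁻¹ := by group
        _ = v * ((x * y) * (x * y))⁻¹ := by rw [h1]; group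
        _ = v * z := by rw [F.r_sq, inv_eq_of_mul_eq_one_right h.zz]
    obtain ⟨c', hc', ex⟩ := F.move_x hv hvd
    have hx : x * v * x⁻¹ = v * c' := by
      have hc'L : c' ∈ ({1, z, x * y, z * (x * y)} : Set G) := Or.inr (Or.inr hc')
      rw [inv_eq_of_mul_eq_one_right F.xS.2.1]
      calc x * v * x = x * (v * x * v⁻¹) * v := by group
        _ = x * c' * x * v := by rw [ex]; group
        _ = c'⁻¹ * v := by rw [(F.L_props hc'L).2.2.2]
        _ = v * (v⁻¹ * c'⁻¹ * v) := by group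
        _ = v * c' := by
          have : v * c' * v⁻¹ = c'⁻¹ := by
            rcases hc' with rfl | rfl
            · exact F.r_flip hv hvd
            · rw [show v * (z * (x * y)) * v⁻¹ = v * z * v⁻¹ * (v * (x * y) * v⁻¹) by group, conj_fix_iff.mpr hv.1,
                F.r_flip hv hvd, F.zr_inv]
          rw [← this]; group
    have hrz : x * y * z = z * (x * y) := h.es.comm _ hrQ
    have hrx : x * y * x * v * (x * y * x)⁻¹ = v * (c' * z) := by
      rw [show x * y * x * v * (x * y * x)⁻¹ = x * y * (x * v * x⁻¹) * (x * y)⁻¹ by group, hx,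
        show x * y * (v * c') * (x * y)⁻¹ = x * y * v * (x * y)⁻¹ * (x * y * c' * (x * y)⁻¹) by group, hr,
        conj_fix_iff.mpr (F.L_props (Or.inr (Or.inr hc'))).2.2.1.symm, mul_assoc,
        h.es.comm _ (F.L_props (Or.inr (Or.inr hc'))).1]
    have hxrd : x * y * x * d = d * (x * y * x) := Commute.mul_left hrd F.dx.symm
    have hxrz : x * y * x * z = z * (x * y * x) := h.es.comm _ (mul_mem hrQ F.xS.1)
    rcases hc with rfl | rfl | rfl | rfl
    · exact ⟨1, by simp, by simp, by simp⟩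
    · exact ⟨x * y, hrz, hrd, hr⟩
    all_goals rcases hc' with rfl | rfl
    · exact ⟨x, h.es.comm x F.xS.1, F.dx.symm, hx⟩
    · exact ⟨x * y * x, hxrz, hxrd, by rw [hrx, show z * (x * y) * z = z * (x * y * z) by group, hrz, ← mul_assoc z, h.zz, one_mul]⟩
    · exact ⟨x * y * x, hxrz, hxrd, by rw [hrx, hrz]⟩
    · exact ⟨x, h.es.comm x F.xS.1, F.dx.symm, hx⟩
  refine ⟨d ^ i * b, Commute.mul_left (Commute.pow_left F.dz i) hb, Commute.mul_left (Commute.pow_self d i) hbd, ?_⟩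
  rw [show d ^ i * b * v * (d ^ i * b)⁻¹ = d ^ i * (b * v * b⁻¹) * (d ^ i)⁻¹ by group, hb']
  have hvci : (v * c) * (d ^ i)⁻¹ = d ^ i * (v * c) := by
    have h1 : v * c * d ^ i * (v * c)⁻¹ = (d ^ i)⁻¹ := by
      rw [show v * c * d ^ i * (v * c)⁻¹ = v * (c * d ^ i * c⁻¹) * v⁻¹ by group,
        conj_fix_iff.mpr (Commute.pow_right hdc.symm i)]
      exact inverts_pow hvd i
    calc v * c * (d ^ i)⁻¹ = (v * c * d ^ i * (v * c)⁻¹)⁻¹ * (v * c) := by group
      _ = d ^ i * (v * c) := by rw [h1, inv_inv]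
  rw [← hvci, mul_assoc (v * c), ← mul_inv_rev, ← pow_add, mul_assoc v c]
  congr 2
  refine inv_eq_of_mul_eq_one_left ?_
  rw [← pow_add, show i + (i + i) = 3 * i by ring, pow_mul, F.d3, one_pow]

end Frame3

namespace JT

variable (h : JT z Q pm)
include h

theorem ncard_three : {a : G | a * z = z * a ∧ orderOf a = 3}.ncard = 80 := by
  obtain ⟨v, -, d, hd, ho, -⟩ := h.exists_inverted (Or.inl rfl)
  obtain ⟨x, y, F⟩ := h.exists_frame3 hd ho
  have hset : {a : G | a * z = z * a ∧ orderOf a = 3} = orb (Subgroup.centralizer ({z} : Set G)) d := by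
    ext a
    constructor
    · rintro ⟨ha, hoa⟩
      obtain ⟨c, hc, e⟩ := h.conj_three ha hd hoa ho
      exact ⟨c, mem_cent.mpr hc, e⟩
    · rintro ⟨c, hc, rfl⟩
      exact ⟨Commute.mul_left (Commute.mul_left (mem_cent.mp hc) hd) (Commute.inv_left (mem_cent.mp hc)),
        by rw [CfsgLib.HallJankoType.orderOf_conj', ho]⟩
  have e := ncard_orb (Subgroup.centralizer ({z} : Set G)) d
  rw [← hset, F.card_cent, h.card_C] at e
  omega

theorem ncard_three_inverted {v : G} (hv : v ∈ h.T) :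
    {a : G | (a * z = z * a ∧ orderOf a = 3) ∧ Inverts v a}.ncard = 8 := by
  have key : ∀ w ∈ h.T, {a : G | (a * z = z * a ∧ orderOf a = 3) ∧ Inverts w a}.ncard =
      {a : G | (a * z = z * a ∧ orderOf a = 3) ∧ Inverts v a}.ncard := fun w hw => by
    obtain ⟨c, hc, rfl⟩ := h.trans_T hv hw
    conv_rhs => rw [← Set.ncard_image_of_injective _ (show Function.Injective fun a : G => c * a * c⁻¹ from
      fun a b e => mul_left_cancel (mul_right_cancel e))]
    congr 1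
    ext a
    constructor
    · rintro ⟨⟨haz, ho⟩, hwa⟩
      refine ⟨c⁻¹ * a * c, ⟨⟨Commute.mul_left (Commute.mul_left (Commute.inv_left hc) haz) hc, ?_⟩, ?_⟩,
        by show c * (c⁻¹ * a * c) * c⁻¹ = a; group⟩
      · have := CfsgLib.HallJankoType.orderOf_conj' c⁻¹ a
        rwa [inv_inv, ho] at this
      · have := inverts_conj (c := c⁻¹) hwa
        rwa [inv_inv, show c⁻¹ * (c * v * c⁻¹) * c = v by group] at this
    · rintro ⟨a, ⟨⟨haz, ho⟩, hva⟩, rfl⟩
      exact ⟨⟨Commute.mul_left (Commute.mul_left hc haz) (Commute.inv_left hc),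
        by rw [CfsgLib.HallJankoType.orderOf_conj', ho]⟩, inverts_conj hva⟩
  have hB : ∀ a ∈ {a : G | a * z = z * a ∧ orderOf a = 3}, {w | w ∈ h.T ∧ Inverts w a}.ncard = 12 := by
    rintro a ⟨haz, ho⟩
    obtain ⟨x, y, F⟩ := h.exists_frame3 haz ho
    obtain ⟨w, hw, hwa⟩ := h.exists_inverter (Or.inl rfl) haz ho
    rw [← F.ncard_inverters hw hwa]
    congr 1
    ext u
    exact ⟨fun hu => ⟨hu.1.1, hu.1.2.1, hu.2⟩, fun hu => ⟨F.inverter_mem_T hu.1 hu.2.1 hu.2.2, hu.2.2⟩⟩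
  have e := double_count h.T {a : G | a * z = z * a ∧ orderOf a = 3} Inverts key hB
  rw [h.ncard_T, h.ncard_three] at e
  omega

end JT

end CfsgLib.J3Type
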