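import Cfsg.Agent.Lib.J3Type.Three
import Cfsg.Agent.Lib.J3Type.AltSix
import Cfsg.Agent.Lib.J3Type.GlThree

/-!
Groups of `J₃` type: the facts used on the quotient of the centralizer of an element of order three.
-/

set_option autoImplicit false
set_option linter.unusedSectionVars false

namespace CfsgLib.J3Type

open Equiv

universe u

/-- The common facts: `p` is five for the alternating group of degree six, three for order 168. -/
structure XBase (X : Type u) [Group X] (p : ℕ) : Prop where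
  hp : p = 3 ∨ p = 5
  inv_odd : Odd {w : X | w * w = 1 ∧ w ≠ 1}.ncard
  inverted : ∀ w : X, w * w = 1 → w ≠ 1 → {x : X | (x ^ p = 1 ∧ x ≠ 1) ∧ Inverts w x}.ncard = 4 * (p - 1)
  cent : ∀ x g : X, x ^ p = 1 → x ≠ 1 → g * x = x * g → g ∈ Subgroup.zpowers x
  norm : ∀ x g : X, x ^ p = 1 → x ≠ 1 → g * x * g⁻¹ ∈ Subgroup.zpowers x → g * x * g⁻¹ = x ∨ g * x * g⁻¹ = x⁻¹
  inverter : ∀ x : X, x ^ p = 1 → x ≠ 1 → ∃ w : X, w * w = 1 ∧ w ≠ 1 ∧ Inverts w x

/-- The facts on the alternating group of degree six. -/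
structure XSix (X : Type u) [Group X] : Prop extends XBase X 5 where
  card : Nat.card X = 360
  inv_count : {w : X | w * w = 1 ∧ w ≠ 1}.ncard = 45
  orders : ∀ g : X, g ^ 3 = 1 ∨ g ^ 4 = 1 ∨ g ^ 5 = 1
  three_inverted : ∀ w : X, w * w = 1 → w ≠ 1 → {x : X | (x ^ 3 = 1 ∧ x ≠ 1) ∧ Inverts w x}.ncard = 16
  three_cent : ∀ x : X, x ^ 3 = 1 → x ≠ 1 → {g : X | g * x = x * g}.ncard = 9
  three_inverters : ∀ x : X, x ^ 3 = 1 → x ≠ 1 → {w : X | (w * w = 1 ∧ w ≠ 1) ∧ Inverts w x}.ncard = 9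
  cent_inverted : ∀ x w g : X, x ^ 3 = 1 → x ≠ 1 → w * w = 1 → w ≠ 1 → Inverts w x → g * x = x * g →
    g ^ 3 = 1 ∧ Inverts w g

/-- The facts on the simple group of order 168. -/
structure XSeven (X : Type u) [Group X] : Prop extends XBase X 3 where
  card : Nat.card X = 168
  inv_count : {w : X | w * w = 1 ∧ w ≠ 1}.ncard = 21
  orders : ∀ g : X, g ^ 2 = 1 ∨ g ^ 3 = 1 ∨ g ^ 4 = 1 ∨ g ^ 7 = 1
  seven_cent : ∀ x : X, x ^ 7 = 1 → x ≠ 1 → {g : X | g * x = x * g}.ncard = 7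
  seven_no_inverter : ∀ x w : X, x ^ 7 = 1 → x ≠ 1 → w * w = 1 → ¬ Inverts w x
  three_inverters : ∀ x : X, x ^ 3 = 1 → x ≠ 1 → {w : X | (w * w = 1 ∧ w ≠ 1) ∧ Inverts w x}.ncard = 3
  seven_num : {s : X | s ^ 7 = 1 ∧ s ≠ 1}.ncard = 48
  seven_norm : ∀ x : X, x ^ 3 = 1 → x ≠ 1 →
    {s : X | (s ^ 7 = 1 ∧ s ≠ 1) ∧ (x * s * x⁻¹ = s ^ 2 ∨ x * s * x⁻¹ = s ^ 4)}.ncard = 12

theorem inverts_iff_mul {X : Type u} [Group X] {w x : X} (hw : w * w = 1) : Inverts w x ↔ w * x * w = x⁻¹ := by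
  rw [Inverts, inv_eq_of_mul_eq_one_right hw]

namespace AltSix

/-- The alternating group of degree six. -/
abbrev A := ↥(alternatingGroup (Fin 6))

theorem pointwise_inverts {w x : Perm (Fin 6)} (hw : w * w = 1) :
    (∀ i, w (x (w (x i))) = i) ↔ w * x * w⁻¹ = x⁻¹ := by
  rw [inv_eq_of_mul_eq_one_right hw]
  constructor
  · intro h
    exact eq_inv_of_mul_eq_one_left (Equiv.ext fun i => by simpa [Perm.mul_apply] using h i)
  · intro h i
    have := Equiv.congr_fun (mul_eq_one_iff_eq_inv.mpr h) i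
    simpa [Perm.mul_apply] using this

theorem pointwise_comm {g x : Perm (Fin 6)} : (∀ i, g (x i) = x (g i)) ↔ g * x = x * g := by
  rw [Equiv.ext_iff]
  simp only [Perm.mul_apply]

theorem pointwise_pow {x : Perm (Fin 6)} :
    ((∀ i, x (x i) = i) ↔ x * x = 1) ∧ ((∀ i, x (x (x i)) = i) ↔ x ^ 3 = 1) ∧
      ((∀ i, x (x (x (x i))) = i) ↔ x ^ 4 = 1) ∧ ((∀ i, x (x (x (x (x i)))) = i) ↔ x ^ 5 = 1) := by
  simp only [Equiv.ext_iff, pow_succ, pow_zero, one_mul, Perm.mul_apply, Perm.one_apply, and_self]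

theorem pointwise_ne {x : Perm (Fin 6)} : (∃ i, x i ≠ i) ↔ x ≠ 1 := by
  simp only [ne_eq, Equiv.ext_iff, Perm.one_apply, not_forall]

theorem sign_odd {x : Perm (Fin 6)} {n : ℕ} (hn : Odd n) (hx : x ^ n = 1) : Perm.sign x = 1 := by
  have h := congrArg Perm.sign hx
  rw [map_pow, map_one] at h
  rcases Int.units_eq_one_or (Perm.sign x) with e | e
  · exact e
  · rw [e, hn.neg_one_pow] at h
    exact absurd h (by decide)

theorem sign_conj (s x : Perm (Fin 6)) : Perm.sign (s * x * s⁻¹) = Perm.sign x := by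
  rw [map_mul, map_mul, map_inv, mul_right_comm, mul_inv_cancel, one_mul]

theorem coe_ne {x : A} (h : x ≠ 1) : (x : Perm (Fin 6)) ≠ 1 := fun e => h (Subtype.ext e)

/-- A count in the alternating group is moved to a count in the symmetric group. -/
theorem count_eq (s : Perm (Fin 6)) (P : A → Prop) (R : Perm (Fin 6) → Prop) [DecidablePred R]
    (h : ∀ x : A, P x ↔ R (s⁻¹ * (x : Perm (Fin 6)) * s)) (hs : ∀ g, R g → Perm.sign g = 1) :
    {x : A | P x}.ncard = ((Finset.univ : Finset (Perm (Fin 6))).filter R).card := by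
  rw [← Nat.card_coe_set_eq, ← Nat.card_eq_finsetCard]
  exact Nat.card_congr
    { toFun := fun x => ⟨s⁻¹ * (x.1 : Perm (Fin 6)) * s, Finset.mem_filter.mpr ⟨Finset.mem_univ _, (h _).mp x.2⟩⟩
      invFun := fun g => ⟨⟨s * g.1 * s⁻¹, Perm.mem_alternatingGroup.mpr (by
          rw [sign_conj]; exact hs _ (Finset.mem_filter.mp g.2).2)⟩, (h _).mpr (by
          show R (s⁻¹ * (s * g.1 * s⁻¹) * s)
          rw [show s⁻¹ * (s * g.1 * s⁻¹) * s = g.1 by group]
          exact (Finset.mem_filter.mp g.2).2)⟩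
      left_inv := fun x => Subtype.ext (Subtype.ext (by
        show s * (s⁻¹ * (x.1 : Perm (Fin 6)) * s) * s⁻¹ = _
        group))
      right_inv := fun g => Subtype.ext (by show s⁻¹ * (s * g.1 * s⁻¹) * s = g.1; group) }

variable (s : Perm (Fin 6))

theorem back_comm {r g : Perm (Fin 6)} :
    g * (s * r * s⁻¹) = s * r * s⁻¹ * g ↔ s⁻¹ * g * s * r = r * (s⁻¹ * g * s) := by
  constructor
  · intro e
    calc s⁻¹ * g * s * r = s⁻¹ * (g * (s * r * s⁻¹)) * s := by group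
      _ = s⁻¹ * (s * r * s⁻¹ * g) * s := by rw [e]
      _ = r * (s⁻¹ * g * s) := by group
  · intro e
    calc g * (s * r * s⁻¹) = s * (s⁻¹ * g * s * r) * s⁻¹ := by group
      _ = s * (r * (s⁻¹ * g * s)) * s⁻¹ := by rw [e]
      _ = s * r * s⁻¹ * g := by group

theorem back_inverts {r w : Perm (Fin 6)} :
    w * (s * r * s⁻¹) * w⁻¹ = (s * r * s⁻¹)⁻¹ ↔ s⁻¹ * w * s * r * (s⁻¹ * w * s)⁻¹ = r⁻¹ := by
  constructor
  · intro e
    calc s⁻¹ * w * s * r * (s⁻¹ * w * s)⁻¹ = s⁻¹ * (w * (s * r * s⁻¹) * w⁻¹) * s := by group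
      _ = r⁻¹ := by rw [e]; group
  · intro e
    calc w * (s * r * s⁻¹) * w⁻¹ = s * (s⁻¹ * w * s * r * (s⁻¹ * w * s)⁻¹) * s⁻¹ := by group
      _ = _ := by rw [e]; group

theorem back_inverts' {r x : Perm (Fin 6)} :
    s * r * s⁻¹ * x * (s * r * s⁻¹)⁻¹ = x⁻¹ ↔ r * (s⁻¹ * x * s) * r⁻¹ = (s⁻¹ * x * s)⁻¹ := by
  constructor
  · intro e
    calc r * (s⁻¹ * x * s) * r⁻¹ = s⁻¹ * (s * r * s⁻¹ * x * (s * r * s⁻¹)⁻¹) * s := by group
      _ = _ := by rw [e]; group
  · intro e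
    calc s * r * s⁻¹ * x * (s * r * s⁻¹)⁻¹ = s * (r * (s⁻¹ * x * s) * r⁻¹) * s⁻¹ := by group
      _ = _ := by rw [e]; group

theorem back_pow (x : Perm (Fin 6)) (n : ℕ) : (s⁻¹ * x * s) ^ n = 1 ↔ x ^ n = 1 := by
  have h := conj_pow (a := s⁻¹) (b := x) (i := n)
  rw [inv_inv] at h
  rw [h]
  constructor
  · intro e
    calc x ^ n = s * (s⁻¹ * x ^ n * s) * s⁻¹ := by group
      _ = 1 := by rw [e]; group
  · intro e
    rw [e]; group

theorem back_ne (x : Perm (Fin 6)) : s⁻¹ * x * s ≠ 1 ↔ x ≠ 1 := by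
  rw [not_iff_not]
  simpa using back_pow s x 1

theorem coe_inverts {w x : A} : Inverts w x ↔
    (w : Perm (Fin 6)) * (x : Perm (Fin 6)) * (w : Perm (Fin 6))⁻¹ = (x : Perm (Fin 6))⁻¹ :=
  ⟨congrArg Subtype.val, fun e => Subtype.ext e⟩

theorem inverted_count {n : ℕ} (hn : n = 3 ∨ n = 5) (w : A) (hw : w * w = 1) (hw1 : w ≠ 1) :
    {x : A | (x ^ n = 1 ∧ x ≠ 1) ∧ Inverts w x}.ncard = 16 := by
  obtain ⟨s, hs⟩ := isConj_iff.mp (two_cases (congrArg Subtype.val hw) (coe_ne hw1)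
    (Perm.mem_alternatingGroup.mp w.2))
  have hu : u₀ * u₀ = 1 := by decide +kernel
  rcases hn with rfl | rfl
  · rw [← three_inverted]
    refine count_eq s _ _ (fun x => ?_) fun g hg => sign_odd (by decide) (pointwise_pow.2.1.mp hg.2.2)
    rw [pointwise_inverts hu, pointwise_ne, pointwise_pow.2.1, back_pow, back_ne, ← back_inverts', hs, coe_inverts,
      ← SubmonoidClass.coe_pow, OneMemClass.coe_eq_one, ne_eq, ← OneMemClass.coe_eq_one (x := x)]
    tauto
  · rw [← five_inverted]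
    refine count_eq s _ _ (fun x => ?_) fun g hg => sign_odd (by decide) (pointwise_pow.2.2.2.mp hg.2.2)
    rw [pointwise_inverts hu, pointwise_ne, pointwise_pow.2.2.2, back_pow, back_ne, ← back_inverts', hs, coe_inverts,
      ← SubmonoidClass.coe_pow, OneMemClass.coe_eq_one, ne_eq, ← OneMemClass.coe_eq_one (x := x)]
    tauto

theorem five_five (x g : A) (hx : x ^ 5 = 1) (hx1 : x ≠ 1) :
    (g * x = x * g → g ∈ Subgroup.zpowers x) ∧ g * x * g⁻¹ ≠ x ^ 2 ∧ g * x * g⁻¹ ≠ x ^ 3 := by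
  obtain ⟨s, hs⟩ := isConj_iff.mp (five_cases (congrArg Subtype.val hx : (x : Perm (Fin 6)) ^ 5 = 1) (coe_ne hx1))
  have hsg : Perm.sign (s⁻¹ * (g : Perm (Fin 6)) * s) = 1 := by
    have := sign_conj s⁻¹ (g : Perm (Fin 6))
    rw [inv_inv] at this
    exact this.trans (Perm.mem_alternatingGroup.mp g.2)
  have hpow : ∀ k : ℕ, ∀ y : Perm (Fin 6), y = f₀ ^ k → s * y * s⁻¹ = ((x ^ k : A) : Perm (Fin 6)) := fun k y e => by
    rw [e, ← conj_pow, hs, SubmonoidClass.coe_pow]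
  have hmove : ∀ k : ℕ, g * x * g⁻¹ = x ^ k →
      s⁻¹ * (g : Perm (Fin 6)) * s * f₀ = f₀ ^ k * (s⁻¹ * (g : Perm (Fin 6)) * s) := fun k e => by
    have e' : (g : Perm (Fin 6)) * (x : Perm (Fin 6)) * (g : Perm (Fin 6))⁻¹ = ((x ^ k : A) : Perm (Fin 6)) :=
      congrArg Subtype.val e
    rw [← hs, ← hpow k _ rfl] at e'
    calc s⁻¹ * (g : Perm (Fin 6)) * s * f₀ =
        s⁻¹ * ((g : Perm (Fin 6)) * (s * f₀ * s⁻¹) * (g : Perm (Fin 6))⁻¹) * ((g : Perm (Fin 6)) * s) := by group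
      _ = f₀ ^ k * (s⁻¹ * (g : Perm (Fin 6)) * s) := by rw [e']; group
  refine ⟨fun e => ?_, fun e => ?_, fun e => ?_⟩
  · have e' : (g : Perm (Fin 6)) * (x : Perm (Fin 6)) = (x : Perm (Fin 6)) * (g : Perm (Fin 6)) :=
      congrArg Subtype.val e
    rw [← hs, back_comm] at e'
    have back : ∀ k : ℕ, s⁻¹ * (g : Perm (Fin 6)) * s = f₀ ^ k → g ∈ Subgroup.zpowers x := fun k ek =>
      ⟨k, Subtype.ext (by
        show ((x ^ (k : ℤ) : A) : Perm (Fin 6)) = _
        rw [zpow_natCast, ← hpow k _ ek]; group)⟩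
    rcases five_cent _ (pointwise_comm.mpr e') with h | h | h | h | h
    · exact back 0 (by rw [h, pow_zero])
    · exact back 1 (by rw [h, pow_one])
    · exact back 2 (by rw [h]; simp only [pow_succ, pow_zero, one_mul])
    · exact back 3 (by rw [h]; simp only [pow_succ, pow_zero, one_mul])
    · exact back 4 (by rw [h]; simp only [pow_succ, pow_zero, one_mul])
  · refine five_norm _ (Or.inl fun i => ?_) hsg
    simpa [Perm.mul_apply, pow_succ] using Equiv.congr_fun (hmove 2 e) i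
  · refine five_norm _ (Or.inr fun i => ?_) hsg
    simpa [Perm.mul_apply, pow_succ] using Equiv.congr_fun (hmove 3 e) i

theorem five_inverter (x : A) (hx : x ^ 5 = 1) (hx1 : x ≠ 1) : ∃ w : A, w * w = 1 ∧ w ≠ 1 ∧ Inverts w x := by
  obtain ⟨s, hs⟩ := isConj_iff.mp (five_cases (congrArg Subtype.val hx : (x : Perm (Fin 6)) ^ 5 = 1) (coe_ne hx1))
  obtain ⟨r, hr1, hr2, hr3, hr4⟩ : ∃ r : Perm (Fin 6), r * r = 1 ∧ r ≠ 1 ∧ Perm.sign r = 1 ∧ r * f₀ * r⁻¹ = f₀⁻¹ :=
    ⟨swap 1 4 * swap 2 3, by decide +kernel⟩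
  refine ⟨⟨s * r * s⁻¹, Perm.mem_alternatingGroup.mpr (by rw [sign_conj, hr3])⟩, Subtype.ext ?_, fun e => hr2 ?_,
    coe_inverts.mpr ?_⟩
  · show s * r * s⁻¹ * (s * r * s⁻¹) = 1
    rw [show s * r * s⁻¹ * (s * r * s⁻¹) = s * (r * r) * s⁻¹ by group, hr1]; group
  · exact conj_eq_one_iff.mp (congrArg Subtype.val e)
  · rw [← hs, back_inverts]
    show s⁻¹ * (s * r * s⁻¹) * s * f₀ * (s⁻¹ * (s * r * s⁻¹) * s)⁻¹ = f₀⁻¹
    rw [show s⁻¹ * (s * r * s⁻¹) * s = r by group, hr4]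

theorem inv_ncard : {w : A | w * w = 1 ∧ w ≠ 1}.ncard = 45 := by
  rw [← inv_count]
  refine count_eq 1 _ _ (fun w => ?_) fun g hg => hg.2.2
  rw [inv_one, one_mul, mul_one, pointwise_pow.1, pointwise_ne]
  exact ⟨fun h => ⟨congrArg Subtype.val h.1, coe_ne h.2, Perm.mem_alternatingGroup.mp w.2⟩,
    fun h => ⟨Subtype.ext h.1, fun e => h.2.1 (congrArg Subtype.val e)⟩⟩

theorem three_facts (x : A) (hx : x ^ 3 = 1) (hx1 : x ≠ 1) :
    {g : A | g * x = x * g}.ncard = 9 ∧ {w : A | (w * w = 1 ∧ w ≠ 1) ∧ Inverts w x}.ncard = 9 ∧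
      ∀ w g : A, w * w = 1 → Inverts w x → g * x = x * g → g ^ 3 = 1 ∧ Inverts w g := by
  obtain ⟨r, hr, s, hs⟩ : ∃ r, (r = e₀ ∨ r = d₀) ∧ ∃ s, s * r * s⁻¹ = (x : Perm (Fin 6)) := by
    rcases three_cases (congrArg Subtype.val hx : (x : Perm (Fin 6)) ^ 3 = 1) (coe_ne hx1) with h | h
    exacts [⟨_, Or.inl rfl, isConj_iff.mp h⟩, ⟨_, Or.inr rfl, isConj_iff.mp h⟩]
  have sgn : ∀ g : A, Perm.sign (s⁻¹ * (g : Perm (Fin 6)) * s) = 1 := fun g => by
    have := sign_conj s⁻¹ (g : Perm (Fin 6))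
    rw [inv_inv] at this
    exact this.trans (Perm.mem_alternatingGroup.mp g.2)
  have sq : ∀ w : A, w * w = 1 → s⁻¹ * (w : Perm (Fin 6)) * s * (s⁻¹ * (w : Perm (Fin 6)) * s) = 1 := fun w hw => by
    have hw' : (w : Perm (Fin 6)) * (w : Perm (Fin 6)) = 1 := congrArg Subtype.val hw
    rw [show s⁻¹ * (w : Perm (Fin 6)) * s * (s⁻¹ * (w : Perm (Fin 6)) * s) =
      s⁻¹ * ((w : Perm (Fin 6)) * (w : Perm (Fin 6))) * s by group, hw']
    group
  have hcomm : ∀ g : A, g * x = x * g ↔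
      (∀ i, (s⁻¹ * (g : Perm (Fin 6)) * s) (r i) = r ((s⁻¹ * (g : Perm (Fin 6)) * s) i)) := fun g => by
    rw [pointwise_comm, ← back_comm, hs]
    exact ⟨congrArg Subtype.val, fun e => Subtype.ext e⟩
  have hinv : ∀ w : A, w * w = 1 → (Inverts w x ↔ ∀ i, (s⁻¹ * (w : Perm (Fin 6)) * s)
      (r ((s⁻¹ * (w : Perm (Fin 6)) * s) (r i))) = i) := fun w hw => by
    rw [pointwise_inverts (sq w hw), ← back_inverts, hs, coe_inverts]
  refine ⟨?_, ?_, fun w g hw hwx hgx => ?_⟩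
  · have hc : ((Finset.univ : Finset (Perm (Fin 6))).filter fun g =>
        (∀ i, g (r i) = r (g i)) ∧ Perm.sign g = 1).card = 9 := by
      rcases hr with rfl | rfl
      exacts [three_cent.1, three_cent.2]
    rw [← hc]
    refine count_eq s _ _ (fun g => ?_) fun g hg => hg.2
    exact ⟨fun h => ⟨(hcomm g).mp h, sgn g⟩, fun h => (hcomm g).mpr h.1⟩
  · have hc : ((Finset.univ : Finset (Perm (Fin 6))).filter fun u =>
        (∀ i, u (r (u (r i))) = i) ∧ (∀ i, u (u i) = i) ∧ Perm.sign u = 1).card = 9 := by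
      rcases hr with rfl | rfl
      exacts [inverters_count.1, inverters_count.2]
    rw [← hc]
    refine count_eq s _ _ (fun w => ?_) fun g hg => hg.2.2
    constructor
    · rintro ⟨⟨hw, -⟩, hwx⟩
      exact ⟨(hinv w hw).mp hwx, pointwise_pow.1.mpr (sq w hw), sgn w⟩
    · rintro ⟨h1, h2, -⟩
      have hw : w * w = 1 := Subtype.ext (by
        have := pointwise_pow.1.mp h2
        calc (w : Perm (Fin 6)) * (w : Perm (Fin 6)) =
            s * (s⁻¹ * (w : Perm (Fin 6)) * s * (s⁻¹ * (w : Perm (Fin 6)) * s)) * s⁻¹ := by group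
          _ = 1 := by rw [this]; group)
      refine ⟨⟨hw, fun e => hx1 ?_⟩, (hinv w hw).mpr h1⟩
      have := (hinv w hw).mpr h1
      rw [Inverts, e, one_mul, inv_one, mul_one] at this
      have h2x : x ^ 2 = 1 := by rw [pow_two]; nth_rewrite 2 [this]; exact mul_inv_cancel x
      rwa [pow_succ, h2x, one_mul] at hx
  · have key : (∀ i, (s⁻¹ * (g : Perm (Fin 6)) * s) ((s⁻¹ * (g : Perm (Fin 6)) * s)
        ((s⁻¹ * (g : Perm (Fin 6)) * s) i)) = i) ∧ ∀ i, (s⁻¹ * (w : Perm (Fin 6)) * s)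
        ((s⁻¹ * (g : Perm (Fin 6)) * s) ((s⁻¹ * (w : Perm (Fin 6)) * s) ((s⁻¹ * (g : Perm (Fin 6)) * s) i))) = i := by
      have h1 := (hinv w hw).mp hwx
      have h2 := (hcomm g).mp hgx
      have hu := pointwise_pow.1.mpr (sq w hw)
      rcases hr with rfl | rfl
      exacts [cent_inverted _ hu (Or.inl h1) (sgn w) _ (Or.inl ⟨h2, h1⟩) (sgn g),
        cent_inverted _ hu (Or.inr h1) (sgn w) _ (Or.inr ⟨h2, h1⟩) (sgn g)]
    obtain ⟨k1, k2⟩ := key
    rw [pointwise_pow.2.1, back_pow] at k1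
    rw [pointwise_inverts (sq w hw)] at k2
    refine ⟨Subtype.ext k1, coe_inverts.mpr ?_⟩
    rw [show (w : Perm (Fin 6)) * (g : Perm (Fin 6)) * (w : Perm (Fin 6))⁻¹ = s * (s⁻¹ * (w : Perm (Fin 6)) * s *
      (s⁻¹ * (g : Perm (Fin 6)) * s) * (s⁻¹ * (w : Perm (Fin 6)) * s)⁻¹) * s⁻¹ by group, k2]
    group

theorem xSix : XSix A where
  hp := Or.inr rfl
  inv_odd := by rw [inv_ncard]; decide
  inverted w hw hw1 := inverted_count (Or.inr rfl) w hw hw1
  cent x g hx hx1 := (five_five x g hx hx1).1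
  norm x g hx hx1 hm := by
    obtain ⟨-, h2, h3⟩ := five_five x g hx hx1
    obtain ⟨i, hi⟩ := (isOfFinOrder_of_finite x).mem_powers_iff_mem_zpowers.mpr hm
    have hi' : x ^ (i % 5) = g * x * g⁻¹ := by
      rw [← show x ^ i = g * x * g⁻¹ from hi]
      conv_rhs => rw [← Nat.mod_add_div i 5, pow_add, pow_mul, hx, one_pow, mul_one]
    have hlt : i % 5 < 5 := Nat.mod_lt _ (by norm_num)
    interval_cases (i % 5)
    · exact absurd (conj_eq_one_iff.mp (by rw [← hi', pow_zero])) hx1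
    · exact Or.inl (by rw [← hi', pow_one])
    · exact absurd hi'.symm h2
    · exact absurd hi'.symm h3
    · exact Or.inr (by rw [← hi']; exact eq_inv_of_mul_eq_one_left (by rw [← pow_succ, hx]))
  inverter := five_inverter
  inv_count := inv_ncard
  card := by
    rw [nat_card_alternatingGroup, Nat.card_fin]
    rfl
  orders g := by
    rcases orders (g : Perm (Fin 6)) (Perm.mem_alternatingGroup.mp g.2) with h | h | h
    · exact Or.inl (Subtype.ext (pointwise_pow.2.1.mp h))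
    · exact Or.inr (Or.inl (Subtype.ext (pointwise_pow.2.2.1.mp h)))
    · exact Or.inr (Or.inr (Subtype.ext (pointwise_pow.2.2.2.mp h)))
  three_inverted w hw hw1 := inverted_count (Or.inl rfl) w hw hw1
  three_cent x hx hx1 := (three_facts x hx hx1).1
  three_inverters x hx hx1 := (three_facts x hx hx1).2.1
  cent_inverted x w g hx hx1 hw _ := (three_facts x hx hx1).2.2 w g hw

end AltSix

namespace GlThree

open CfsgLib.Order168Model

attribute [local irreducible] mulC invC detC mkT toMat asm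

theorem cube (x : T) : x ^ 3 = x * x * x := by rw [pow_succ, pow_two]

theorem seventh (x : T) : x ^ 7 = x * x * x * x * x * x * x := by
  simp only [pow_succ, pow_zero, one_mul]

theorem ncard_eq (P : T → Prop) [DecidablePred P] : {x : T | P x}.ncard = ((Finset.univ : Finset T).filter P).card := by
  rw [← Set.ncard_coe_finset]
  congr 1
  ext x
  simp

theorem xSeven : XSeven T where
  hp := Or.inl rfl
  inv_odd := by rw [ncard_eq, inv_count]; decide
  inverted w hw hw1 := by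
    rw [show {x : T | (x ^ 3 = 1 ∧ x ≠ 1) ∧ Inverts w x} = {x : T | w * x * w = x⁻¹ ∧ x ≠ 1 ∧ x * x * x = 1} from
      Set.ext fun x => by simp only [Set.mem_ofPred_eq, cube, inverts_iff_mul hw]; tauto]
    rw [ncard_eq, GlThree.inverted w hw hw1]
  cent x g hx hx1 h := by
    rw [cube] at hx
    rcases three_cent x hx hx1 g h with rfl | rfl | rfl
    exacts [one_mem _, Subgroup.mem_zpowers _, mul_mem (Subgroup.mem_zpowers _) (Subgroup.mem_zpowers _)]
  norm x g hx hx1 hm := by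
    obtain ⟨i, hi⟩ := (isOfFinOrder_of_finite x).mem_powers_iff_mem_zpowers.mpr hm
    have hi' : x ^ (i % 3) = g * x * g⁻¹ := by
      rw [← show x ^ i = g * x * g⁻¹ from hi]
      conv_rhs => rw [← Nat.mod_add_div i 3, pow_add, pow_mul, hx, one_pow, mul_one]
    have hlt : i % 3 < 3 := Nat.mod_lt _ (by norm_num)
    interval_cases (i % 3)
    · exact absurd (conj_eq_one_iff.mp (by rw [← hi', pow_zero])) hx1
    · exact Or.inl (by rw [← hi', pow_one])
    · exact Or.inr (by rw [← hi']; exact eq_inv_of_mul_eq_one_left (by rw [← pow_succ, hx]))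
  inverter x hx hx1 := by
    have h3 := inverters_count x (by rw [← cube]; exact hx) hx1
    obtain ⟨w, hw⟩ := Finset.card_pos.mp (by rw [h3]; norm_num)
    obtain ⟨-, hww, hwx⟩ := Finset.mem_filter.mp hw
    refine ⟨w, hww, fun e => hx1 ?_, (inverts_iff_mul hww).mpr hwx⟩
    rw [e, one_mul, mul_one] at hwx
    have : x * x = 1 := by nth_rewrite 2 [hwx]; exact mul_inv_cancel x
    rw [cube, this, one_mul] at hx
    exact hx
  card := card_T
  inv_count := by rw [ncard_eq, GlThree.inv_count]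
  orders g := by
    rw [pow_two, cube, show g ^ 4 = g * g * g * g by simp only [pow_succ, pow_zero, one_mul], seventh]
    exact GlThree.orders g
  seven_cent x hx hx1 := by
    rw [seventh] at hx
    rw [ncard_eq, seven_count x hx hx1]
  seven_no_inverter x w hx hx1 hw h := by
    rw [seventh] at hx
    exact seven_no_inverter x hx hx1 w hw ((inverts_iff_mul hw).mp h)
  three_inverters x hx hx1 := by
    rw [cube] at hx
    rw [show {w : T | (w * w = 1 ∧ w ≠ 1) ∧ Inverts w x} = {w : T | w * w = 1 ∧ w * x * w = x⁻¹} from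
      Set.ext fun w => ⟨fun h => ⟨h.1.1, (inverts_iff_mul h.1.1).mp h.2⟩, fun h => ⟨⟨h.1, fun e => by
        have h2 := h.2
        rw [e, one_mul, mul_one] at h2
        have : x * x = 1 := by nth_rewrite 2 [h2]; exact mul_inv_cancel x
        rw [this, one_mul] at hx
        exact hx1 hx⟩, (inverts_iff_mul h.1).mpr h.2⟩⟩]
    rw [ncard_eq, inverters_count x hx hx1]
  seven_num := by
    rw [show {s : T | s ^ 7 = 1 ∧ s ≠ 1} = {s : T | s * s * s * s * s * s * s = 1 ∧ s ≠ 1} from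
      Set.ext fun s => by simp only [Set.mem_ofPred_eq, seventh], ncard_eq, GlThree.seven_num]
  seven_norm x hx hx1 := by
    rw [cube] at hx
    rw [show {s : T | (s ^ 7 = 1 ∧ s ≠ 1) ∧ (x * s * x⁻¹ = s ^ 2 ∨ x * s * x⁻¹ = s ^ 4)} =
      {s : T | (s * s * s * s * s * s * s = 1 ∧ s ≠ 1) ∧ (x * s = s * s * x ∨ x * s = s * s * s * s * x)} from
      Set.ext fun s => by
        simp only [Set.mem_ofPred_eq, seventh, mul_inv_eq_iff_eq_mul, pow_two,
          show s ^ 4 = s * s * s * s by simp only [pow_succ, pow_zero, one_mul]],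
      ncard_eq, GlThree.seven_norm x hx hx1]

end GlThree

end CfsgLib.J3Type
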