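import Cfsg.Agent.Lib.J3Type.Even
import Cfsg.Agent.Lib.J3Type.XFacts
import Cfsg.Agent.Lib.J3Type.OddHalf
import Cfsg.Agent.Lib.InvolutionDihedralEight

/-!
Groups of `J₃` type: the centralizer of an element of order three of `C(z)`, modulo that element, is the
alternating group of degree six or the simple group of order 168.
-/

set_option autoImplicit false
set_option linter.unusedSectionVars false
set_option maxHeartbeats 1000000

namespace CfsgLib.J3Type

open Cfsg CfsgLargeExtra Equiv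
open CfsgLib.HallJankoType (orb mem_cent conj_fix_iff ncard_orb IsInv5 orderOf_conj')

universe u

variable {G : Type u} [Group G] [Finite G] {z : G} {Q : Subgroup G} {pm : G → Perm (Fin 5)}

/-- The centralizer of `d` maps onto `X` with kernel the powers of `d`. -/
structure ThreeQ (d : G) {X : Type*} [Group X] (π : G → X) : Prop where
  mul : ∀ a b : G, a * d = d * a → b * d = d * b → π (a * b) = π a * π b
  surj : ∀ x : X, ∃ a : G, a * d = d * a ∧ π a = x
  ker : ∀ a : G, a * d = d * a → (π a = 1 ↔ a ∈ Subgroup.zpowers d)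

/-- The involution centralizers of `X` are dihedral of order eight. -/
def DihCents (X : Type*) [Group X] : Prop :=
  ∀ w : X, w * w = 1 → w ≠ 1 → Nonempty (↥(Subgroup.centralizer ({w} : Set X)) ≃* DihedralGroup 4)

theorem DihCents.of_equiv {X Y : Type*} [Group X] [Group Y] (e : X ≃* Y) (h : DihCents X) : DihCents Y := by
  intro w hw hw1
  obtain ⟨f⟩ := h (e.symm w) (by rw [← map_mul, hw, map_one]) fun h1 => hw1 (by
    rw [← e.apply_symm_apply w, h1, map_one])
  refine ⟨MulEquiv.trans ?_ f⟩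
  refine
    { toFun := fun a => ⟨e.symm a.1, mem_cent.mpr (by rw [← map_mul, mem_cent.mp a.2, map_mul])⟩
      invFun := fun a => ⟨e a.1, mem_cent.mpr (by
        have := congrArg e (mem_cent.mp a.2)
        rwa [map_mul, map_mul, MulEquiv.apply_symm_apply] at this)⟩
      left_inv := fun a => Subtype.ext (e.apply_symm_apply _)
      right_inv := fun a => Subtype.ext (e.symm_apply_apply _)
      map_mul' := fun a b => Subtype.ext (map_mul e.symm _ _) }

theorem conj_comm_back {g a b : G} (h : g * a * g⁻¹ * b = b * (g * a * g⁻¹)) :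
    a * (g⁻¹ * b * g) = g⁻¹ * b * g * a := by
  calc a * (g⁻¹ * b * g) = g⁻¹ * (g * a * g⁻¹ * b) * g := by group
    _ = g⁻¹ * (b * (g * a * g⁻¹)) * g := by rw [h]
    _ = g⁻¹ * b * g * a := by group

theorem conj_back_of_eq {g a b : G} (h : g * a * g⁻¹ = b) : g⁻¹ * b * g = a := by rw [← h]; group

namespace ThreeQ

variable {d : G} {X : Type*} [Group X] {π : G → X} (h : ThreeQ d π)
include h

theorem map_one' : π 1 = 1 := (h.ker 1 (by simp)).mpr (one_mem _)

theorem map_d : π d = 1 := (h.ker d rfl).mpr (Subgroup.mem_zpowers d)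

theorem map_inv {a : G} (ha : a * d = d * a) : π a⁻¹ = (π a)⁻¹ := by
  refine eq_inv_of_mul_eq_one_left ?_
  rw [← h.mul _ _ (Commute.inv_left ha) ha, inv_mul_cancel, h.map_one']

theorem map_pow {a : G} (ha : a * d = d * a) (n : ℕ) : π (a ^ n) = π a ^ n := by
  induction n with
  | zero => simp [h.map_one']
  | succ n ih => rw [pow_succ, pow_succ, h.mul _ _ (Commute.pow_left ha n) ha, ih]

theorem map_conj {c a : G} (hc : c * d = d * c) (ha : a * d = d * a) : π (c * a * c⁻¹) = π c * π a * (π c)⁻¹ := by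
  rw [h.mul _ _ (Commute.mul_left hc ha) (Commute.inv_left hc), h.mul _ _ hc ha, h.map_inv hc]

theorem map_inverts {w a : G} (hw : w * d = d * w) (ha : a * d = d * a) (hwa : Inverts w a) :
    Inverts (π w) (π a) := by
  rw [Inverts, ← h.map_conj hw ha, show w * a * w⁻¹ = a⁻¹ from hwa, h.map_inv ha]

theorem comp {Y : Type*} [Group Y] (e : X ≃* Y) : ThreeQ d (e ∘ π) where
  mul a b ha hb := by simp only [Function.comp_apply, h.mul a b ha hb, _root_.map_mul]
  surj y := by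
    obtain ⟨a, ha, e'⟩ := h.surj (e.symm y)
    exact ⟨a, ha, by rw [Function.comp_apply, e', e.apply_symm_apply]⟩
  ker a ha := by rw [Function.comp_apply, MulEquiv.map_eq_one_iff, h.ker a ha]

theorem eq_iff (hd : d ^ 3 = 1) {a b : G} (ha : a * d = d * a) (hb : b * d = d * b) :
    π a = π b ↔ ∃ i : ℕ, b = a * d ^ i := by
  constructor
  · intro e
    have hk : a⁻¹ * b ∈ Subgroup.zpowers d := (h.ker _ (Commute.mul_left (Commute.inv_left ha) hb)).mp (by
      rw [h.mul _ _ (Commute.inv_left ha) hb, h.map_inv ha, e, inv_mul_cancel])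
    obtain ⟨i, hi⟩ := (isOfFinOrder_of_finite d).mem_powers_iff_mem_zpowers.mpr hk
    exact ⟨i, by rw [show d ^ i = a⁻¹ * b from hi, mul_inv_cancel_left]⟩
  · rintro ⟨i, rfl⟩
    rw [h.mul _ _ ha (Commute.pow_self d i), h.map_pow rfl, h.map_d, one_pow, mul_one]

/-- An involution of `X` is the image of exactly one involution. -/
theorem lift_invol (hd : d ^ 3 = 1) {x : X} (hx : x * x = 1) (hx1 : x ≠ 1) :
    ∃ v : G, v * v = 1 ∧ v ≠ 1 ∧ v * d = d * v ∧ π v = x := by
  obtain ⟨a, ha, rfl⟩ := h.surj x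
  have ha2 : a * a ∈ Subgroup.zpowers d := (h.ker _ (Commute.mul_left ha ha)).mp (by rw [h.mul _ _ ha ha, hx])
  obtain ⟨i, hi⟩ := (isOfFinOrder_of_finite d).mem_powers_iff_mem_zpowers.mpr ha2
  have hi' : d ^ i = a * a := hi
  have e3 : π (a ^ 3) = π a := by rw [h.map_pow ha, pow_succ, pow_two, hx, one_mul]
  refine ⟨a ^ 3, ?_, fun e => hx1 (by rw [← e3, e, h.map_one']), Commute.pow_left ha 3, e3⟩
  rw [← pow_add, show 3 + 3 = 2 * 3 from rfl, pow_mul, pow_two, ← hi', ← pow_mul, mul_comm i, pow_mul, hd, one_pow]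

theorem invol_unique (hd : d ^ 3 = 1) {v w : G} (hv : v * v = 1) (hw : w * w = 1) (hvd : v * d = d * v)
    (hwd : w * d = d * w) (e : π v = π w) : v = w := by
  obtain ⟨i, hi⟩ := (h.eq_iff hd hvd hwd).mp e
  have h2 : d ^ i * d ^ i = 1 := by
    have : w * w = v * v * (d ^ i * d ^ i) := by
      rw [hi, show v * d ^ i * (v * d ^ i) = v * (d ^ i * v) * d ^ i by group, (Commute.pow_left hvd.symm i).eq]
      group
    rwa [hw, hv, one_mul, eq_comm] at this
  rw [hi, eq_one_of_sq_odd h2 (odd_orderOf_of_pow (n := 3) (by decide) (by rw [← pow_mul, mul_comm, pow_mul, hd, one_pow])),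
    mul_one]

theorem invol_map {v : G} (hd : d ^ 3 = 1) (hv : v * v = 1) (hv1 : v ≠ 1) (hvd : v * d = d * v) :
    π v * π v = 1 ∧ π v ≠ 1 := by
  refine ⟨by rw [← h.mul _ _ hvd hvd, hv, h.map_one'], fun e => hv1 (h.invol_unique hd hv (one_mul 1) hvd (by simp) ?_)⟩
  rw [e, h.map_one']

/-- The involutions of `C(d)` are as many as those of `X`. -/
theorem ncard_invol (hd : d ^ 3 = 1) :
    {v : G | (v * v = 1 ∧ v ≠ 1) ∧ v * d = d * v}.ncard = {x : X | x * x = 1 ∧ x ≠ 1}.ncard := by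
  refine Set.ncard_congr (fun v _ => π v) (fun v hv => h.invol_map hd hv.1.1 hv.1.2 hv.2)
    (fun v w hv hw e => h.invol_unique hd hv.1.1 hw.1.1 hv.2 hw.2 e) fun x hx => ?_
  obtain ⟨v, h1, h2, h3, h4⟩ := h.lift_invol hd hx.1 hx.2
  exact ⟨v, ⟨⟨h1, h2⟩, h3⟩, h4⟩

end ThreeQ

namespace JT

variable (h : JT z Q pm)
include h

/-- The involution centralizers of `C(d)` modulo `d` are dihedral of order eight. -/
theorem dihCents_of_threeQ (hone : OneClass G) {d : G} (od : orderOf d = 3) {X : Type*} [Group X] {π : G → X}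
    (hπ : ThreeQ d π) : DihCents X := by
  have hd : d ^ 3 = 1 := od ▸ pow_orderOf_eq_one d
  intro w hw hw1
  obtain ⟨v, hv, hv1, hvd, rfl⟩ := hπ.lift_invol hd hw hw1
  obtain ⟨g, hg⟩ := hone.move h hv hv1
  have hgv : g⁻¹ * z * g = v := conj_back_of_eq hg
  have hd'z : g * d * g⁻¹ * z = z * (g * d * g⁻¹) := by
    rw [← hg]; exact conj_comm hvd.symm
  have od' : orderOf (g * d * g⁻¹) = 3 := by rw [orderOf_conj', od]
  obtain ⟨x, y, F⟩ := h.exists_frame3 hd'z od'
  haveI : Finite X := Finite.of_surjective π fun x => (hπ.surj x).imp fun a ha => ha.2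
  set W := Subgroup.centralizer ({v} : Set G) ⊓ Subgroup.centralizer ({d} : Set G) with hW
  have hcW : Nat.card ↥W = 24 := by
    rw [← F.card_cent]
    exact Nat.card_congr
      { toFun := fun a => ⟨g * a * g⁻¹, mem_cent.mpr (by rw [← hg]; exact conj_comm (mem_cent.mp a.2.1)),
          mem_cent.mpr (conj_comm (mem_cent.mp a.2.2))⟩
        invFun := fun a => ⟨g⁻¹ * a * g, mem_cent.mpr (by
            rw [← hgv]
            have := conj_comm (g := g⁻¹) (mem_cent.mp a.2.1)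
            rwa [inv_inv] at this), mem_cent.mpr (by
            have := conj_comm (g := g⁻¹) (mem_cent.mp a.2.2)
            rwa [inv_inv, show g⁻¹ * (g * d * g⁻¹) * g = d by group] at this)⟩
        left_inv := fun a => Subtype.ext (by show g⁻¹ * (g * a.1 * g⁻¹) * g = a.1; group)
        right_inv := fun a => Subtype.ext (by show g * (g⁻¹ * a.1 * g) * g⁻¹ = a.1; group) }
  let φ : ↥W →* X := MonoidHom.mk' (fun a => π a) fun a b => hπ.mul _ _ (mem_cent.mp a.2.2) (mem_cent.mp b.2.2)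
  have hrange : φ.range = Subgroup.centralizer ({π v} : Set X) := by
    ext s
    constructor
    · rintro ⟨a, rfl⟩
      refine mem_cent.mpr ?_
      show π a * π v = π v * π a
      rw [← hπ.mul _ _ (mem_cent.mp a.2.2) hvd, mem_cent.mp a.2.1, hπ.mul _ _ hvd (mem_cent.mp a.2.2)]
    · intro hs
      obtain ⟨a, had, rfl⟩ := hπ.surj s
      refine ⟨⟨a, mem_cent.mpr ?_, mem_cent.mpr had⟩, rfl⟩
      refine conj_fix_iff.mp (hπ.invol_unique hd (conj_sq a v hv) hv
        (Commute.mul_left (Commute.mul_left had hvd) (Commute.inv_left had)) hvd ?_)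
      rw [hπ.map_conj had hvd]
      exact mul_inv_eq_iff_eq_mul.mpr (mem_cent.mp hs)
  have hker : Nat.card φ.ker = 3 := by
    rw [← od, ← Nat.card_zpowers]
    exact Nat.card_congr
      { toFun := fun a => ⟨(a.1 : G), (hπ.ker _ (mem_cent.mp a.1.2.2)).mp a.2⟩
        invFun := fun a => ⟨⟨a.1, mem_cent.mpr (by
            obtain ⟨i, hi⟩ := Subgroup.mem_zpowers_iff.mp a.2
            rw [← hi]; exact Commute.zpow_left hvd.symm i), mem_cent.mpr (by
            obtain ⟨i, hi⟩ := Subgroup.mem_zpowers_iff.mp a.2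
            rw [← hi]; exact Commute.zpow_self d i)⟩,
          (hπ.ker _ (by obtain ⟨i, hi⟩ := Subgroup.mem_zpowers_iff.mp a.2
                        rw [← hi]; exact Commute.zpow_self d i)).mpr a.2⟩
        left_inv := fun a => rfl
        right_inv := fun a => rfl }
  have hcard : Nat.card ↥(Subgroup.centralizer ({π v} : Set X)) = 8 := by
    have e := Subgroup.card_mul_index φ.ker
    rw [Subgroup.index_ker, hker, hrange, hcW] at e
    omega
  have hxd : g⁻¹ * x * g * d = d * (g⁻¹ * x * g) := by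
    have := conj_comm (g := g⁻¹) F.dx.symm
    rwa [inv_inv, show g⁻¹ * (g * d * g⁻¹) * g = d by group] at this
  have hrd : g⁻¹ * (x * y) * g * d = d * (g⁻¹ * (x * y) * g) := by
    have := conj_comm (g := g⁻¹) (Commute.mul_right F.dx F.dy).symm.eq
    rwa [inv_inv, show g⁻¹ * (g * d * g⁻¹) * g = d by group] at this
  have hr2 : π (g⁻¹ * (x * y) * g) * π (g⁻¹ * (x * y) * g) = π v := by
    rw [← hπ.mul _ _ hrd hrd,
      show g⁻¹ * (x * y) * g * (g⁻¹ * (x * y) * g) = g⁻¹ * (x * y * (x * y)) * g by group, F.r_sq, hgv]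
  have hx2 : g⁻¹ * x * g * (g⁻¹ * x * g) = 1 := by
    rw [show g⁻¹ * x * g * (g⁻¹ * x * g) = g⁻¹ * (x * x) * g by group, F.xS.2.1]; group
  have hinv : π (g⁻¹ * x * g) * π (g⁻¹ * (x * y) * g) * (π (g⁻¹ * x * g))⁻¹ = (π (g⁻¹ * (x * y) * g))⁻¹ := by
    rw [← hπ.map_conj hxd hrd, ← hπ.map_inv hrd,
      show g⁻¹ * x * g * (g⁻¹ * (x * y) * g) * (g⁻¹ * x * g)⁻¹ = g⁻¹ * (x * (x * y) * x⁻¹) * g by group,
      inv_eq_of_mul_eq_one_right F.xS.2.1, F.x_r, show g⁻¹ * (x * y)⁻¹ * g = (g⁻¹ * (x * y) * g)⁻¹ by group]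
  have hvv : π v * π v = 1 := hw
  set c := π (g⁻¹ * (x * y) * g) with hc
  have mc : c ∈ Subgroup.centralizer ({π v} : Set X) := by
    refine mem_cent.mpr ?_
    rw [← hr2, mul_assoc]
  have mt : π (g⁻¹ * x * g) ∈ Subgroup.centralizer ({π v} : Set X) := by
    refine mem_cent.mpr ?_
    rw [← hπ.mul _ _ hxd hvd, ← hπ.mul _ _ hvd hxd, ← hgv,
      show g⁻¹ * x * g * (g⁻¹ * z * g) = g⁻¹ * (x * z) * g by group, h.es.comm x F.xS.1]
    congr 1; group
  have hc4 : orderOf c = 4 := by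
    haveI : Fact (Nat.Prime 2) := ⟨Nat.prime_two⟩
    refine orderOf_eq_prime_pow (p := 2) (n := 1) ?_ ?_
    · rw [pow_one, pow_two, hr2]; exact hw1
    · show c ^ 4 = 1
      rw [pow_succ, pow_succ, pow_two, mul_assoc, hr2, hvv]
  refine CfsgLib.DihedralShape.equiv_dihedral (c := ⟨c, mc⟩) (t := ⟨_, mt⟩) (by rw [← Subgroup.orderOf_coe]; exact hc4)
    (by rw [hcard]) (Subtype.ext ?_) (fun hm => hw1 ?_) (Subtype.ext hinv)
  · show π (g⁻¹ * x * g) * π (g⁻¹ * x * g) = 1
    rw [← hπ.mul _ _ hxd hxd, hx2, hπ.map_one']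
  · obtain ⟨i, hi⟩ := Subgroup.mem_zpowers_iff.mp hm
    have hi' : c ^ i = π (g⁻¹ * x * g) := congrArg Subtype.val hi
    rw [← hi', (Commute.zpow_self c i).eq, mul_inv_cancel_right] at hinv
    rw [← hr2]
    nth_rewrite 2 [hinv]
    exact mul_inv_cancel c

theorem exists_threeQ {d : G} (od : orderOf d = 3) :
    ∃ (N : Subgroup ↥(Subgroup.centralizer ({d} : Set G))) (hN : N.Normal),
      ∃ π : G → ↥(Subgroup.centralizer ({d} : Set G)) ⧸ N, ThreeQ d π := by
  classical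
  set D : Subgroup ↥(Subgroup.centralizer ({d} : Set G)) := (Subgroup.zpowers d).subgroupOf _ with hD
  have hN : D.Normal := ⟨fun a ha b => by
    show (b : G) * a * (b : G)⁻¹ ∈ Subgroup.zpowers d
    obtain ⟨i, hi⟩ := Subgroup.mem_zpowers_iff.mp (show (a : G) ∈ Subgroup.zpowers d from ha)
    rw [← hi, conj_fix_iff.mpr (Commute.zpow_right (mem_cent.mp b.2) i)]
    exact Subgroup.zpow_mem _ (Subgroup.mem_zpowers d) i⟩
  refine ⟨D, hN, fun a => if ha : a * d = d * a then QuotientGroup.mk ⟨a, mem_cent.mpr ha⟩ else QuotientGroup.mk 1,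
    ⟨fun a b ha hb => ?_, fun x => ?_, fun a ha => ?_⟩⟩
  · have hab : a * b * d = d * (a * b) := Commute.mul_left ha hb
    rw [dif_pos ha, dif_pos hb, dif_pos hab]
    rfl
  · obtain ⟨a, rfl⟩ := QuotientGroup.mk_surjective x
    exact ⟨a, mem_cent.mp a.2, by rw [dif_pos (mem_cent.mp a.2)]⟩
  · rw [dif_pos ha, QuotientGroup.eq_one_iff]
    rfl

/-- The centralizer of `d` modulo `d`. -/
theorem three_quot (hone : OneClass G) {d : G} (dz : d * z = z * d) (od : orderOf d = 3) :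
    (∃ π : G → AltSix.A, ThreeQ d π) ∨ ∃ π : G → CfsgLib.Order168Model.T, ThreeQ d π := by
  classical
  have hd : d ^ 3 = 1 := od ▸ pow_orderOf_eq_one d
  obtain ⟨N, hN, π, hπ⟩ := h.exists_threeQ od
  have hdih := h.dihCents_of_threeQ hone od hπ
  obtain ⟨hzz', hz1'⟩ := hπ.invol_map hd h.zz h.es.ne dz.symm
  have hno : ∀ {Y : Type} [Group Y] [Finite Y], ((↥(Subgroup.centralizer ({d} : Set G)) ⧸ N) ≃* Y) → ∀ y : Y, y * y = 1 → y ≠ 1 →
      Nat.card ↥(Subgroup.centralizer ({y} : Set Y)) = 8 := fun {Y} _ _ e y hy hy1 => by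
    obtain ⟨f⟩ := DihCents.of_equiv e hdih y hy hy1
    rw [Nat.card_congr f.toEquiv, DihedralGroup.nat_card]
  rcases CfsgLib.InvolutionDihedralEight.classify (π z) (orderOf_two hzz' hz1') (hdih _ hzz' hz1') with
    hO | ⟨⟨e⟩⟩ | ⟨⟨e⟩⟩ | ⟨⟨e⟩⟩ | ⟨⟨e⟩⟩
  · exfalso
    set O := oddCore (↥(Subgroup.centralizer ({d} : Set G)) ⧸ N) with hOdef
    haveI : O.Normal := by rw [hOdef]; unfold oddCore; infer_instance
    obtain ⟨x, y, F⟩ := h.exists_frame3 dz od
    obtain ⟨hxx, hx1⟩ := hπ.invol_map hd F.xS.2.1 F.xS.2.2.1 F.dx.symm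
    have hzx : π x * π z = π z * π x := by
      rw [← hπ.mul _ _ F.dx.symm dz.symm, h.es.comm x F.xS.1, hπ.mul _ _ dz.symm F.dx.symm]
    have hprod : π z * π x * (π z * π x) = 1 ∧ π z * π x ≠ 1 := by
      refine ⟨?_, fun e => ?_⟩
      · rw [show π z * π x * (π z * π x) = π z * (π x * π z) * π x by group, hzx,
          show π z * (π z * π x) * π x = π z * π z * (π x * π x) by group, hzz', hxx, one_mul]
      · refine F.xS.2.2.2 (hπ.invol_unique hd F.xS.2.1 h.zz F.dx.symm dz.symm ?_)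
        exact (eq_inv_of_mul_eq_one_right e).trans (inv_eq_of_mul_eq_one_right hzz')
    have hfree : ∀ w, w * w = 1 → w ≠ 1 → ∀ a ∈ O, Inverts w a := fun w hw hw1 => by
      refine inverts_of_fixed_free hw (fun a ha => Subgroup.Normal.conj_mem inferInstance a ha w) fun a ha hwa => ?_
      obtain ⟨f⟩ := hdih w hw hw1
      have hd8 := orderOf_dvd_natCard (⟨a, mem_cent.mpr hwa.symm⟩ : ↥(Subgroup.centralizer ({w} : Set _)))
      rw [← Subgroup.orderOf_coe, Nat.card_congr f.toEquiv, DihedralGroup.nat_card] at hd8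
      have ho : Odd (orderOf a) := CfsgLib.odd_card_oddCore.of_dvd_nat (Subgroup.orderOf_dvd_natCard O ha)
      exact orderOf_eq_one_iff.mp (Nat.Coprime.eq_one_of_dvd (Nat.Coprime.pow_right 3 (Nat.coprime_two_right.mpr ho))
        (show orderOf a ∣ 2 ^ 3 from hd8))
    have hO1 : O = ⊥ := by
      rw [Subgroup.eq_bot_iff_forall]
      intro a ha
      refine eq_one_of_sq_odd ?_ (CfsgLib.odd_card_oddCore.of_dvd_nat (Subgroup.orderOf_dvd_natCard O ha))
      have e := hfree _ hprod.1 hprod.2 a ha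
      rw [Inverts, show π z * π x * a * (π z * π x)⁻¹ = π z * (π x * a * (π x)⁻¹) * (π z)⁻¹ by group,
        show π x * a * (π x)⁻¹ = a⁻¹ from hfree _ hxx hx1 a ha,
        show π z * a⁻¹ * (π z)⁻¹ = (π z * a * (π z)⁻¹)⁻¹ by group,
        show π z * a * (π z)⁻¹ = a⁻¹ from hfree _ hzz' hz1' a ha, inv_inv] at e
      exact mul_eq_one_iff_eq_inv.mpr e
    rw [hO1, sup_bot_eq] at hO
    obtain ⟨f⟩ := hdih _ hzz' hz1'
    have hd4 : ∀ a : DihedralGroup 4, a * a = 1 → a ≠ 1 → a ≠ DihedralGroup.r 2 →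
        ∃ b, b * a ≠ a * b := by decide
    have mx : π x ∈ Subgroup.centralizer ({π z} : Set _) := mem_cent.mpr hzx
    have mz : π z ∈ Subgroup.centralizer ({π z} : Set _) := mem_cent.mpr rfl
    have hz2 : f ⟨_, mz⟩ = DihedralGroup.r 2 := by
      by_contra hne
      obtain ⟨b, hb⟩ := hd4 (f ⟨_, mz⟩) (by rw [← map_mul]; exact (congrArg f (Subtype.ext hzz')).trans (map_one f))
        (fun e => hz1' (congrArg Subtype.val (f.injective (e.trans (map_one f).symm)))) hne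
      obtain ⟨b, rfl⟩ := f.surjective b
      rw [← map_mul, ← map_mul] at hb
      exact hb (congrArg f (Subtype.ext (mem_cent.mp b.2)))
    obtain ⟨b, hb⟩ := hd4 (f ⟨_, mx⟩) (by rw [← map_mul]; exact (congrArg f (Subtype.ext hxx)).trans (map_one f))
      (fun e => hx1 (congrArg Subtype.val (f.injective (e.trans (map_one f).symm))))
      (fun e => F.xS.2.2.2 (hπ.invol_unique hd F.xS.2.1 h.zz F.dx.symm dz.symm
        (congrArg Subtype.val (f.injective (e.trans hz2.symm)))))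
    obtain ⟨f'⟩ := hdih _ hxx hx1
    have htop : Subgroup.centralizer ({π x} : Set _) = ⊤ := by
      refine Subgroup.eq_top_of_card_eq _ ?_
      rw [Nat.card_congr f'.toEquiv, ← Nat.card_congr f.toEquiv, hO, Subgroup.card_top]
    obtain ⟨b, rfl⟩ := f.surjective b
    rw [← map_mul, ← map_mul] at hb
    exact hb (congrArg f (Subtype.ext (mem_cent.mp (htop ▸ Subgroup.mem_top (b : _) :
      (b : ↥(Subgroup.centralizer ({d} : Set G)) ⧸ N) ∈ Subgroup.centralizer ({π x} : Set _)))))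
  · exfalso
    have := hno e (Equiv.swap 0 1) (Equiv.swap_mul_self 0 1) (by decide)
    rw [Equiv.Perm.nat_card_centralizer, show (Equiv.swap (0 : Fin 4) 1).cycleType = {2} by decide +kernel] at this
    simp at this
  · exfalso
    have := hno e (Equiv.swap 0 1) (Equiv.swap_mul_self 0 1) (by decide)
    rw [Equiv.Perm.nat_card_centralizer, show (Equiv.swap (0 : Fin 5) 1).cycleType = {2} by decide +kernel] at this
    simp [Nat.factorial] at this
  · obtain ⟨f⟩ := GlThree.exists_equiv_SL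
    exact Or.inr ⟨_, hπ.comp (e.trans f)⟩
  · exact Or.inl ⟨_, hπ.comp e⟩

end JT

namespace ThreeQ

variable {d : G} {X : Type*} [Group X] {π : G → X}

/-- Inverted elements of prime order lift to elements inverted and centralized by suitable involutions. -/
theorem exists_cent_inverter {p : ℕ} (hX : XBase X p) (hπ : ThreeQ d π) {h : JT z Q pm} {x y : G}
    (F : Frame3 h d x y) {v : G} (hv : v ∈ h.T) (hvd : Inverts v d) (hone : OneClass G) {xb : X}
    (hxb : (xb ^ p = 1 ∧ xb ≠ 1) ∧ Inverts (π z) xb) :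
    ∃ w a : G, (w * z = z * w ∧ w * w = 1 ∧ Inverts w d) ∧ a * d = d * a ∧ a ^ p = 1 ∧ a ≠ 1 ∧ w * a = a * w ∧
      Inverts z a ∧ π a = xb := by
  have hd := F.d3
  have hdz := F.dz
  haveI : Finite X := Finite.of_surjective π fun s => (hπ.surj s).imp fun a ha => ha.2
  have hp5 : p = 3 ∨ p = 5 := hX.hp
  have hpodd : Odd p := by rcases hp5 with rfl | rfl <;> decide
  obtain ⟨hzz', hz1'⟩ := hπ.invol_map hd h.zz h.es.ne hdz.symm
  have hrd : x * y * d = d * (x * y) := (Commute.mul_right F.dx F.dy).symm.eq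
  have hzi : z⁻¹ = z := inv_eq_of_mul_eq_one_right h.zz
  have hdih : DihCents X := h.dihCents_of_threeQ hone F.od hπ
  have hC : ∀ a : X, a * π z = π z * a → a ^ p = 1 → a = 1 := fun a ha hap => by
    obtain ⟨f⟩ := hdih _ hzz' hz1'
    have hd8 := orderOf_dvd_natCard (⟨a, mem_cent.mpr ha⟩ : ↥(Subgroup.centralizer ({π z} : Set X)))
    rw [← Subgroup.orderOf_coe, Nat.card_congr f.toEquiv, DihedralGroup.nat_card] at hd8
    exact orderOf_eq_one_iff.mp (Nat.Coprime.eq_one_of_dvd (Nat.Coprime.pow_right 3 (Nat.coprime_two_right.mpr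
      (odd_orderOf_of_pow hpodd hap))) (show orderOf a ∣ 2 ^ 3 from hd8))
  -- conjugation by an inverter of `d`
  have hL : ∀ {w a b : G}, Inverts w d → a * d = d * a → b * d = d * b → π a = π b →
      π (w * a * w⁻¹) = π (w * b * w⁻¹) := fun {w a b} hw ha hb e => by
    obtain ⟨i, rfl⟩ := (hπ.eq_iff hd ha hb).mp e
    refine (hπ.eq_iff hd ?_ ?_).mpr ⟨2 * i, ?_⟩
    · exact (F.conj_fix hw ha.symm).symm
    · exact (F.conj_fix hw hb.symm).symm
    · rw [show w * (a * d ^ i) * w⁻¹ = w * a * w⁻¹ * (w * d ^ i * w⁻¹) by group,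
        show w * d ^ i * w⁻¹ = (d ^ i)⁻¹ from inverts_pow hw i]
      congr 1
      refine inv_eq_of_mul_eq_one_right ?_
      rw [← pow_add, show i + 2 * i = 3 * i by ring, pow_mul, hd, one_pow]
  obtain ⟨b, hbd, hb⟩ := hπ.surj xb
  -- the image of `b` under `v`
  have hvbd : v * b * v⁻¹ * d = d * (v * b * v⁻¹) := (F.conj_fix hvd hbd.symm).symm
  set xv := π (v * b * v⁻¹) with hxv
  have hxvp : xv ^ p = 1 := by
    rw [hxv, ← hπ.map_pow hvbd, conj_pow]
    have := hL (w := v) hvd (Commute.pow_left hbd p) (Commute.one_left d) (by rw [hπ.map_pow hbd, hb, hxb.1.1, hπ.map_one'])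
    rw [this, show v * 1 * v⁻¹ = 1 by group, hπ.map_one']
  have hxv1 : xv ≠ 1 := fun e => hxb.1.2 (by
    have h2 := hL (w := v) hvd hvbd (Commute.one_left d) (by rw [← hxv, e, hπ.map_one'])
    rw [show v * (v * b * v⁻¹) * v⁻¹ = (v * v) * b * (v * v)⁻¹ by group, hv.2.1,
      show (1 : G) * b * 1⁻¹ = b by group, show v * 1 * v⁻¹ = 1 by group, hπ.map_one', hb] at h2
    exact h2)
  have hxvi : Inverts (π z) xv := by
    rw [Inverts, hxv, ← hπ.map_conj hdz.symm hvbd, ← hπ.map_inv hvbd]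
    have h1 := hL (w := v) hvd (Commute.mul_left (Commute.mul_left hdz.symm hbd) (Commute.inv_left hdz.symm))
      (Commute.inv_left hbd) (by rw [hπ.map_conj hdz.symm hbd, hπ.map_inv hbd, hb]; exact hxb.2)
    rw [show z * (v * b * v⁻¹) * z⁻¹ = (z * v) * b * (z * v)⁻¹ by group, ← hv.1,
      show v * z * b * (v * z)⁻¹ = v * (z * b * z⁻¹) * v⁻¹ by group,
      show (v * b * v⁻¹)⁻¹ = v * b⁻¹ * v⁻¹ by group]
    exact h1
  -- the stabiliser of the subgroup in the centralizer of `π z`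
  have hstab : ∀ k : X, k * π z = π z * k → k * xb * k⁻¹ ∈ Subgroup.zpowers xb → k = 1 ∨ k = π z := by
    intro k hk hm
    have key : ∀ k : X, k * π z = π z * k → k * xb = xb * k → k = 1 := fun k hk hc => by
      obtain ⟨i, hi⟩ := Subgroup.mem_zpowers_iff.mp (hX.cent xb k hxb.1.1 hxb.1.2 hc)
      refine hC k hk ?_
      rw [← hi, ← zpow_natCast, ← zpow_mul, mul_comm, zpow_mul, zpow_natCast, hxb.1.1, one_zpow]
    rcases hX.norm xb k hxb.1.1 hxb.1.2 hm with e | e
    · exact Or.inl (key k hk (conj_fix_iff.mp e))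
    · right
      have := key (π z * k) (Commute.mul_left rfl hk) (conj_fix_iff.mp (by
        rw [show π z * k * xb * (π z * k)⁻¹ = π z * (k * xb * k⁻¹) * (π z)⁻¹ by group, e,
          show π z * xb⁻¹ * (π z)⁻¹ = (π z * xb * (π z)⁻¹)⁻¹ by group, show π z * xb * (π z)⁻¹ = xb⁻¹ from hxb.2,
          inv_inv]))
      exact (eq_inv_of_mul_eq_one_right this).trans (inv_eq_of_mul_eq_one_right hzz')
  -- the centralizer of `π z` is transitive on the four subgroups
  have horb : ∃ k : X, k * π z = π z * k ∧ ∃ i : ℕ, k * xb ^ i * k⁻¹ = xv := by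
    classical
    set I := {a : X | (a ^ p = 1 ∧ a ≠ 1) ∧ Inverts (π z) a} with hI
    haveI : Finite X := Finite.of_surjective π fun s => (hπ.surj s).imp fun a ha => ha.2
    haveI := Fintype.ofFinite X
    let f : ↥(Subgroup.centralizer ({π z} : Set X)) × Fin (p - 1) → X :=
      fun q => q.1.1 * xb ^ ((q.2 : ℕ) + 1) * q.1.1⁻¹
    have hf : ∀ q, f q ∈ I := fun q => by
      have hk := mem_cent.mp q.1.2
      have hq := q.2.isLt
      have hlt : (q.2 : ℕ) + 1 < p := by omega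
      refine ⟨⟨?_, fun e => ?_⟩, ?_⟩
      · show (q.1.1 * xb ^ ((q.2 : ℕ) + 1) * q.1.1⁻¹) ^ p = 1
        rw [conj_pow, ← pow_mul, mul_comm, pow_mul, hxb.1.1, one_pow, mul_one, mul_inv_cancel]
      · have ho : orderOf xb = p := by
          haveI : Fact p.Prime := ⟨by rcases hp5 with rfl | rfl <;> norm_num⟩
          exact orderOf_eq_prime hxb.1.1 hxb.1.2
        exact pow_ne_one_of_lt_orderOf (Nat.succ_ne_zero _) (by rw [ho]; exact hlt) (conj_eq_one_iff.mp e)
      · have := inverts_conj (c := q.1.1) (inverts_pow hxb.2 ((q.2 : ℕ) + 1))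
        rwa [conj_fix_iff.mpr hk] at this
    have hfib : ∀ a ∈ (Finset.univ.image f), (Finset.univ.filter fun q => f q = a).card ≤ 2 := by
      intro a _
      by_contra hlt
      push Not at hlt
      obtain ⟨q₀, q₁, q₂, h0, h1, h2, e01, e02, e12⟩ := Finset.two_lt_card_iff.mp hlt
      simp only [Finset.mem_filter, Finset.mem_univ, true_and] at h0 h1 h2
      have hsame : ∀ q q', f q = f q' → (q'.1.1⁻¹ * q.1.1 = 1 ∧ q = q') ∨ q'.1.1⁻¹ * q.1.1 = π z := by
        intro q q' e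
        have hkz : q'.1.1⁻¹ * q.1.1 * π z = π z * (q'.1.1⁻¹ * q.1.1) :=
          Commute.mul_left (Commute.inv_left (mem_cent.mp q'.1.2)) (mem_cent.mp q.1.2)
        have e' : q'.1.1⁻¹ * q.1.1 * xb ^ ((q.2 : ℕ) + 1) * (q'.1.1⁻¹ * q.1.1)⁻¹ = xb ^ ((q'.2 : ℕ) + 1) := by
          have := congrArg (fun t => q'.1.1⁻¹ * t * q'.1.1) e
          simp only [f] at this
          calc _ = q'.1.1⁻¹ * (q.1.1 * xb ^ ((q.2 : ℕ) + 1) * q.1.1⁻¹) * q'.1.1 := by group
            _ = _ := by rw [this]; group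
        haveI : Fact p.Prime := ⟨by rcases hp5 with rfl | rfl <;> norm_num⟩
        have ho : orderOf xb = p := orderOf_eq_prime hxb.1.1 hxb.1.2
        have hq := q.2.isLt
        have hq' := q'.2.isLt
        obtain ⟨j, hj⟩ : ∃ j : ℕ, (xb ^ ((q.2 : ℕ) + 1)) ^ j = xb := by
          refine exists_pow_eq_self_of_coprime ?_
          rw [ho]
          exact ((Nat.Prime.coprime_iff_not_dvd Fact.out).mpr
            (Nat.not_dvd_of_pos_of_lt (Nat.succ_pos _) (by omega))).symm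
        have hm : q'.1.1⁻¹ * q.1.1 * xb * (q'.1.1⁻¹ * q.1.1)⁻¹ ∈ Subgroup.zpowers xb := by
          rw [show q'.1.1⁻¹ * q.1.1 * xb * (q'.1.1⁻¹ * q.1.1)⁻¹ = (q'.1.1⁻¹ * q.1.1 * xb ^ ((q.2 : ℕ) + 1) * (q'.1.1⁻¹ * q.1.1)⁻¹) ^ j
            by rw [conj_pow, hj], e']
          exact Subgroup.pow_mem _ (Subgroup.pow_mem _ (Subgroup.mem_zpowers _) _) _
        rcases hstab _ hkz hm with e'' | e''
        · refine Or.inl ⟨e'', ?_⟩
          rw [e'', one_mul, inv_one, mul_one] at e'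
          have h12 : q.1 = q'.1 := Subtype.ext (inv_mul_eq_one.mp e'').symm
          have h22 := pow_injOn_Iio_orderOf (x := xb) (by rw [Set.mem_Iio, ho]; omega) (by rw [Set.mem_Iio, ho]; omega) e'
          exact Prod.ext h12 (Fin.ext (by omega))
        · exact Or.inr e''
      rcases hsame _ _ (h0.trans h1.symm) with ⟨-, e⟩ | a1
      · exact e01 e
      rcases hsame _ _ (h0.trans h2.symm) with ⟨-, e⟩ | a2
      · exact e02 e
      have hq12 : q₁.1 = q₂.1 := by
        have := a1.trans a2.symm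
        exact Subtype.ext (inv_injective (mul_right_cancel this))
      rcases hsame _ _ (h1.trans h2.symm) with ⟨-, e⟩ | a3
      · exact e12 e
      · rw [hq12, inv_mul_cancel] at a3
        exact hz1' a3.symm
    have hc8 : 8 * (p - 1) ≤ (Finset.univ.image f).card * 2 := by
      have := Finset.card_le_mul_card_image (s := (Finset.univ : Finset (↥(Subgroup.centralizer ({π z} : Set X)) × Fin (p - 1))))
        (f := f) 2 hfib
      rw [Finset.card_univ, Fintype.card_prod, Fintype.card_fin, ← Nat.card_eq_fintype_card] at this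
      obtain ⟨e⟩ := hdih (π z) hzz' hz1'
      rw [Nat.card_congr e.toEquiv, DihedralGroup.nat_card] at this
      omega
    have heq : ((Finset.univ.image f : Finset X) : Set X) = I := by
      refine Set.eq_of_subset_of_ncard_le (fun a ha => ?_) ?_ (Set.toFinite _)
      · obtain ⟨q, -, rfl⟩ := Finset.mem_image.mp ha
        exact hf q
      · rw [hI, hX.inverted _ hzz' hz1', Set.ncard_coe_finset]
        omega
    have hmem : xv ∈ ((Finset.univ.image f : Finset X) : Set X) := by rw [heq]; exact ⟨⟨hxvp, hxv1⟩, hxvi⟩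
    obtain ⟨q, -, hq⟩ := Finset.mem_image.mp (Finset.mem_coe.mp hmem)
    exact ⟨q.1.1, mem_cent.mp q.1.2, _, hq⟩
  obtain ⟨k, hkz, i, hki⟩ := horb
  obtain ⟨e, hed, rfl⟩ := hπ.surj k
  have hez : e * z = z * e := conj_fix_iff.mp (hπ.invol_unique hd (conj_sq e z h.zz) h.zz
    (Commute.mul_left (Commute.mul_left hed hdz.symm) (Commute.inv_left hed)) hdz.symm
    (by rw [hπ.map_conj hed hdz.symm]; exact mul_inv_eq_iff_eq_mul.mpr hkz))
  have hQd : ∀ q ∈ Q, q ∈ Subgroup.zpowers d → q = 1 := fun q hq hm => by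
    have h1 := Subgroup.orderOf_dvd_natCard _ hq
    have h2 := Subgroup.orderOf_dvd_natCard _ hm
    rw [h.card] at h1
    rw [Nat.card_zpowers, F.od] at h2
    exact orderOf_eq_one_iff.mp (Nat.eq_one_of_dvd_coprimes (by norm_num : Nat.Coprime 32 3) h1 h2)
  set w₀ := e⁻¹ * v with hw₀
  have hw₀z : w₀ * z = z * w₀ := Commute.mul_left (Commute.inv_left hez) hv.1
  have hw₀d : Inverts w₀ d := by
    show e⁻¹ * v * d * (e⁻¹ * v)⁻¹ = d⁻¹
    rw [show e⁻¹ * v * d * (e⁻¹ * v)⁻¹ = e⁻¹ * (v * d * v⁻¹) * e by group, show v * d * v⁻¹ = d⁻¹ from hvd]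
    rw [show e⁻¹ * d⁻¹ * e = (e⁻¹ * (d * e))⁻¹ by group, ← hed, inv_mul_cancel_left]
  have hw₀b : π (w₀ * b * w₀⁻¹) = xb ^ i := by
    rw [show w₀ * b * w₀⁻¹ = e⁻¹ * (v * b * v⁻¹) * e⁻¹⁻¹ by rw [hw₀]; group,
      hπ.map_conj (Commute.inv_left hed) hvbd, hπ.map_inv hed, ← hxv, ← hki]
    group
  have hw₀xb : w₀ * b * w₀⁻¹ * d = d * (w₀ * b * w₀⁻¹) := (F.conj_fix hw₀d hbd.symm).symm
  -- `w₀` is an involution
  have hw₀2 : w₀ * w₀ = 1 := by
    have hvi : v⁻¹ = v := inv_eq_of_mul_eq_one_right hv.2.1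
    obtain ⟨c, hc, j, hu⟩ := F.cent_cases (a := v * w₀) (Commute.mul_left hv.1 hw₀z) (by
      refine conj_fix_iff.mp ?_
      rw [show v * w₀ * d * (v * w₀)⁻¹ = v * (w₀ * d * w₀⁻¹) * v⁻¹ by group, show w₀ * d * w₀⁻¹ = d⁻¹ from hw₀d,
        show v * d⁻¹ * v⁻¹ = (v * d * v⁻¹)⁻¹ by group, show v * d * v⁻¹ = d⁻¹ from hvd, inv_inv])
    have hw : ∀ u : G, v * w₀ = u → w₀ = v * u := fun u e => by rw [← e, ← mul_assoc, hv.2.1, one_mul]
    rcases hu with hu | hu
    · rw [hw _ hu]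
      exact ((F.inverters_eq hv hvd).mpr ⟨c, hc, j, rfl⟩).2.1
    exfalso
    obtain ⟨c', hc', ex⟩ := F.move_x hv hvd
    obtain ⟨hcQ, hdc, hcr, hxc⟩ := F.L_props hc
    have hvc : v * c * v⁻¹ = c⁻¹ := by
      have := ((F.inverters_eq hv hvd).mpr ⟨c, hc, 0, rfl⟩).2.1
      rw [pow_zero, mul_one, ← mul_assoc, mul_eq_one_iff_eq_inv] at this
      rw [hvi]; exact this
    have hcc' : c' * c⁻¹ = c⁻¹ * c' := by
      have h1 : c * c' = c' * c := by
        rcases hc' with rfl | rfl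
        · exact hcr
        · exact (Commute.mul_right (h.es.comm c hcQ) hcr).eq
      exact (Commute.inv_left h1).eq.symm
    have hsq : w₀ * w₀ = c' * (c * c)⁻¹ := by
      rw [hw _ hu]
      have hdj : v * d ^ j * v⁻¹ = (d ^ j)⁻¹ := inverts_pow hvd j
      have hdcx : d ^ j * (c * x) = c * x * d ^ j := (Commute.pow_left (Commute.mul_right hdc F.dx) j).eq
      calc v * (c * x * d ^ j) * (v * (c * x * d ^ j))
          = v * (c * x * d ^ j) * v⁻¹ * (c * x * d ^ j) := by rw [hvi]; group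
        _ = (v * c * v⁻¹) * (v * x * v⁻¹) * ((v * d ^ j * v⁻¹) * (c * x * d ^ j)) := by group
        _ = c⁻¹ * (c' * x) * ((d ^ j)⁻¹ * (c * x * d ^ j)) := by rw [hvc, ex, hdj]
        _ = c⁻¹ * c' * (x * c * x) := by rw [← hdcx]; group
        _ = c' * (c * c)⁻¹ := by rw [hxc, ← hcc']; group
    have hne : w₀ * w₀ ≠ 1 ∧ w₀ * w₀ ≠ z ∧ w₀ * w₀ ∈ Q := by
      have hr1 : ∀ t : G, t = x * y ∨ t = z * (x * y) → t ≠ 1 ∧ t ≠ z ∧ t ∈ Q := by
        have hrQ : x * y ∈ Q := mul_mem F.xS.1 F.yS.1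
        rintro t (rfl | rfl)
        · exact ⟨F.r_ne.1, F.r_ne.2, hrQ⟩
        · exact ⟨fun e => F.r_ne.2 ((eq_inv_of_mul_eq_one_right e).trans hzi), fun e => F.r_ne.1 (mul_eq_left.mp e),
            mul_mem h.es.mem hrQ⟩
      rw [hsq]
      rcases h.es.sq c hcQ with e | e <;> rw [e]
      · rw [inv_one, mul_one]
        exact hr1 _ hc'
      · rw [hzi]
        refine hr1 _ ?_
        rcases hc' with rfl | rfl
        · exact Or.inr (h.es.comm _ (mul_mem F.xS.1 F.yS.1))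
        · refine Or.inl ?_
          rw [h.es.comm _ (mul_mem h.es.mem (mul_mem F.xS.1 F.yS.1)), ← mul_assoc, h.zz, one_mul]
    have hsd : w₀ * w₀ * d = d * (w₀ * w₀) := by
      refine conj_fix_iff.mp ?_
      rw [show w₀ * w₀ * d * (w₀ * w₀)⁻¹ = w₀ * (w₀ * d * w₀⁻¹) * w₀⁻¹ by group,
        show w₀ * d * w₀⁻¹ = d⁻¹ from hw₀d, show w₀ * d⁻¹ * w₀⁻¹ = (w₀ * d * w₀⁻¹)⁻¹ by group,
        show w₀ * d * w₀⁻¹ = d⁻¹ from hw₀d, inv_inv]
    have hsz : π (w₀ * w₀) * π z = π z * π (w₀ * w₀) := by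
      rw [← hπ.mul _ _ hsd hdz.symm, (Commute.mul_left hw₀z hw₀z).eq, hπ.mul _ _ hdz.symm hsd]
    have hsb : π (w₀ * w₀) * xb * (π (w₀ * w₀))⁻¹ ∈ Subgroup.zpowers xb := by
      rw [← hb, ← hπ.map_conj hsd hbd, show w₀ * w₀ * b * (w₀ * w₀)⁻¹ = w₀ * (w₀ * b * w₀⁻¹) * w₀⁻¹ by group,
        hL hw₀d hw₀xb (Commute.pow_left hbd i) (by rw [hw₀b, hπ.map_pow hbd, hb]), ← conj_pow, hπ.map_pow hw₀xb, hw₀b,
        hb]
      exact Subgroup.pow_mem _ (Subgroup.pow_mem _ (Subgroup.mem_zpowers _) _) _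
    rcases hstab _ hsz hsb with e' | e'
    · exact hne.1 (hQd _ hne.2.2 ((hπ.ker _ hsd).mp e'))
    · refine hne.2.1 (mul_inv_eq_one.mp (hQd _ (mul_mem hne.2.2 (inv_mem h.es.mem)) ((hπ.ker _ ?_).mp ?_)))
      · exact Commute.mul_left hsd (Commute.inv_left hdz.symm)
      · rw [hπ.mul _ _ hsd (Commute.inv_left hdz.symm), e', hπ.map_inv hdz.symm, mul_inv_cancel]
  -- `i` is a square root of one modulo `p`
  have hii : xb ^ (i * i) = xb := by
    have e2 : π (w₀ * (w₀ * b * w₀⁻¹) * w₀⁻¹) = π (w₀ * b ^ i * w₀⁻¹) :=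
      hL hw₀d hw₀xb (Commute.pow_left hbd i) (by rw [hw₀b, hπ.map_pow hbd, hb])
    rw [show w₀ * (w₀ * b * w₀⁻¹) * w₀⁻¹ = w₀ * w₀ * b * (w₀ * w₀)⁻¹ by group, hw₀2,
      show (1 : G) * b * 1⁻¹ = b by group, hb, ← conj_pow, hπ.map_pow hw₀xb, hw₀b, ← pow_mul] at e2
    exact e2.symm
  have hpm : xb ^ i = xb ∨ xb ^ i = xb⁻¹ := by
    haveI : Fact p.Prime := ⟨by rcases hp5 with rfl | rfl <;> norm_num⟩
    have ho : orderOf xb = p := orderOf_eq_prime hxb.1.1 hxb.1.2
    have h1 : i * i ≡ 1 [MOD p] := ho ▸ pow_eq_pow_iff_modEq.mp (by rw [hii, pow_one])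
    have h2 : i % p * (i % p) % p = 1 := by
      have := h1
      unfold Nat.ModEq at this
      rw [Nat.mul_mod] at this
      rw [this, Nat.mod_eq_of_lt (Fact.out : p.Prime).one_lt]
    rw [← Nat.mod_add_div i p, pow_add, pow_mul, hxb.1.1, one_pow, mul_one]
    have hlt : i % p < p := Nat.mod_lt _ (Fact.out : p.Prime).pos
    rcases hp5 with rfl | rfl <;> interval_cases hi : (i % _) <;> simp at h2 ⊢
    · exact Or.inr (eq_inv_of_mul_eq_one_left (by rw [← pow_succ, hxb.1.1]))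
    · exact Or.inr (eq_inv_of_mul_eq_one_left (by rw [← pow_succ, hxb.1.1]))
  obtain ⟨w, hwz, hw2, hwd, hwb⟩ : ∃ w : G, w * z = z * w ∧ w * w = 1 ∧ Inverts w d ∧ π (w * b * w⁻¹) = xb := by
    rcases hpm with e1 | e1
    · exact ⟨w₀, hw₀z, hw₀2, hw₀d, hw₀b.trans e1⟩
    · refine ⟨w₀ * z, Commute.mul_left hw₀z rfl, ?_, ?_, ?_⟩
      · rw [show w₀ * z * (w₀ * z) = w₀ * (z * w₀) * z by group, ← hw₀z, ← mul_assoc w₀ w₀, hw₀2, one_mul, h.zz]
      · show w₀ * z * d * (w₀ * z)⁻¹ = d⁻¹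
        rw [show w₀ * z * d * (w₀ * z)⁻¹ = w₀ * (z * d * z⁻¹) * w₀⁻¹ by group, conj_fix_iff.mpr hdz.symm]
        exact hw₀d
      · rw [show w₀ * z * b * (w₀ * z)⁻¹ = w₀ * (z * b * z⁻¹) * w₀⁻¹ by group,
          hL hw₀d (Commute.mul_left (Commute.mul_left hdz.symm hbd) (Commute.inv_left hdz.symm)) (Commute.inv_left hbd)
            (by rw [hπ.map_conj hdz.symm hbd, hπ.map_inv hbd, hb]; exact hxb.2),
          show w₀ * b⁻¹ * w₀⁻¹ = (w₀ * b * w₀⁻¹)⁻¹ by group, hπ.map_inv hw₀xb, hw₀b, e1, inv_inv]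
  have hwbd : w * b * w⁻¹ * d = d * (w * b * w⁻¹) := (F.conj_fix hwd hbd.symm).symm
  obtain ⟨j, hj⟩ := (hπ.eq_iff hd hbd hwbd).mp (hb.trans hwb.symm)
  obtain ⟨m, hm⟩ := coset_fixed hd hw2 hwd hj
  set a := b * d ^ m with ha
  have had : a * d = d * a := Commute.mul_left hbd (Commute.pow_self d m)
  have hπa : π a = xb := by rw [← hb]; exact ((hπ.eq_iff hd hbd had).mpr ⟨m, rfl⟩).symm
  -- a power of `d` fixed by `w` is trivial
  have hfix1 : ∀ t ∈ Subgroup.zpowers d, w * t = t * w → t = 1 := fun t ht hc => by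
    obtain ⟨n, hn⟩ := (isOfFinOrder_of_finite d).mem_powers_iff_mem_zpowers.mpr ht
    have hn' : d ^ n = t := hn
    refine inverts_comm_eq_one (hn' ▸ inverts_pow hwd n) hc (odd_orderOf_of_pow (n := 3) (by decide) ?_)
    rw [← hn', ← pow_mul, mul_comm, pow_mul, hd, one_pow]
  refine ⟨w, a, ⟨hwz, hw2, hwd⟩, had, ?_, fun e => hxb.1.2 (by rw [← hπa, e, hπ.map_one']), hm, ?_, hπa⟩
  · refine hfix1 _ ((hπ.ker _ (Commute.pow_left had p)).mp (by rw [hπ.map_pow had, hπa, hxb.1.1])) ?_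
    exact (Commute.pow_right hm p).eq
  · have hzad : z * a * z⁻¹ * d = d * (z * a * z⁻¹) :=
      Commute.mul_left (Commute.mul_left hdz.symm had) (Commute.inv_left hdz.symm)
    show z * a * z⁻¹ = a⁻¹
    refine eq_inv_of_mul_eq_one_left (hfix1 _ ((hπ.ker _ (Commute.mul_left hzad had)).mp (by
      rw [hπ.mul _ _ hzad had, hπ.map_conj hdz.symm had, hπa]
      rw [show π z * xb * (π z)⁻¹ = xb⁻¹ from hxb.2, inv_mul_cancel])) ?_)
    exact (Commute.mul_right (Commute.mul_right (Commute.mul_right hwz hm) (Commute.inv_right hwz)) hm).eq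

end ThreeQ

end CfsgLib.J3Type
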