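import Cfsg.Agent.Lib.CosetEnum.J3Group
import Cfsg.Agent.Lib.CosetEnum.J3U.Main

/-!
A group with generators satisfying the relators is the third Janko group if it has the same order.
-/

set_option autoImplicit false
set_option linter.unusedSectionVars false
set_option maxRecDepth 1000000

namespace CfsgLib.J3Type.UniqueGroup

open CfsgLib.CosetEnum

/-- The fourth generator in the standard ones. -/
def xw : List ℕ := [1, 2, 1, 3, 2, 1, 3, 2, 1, 2, 1, 3, 2, 1, 3, 2]

/-- A word in the standard generators. -/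
def expand (r : List ℕ) : List ℕ := r.flatMap fun i => if i = 3 then xw else [i]

/-- The last standard generator in the new ones. -/
def sw : List ℕ := [2, 1, 2, 0, 1, 0, 1, 0, 1, 2, 1, 2, 1, 0, 1, 0, 2, 3]

/-- A word fixes the four base points. -/
noncomputable def fixesBase (l : List ℕ) : Bool :=
  (l.all fun i => decide (i < 4)) && [0, 1, 2, 4].all fun d => Nat.beq (runT J6156.cert.T J6156.cert.D.k l.reverse d) d

theorem check_all : (J3U.rels.all fun r => fixesBase (expand r) && r.all fun i => decide (i < 4)) = true := by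
  decide +kernel

theorem check_last : fixesBase (expand sw ++ [3]) = true := by decide +kernel

theorem word_one {l : List ℕ} (hl : fixesBase l = true) : (l.map presJ3.σ).prod = 1 := by
  simp only [fixesBase, Bool.and_eq_true, List.all_eq_true, decide_eq_true_eq] at hl
  have hk : J6156.cert.D.k = 4 := rfl
  refine J3Group.base_trivial _ fun d hd => Fin.ext ?_
  show (J6156.cert.hom J6156.hlt (l.map presJ3.σ).prod d : ℕ) = d
  rw [J6156.cert.hom_word J6156.hlt J3Group.hid l hl.1, J6156.cert.word_smul l (fun i hi => hk ▸ hl.1 i hi),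
    ← runT_eq]
  exact Nat.eq_of_beq_eq_true (hl.2 _ hd)

/-- The four generators inside the presented group. -/
noncomputable def t2 : ℕ → presJ3.Grp
  | 0 => presJ3.σ 0
  | 1 => presJ3.σ 1
  | 2 => presJ3.σ 2
  | 3 => (xw.map presJ3.σ).prod
  | _ => 1

theorem t2_prod : ∀ r : List ℕ, (∀ i ∈ r, i < 4) → (r.map t2).prod = ((expand r).map presJ3.σ).prod := by
  intro r
  induction r with
  | nil => intro _; rfl
  | cons i r ih =>
    intro h
    have hi : i < 4 := h i List.mem_cons_self
    rw [List.map_cons, List.prod_cons, ih fun j hj => h j (List.mem_cons_of_mem _ hj), expand, expand,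
      List.flatMap_cons, List.map_append, List.prod_append]
    congr 1
    interval_cases i
    · simp [t2]
    · simp [t2]
    · simp [t2]
    · simp [t2]

theorem t2_rel {r : List ℕ} (hr : r ∈ J3U.rels) : (r.map t2).prod = 1 := by
  have h := List.all_eq_true.mp check_all r hr
  simp only [Bool.and_eq_true, List.all_eq_true, decide_eq_true_eq] at h
  rw [t2_prod r h.2]
  exact word_one h.1

theorem t2_sq (i : ℕ) : t2 i * t2 i = 1 := by
  rcases i with _ | _ | _ | _ | i
  · exact presJ3.σ_sq 0
  · exact presJ3.σ_sq 1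
  · exact presJ3.σ_sq 2
  · have := t2_rel (r := [3, 3]) (by decide +kernel)
    simpa using this
  · exact one_mul 1

theorem t2_closure : Subgroup.closure (t2 '' Set.Iio 4) = ⊤ := by
  rw [eq_top_iff, ← presJ3.gen_closure, Subgroup.closure_le]
  rintro _ ⟨i, hi, rfl⟩
  have hi4 : i < 4 := hi
  interval_cases i
  · exact Subgroup.subset_closure ⟨0, by decide, rfl⟩
  · exact Subgroup.subset_closure ⟨1, by decide, rfl⟩
  · exact Subgroup.subset_closure ⟨2, by decide, rfl⟩
  · have h := word_one check_last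
    rw [List.map_append, List.prod_append, ← t2_prod sw (by decide +kernel)] at h
    simp only [List.map_cons, List.map_nil, List.prod_cons, List.prod_nil, mul_one] at h
    rw [eq_inv_of_mul_eq_one_right h]
    refine inv_mem (list_prod_mem fun a ha => ?_)
    obtain ⟨j, hj, rfl⟩ := List.mem_map.mp ha
    exact Subgroup.subset_closure ⟨j, (show ∀ j ∈ sw, j < 4 by decide +kernel) j hj, rfl⟩

section Bound

variable {M : Type} [Group M] (τ : ℕ → M) (hτ : ∀ i, τ i * τ i = 1) (h4 : τ 4 = 1)
  (hrel : ∀ r ∈ J3U.rels, (r.map τ).prod = 1)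

theorem sub_shapes : J3HA.sheet.hw = [[0], [1]] ∧ J3HB.sheet.hw = [] ∧ J3U.sheet.hw = [[0], [1], [2]] ∧
    J3HA.sheet.D.k = 3 ∧ J3HB.sheet.D.k = 2 ∧ J3U.sheet.D.k = 4 ∧ J3U.sheet.T.n = 18468 ∧
    J3HA.sheet.T.n * J3HB.sheet.T.n ≤ 8160 :=
  ⟨rfl, rfl, rfl, rfl, rfl, rfl, rfl, by decide +kernel⟩

theorem sub_rels : (J3HA.rels.all fun r => J3U.rels.contains r && r.all fun i => decide (i < 3)) = true ∧
    (J3HB.rels.all fun r => J3U.rels.contains r && r.all fun i => decide (i < 2)) = true := by decide +kernel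

theorem wordsSub_singles (n : ℕ) :
    wordsSub τ ((List.range n).map fun i => [i]) = Subgroup.closure (τ '' Set.Iio n) := by
  unfold wordsSub
  congr 1
  ext g
  constructor
  · rintro ⟨w, hw, rfl⟩
    obtain ⟨i, hi, rfl⟩ := List.mem_map.mp hw
    exact ⟨i, List.mem_range.mp hi, by simp⟩
  · rintro ⟨i, hi, rfl⟩
    exact ⟨[i], List.mem_map.mpr ⟨i, List.mem_range.mpr hi, rfl⟩, by simp⟩

include hτ hrel in
theorem sub_bound : Finite (Subgroup.closure (τ '' Set.Iio 3)) ∧ Nat.card (Subgroup.closure (τ '' Set.Iio 3)) ≤ 8160 := by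
  let cut : ℕ → ℕ → M := fun n i => if i < n then τ i else 1
  have hsq : ∀ n i, cut n i * cut n i = 1 := fun n i => by
    simp only [cut]; split
    · exact hτ i
    · exact one_mul 1
  have himg : ∀ n m, n ≤ m → (cut m) '' Set.Iio n = τ '' Set.Iio n := fun n m hnm =>
    Set.image_congr fun i hi => by simp only [cut]; rw [if_pos (lt_of_lt_of_le hi hnm)]
  have hr : ∀ {n : ℕ} {r : List ℕ}, (J3U.rels.contains r && r.all fun i => decide (i < n)) = true →
      (r.map (cut n)).prod = 1 := fun {n r} h => by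
    simp only [Bool.and_eq_true, List.all_eq_true, decide_eq_true_eq] at h
    rw [show r.map (cut n) = r.map τ from List.map_congr_left fun i hi => by simp only [cut]; rw [if_pos (h.2 i hi)]]
    exact hrel r (List.contains_iff_mem.mp h.1)
  obtain ⟨hA, hB, -, kA, kB, -, -, hn⟩ := sub_shapes
  obtain ⟨rA, rB⟩ := sub_rels
  have hb := J3HB.sheet.card_le (cut 2) (hsq 2) (by rw [kB]; simp [cut])
    (fun r hr' => hr (List.all_eq_true.mp rB r hr'))
    (by rw [hB]; simp [wordsSub]) (N := 1) (by rw [hB]; exact wordsSub_nil _)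
  rw [kB, himg 2 2 le_rfl, mul_one] at hb
  have hw : wordsSub (cut 3) J3HA.sheet.hw = Subgroup.closure (τ '' Set.Iio 2) := by
    rw [hA, show ([[0], [1]] : List (List ℕ)) = (List.range 2).map fun i => [i] from rfl, wordsSub_singles,
      himg 2 3 (by norm_num)]
  have ha := J3HA.sheet.card_le (cut 3) (hsq 3) (by rw [kA]; simp [cut])
    (fun r hr' => hr (List.all_eq_true.mp rA r hr'))
    (by rw [hw, kA, himg 3 3 le_rfl]; exact Subgroup.closure_mono (Set.image_mono (Set.Iio_subset_Iio (by norm_num))))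
    (by rw [hw]; exact hb)
  rw [kA, himg 3 3 le_rfl] at ha
  exact ⟨ha.1, le_trans ha.2 hn⟩

include hτ h4 hrel in
theorem bound : Nat.card (Subgroup.closure (τ '' Set.Iio 4)) ≤ 3 * 50232960 := by
  obtain ⟨-, -, hU, -, -, kU, hn, -⟩ := sub_shapes
  have hw : wordsSub τ J3U.sheet.hw = Subgroup.closure (τ '' Set.Iio 3) := by
    rw [hU, show ([[0], [1], [2]] : List (List ℕ)) = (List.range 3).map fun i => [i] from rfl, wordsSub_singles]
  have h := J3U.sheet.card_le τ hτ (by rw [kU]; exact h4) hrel
    (by rw [hw, kU]; exact Subgroup.closure_mono (Set.image_mono (Set.Iio_subset_Iio (by norm_num))))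
    (by rw [hw]; exact sub_bound τ hτ hrel)
  rw [kU, hn] at h
  exact le_trans h.2 (by norm_num)

end Bound

universe u

/-- The isomorphism. -/
theorem nonempty_equiv {G : Type u} [Group G] [Finite G] (hG : Nat.card G = 50232960) (τ : ℕ → G)
    (hτ : ∀ i, τ i * τ i = 1) (h4 : τ 4 = 1) (hrel : ∀ r ∈ J3U.rels, (r.map τ).prod = 1)
    {g : G} (hg : g ∈ Subgroup.closure (τ '' Set.Iio 4)) (hg17 : orderOf g = 17) :
    Nonempty (G ≃* presJ3.Grp) := by
  classical
  let φ : G →* Equiv.Perm (Fin (Nat.card G)) :=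
    (Finite.equivFin G).permCongrHom.toMonoidHom.comp (MulAction.toPermHom G G)
  have hφ : Function.Injective φ :=
    (Finite.equivFin G).permCongrHom.injective.comp MulAction.toPerm_injective
  let τ' : ℕ → presJ3.Grp × Equiv.Perm (Fin (Nat.card G)) := fun i => (t2 i, φ (τ i))
  have hsq : ∀ i, τ' i * τ' i = 1 := fun i => Prod.ext (t2_sq i) (by
    show φ (τ i) * φ (τ i) = 1
    rw [← map_mul, hτ, map_one])
  have h4' : τ' 4 = 1 := Prod.ext rfl (by show φ (τ 4) = 1; rw [h4, map_one])
  have hrel' : ∀ r ∈ J3U.rels, (r.map τ').prod = 1 := fun r hr => by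
    refine Prod.ext ?_ ?_
    · have := map_list_prod (MonoidHom.fst presJ3.Grp (Equiv.Perm (Fin (Nat.card G)))) (r.map τ')
      rw [List.map_map] at this
      exact this.trans (t2_rel hr)
    · have := map_list_prod (MonoidHom.snd presJ3.Grp (Equiv.Perm (Fin (Nat.card G)))) (r.map τ')
      rw [List.map_map] at this
      refine this.trans ?_
      have h2 := map_list_prod φ (r.map τ)
      rw [hrel r hr, map_one, List.map_map] at h2
      exact h2.symm
  set D := Subgroup.closure (τ' '' Set.Iio 4) with hD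
  have hbound := bound τ' hsq h4' hrel'
  rw [← hD] at hbound
  let p₁ : ↥D →* presJ3.Grp := (MonoidHom.fst _ _).comp D.subtype
  let p₂ : ↥D →* Equiv.Perm (Fin (Nat.card G)) := (MonoidHom.snd _ _).comp D.subtype
  have hp₁ : Function.Surjective p₁ := by
    rw [← MonoidHom.range_eq_top, eq_top_iff, ← t2_closure, Subgroup.closure_le]
    rintro _ ⟨i, hi, rfl⟩
    exact ⟨⟨τ' i, Subgroup.subset_closure ⟨i, hi, rfl⟩⟩, rfl⟩
  have hr₂ : p₂.range = (Subgroup.closure (τ '' Set.Iio 4)).map φ := by
    rw [MonoidHom.range_comp, Subgroup.range_subtype, MonoidHom.map_closure, MonoidHom.map_closure, Set.image_image,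
      Set.image_image]
    rfl
  have hK : Nat.card p₁.ker ≤ 3 := by
    have h := Subgroup.card_mul_index p₁.ker
    rw [Subgroup.index_ker, MonoidHom.range_eq_top.mpr hp₁, Subgroup.card_top, J3Group.card_eq] at h
    refine Nat.le_of_mul_le_mul_right ?_ (show 0 < 50232960 by norm_num)
    rw [h]; exact hbound
  have h17 : 17 ∣ Nat.card p₂.range := by
    rw [← hg17, ← orderOf_injective φ hφ g, hr₂]
    exact Subgroup.orderOf_dvd_natCard _ (Subgroup.mem_map_of_mem φ hg)
  have hker : p₂.ker ≤ p₁.ker := by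
    haveI hn : (p₂.ker.map p₁).Normal := Subgroup.Normal.map inferInstance p₁ hp₁
    rcases IsSimpleGroup.eq_bot_or_eq_top_of_normal _ hn with hb | ht
    · exact fun d hd => Subgroup.mem_bot.mp (hb ▸ Subgroup.mem_map_of_mem p₁ hd)
    · exfalso
      have h1 : 50232960 ≤ Nat.card p₂.ker := by
        rw [← J3Group.card_eq, ← Subgroup.card_top (G := presJ3.Grp), ← ht]
        exact Nat.le_of_dvd Nat.card_pos (Subgroup.card_map_dvd _ _)
      have h := Subgroup.card_mul_index p₂.ker
      rw [Subgroup.index_ker] at h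
      have h2 : Nat.card p₂.ker * Nat.card p₂.range ≤ 3 * 50232960 := h ▸ hbound
      have h3 : 50232960 * Nat.card p₂.range ≤ 50232960 * 3 :=
        le_trans (Nat.mul_le_mul_right _ h1) (by omega)
      have h4 := Nat.le_of_mul_le_mul_left h3 (by norm_num)
      have h5 := Nat.le_of_dvd Nat.card_pos h17
      omega
  have hcard : Nat.card p₂.range ≤ 50232960 := by
    rw [hr₂, Subgroup.card_map_of_injective hφ, ← hG]
    exact Nat.card_le_card_of_injective Subtype.val Subtype.val_injective
  have heq : p₂.ker = p₁.ker := by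
    refine Subgroup.eq_of_le_of_card_ge hker ?_
    have h1 := Subgroup.card_mul_index p₁.ker
    have h2 := Subgroup.card_mul_index p₂.ker
    rw [Subgroup.index_ker, MonoidHom.range_eq_top.mpr hp₁, Subgroup.card_top, J3Group.card_eq] at h1
    rw [Subgroup.index_ker] at h2
    refine Nat.le_of_mul_le_mul_right ?_ (show 0 < 50232960 by norm_num)
    rw [h1, ← h2]
    exact Nat.mul_le_mul_left _ hcard
  have hfull : Nat.card p₂.range = 50232960 := by
    have h1 := Subgroup.card_mul_index p₁.ker
    have h2 := Subgroup.card_mul_index p₂.ker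
    rw [Subgroup.index_ker, MonoidHom.range_eq_top.mpr hp₁, Subgroup.card_top, J3Group.card_eq] at h1
    rw [Subgroup.index_ker, heq] at h2
    exact Nat.eq_of_mul_eq_mul_left Nat.card_pos (h2.trans h1.symm)
  have htop : Subgroup.closure (τ '' Set.Iio 4) = ⊤ := by
    refine Subgroup.eq_top_of_card_eq _ ?_
    rw [← Subgroup.card_map_of_injective hφ, ← hr₂, hfull, hG]
  have hrange : p₂.range = φ.range := by rw [hr₂, htop, ← MonoidHom.range_eq_map]
  exact ⟨((MonoidHom.ofInjective hφ).trans (MulEquiv.subgroupCongr hrange.symm)).trans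
    ((QuotientGroup.quotientKerEquivRange p₂).symm.trans ((QuotientGroup.quotientMulEquivOfEq heq).trans
      (QuotientGroup.quotientKerEquivOfSurjective p₁ hp₁)))⟩

end CfsgLib.J3Type.UniqueGroup
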