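import Cfsg.Agent.Lib.J3Type.UniqueRelators
import Cfsg.Agent.Lib.J3Type.UniqueGroup
import Cfsg.Agent.Lib.J3Type.SixTwoRelation
import Cfsg.Agent.Lib.J3Type.Final

/-!
Groups of `J₃` type with one class of involutions are isomorphic to the presented third Janko group.
-/

set_option autoImplicit false
set_option linter.unusedSectionVars false
set_option maxRecDepth 100000

namespace CfsgLib.J3Type

open Cfsg CfsgLargeExtra Equiv CfsgLib.U34
open CfsgLib.CosetEnum (presJ3)
open UniqueModel (gen mul val)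

universe u

local notation "SL" => Matrix.SpecialLinearGroup (Fin 2) C

theorem seventeen : (gen 0).2 = false ∧ (gen 1).2 = false ∧ ((gen 0).1 * (gen 1).1) ^ 17 = 1 ∧
    (gen 0).1 * (gen 1).1 ≠ 1 := by decide +kernel

variable {G : Type u} [Group G] [Finite G] {z : G} {Q : Subgroup G} {pm : G → Perm (Fin 5)}

theorem equiv_of_lift (h : JT z Q pm) (hone : OneClass G) (hs : SixType G) {A : Subgroup G} {o a u w : G}
    {ψ : SL →* G} (L : UniqueModel.Lift A o a u w ψ) (S : Sixteen A) (hu : u ∉ A) :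
    Nonempty (G ≃* presJ3.Grp) := by
  haveI : Fact (Nat.Prime 17) := ⟨by norm_num⟩
  obtain ⟨x, hxx, hrel⟩ := exists_relators h hone hs L S hu
  obtain ⟨g0, g1, g17, gne⟩ := seventeen
  refine UniqueGroup.nonempty_equiv (card_eq_of_JT h hone) (genTau ψ u x) (L.genTau_sq hxx) rfl hrel
    (g := genTau ψ u x 0 * genTau ψ u x 1) ?_ ?_
  · exact mul_mem (Subgroup.subset_closure ⟨0, by decide, rfl⟩) (Subgroup.subset_closure ⟨1, by decide, rfl⟩)
  · have e : genTau ψ u x 0 * genTau ψ u x 1 = ψ ((gen 0).1 * (gen 1).1) := by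
      show val ψ u (gen 0) * val ψ u (gen 1) = _
      rw [val, val, g0, g1, map_mul]
      simp
    rw [e, orderOf_injective ψ L.inj]
    exact orderOf_eq_prime g17 gne

/-- The uniqueness of the third Janko group. -/
theorem unique (h : JT z Q pm) (hone : OneClass G) : Nonempty (G ≃* presJ3.Grp) := by
  haveI : Fact (Nat.Prime 2) := ⟨Nat.prime_two⟩
  have hs : SixType G := (h.type_cases hone).resolve_right fun hs => hs.absurd_type h hone
  obtain ⟨A, S⟩ := exists_sixteen h hone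
  obtain ⟨a₀, ε, f, u, v, D⟩ := S.exists_cycle hs h hone
  obtain ⟨a, w, K, hua, hw, hwA, hwo, hwu, haw⟩ := D.exists_relation h hone
  have ho3 : ε ^ 3 = 1 := D.eo ▸ pow_orderOf_eq_one ε
  have ho5 : f ^ 5 = 1 := D.fo ▸ pow_orderOf_eq_one f
  have huo : u * (ε * f) * u⁻¹ = (ε * f) ^ 4 := by
    have hf4 : f ^ 4 = f⁻¹ := eq_inv_of_mul_eq_one_left (by rw [← pow_succ, ho5])
    rw [(show Commute ε f from D.ef).mul_pow, pow_succ ε, ho3, one_mul, hf4,
      show u * (ε * f) * u⁻¹ = (u * ε * u⁻¹) * (u * f * u⁻¹) by group,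
      show u * f * u⁻¹ = f⁻¹ from D.uf, D.ue, mul_inv_cancel_right]
  have main : ∀ o : G, Singer.Cyc A o a → a * Singer.s o a 1 = Singer.s o a 4 → w * o * w⁻¹ = o⁻¹ →
      u * o * u⁻¹ = o ^ 4 → Nonempty (G ≃* presJ3.Grp) := fun o K' h4 hwo' huo' => by
    obtain ⟨ψ, hψ, hrange, -, hroot, hweyl, htor⟩ := SLSixteen.exists_hom_values K' h4 hw hwo' haw hwA
    exact equiv_of_lift h hone hs ⟨K', hψ, hrange, hroot, hweyl, htor _, h4, D.uu, hua, hwu, huo'⟩ S D.u_not
  obtain ⟨i, hi, hz⟩ := K.zech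
  rcases hi with rfl | rfl
  · exact main _ K hz hwo huo
  · refine main _ K.inverse (K.inverse_four hz) ?_ ?_
    · rw [← conj_pow, hwo, inv_pow]
    · rw [← conj_pow, huo, ← pow_mul, ← pow_mul]

end CfsgLib.J3Type
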