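import Cfsg.Agent.Lib.J3Type.UniqueX

/-!
Groups of `J₃` type: the involution `x` normalises `A`; its action.
-/

set_option autoImplicit false
set_option linter.unusedSectionVars false
set_option maxRecDepth 100000

namespace CfsgLib.J3Type

open Cfsg CfsgLargeExtra Equiv CfsgLib.U34
open CfsgLib.HallJankoType (orb mem_cent conj_fix_iff ncard_orb orderOf_conj' IsInv5 conj_sq)
open Singer (Cyc s)
open UniqueModel (rootEl frob)

universe u

local notation "SL" => Matrix.SpecialLinearGroup (Fin 2) C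

theorem pm5_pow64 : ∀ g : Perm (Fin 5), Perm.sign g = 1 → g * g * (g * g) = 1 ∨ g ^ 15 = 1 := by decide +kernel

theorem field_four : frob 1 = 1 ∧ frob (C.mk' 6) = C.mk' 6 ∧ frob (C.mk' 7) = C.mk' 7 ∧
    (C.mk' 6 : C) * C.mk' 6 = C.mk' 7 := by decide +kernel

theorem act_options : ∀ τ : C,
    (let c1 := τ + frob τ; let c0 := τ + c1 * C.mk' 2; c0 + c1 * τ = C.mk' 2) → τ ≠ C.mk' 2 → τ ≠ C.mk' 3 →
    τ = C.mk' 5 ∨ frob τ = C.mk' 5 := by decide +kernel

theorem act_eq : ∀ v : C, (let c1 := v + frob v; let c0 := v + c1 * C.mk' 2; c0 + c1 * C.mk' 5 = actX v) := by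
  decide +kernel

theorem coeff_fixed : ∀ v : C, frob (v + frob v) = v + frob v ∧
    frob (v + (v + frob v) * C.mk' 2) = v + (v + frob v) * C.mk' 2 ∧
    (v + (v + frob v) * C.mk' 2) + (v + frob v) * C.mk' 2 = v := by decide +kernel

theorem torus_five_mul : ∀ v : C, UniqueModel.torus ^ 5 * rootEl v * (UniqueModel.torus ^ 5)⁻¹ = rootEl (C.mk' 6 * v) := by
  decide +kernel

variable {G : Type u} [Group G] [Finite G] {Qu : Subgroup G} {pu : G → Perm (Fin 5)}
  {A : Subgroup G} {o a u w : G} {ψ : SL →* G}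

namespace UniqueModel.Lift

variable (L : UniqueModel.Lift A o a u w ψ)
include L

theorem scale_conj {x : G} (hxe : o ^ 5 * x = x * o ^ 5) (hxi : x * x = 1) {v t : C}
    (ht : x * ψ (rootEl v) * x = ψ (rootEl t)) : x * ψ (rootEl (C.mk' 6 * v)) * x = ψ (rootEl (C.mk' 6 * t)) := by
  have hx : x⁻¹ = x := inv_eq_of_mul_eq_one_right hxi
  have hie : (o ^ 5)⁻¹ * x = x * (o ^ 5)⁻¹ := ((show Commute (o ^ 5) x from hxe).inv_left).eq
  rw [← torus_five_mul, ← torus_five_mul]
  simp only [map_mul, map_inv, map_pow, L.tor]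
  calc x * (o ^ 5 * ψ (rootEl v) * (o ^ 5)⁻¹) * x = (x * o ^ 5) * ψ (rootEl v) * ((o ^ 5)⁻¹ * x) := by group
    _ = (o ^ 5 * x) * ψ (rootEl v) * (x * (o ^ 5)⁻¹) := by rw [hxe, hie]
    _ = o ^ 5 * (x * ψ (rootEl v) * x) * (o ^ 5)⁻¹ := by group
    _ = _ := by rw [ht]

/-- The action of an involution centralizing `F` and `o ^ 5` is determined by one value. -/
theorem act_linear {x : G} (hxe : o ^ 5 * x = x * o ^ 5) (hxi : x * x = 1) (hxa : a * x = x * a) {τ : C}
    (hτ : x * ψ (rootEl (C.mk' 2)) * x = ψ (rootEl τ)) (v : C) :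
    x * ψ (rootEl v) * x = ψ (rootEl ((v + (v + frob v) * C.mk' 2) + (v + frob v) * τ)) := by
  have hadd : ∀ v v' t t' : C, x * ψ (rootEl v) * x = ψ (rootEl t) → x * ψ (rootEl v') * x = ψ (rootEl t') →
      x * ψ (rootEl (v + v')) * x = ψ (rootEl (t + t')) := fun v v' t t' h1 h2 => by
    rw [L.root_add, L.root_add, ← h1, ← h2]
    calc x * (ψ (rootEl v) * ψ (rootEl v')) * x = x * ψ (rootEl v) * (x * x) * ψ (rootEl v') * x := by
          rw [hxi]; group
      _ = _ := by group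
  have h0 : x * ψ (rootEl 0) * x = ψ (rootEl 0) := by rw [rootEl, ofAdd_zero, map_one, map_one, mul_one, hxi]
  have h1 : x * ψ (rootEl 1) * x = ψ (rootEl 1) := by
    rw [L.root_one', ← hxa, mul_assoc, hxi, mul_one]
  have hmul : ∀ c : C, frob c = c → ∀ v t : C, x * ψ (rootEl v) * x = ψ (rootEl t) →
      x * ψ (rootEl (c * v)) * x = ψ (rootEl (c * t)) := by
    intro c hc v t h
    rcases field_F c hc with rfl | rfl | rfl | rfl
    · rw [zero_mul, zero_mul]; exact h0
    · rw [one_mul, one_mul]; exact h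
    · exact L.scale_conj hxe hxi h
    · rw [← field_four.2.2.2, mul_assoc (C.mk' 6) (C.mk' 6) v, mul_assoc (C.mk' 6) (C.mk' 6) t]
      exact L.scale_conj hxe hxi (L.scale_conj hxe hxi h)
  obtain ⟨hf1, hf0, hsum⟩ := coeff_fixed v
  have hc0 := hmul _ hf0 1 1 h1
  rw [mul_one] at hc0
  have := hadd _ _ _ _ hc0 (hmul _ hf1 _ _ hτ)
  rwa [hsum] at this

variable (hU : JT u Qu pu)
include hU

/-- The involution of `Q` fixed by the four group normalises `A`. -/
theorem x_normal (S : Sixteen A) (hu : u ∉ A) {x : G} (hx : x ∈ hU.S) (hxa : a * x = x * a)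
    (huniq : ∀ q ∈ Qu, q * a = a * q → q * (o ^ 5 * a * (o ^ 5)⁻¹) = o ^ 5 * a * (o ^ 5)⁻¹ * q →
      q = 1 ∨ q = u ∨ q = x ∨ q = x * u) : ∀ g ∈ A, x * g * x ∈ A := by
  classical
  haveI : Fact (Nat.Prime 2) := ⟨Nat.prime_two⟩
  obtain ⟨hpa, hpb, hab, htriv⟩ := L.pu_facts hU hu
  set b := o ^ 5 * a * (o ^ 5)⁻¹ with hb
  have hbA : b ∈ A := by rw [hb, ← L.root_six]; exact L.root_mem _
  have hbu : b * u = u * b := L.b_comm
  have haA : a ∈ A := L.cyc.mem
  have hui := L.hui
  set N := Subgroup.normalizer (A : Set G) with hN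
  have hunor : ∀ g ∈ A, u * g * u⁻¹ ∈ A := fun g hg => by
    obtain ⟨v, rfl⟩ := L.exists_root hg
    rw [L.root_u]; exact L.root_mem _
  let M : Subgroup G :=
    { carrier := {g | g ∈ A ∨ g * u ∈ A}
      one_mem' := Or.inl A.one_mem
      mul_mem' := fun {g g'} hg hg' => by
        rcases hg with hg | hg <;> rcases hg' with hg' | hg'
        · exact Or.inl (mul_mem hg hg')
        · exact Or.inr (by rw [mul_assoc]; exact mul_mem hg hg')
        · refine Or.inr ?_
          have := mul_mem hg (hunor _ hg')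
          rwa [show g * u * (u * g' * u⁻¹) = g * (u * u) * g' * u⁻¹ by group, L.uu, mul_one, hui] at this
        · refine Or.inl ?_
          have := mul_mem hg (hunor _ hg')
          rwa [show g * u * (u * (g' * u) * u⁻¹) = g * (u * u) * g' * (u * u⁻¹) by group, L.uu, mul_one,
            mul_inv_cancel, mul_one] at this
      inv_mem' := fun {g} hg => by
        rcases hg with hg | hg
        · exact Or.inl (inv_mem hg)
        · refine Or.inr ?_
          have := hunor _ (inv_mem hg)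
          rwa [show u * (g * u)⁻¹ * u⁻¹ = (u * u⁻¹) * g⁻¹ * u⁻¹ by group, mul_inv_cancel, one_mul, hui] at this }
  have hAM : A ≤ M := fun g hg => Or.inl hg
  have huM : u ∈ M := Or.inr (by rw [L.uu]; exact A.one_mem)
  have hidx : (A.subgroupOf M).index = 2 := by
    rw [Subgroup.index_eq_two_iff]
    refine ⟨⟨u, huM⟩, fun g => ?_⟩
    simp only [Subgroup.mem_subgroupOf, Subgroup.coe_mul]
    by_cases hg : (g : G) ∈ A
    · refine Or.inr ⟨hg, fun hm => hu ?_⟩
      have := mul_mem (inv_mem hg) hm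
      rwa [inv_mul_cancel_left] at this
    · exact Or.inl ⟨g.2.resolve_left hg, hg⟩
  have hcM : Nat.card ↥M = 32 := by
    have := Subgroup.card_mul_index (A.subgroupOf M)
    rw [Nat.card_congr (Subgroup.subgroupOfEquivOfLe hAM).toEquiv, S.card, hidx] at this
    omega
  have hMN : M ≤ N := by
    intro g hg
    have huN : u ∈ N := mem_normalizer_of_conj hunor
    rcases hg with hg | hg
    · exact Subgroup.le_normalizer hg
    · have := mul_mem (Subgroup.le_normalizer hg) huN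
      rwa [mul_assoc, L.uu, mul_one] at this
  obtain ⟨K₀, hK₀, hle⟩ := Sylow.exists_subgroup_card_pow_succ (G := ↥N) (p := 2) (n := 5)
    (by rw [S.card_normalizer]; norm_num) (H := M.subgroupOf N)
    (by rw [Nat.card_congr (Subgroup.subgroupOfEquivOfLe hMN).toEquiv, hcM]; norm_num)
  set K := K₀.map N.subtype with hK
  have hcK : Nat.card ↥K = 64 := by
    rw [hK, Subgroup.card_map_of_injective N.subtype_injective, hK₀]; norm_num
  have hMK : M ≤ K := fun g hg => ⟨⟨g, hMN hg⟩, hle hg, rfl⟩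
  have hKN : K ≤ N := by rintro _ ⟨g, -, rfl⟩; exact g.2
  obtain ⟨n, hnK, hnM⟩ : ∃ n ∈ K, n ∉ M := by
    by_contra hall
    push Not at hall
    have := Subgroup.card_le_of_le (show K ≤ M from hall)
    omega
  have hidx2 : (M.subgroupOf K).index = 2 := by
    have := Subgroup.card_mul_index (M.subgroupOf K)
    rw [Nat.card_congr (Subgroup.subgroupOfEquivOfLe hMK).toEquiv, hcM, hcK] at this
    omega
  haveI := Subgroup.normal_of_index_eq_two hidx2
  have hconj : n * u * n⁻¹ ∈ M :=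
    Subgroup.Normal.conj_mem (inferInstance : (M.subgroupOf K).Normal) ⟨u, hMK huM⟩ huM ⟨n, hnK⟩
  have hnotA : n * u * n⁻¹ ∉ A := fun hm => hu (by
    have := conj_of_mem_normalizer (inv_mem (hKN hnK)) hm
    rwa [show n⁻¹ * (n * u * n⁻¹) * n⁻¹⁻¹ = u by group] at this)
  obtain ⟨c, hcu⟩ := L.exists_root (hconj.resolve_left hnotA)
  have hn1 : n * u * n⁻¹ = ψ (rootEl c) * u := by rw [← hcu, mul_assoc (n * u * n⁻¹), L.uu, mul_one]
  have hc : frob c = c := by
    refine L.root_inj ?_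
    have hinv : ψ (rootEl c) * u * (ψ (rootEl c) * u) = 1 := by
      rw [← hn1, show n * u * n⁻¹ * (n * u * n⁻¹) = n * (u * u) * n⁻¹ by group, L.uu, mul_one, mul_inv_cancel]
    rw [← L.root_u c, hui]
    calc u * ψ (rootEl c) * u = (ψ (rootEl c))⁻¹ * (ψ (rootEl c) * u * (ψ (rootEl c) * u)) := by group
      _ = ψ (rootEl c) := by rw [hinv, mul_one, inv_eq_of_mul_eq_one_right (L.cyc.sq _ (L.root_mem c))]
  obtain ⟨v, hv⟩ := field_trace c hc
  set m := ψ (rootEl v) * n with hm
  have hvv : (ψ (rootEl v))⁻¹ = ψ (rootEl v) := inv_eq_of_mul_eq_one_right (L.cyc.sq _ (L.root_mem v))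
  have hmu : m * u = u * m := by
    refine conj_fix_iff.mp ?_
    rw [hm, show ψ (rootEl v) * n * u * (ψ (rootEl v) * n)⁻¹ =
      ψ (rootEl v) * (n * u * n⁻¹) * (ψ (rootEl v))⁻¹ by group, hn1, hvv,
      show ψ (rootEl v) * (ψ (rootEl c) * u) * ψ (rootEl v) =
        ψ (rootEl v) * ψ (rootEl c) * (u * ψ (rootEl v) * u⁻¹) * u by group,
      L.root_u, ← L.root_add, ← L.root_add, ← hv, show v + (v + frob v) + frob v = 0 by
        have key : ∀ v : C, v + (v + frob v) + frob v = 0 := by decide +kernel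
        exact key v, rootEl, ofAdd_zero, map_one, map_one, one_mul]
  have hvK : ψ (rootEl v) ∈ K := hMK (hAM (L.root_mem v))
  have hmK : m ∈ K := mul_mem hvK hnK
  have hmM : m ∉ M := fun hh => hnM (by
    have := mul_mem (inv_mem (hAM (L.root_mem v))) hh
    rwa [hm, inv_mul_cancel_left] at this)
  have hmN : m ∈ N := hKN hmK
  have hm64 : m ^ 64 = 1 := by
    have := pow_card_eq_one' (G := ↥K) (x := ⟨m, hmK⟩)
    rw [hcK] at this
    exact congrArg Subtype.val this
  have hp2 : pu m * pu m = 1 := by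
    refine pm5_orders _ (hU.pm_sign _ hmu) ((pm5_pow64 _ (hU.pm_sign _ hmu)).elim id fun h15 => ?_)
    have h64 : pu m ^ 64 = 1 := by rw [← hU.pm_pow hmu, hm64, hU.pm_one]
    rw [show 64 = 15 * 4 + 4 by norm_num, pow_add, pow_mul, h15, one_pow, one_mul] at h64
    rw [← h64, pow_succ, pow_succ, pow_succ, pow_one]; group
  have hau : a * u = u * a := L.ua.symm
  have hF : ∀ g ∈ A, g * u = u * g → g = 1 ∨ g = a ∨ g = b ∨ g = a * b := by
    intro g hg hgu
    obtain ⟨t, rfl⟩ := L.exists_root hg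
    have ht : frob t = t := L.root_inj (by rw [← L.root_u t, conj_fix_iff.mpr hgu.symm])
    rcases field_F t ht with rfl | rfl | rfl | rfl
    · left; rw [rootEl, ofAdd_zero, map_one, map_one]
    · right; left; exact L.root_one'
    · right; right; left; exact L.root_six
    · right; right; right
      have e67 : (C.mk' 7 : C) = 1 + C.mk' 6 := by decide +kernel
      rw [e67, L.root_add, L.root_one', L.root_six]
  have hcf : ∀ g ∈ A, g * u = u * g → g ≠ 1 →
      pu (m * g * m⁻¹) = pu a ∨ pu (m * g * m⁻¹) = pu b ∨ pu (m * g * m⁻¹) = pu a * pu b := by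
    intro g hg hgu hg1
    rcases hF _ (conj_of_mem_normalizer hmN hg)
      (Commute.mul_left (Commute.mul_left hmu hgu) (Commute.inv_left hmu)).eq with e | e | e | e
    · exact absurd (conj_eq_one_iff.mp e) hg1
    · left; rw [e]
    · right; left; rw [e]
    · right; right; rw [e, hU.pm_mul _ _ hau hbu]
  have hpi : (pu m)⁻¹ = pu m := inv_eq_of_mul_eq_one_right hp2
  have hb1 : b ≠ 1 := fun e => L.cyc.ne (conj_eq_one_iff.mp e)
  have h4 := pm5_four (pu a) hpa.2.1 hpa.2.2 hpa.1 (pu b) hpb.2.1 hpb.2.2 hpb.1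
    (by rw [← hU.pm_mul _ _ hau hbu, L.cyc.comm haA hbA, hU.pm_mul _ _ hbu hau]) hab (pu m)
    (hU.pm_sign _ hmu) hp2
    (by have := hcf a haA hau L.cyc.ne; rwa [hU.pm_conj hmu hau, hpi] at this)
    (by have := hcf b hbA hbu hb1; rwa [hU.pm_conj hmu hbu, hpi] at this)
  obtain ⟨t, htA, htu, hpt⟩ : ∃ t, t ∈ A ∧ t * u = u * t ∧ pu t = pu m := by
    rcases h4 with e | e | e | e
    · exact ⟨1, one_mem _, by simp, by rw [hU.pm_one, e]⟩
    · exact ⟨a, haA, hau, e.symm⟩
    · exact ⟨b, hbA, hbu, e.symm⟩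
    · exact ⟨a * b, mul_mem haA hbA, (Commute.mul_left hau hbu).eq, by rw [hU.pm_mul _ _ hau hbu, e]⟩
  set q := t * m with hq
  have hqu : q * u = u * q := (Commute.mul_left htu hmu).eq
  have hqQ : q ∈ Qu := by
    refine (hU.pm_ker q hqu).mp ?_
    rw [hq, hU.pm_mul _ _ htu hmu, hpt, hp2]
  have hqN : q ∈ N := mul_mem (Subgroup.le_normalizer htA) hmN
  have hcent : ∀ g ∈ A, g * u = u * g → q * g = g * q := by
    intro g hg hgu
    have h1 : q * g * q⁻¹ * g⁻¹ ∈ A := mul_mem (conj_of_mem_normalizer hqN hg) (inv_mem hg)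
    have h2 : q * g * q⁻¹ * g⁻¹ ∈ Qu := by
      have := mul_mem hqQ (hU.nor_mem hgu (inv_mem hqQ))
      rwa [show q * (g * q⁻¹ * g⁻¹) = q * g * q⁻¹ * g⁻¹ by group] at this
    have h3 := htriv _ h2 h1
      (Commute.mul_left (Commute.mul_left (Commute.mul_left hqu hgu) (Commute.inv_left hqu)) (Commute.inv_left hgu)).eq
    calc q * g = q * g * q⁻¹ * g⁻¹ * (g * q) := by group
      _ = g * q := by rw [h3, one_mul]
  have hqM : q ∉ M := fun hh => hmM (by
    have := mul_mem (inv_mem (hAM htA)) hh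
    rwa [hq, inv_mul_cancel_left] at this)
  have huN : u ∈ N := hMN huM
  have hxN : x ∈ N := by
    rcases huniq q hqQ (hcent a haA hau) (hcent b hbA hbu) with e | e | e | e
    · exact absurd (e ▸ one_mem M) hqM
    · exact absurd (e ▸ huM) hqM
    · exact e ▸ hqN
    · have := mul_mem hqN huN
      rwa [e, mul_assoc, L.uu, mul_one] at this
  intro g hg
  have := conj_of_mem_normalizer hxN hg
  rwa [inv_eq_of_mul_eq_one_right hx.2.1] at this

/-- The involution `x` with its action on `A`. -/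
theorem exists_x (S : Sixteen A) (hu : u ∉ A) :
    ∃ x, x ∈ hU.S ∧ a * x = x * a ∧ o ^ 5 * x = x * o ^ 5 ∧ ∀ v, x * ψ (rootEl v) * x = ψ (rootEl (actX v)) := by
  obtain ⟨x, hx, hxa, hxe, huniq⟩ := L.exists_x₀ hU
  have hxA := L.x_normal hU S hu hx hxa huniq
  have hxx : x * x = 1 := hx.2.1
  have hxu : x * u = u * x := hU.es.comm x hx.1
  have hau : a * u = u * a := L.ua.symm
  obtain ⟨τ, hτ⟩ := L.exists_root (hxA _ (L.root_mem (C.mk' 2)))
  have lin := fun v => L.act_linear hxe hxx hxa hτ v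
  have hinv : (τ + (τ + frob τ) * C.mk' 2) + (τ + frob τ) * τ = C.mk' 2 := by
    refine L.root_inj ?_
    rw [← lin τ, ← hτ]
    calc x * (x * ψ (rootEl (C.mk' 2)) * x) * x = (x * x) * ψ (rootEl (C.mk' 2)) * (x * x) := by group
      _ = _ := by rw [hxx, one_mul, mul_one]
  have hconj : ∀ y : G, y * y = 1 → (∀ v, y * ψ (rootEl v) * y = ψ (rootEl v)) → y ∈ A := fun y hy hall =>
    S.cent y fun g hg => by
      obtain ⟨v, rfl⟩ := L.exists_root hg
      calc y * ψ (rootEl v) = y * ψ (rootEl v) * (y * y) := by rw [hy, mul_one]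
        _ = (y * ψ (rootEl v) * y) * y := by group
        _ = _ := by rw [hall]
  have hxuxu : x * u * (x * u) = 1 := (hU.S_mul_z hx).2.1
  have hnxA : x ∉ A := fun hm => by
    have := (L.pu_facts hU hu).2.2.2 x hx.1 hm hxu
    exact hx.2.2.1 this
  have hnxuA : x * u ∉ A := fun hm => by
    have := (L.pu_facts hU hu).2.2.2 _ (hU.S_mul_z hx).1 hm (Commute.mul_left hxu (Commute.refl u)).eq
    exact (hU.S_mul_z hx).2.2.1 this
  have hflip : ∀ v t, x * ψ (rootEl v) * x = ψ (rootEl t) → x * u * ψ (rootEl v) * (x * u) = ψ (rootEl (frob t)) := by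
    intro v t e
    rw [← L.root_u t, ← e, L.hui]
    calc x * u * ψ (rootEl v) * (x * u) = u * x * ψ (rootEl v) * (x * u) := by rw [hxu]
      _ = _ := by group
  have ne2 : τ ≠ C.mk' 2 := fun e => hnxA (hconj x hxx fun v => by
    rw [lin v, e]
    congr 2
    have key : ∀ v : C, (v + (v + frob v) * C.mk' 2) + (v + frob v) * C.mk' 2 = v := fun v => (coeff_fixed v).2.2
    exact key v)
  have ne3 : τ ≠ C.mk' 3 := fun e => hnxuA (hconj _ hxuxu fun v => by
    rw [hflip v _ (lin v), e]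
    congr 2
    have key : ∀ v : C, frob ((v + (v + frob v) * C.mk' 2) + (v + frob v) * C.mk' 3) = v := by decide +kernel
    exact key v)
  rcases act_options τ hinv ne2 ne3 with e | e
  · exact ⟨x, hx, hxa, hxe, fun v => by rw [lin v, e, ← act_eq v]⟩
  · have hxe' : o ^ 5 * (x * u) = x * u * o ^ 5 := (Commute.mul_right hxe L.e_comm).eq
    have hxa' : a * (x * u) = x * u * a := (Commute.mul_right hxa hau).eq
    have hτ' := hflip _ _ hτ
    rw [e] at hτ'
    exact ⟨x * u, hU.S_mul_z hx, hxa', hxe', fun v => by rw [L.act_linear hxe' hxuxu hxa' hτ' v, ← act_eq v]⟩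

end UniqueModel.Lift

end CfsgLib.J3Type
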