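import Cfsg.Agent.Lib.J3Type.ThreeCent
import Cfsg.Agent.Lib.J3Type.SylowThree
import Mathlib.GroupTheory.Transfer

/-!
Groups of `J₃` type: relations in the centralizer of an element of order three, which is `3 × A₆`.
-/

set_option autoImplicit false
set_option linter.unusedSectionVars false
set_option maxRecDepth 100000

namespace CfsgLib.J3Type

open Cfsg CfsgLargeExtra Equiv
open CfsgLib.HallJankoType (orb mem_cent conj_fix_iff ncard_orb orderOf_conj' conj_sq)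

universe u

namespace AltSix

/-- An involution commuting with `u`, different from `1` and `u`. -/
abbrev Side (u x : Perm (Fin 6)) : Prop :=
  Perm.sign x = 1 ∧ (∀ i, x (x i) = i) ∧ (∃ i, x i ≠ i) ∧ (∀ i, x (u i) = u (x i)) ∧ ∃ i, x i ≠ u i

/-- The first pattern of orders of `x * f` and `x * f ^ 2`. -/
abbrev FirstKind (x : Perm (Fin 6)) : Prop :=
  (∀ i, x (f₀ (x (f₀ (x (f₀ (x (f₀ (x (f₀ i))))))))) = i) ∧
    ∀ i, x (f₀ (f₀ (x (f₀ (f₀ (x (f₀ (f₀ i)))))))) = i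

/-- The second pattern. -/
abbrev SecondKind (x : Perm (Fin 6)) : Prop :=
  ∀ i, x (f₀ (x (f₀ (x (f₀ i))))) = i

set_option synthInstance.maxHeartbeats 400000 in
set_option synthInstance.maxSize 2000 in
theorem kinds : ∀ u : Perm (Fin 6), Perm.sign u = 1 → (∀ i, u (u i) = i) → (∃ i, u i ≠ i) →
    (∀ i, u (f₀ (u (f₀ i))) = i) → ∀ x : Perm (Fin 6), Side u x →
      (FirstKind x ∨ SecondKind x) ∧ (FirstKind x → ∀ y : Perm (Fin 6), Side u y → FirstKind y → (∃ i, x i ≠ y i) →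
        ∀ i, x (f₀ (y (f₀ (f₀ (x (f₀ (y (f₀ (f₀ i))))))))) = i) := by
  decide +kernel

theorem pow_two' {M : Type*} [Monoid M] (a : M) : a ^ 2 = a * a := pow_two a

theorem six_kinds (u f : A) (hu : u * u = 1) (hu1 : u ≠ 1) (hf : f ^ 5 = 1) (hf1 : f ≠ 1) (huf : u * f * (u * f) = 1)
    (x : A) (hx : x * x = 1) (hx1 : x ≠ 1) (hxu : x * u = u * x) (hxne : x ≠ u) :
    (((x * f) ^ 5 = 1 ∧ (x * f ^ 2) ^ 3 = 1) ∨ (x * f) ^ 3 = 1) ∧
      ((x * f) ^ 5 = 1 ∧ (x * f ^ 2) ^ 3 = 1 → ∀ y : A, y * y = 1 → y ≠ 1 → y * u = u * y → y ≠ u → x ≠ y →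
        (y * f) ^ 5 = 1 → (y * f ^ 2) ^ 3 = 1 → (x * f * y * f ^ 2) ^ 2 = 1) := by
  obtain ⟨s, hs⟩ := isConj_iff.mp (five_cases (congrArg Subtype.val hf : (f : Perm (Fin 6)) ^ 5 = 1) (coe_ne hf1))
  set φ : A →* Perm (Fin 6) := (MulAut.conj s⁻¹).toMonoidHom.comp (alternatingGroup (Fin 6)).subtype with hφ
  have hinj : Function.Injective φ := (MulAut.conj s⁻¹).injective.comp Subtype.val_injective
  have hφf : φ f = f₀ := by
    show s⁻¹ * (f : Perm (Fin 6)) * s⁻¹⁻¹ = f₀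
    rw [← hs]; group
  have hsign : ∀ g : A, Perm.sign (φ g) = 1 := fun g => by
    show Perm.sign (s⁻¹ * (g : Perm (Fin 6)) * s⁻¹⁻¹) = 1
    rw [sign_conj]; exact Perm.mem_alternatingGroup.mp g.2
  have one : ∀ g : A, g = 1 ↔ ∀ i, φ g i = i := fun g => by
    rw [← hinj.eq_iff, map_one, Equiv.ext_iff]; rfl
  have ne : ∀ g h : A, g ≠ h → ∃ i, φ g i ≠ φ h i := fun g h e => by
    by_contra hall
    push Not at hall
    exact e (hinj (Equiv.ext hall))
  have side : ∀ g : A, g * g = 1 → g ≠ 1 → g * u = u * g → g ≠ u → Side (φ u) (φ g) := fun g h1 h2 h3 h4 => by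
    refine ⟨hsign g, fun i => ?_, ?_, fun i => ?_, ne g u h4⟩
    · have := (one _).mp h1 i
      rwa [map_mul] at this
    · obtain ⟨i, hi⟩ := ne g 1 h2
      rw [map_one] at hi
      exact ⟨i, hi⟩
    · have := congrArg φ h3
      rw [map_mul, map_mul] at this
      exact congrFun (congrArg DFunLike.coe this) i
  obtain ⟨hk1, hk2⟩ := kinds (φ u) (hsign u)
    (fun i => by have := (one _).mp hu i; rwa [map_mul] at this)
    (by obtain ⟨i, hi⟩ := ne u 1 hu1; rw [map_one] at hi; exact ⟨i, hi⟩)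
    (fun i => by have := (one _).mp huf i; rwa [map_mul, map_mul, hφf] at this)
    (φ x) (side x hx hx1 hxu hxne)
  have first : ∀ g : A, FirstKind (φ g) ↔ (g * f) ^ 5 = 1 ∧ (g * f ^ 2) ^ 3 = 1 := fun g => by
    rw [one ((g * f) ^ 5), one ((g * f ^ 2) ^ 3)]
    simp only [FirstKind, f₀, pow_succ, pow_zero, one_mul, map_mul, hφf, Perm.mul_apply]
  have second : ∀ g : A, SecondKind (φ g) ↔ (g * f) ^ 3 = 1 := fun g => by
    rw [one]
    simp only [SecondKind, f₀, pow_succ, pow_zero, one_mul, map_mul, hφf, Perm.mul_apply]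
  refine ⟨hk1.imp (first x).mp (second x).mp, fun h1 y hy hy1 hyu hyne hne h2 h3 => ?_⟩
  have := hk2 ((first x).mpr h1) (φ y) (side y hy hy1 hyu hyne) ((first y).mpr ⟨h2, h3⟩) (ne x y hne)
  rw [one]
  simpa only [pow_succ, pow_zero, one_mul, map_mul, hφf, Perm.mul_apply] using this

end AltSix

variable {G : Type u} [Group G] [Finite G] {z : G} {Q : Subgroup G} {pm : G → Perm (Fin 5)}

namespace SixType

variable (hs : SixType G) (h : JT z Q pm) (hone : OneClass G)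
include hs h hone

theorem exists_altSix {d : G} (dz : d * z = z * d) (od : orderOf d = 3) : ∃ π : G → AltSix.A, ThreeQ d π := by
  obtain ⟨X, _, ρ, hX, hρ⟩ := hs d ⟨od, z, h.zz, h.es.ne, dz.symm⟩
  refine (h.three_quot hone dz od).resolve_right ?_
  rintro ⟨π, hπ⟩
  have h3 : d ^ 3 = 1 := od ▸ pow_orderOf_eq_one d
  have e1 := hρ.ncard_invol h3
  have e2 := hπ.ncard_invol h3
  rw [hX.inv_count] at e1
  rw [GlThree.xSeven.inv_count] at e2
  omega

/-- The centralizer of `d` has a homomorphism to an abelian group that is injective on `⟨d⟩` and kills every element of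
order prime to three. -/
theorem exists_split {d : G} (od : orderOf d = 3) (hcard : Nat.card ↥(Subgroup.centralizer ({d} : Set G)) = 1080) :
    ∀ g ∈ Subgroup.zpowers d, ∀ l : List G, (∀ a ∈ l, a * d = d * a ∧ a ^ 10 = 1) → g = l.prod → g = 1 := by
  classical
  haveI : Fact (Nat.Prime 3) := ⟨Nat.prime_three⟩
  set C := Subgroup.centralizer ({d} : Set G) with hC
  obtain ⟨P⟩ : Nonempty (Sylow 3 ↥C) := inferInstance
  have hP27 : Nat.card ↥(P : Subgroup ↥C) = 27 := by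
    obtain ⟨k, hk⟩ := IsPGroup.iff_card.mp P.2
    have h1 : 3 ^ 3 ∣ Nat.card ↥(P : Subgroup ↥C) :=
      P.pow_dvd_card_of_pow_dvd_card (by rw [hcard]; norm_num)
    have h2 : 3 ^ k ∣ 1080 := hcard ▸ hk ▸ Subgroup.card_subgroup_dvd_card (P : Subgroup ↥C)
    rw [hk] at h1 ⊢
    have h3 : 3 ^ k ∣ 27 := (Nat.Coprime.dvd_mul_left (Nat.Coprime.pow_left k (by norm_num : Nat.Coprime 3 40))).mp
      (show 3 ^ k ∣ 40 * 27 from h2)
    exact Nat.dvd_antisymm h3 (by norm_num at h1 ⊢; exact h1)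
  set P' := (P : Subgroup ↥C).map C.subtype with hP'
  obtain ⟨e, he⟩ : (clsE z).Nonempty :=
    Set.nonempty_of_ncard_ne_zero (by rw [(hs.nonfree_count h hone).2.2]; norm_num)
  obtain ⟨hE, Z, hZ, hZc⟩ := hs.clsE_struct h hone he
  set E := Subgroup.centralizer ({e} : Set G) with hEdef
  obtain ⟨g, hg⟩ := hs.conj_into h hone (P.2.map C.subtype) hE
  set d' := g * d * g⁻¹ with hd'
  have hd3 : d ^ 3 = 1 := od ▸ pow_orderOf_eq_one d
  have hdC : (⟨d, mem_cent.mpr rfl⟩ : ↥C) ∈ Subgroup.center ↥C :=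
    Subgroup.mem_center_iff.mpr fun a => Subtype.ext (mem_cent.mp a.2)
  have hdP : (⟨d, mem_cent.mpr rfl⟩ : ↥C) ∈ (P : Subgroup ↥C) := by
    set D : Subgroup ↥C := Subgroup.zpowers ⟨d, mem_cent.mpr rfl⟩
    haveI : D.Normal := ⟨fun a ha b => by
      obtain ⟨i, rfl⟩ := Subgroup.mem_zpowers_iff.mp ha
      rw [(Commute.zpow_right (Subgroup.mem_center_iff.mp hdC b) i).eq, mul_inv_cancel_right]
      exact Subgroup.zpow_mem _ (Subgroup.mem_zpowers _) i⟩
    have hD : IsPGroup 3 ↥D := IsPGroup.of_card (n := 1) (by rw [Nat.card_zpowers, Subgroup.orderOf_mk, od, pow_one])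
    obtain ⟨T, hT⟩ := hD.exists_le_sylow
    obtain ⟨c, hc⟩ := MulAction.exists_smul_eq ↥C T P
    rw [← hc, Sylow.coe_subgroup_smul]
    have := Subgroup.smul_mem_pointwise_smul _ (MulAut.conj c) _ (hT (Subgroup.mem_zpowers (⟨d, mem_cent.mpr rfl⟩ : ↥C)))
    rwa [show MulAut.conj c • (⟨d, mem_cent.mpr rfl⟩ : ↥C) = ⟨d, mem_cent.mpr rfl⟩ by
      show c * _ * c⁻¹ = _
      rw [Subgroup.mem_center_iff.mp hdC c, mul_inv_cancel_right]] at this
  have hd'E : d' ∈ E := hg d ⟨_, hdP, rfl⟩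
  set K := E ⊓ Subgroup.centralizer ({d'} : Set G) with hK
  have hKle : Nat.card ↥K ∣ 27 := by
    have h1 : Nat.card ↥K ∣ 243 := hE ▸ Subgroup.card_dvd_of_le inf_le_left
    have h2 : Nat.card ↥K ∣ 1080 := by
      have := Subgroup.card_dvd_of_le (show K ≤ Subgroup.centralizer ({d'} : Set G) from inf_le_right)
      rwa [hd', card_cent_conj, hcard] at this
    exact (show Nat.gcd 243 1080 = 27 by norm_num) ▸ Nat.dvd_gcd h1 h2
  have hmap : ∀ r ∈ P', g * r * g⁻¹ ∈ K := fun r hr => ⟨hg r hr, mem_cent.mpr (by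
    obtain ⟨a, -, rfl⟩ := hr
    exact conj_comm (mem_cent.mp a.2))⟩
  have hK27 : Nat.card ↥K = 27 := by
    refine le_antisymm (Nat.le_of_dvd (by norm_num) hKle) ?_
    rw [← hP27, ← Subgroup.card_map_of_injective C.subtype_injective, ← hP']
    exact Nat.card_le_card_of_injective (fun r => (⟨g * r.1 * g⁻¹, hmap r r.2⟩ : ↥K))
      fun a b e1 => Subtype.ext (mul_left_cancel (mul_right_cancel (congrArg Subtype.val e1)))
  have hZK : Z ≤ K := fun c hc =>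
    ⟨mem_cent.mpr ((hZc c hc).2 e (mem_cent.mpr rfl)).symm, mem_cent.mpr ((hZc c hc).2 d' hd'E).symm⟩
  have hKab : ∀ a ∈ K, ∀ b ∈ K, a * b = b * a := by
    intro a ha b hb
    by_cases haZ : a ∈ Z
    · exact ((hZc a haZ).2 b hb.1).symm
    set H := K ⊓ Subgroup.centralizer ({a} : Set G)
    have hlt : Z < H := lt_of_le_of_ne (fun c hc => ⟨hZK hc, mem_cent.mpr ((hZc c hc).2 a ha.1).symm⟩)
      fun e1 => haZ (e1 ▸ ⟨ha, mem_cent.mpr rfl⟩)
    have h9 : 9 < Nat.card ↥H := lt_of_le_of_lt hZ (Set.Finite.card_lt_card (Set.toFinite _) (SetLike.coe_ssubset_coe.mpr hlt))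
    have hd : Nat.card ↥H ∣ 3 ^ 3 := by
      have := Subgroup.card_dvd_of_le (show H ≤ K from inf_le_left)
      rwa [hK27] at this
    obtain ⟨k, hk, e1⟩ := (Nat.dvd_prime_pow Nat.prime_three).mp hd
    have hH27 : Nat.card ↥H = 27 := by
      rw [e1] at h9 ⊢
      interval_cases k <;> first | rfl | norm_num at h9
    have hHK : H = K := Subgroup.eq_of_le_of_card_ge inf_le_left (by rw [hH27, hK27])
    exact (mem_cent.mp (hHK.symm ▸ hb : b ∈ H).2).symm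
  have hPcomm : ∀ a b : ↥(P : Subgroup ↥C), a * b = b * a := fun a b => Subtype.ext (Subtype.ext (by
    have := hKab _ (hmap _ ⟨a, a.2, rfl⟩) _ (hmap _ ⟨b, b.2, rfl⟩)
    have e1 : g * (((a : ↥C) : G) * ((b : ↥C) : G)) * g⁻¹ = g * (((b : ↥C) : G) * ((a : ↥C) : G)) * g⁻¹ := by
      calc g * (((a : ↥C) : G) * ((b : ↥C) : G)) * g⁻¹ =
          g * ((a : ↥C) : G) * g⁻¹ * (g * ((b : ↥C) : G) * g⁻¹) := by group
        _ = g * ((b : ↥C) : G) * g⁻¹ * (g * ((a : ↥C) : G) * g⁻¹) := this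
        _ = _ := by group
    exact mul_left_cancel (mul_right_cancel e1)))
  letI : CommGroup ↥(P : Subgroup ↥C) := { (inferInstance : Group ↥(P : Subgroup ↥C)) with mul_comm := hPcomm }
  let χ : ↥C →* ↥(P : Subgroup ↥C) := MonoidHom.transfer (MonoidHom.id ↥(P : Subgroup ↥C))
  have hidx : (P : Subgroup ↥C).index = 40 := by
    have := Subgroup.card_mul_index (P : Subgroup ↥C)
    rw [hP27, hcard] at this
    omega
  have hχd : χ ⟨d, mem_cent.mpr rfl⟩ = ⟨⟨d, mem_cent.mpr rfl⟩, hdP⟩ := by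
    have key : ∀ (k : ℕ) (g₀ : ↥C), g₀⁻¹ * (⟨d, mem_cent.mpr rfl⟩ : ↥C) ^ k * g₀ = (⟨d, mem_cent.mpr rfl⟩ : ↥C) ^ k :=
      fun k g₀ => by
        rw [mul_assoc, ← (Commute.pow_right (Subgroup.mem_center_iff.mp hdC g₀) k).eq, inv_mul_cancel_left]
    rw [show χ = MonoidHom.transfer (MonoidHom.id ↥(P : Subgroup ↥C)) from rfl,
      MonoidHom.transfer_eq_pow _ _ fun k g₀ _ => key k g₀]
    refine Subtype.ext (Subtype.ext ?_)
    show d ^ (P : Subgroup ↥C).index = d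
    rw [hidx, show 40 = 3 * 13 + 1 by norm_num, pow_succ, pow_mul, hd3, one_pow, one_mul]
  intro x hx l hl hxl
  have hxC : ∀ a ∈ l, a ∈ C := fun a ha => mem_cent.mpr (hl a ha).1
  obtain ⟨l', rfl⟩ : ∃ l' : List ↥C, l'.map Subtype.val = l :=
    ⟨l.attach.map fun a => ⟨a.1, hxC a.1 a.2⟩, by simp⟩
  have hker : χ l'.prod = 1 := by
    rw [map_list_prod]
    refine List.prod_eq_one fun b hb => ?_
    obtain ⟨a, ha, rfl⟩ := List.mem_map.mp hb
    have ha10 : a ^ 10 = 1 := Subtype.ext (hl a (List.mem_map_of_mem ha)).2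
    have h27 : (χ a) ^ 27 = 1 := hP27 ▸ pow_card_eq_one'
    have h10 : (χ a) ^ 10 = 1 := by rw [← map_pow, ha10, map_one]
    calc χ a = ((χ a) ^ 10) ^ 19 * χ a := by rw [h10, one_pow, one_mul]
      _ = ((χ a) ^ 27) ^ 7 * ((χ a) ^ 2) := by rw [← pow_mul, ← pow_mul, ← pow_succ, ← pow_add]
      _ = (χ a) ^ 2 := by rw [h27, one_pow, one_mul]
      _ = 1 := by
        have e3 : (χ a) ^ 2 = χ a * χ a := pow_two _
        have h1 : ((χ a) ^ 27) ^ 3 = 1 := by rw [h27, one_pow]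
        rw [← pow_mul, show 27 * 3 = 10 * 8 + 1 by norm_num, pow_add, pow_mul, h10, one_pow, one_mul, pow_one] at h1
        rw [h1, one_pow]
  obtain ⟨i, hi⟩ := Subgroup.mem_zpowers_iff.mp hx
  have hxe : l'.prod = (⟨d, mem_cent.mpr rfl⟩ : ↥C) ^ i := by
    refine Subtype.ext ?_
    rw [Subgroup.coe_zpow, Subgroup.val_list_prod]
    exact hxl.symm.trans hi.symm
  rw [hxe, map_zpow, hχd] at hker
  rw [← hi]
  have := congrArg (fun t : ↥(P : Subgroup ↥C) => ((t : ↥C) : G)) hker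
  simpa using this

/-- The relations in the centralizer of `d`. -/
theorem cent_relations {d f x y : G} (dz : d * z = z * d) (od : orderOf d = 3) (hfd : f * d = d * f)
    (hxd : x * d = d * x) (hf : f ^ 5 = 1) (hf1 : f ≠ 1) (hzf : z * f * z⁻¹ = f⁻¹) (hx : x * x = 1) (hx1 : x ≠ 1)
    (hxz : x * z = z * x) (hxne : x ≠ z) :
    (((x * f) ^ 5 = 1 ∧ (x * f ^ 2) ^ 3 = 1) ∨ (x * f) ^ 3 = 1) ∧
      ((x * f) ^ 5 = 1 ∧ (x * f ^ 2) ^ 3 = 1 → y * d = d * y → y * y = 1 → y ≠ 1 → y * z = z * y → y ≠ z → x ≠ y →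
        (y * f) ^ 5 = 1 → (y * f ^ 2) ^ 3 = 1 → (x * f * y * f ^ 2) ^ 2 = 1) := by
  obtain ⟨π, hπ⟩ := hs.exists_altSix h hone dz od
  have hd3 : d ^ 3 = 1 := od ▸ pow_orderOf_eq_one d
  have hcard : Nat.card ↥(Subgroup.centralizer ({d} : Set G)) = 1080 := by
    rw [hπ.card_cent, od, AltSix.xSix.card]
  have hzd : z * d = d * z := dz.symm
  have split : ∀ (l : List G), (∀ a ∈ l, a * d = d * a ∧ a ^ 10 = 1) → π l.prod = 1 → l.prod = 1 := fun l hl hp =>
    hs.exists_split h hone od hcard _ ((hπ.ker _ (Commute.list_prod_left l d fun a ha => (hl a ha).1)).mp hp) l hl rfl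
  have gx : x * d = d * x ∧ x ^ 10 = 1 :=
    ⟨hxd, by rw [show 10 = 2 * 5 by norm_num, pow_mul, pow_two, hx, one_pow]⟩
  have gf : f * d = d * f ∧ f ^ 10 = 1 := ⟨hfd, by rw [show 10 = 5 * 2 by norm_num, pow_mul, hf, one_pow]⟩
  have hfu : π z * π f * (π z * π f) = 1 := by
    have h1 : z * f * (z * f) = 1 := by
      rw [inv_eq_of_mul_eq_one_right h.zz] at hzf
      rw [← mul_assoc, hzf, inv_mul_cancel]
    have h2 := congrArg π h1
    rwa [hπ.mul _ _ (Commute.mul_left hzd hfd) (Commute.mul_left hzd hfd), hπ.mul _ _ hzd hfd, hπ.map_one'] at h2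
  have hf' : π f ≠ 1 := fun e1 => by
    obtain ⟨i, hi⟩ := Subgroup.mem_zpowers_iff.mp ((hπ.ker f hfd).mp e1)
    refine hf1 ?_
    have h3 : f ^ 3 = 1 := by
      rw [← hi, ← zpow_natCast, ← zpow_mul, mul_comm, zpow_mul, zpow_natCast, hd3, one_zpow]
    calc f = (f ^ 3) ^ 2 * (f ^ 5)⁻¹ := by group
      _ = 1 := by rw [h3, hf, one_pow, one_mul, inv_one]
  have hneq : ∀ {a b : G}, a * a = 1 → b * b = 1 → a * d = d * a → b * d = d * b → a ≠ b → π a ≠ π b :=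
    fun ha hb had hbd hne e1 => hne (hπ.invol_unique hd3 ha hb had hbd e1)
  have hz' := hπ.invol_map hd3 h.zz h.es.ne hzd
  have hf5 : π f ^ 5 = 1 := by rw [← hπ.map_pow hfd, hf, hπ.map_one']
  have hxd2 : (x * f) * d = d * (x * f) := Commute.mul_left hxd hfd
  obtain ⟨K1, K2⟩ := AltSix.six_kinds (π z) (π f) hz'.1 hz'.2 hf5 hf' hfu (π x)
    (hπ.invol_map hd3 hx hx1 hxd).1 (hπ.invol_map hd3 hx hx1 hxd).2
    (by rw [← hπ.mul _ _ hxd hzd, hxz, hπ.mul _ _ hzd hxd]) (hneq hx h.zz hxd hzd hxne)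
  have p5 : ∀ {a : G}, a * d = d * a ∧ a ^ 10 = 1 → ((π a * π f) ^ 5 = 1 ↔ (a * f) ^ 5 = 1) := fun {a} ga => by
    have had : (a * f) * d = d * (a * f) := Commute.mul_left ga.1 hfd
    rw [← hπ.mul _ _ ga.1 hfd, ← hπ.map_pow had]
    refine ⟨fun e1 => ?_, fun e1 => by rw [e1, hπ.map_one']⟩
    have e2 : (a * f) ^ 5 = [a, f, a, f, a, f, a, f, a, f].prod := by
      simp [pow_succ, mul_assoc]
    rw [e2] at e1 ⊢
    exact split _ (by simp [ga, gf]) e1
  have p3 : ∀ {a : G}, a * d = d * a ∧ a ^ 10 = 1 → ((π a * π f ^ 2) ^ 3 = 1 ↔ (a * f ^ 2) ^ 3 = 1) := fun {a} ga => by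
    have had : (a * f ^ 2) * d = d * (a * f ^ 2) := Commute.mul_left ga.1 (Commute.pow_left hfd 2)
    rw [← hπ.map_pow hfd, ← hπ.mul _ _ ga.1 (Commute.pow_left hfd 2), ← hπ.map_pow had]
    refine ⟨fun e1 => ?_, fun e1 => by rw [e1, hπ.map_one']⟩
    have e2 : (a * f ^ 2) ^ 3 = [a, f, f, a, f, f, a, f, f].prod := by simp [pow_succ, mul_assoc]
    rw [e2] at e1 ⊢
    exact split _ (by simp [ga, gf]) e1
  have p3' : (π x * π f) ^ 3 = 1 → (x * f) ^ 3 = 1 := fun e1 => by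
    rw [← hπ.mul _ _ hxd hfd, ← hπ.map_pow hxd2] at e1
    have e2 : (x * f) ^ 3 = [x, f, x, f, x, f].prod := by simp [pow_succ, mul_assoc]
    rw [e2] at e1 ⊢
    exact split _ (by simp [gx, gf]) e1
  refine ⟨K1.imp (fun k => ⟨(p5 gx).mp k.1, (p3 gx).mp k.2⟩) p3', fun k hyd hy hy1 hyz hyne hxy h5 h3 => ?_⟩
  have gy : y * d = d * y ∧ y ^ 10 = 1 :=
    ⟨hyd, by rw [show 10 = 2 * 5 by norm_num, pow_mul, pow_two, hy, one_pow]⟩
  have e1 := K2 ⟨(p5 gx).mpr k.1, (p3 gx).mpr k.2⟩ (π y) (hπ.invol_map hd3 hy hy1 hyd).1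
    (hπ.invol_map hd3 hy hy1 hyd).2 (by rw [← hπ.mul _ _ hyd hzd, hyz, hπ.mul _ _ hzd hyd])
    (hneq hy h.zz hyd hzd hyne) (hneq hx hy hxd hyd hxy) ((p5 gy).mpr h5) ((p3 gy).mpr h3)
  have hall : (x * f * y * f ^ 2) * d = d * (x * f * y * f ^ 2) :=
    Commute.mul_left (Commute.mul_left hxd2 hyd) (Commute.pow_left hfd 2)
  rw [← hπ.map_pow hfd, ← hπ.mul _ _ hxd hfd, ← hπ.mul _ _ hxd2 hyd,
    ← hπ.mul _ _ (Commute.mul_left hxd2 hyd) (Commute.pow_left hfd 2), ← hπ.map_pow hall] at e1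
  have e2 : (x * f * y * f ^ 2) ^ 2 = [x, f, y, f, f, x, f, y, f, f].prod := by simp [pow_succ, mul_assoc]
  rw [e2] at e1 ⊢
  exact split _ (by simp [gx, gy, gf]) e1

end SixType

end CfsgLib.J3Type
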