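import Cfsg.Agent.Lib.J3Type.SLSixteen

/-!
The group `SL₂(16):2` inside a group of `J₃` type, in a form where equations are decided by computation.
-/

set_option autoImplicit false
set_option maxRecDepth 100000

namespace CfsgLib.J3Type.UniqueModel

open CfsgLib.U34 CfsgLib.J3Type.Singer CfsgLib.J3Type.SLSixteen
open Cfsg.Agent.S2286 (xHom wEl dEl)

local notation "SL" => Matrix.SpecialLinearGroup (Fin 2) C

/-- The field automorphism `x ↦ x ^ 4`. -/
def frob : C →+* C where
  toFun x := x * x * (x * x)
  map_one' := by decide +kernel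
  map_mul' := by decide +kernel
  map_zero' := by decide +kernel
  map_add' := by decide +kernel

/-- The automorphism of the special linear group. -/
def twist : SL →* SL := Matrix.SpecialLinearGroup.map frob

/-- A matrix of determinant one given by codes. -/
def mat (a b c d : ℕ) : SL :=
  if h : C.mk' a * C.mk' d - C.mk' b * C.mk' c = 1 then
    ⟨!![C.mk' a, C.mk' b; C.mk' c, C.mk' d], by rw [Matrix.det_fin_two_of, h]⟩
  else 1

/-- The root element with coordinate `x`. -/
def rootEl (x : C) : SL := xHom (Multiplicative.ofAdd x)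

/-- The diagonal element. -/
def torus : SL := dEl (σ ^ 8) sigma_eight_ne

/-- The product in the extension by the automorphism. -/
def mul (p q : SL × Bool) : SL × Bool := (p.1 * (if p.2 then twist q.1 else q.1), p.2 != q.2)

/-- The three generators. -/
def gen : ℕ → SL × Bool
  | 0 => (mat 12 7 2 12, false)
  | 1 => (mat 1 1 0 1, false)
  | 2 => (mat 1 0 7 1, true)
  | _ => (1, false)

/-- The value of a word. -/
def ev : List ℕ → SL × Bool
  | [] => (1, false)
  | i :: l => mul (gen i) (ev l)

variable {G : Type*} [Group G]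

/-- A cyclic group on `A`, an inverter and an element inducing the field automorphism, with the homomorphism. -/
structure Lift (A : Subgroup G) (o a u w : G) (ψ : SL →* G) : Prop where
  cyc : Cyc A o a
  inj : Function.Injective ψ
  range : ψ.range = Subgroup.closure ({a, w, o} : Set G)
  root : ∀ x : C, ψ (rootEl x) = rootFun o a x
  weyl : ψ wEl = w
  tor : ψ torus = o
  four : a * s o a 1 = s o a 4
  uu : u * u = 1
  ua : u * a = a * u
  uw : w * u = u * w
  uo : u * o * u⁻¹ = o ^ 4

/-- The image of an element of the extension. -/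
def val (ψ : SL →* G) (u : G) (p : SL × Bool) : G := ψ p.1 * bif p.2 then u else 1

theorem twist_facts : twist (rootEl 1) = rootEl 1 ∧ twist wEl = wEl ∧ twist torus = torus ^ 4 := by decide +kernel

namespace Lift

variable {A : Subgroup G} {o a u w : G} {ψ : SL →* G} (L : Lift A o a u w ψ)
include L

theorem root_one' : ψ (rootEl 1) = a := (L.root 1).trans (rootFun_one L.cyc)

theorem twist_conj (g : SL) : u * ψ g * u⁻¹ = ψ (twist g) := by
  have hgen : Subgroup.closure ({rootEl 1, wEl, torus} : Set SL) = ⊤ := by
    refine Subgroup.map_injective L.inj ?_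
    rw [MonoidHom.map_closure, ← MonoidHom.range_eq_map, L.range, Set.image_insert_eq, Set.image_insert_eq,
      Set.image_singleton, L.root_one', L.weyl, L.tor]
  have hg : g ∈ Subgroup.closure ({rootEl 1, wEl, torus} : Set SL) := hgen ▸ Subgroup.mem_top g
  refine MonoidHom.eqOn_closure (f := (MulAut.conj u).toMonoidHom.comp ψ) (g := ψ.comp twist) ?_ hg
  obtain ⟨h1, h2, h3⟩ := twist_facts
  rintro x (rfl | rfl | rfl)
  · show u * ψ (rootEl 1) * u⁻¹ = ψ (twist (rootEl 1))
    rw [h1, L.root_one', L.ua, mul_inv_cancel_right]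
  · show u * ψ wEl * u⁻¹ = ψ (twist wEl)
    rw [h2, L.weyl, ← L.uw, mul_inv_cancel_right]
  · show u * ψ torus * u⁻¹ = ψ (twist torus)
    rw [h3, map_pow, L.tor, L.uo]

theorem val_mul (p q : SL × Bool) : val ψ u (mul p q) = val ψ u p * val ψ u q := by
  obtain ⟨g, b⟩ := p
  obtain ⟨h, c⟩ := q
  have hu : u⁻¹ = u := inv_eq_of_mul_eq_one_right L.uu
  cases b
  · show ψ (g * h) * (bif (false != c) then u else 1) = ψ g * 1 * (ψ h * bif c then u else 1)
    rw [map_mul, mul_one, Bool.false_bne, mul_assoc]
  · show ψ (g * twist h) * (bif (true != c) then u else 1) = ψ g * u * (ψ h * bif c then u else 1)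
    rw [map_mul, ← L.twist_conj, hu]
    cases c
    · simp [mul_assoc, L.uu]
    · simp [mul_assoc, L.uu]

theorem val_ev (τ : ℕ → G) (hτ : ∀ i, i < 3 → τ i = val ψ u (gen i)) :
    ∀ l : List ℕ, (∀ i ∈ l, i < 3) → (l.map τ).prod = val ψ u (ev l) := by
  intro l
  induction l with
  | nil => intro _; simp [ev, val]
  | cons i l ih =>
    intro h
    rw [List.map_cons, List.prod_cons, ih fun j hj => h j (List.mem_cons_of_mem _ hj),
      hτ i (h i List.mem_cons_self), ← L.val_mul]
    rfl

theorem val_gen_sq (i : ℕ) : val ψ u (gen i) * val ψ u (gen i) = 1 := by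
  have key : ∀ j : Fin 4, mul (gen j) (gen j) = (1, false) := by decide +kernel
  have hge : gen i = gen (min i 3) := by
    rcases i with _ | _ | _ | i
    · rfl
    · rfl
    · rfl
    · rw [show min (i + 3) 3 = 3 by omega]; rfl
  rw [← L.val_mul, hge, show min i 3 = ((⟨min i 3, by omega⟩ : Fin 4) : ℕ) from rfl, key, val, map_one]
  simp

end Lift

end CfsgLib.J3Type.UniqueModel
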