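import Cfsg.Agent.Lib.J3Type.Local

/-!
Groups of `J₃` type: the five pairs of noncentral involutions of `O₂(C(z))`.
-/

set_option autoImplicit false
set_option linter.unusedSectionVars false
set_option maxRecDepth 100000

namespace CfsgLib.J3Type

open Cfsg CfsgLargeExtra Equiv
open CfsgLib.HallJankoType (orb mem_cent conj_fix_iff ncard_orb orderOf_conj' conj_sq)

universe u

set_option synthInstance.maxHeartbeats 400000 in
set_option synthInstance.maxSize 2000 in
theorem five_points : ∀ σ : Perm (Fin 5), σ * σ = 1 → ∀ τ : Perm (Fin 5), τ * τ * τ = 1 →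
    τ * σ * (τ * σ * (τ * σ)) = 1 → (∃ i, σ i = i ∧ τ i = i) ∧
      (σ ≠ 1 → ∀ i, σ i = i → (τ * σ * τ⁻¹) i = i → ∀ j, (σ j = j ∧ (τ * σ * τ⁻¹) j = j → i = j) ∧
        ∀ k, j ≠ i → k ≠ i → k = j ∨ k = σ j ∨ k = (τ * σ * τ⁻¹) j ∨ k = σ ((τ * σ * τ⁻¹) j)) := by
  decide +kernel

variable {G : Type u} [Group G] [Finite G] {z : G} {Q : Subgroup G} {pm : G → Perm (Fin 5)}

namespace JT

variable (h : JT z Q pm)

/-- A pair of noncentral involutions. -/
def Pair (h : JT z Q pm) : Type u := {P : Set G // ∃ p ∈ h.S, P = {p, p * z}}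

include h

theorem S_mul_z {p : G} (hp : p ∈ h.S) : p * z ∈ h.S :=
  ⟨mul_mem hp.1 h.es.mem,
    by rw [show p * z * (p * z) = p * (z * p) * z by group, ← h.es.comm p hp.1, ← mul_assoc, hp.2.1, one_mul, h.zz],
    fun e => hp.2.2.2 (by rw [eq_inv_of_mul_eq_one_left e, inv_eq_of_mul_eq_one_right h.zz]),
    fun e => hp.2.2.1 (mul_eq_right.mp e)⟩

theorem pair_eq {p q : G} (hq : q = p ∨ q = p * z) : ({q, q * z} : Set G) = {p, p * z} := by
  rcases hq with rfl | rfl
  · rfl
  · rw [mul_assoc, h.zz, mul_one, Set.pair_comm]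

theorem card_Pair : Nat.card h.Pair = 5 := by
  classical
  haveI : Finite h.Pair := Subtype.finite
  choose rep hrep heq using fun P : h.Pair => P.2
  let f : h.Pair × Bool → ↥h.S := fun t => ⟨bif t.2 then rep t.1 * z else rep t.1, by
    cases t.2
    · exact hrep _
    · exact h.S_mul_z (hrep _)⟩
  have hbij : Function.Bijective f := by
    refine ⟨?_, ?_⟩
    · rintro ⟨P, b⟩ ⟨P', b'⟩ e
      have e' : (bif b then rep P * z else rep P) = (bif b' then rep P' * z else rep P') := congrArg Subtype.val e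
      have hPP : P = P' := by
        refine Subtype.ext ?_
        rw [heq P, heq P', ← h.pair_eq (p := rep P) (q := bif b then rep P * z else rep P) (by cases b <;> simp), e',
          h.pair_eq (p := rep P') (q := bif b' then rep P' * z else rep P') (by cases b' <;> simp)]
      subst hPP
      have hne : rep P * z ≠ rep P := fun e1 => h.es.ne (mul_eq_left.mp e1)
      cases b <;> cases b' <;> simp_all
    · rintro ⟨q, hq⟩
      let P : h.Pair := ⟨{q, q * z}, q, hq, rfl⟩
      have hm : q ∈ ({rep P, rep P * z} : Set G) := by rw [← heq P]; exact Or.inl rfl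
      rcases hm with e | e
      · exact ⟨(P, false), Subtype.ext e.symm⟩
      · exact ⟨(P, true), Subtype.ext (show rep P * z = q from (Set.mem_singleton_iff.mp e).symm)⟩
  have := Nat.card_eq_of_bijective f hbij
  rw [Nat.card_prod, Nat.card_coe_set_eq, h.ncard_S, Nat.card_eq_fintype_card (α := Bool), Fintype.card_bool] at this
  omega

theorem exists_action : ∃ (π : ↥(Subgroup.centralizer ({z} : Set G)) →* Perm (Fin 5)) (idx : G → Fin 5),
    (∀ i, ∃ p ∈ h.S, idx p = i) ∧ ∀ p ∈ h.S, ∀ q ∈ h.S, ∀ c,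
      π c (idx p) = idx q ↔ ((c : G) * p * (c : G)⁻¹ = q ∨ (c : G) * p * (c : G)⁻¹ = q * z) := by
  classical
  haveI : Finite h.Pair := Subtype.finite
  set C := Subgroup.centralizer ({z} : Set G)
  have him : ∀ (c : ↥C) (p : G), (fun y => (c : G) * y * (c : G)⁻¹) '' {p, p * z} =
      {(c : G) * p * (c : G)⁻¹, (c : G) * p * (c : G)⁻¹ * z} := fun c p => by
    rw [Set.image_pair]
    congr 1
    refine congrArg _ ?_
    calc (c : G) * (p * z) * (c : G)⁻¹ = (c : G) * p * ((c : G)⁻¹ * ((c : G) * z) * (c : G)⁻¹) := by group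
      _ = (c : G) * p * ((c : G)⁻¹ * (z * (c : G)) * (c : G)⁻¹) := by rw [mem_cent.mp c.2]
      _ = (c : G) * p * (c : G)⁻¹ * z := by group
  letI : MulAction ↥C h.Pair :=
    { smul := fun c P => ⟨(fun y => (c : G) * y * (c : G)⁻¹) '' P.1, by
        obtain ⟨p, hp, e⟩ := P.2
        exact ⟨_, h.S_conj (mem_cent.mp c.2) hp, by rw [e, him]⟩⟩
      one_smul := fun P => Subtype.ext (show (fun y => ((1 : ↥C) : G) * y * ((1 : ↥C) : G)⁻¹) '' P.1 = P.1 by simp)
      mul_smul := fun c d P => Subtype.ext (show (fun y => ((c * d : ↥C) : G) * y * ((c * d : ↥C) : G)⁻¹) '' P.1 =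
          (fun y => (c : G) * y * (c : G)⁻¹) '' ((fun y => (d : G) * y * (d : G)⁻¹) '' P.1) by
        rw [Set.image_image]; simp [mul_assoc]) }
  have e : h.Pair ≃ Fin 5 := Finite.equivFinOfCardEq h.card_Pair
  let P : ∀ p, p ∈ h.S → h.Pair := fun p hp => ⟨{p, p * z}, p, hp, rfl⟩
  let idx : G → Fin 5 := fun p => if hp : p ∈ h.S then e (P p hp) else 0
  refine ⟨e.permCongrHom.toMonoidHom.comp (MulAction.toPermHom ↥C h.Pair), idx, fun i => ?_, fun p hp q hq c => ?_⟩
  · obtain ⟨p, hp, ep⟩ := (e.symm i).2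
    refine ⟨p, hp, ?_⟩
    rw [show idx p = e (P p hp) from dif_pos hp, show P p hp = e.symm i from Subtype.ext ep.symm, e.apply_symm_apply]
  rw [show idx p = e (P p hp) from dif_pos hp, show idx q = e (P q hq) from dif_pos hq]
  show e (c • e.symm (e (P p hp))) = e (P q hq) ↔ _
  rw [e.symm_apply_apply, e.apply_eq_iff_eq]
  constructor
  · intro hc
    have hc' : (fun y => (c : G) * y * (c : G)⁻¹) '' {p, p * z} = {q, q * z} := congrArg Subtype.val hc
    rw [him] at hc'
    have hm : (c : G) * p * (c : G)⁻¹ ∈ ({q, q * z} : Set G) := hc' ▸ Or.inl rfl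
    exact hm
  · intro hc
    refine Subtype.ext ?_
    show (fun y => (c : G) * y * (c : G)⁻¹) '' {p, p * z} = {q, q * z}
    rw [him, h.pair_eq hc]

/-- An element of order five of `C(z)` moves every pair. -/
theorem five_moves {g p : G} (hg : g * z = z * g) (ho : g ^ 5 = 1) (h1 : g ≠ 1) (hp : p ∈ h.S) :
    ¬ (g * p * g⁻¹ = p ∨ g * p * g⁻¹ = p * z) := by
  haveI : Fact (Nat.Prime 5) := ⟨Nat.prime_five⟩
  have ho' : orderOf g = 5 := orderOf_eq_prime ho h1
  have hQ : g ∉ Q := fun hm => by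
    have := Subgroup.orderOf_dvd_natCard Q hm
    rw [ho', h.card] at this
    norm_num at this
  intro hc
  have := h.five_shift hg ho' hQ hp (i := 1) (by rwa [zpow_one])
  rw [zpow_one] at this
  exact h1 this

set_option maxHeartbeats 1000000 in
/-- Only the centre of `Q` commutes with all noncentral involutions of `Q`. -/
theorem central_of_comm_S {r : G} (hr : r ∈ Q) (hc : ∀ p ∈ h.S, r * p = p * r) : r = 1 ∨ r = z := by
  classical
  by_contra hne
  push Not at hne
  have hrS : r ∉ h.S := fun hrS => by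
    obtain ⟨f, hf, ho, hfQ⟩ := h.exists_five
    have hf5 : f ^ 5 = 1 := ho ▸ pow_orderOf_eq_one f
    have hf1 : f ≠ 1 := fun e => by rw [e, orderOf_one] at ho; omega
    refine h.five_moves hf hf5 hf1 hrS ?_
    have hS := h.S_conj hf hrS
    rcases h.ea hrS hS.1 hS.2.1 (hc _ hS).symm with e | e | e | e
    · exact absurd e hS.2.2.1
    · exact absurd e hS.2.2.2
    · exact Or.inl e
    · exact Or.inr (by rw [e, h.es.comm r hr])
  have hrr : r * r = z := (h.es.sq r hr).resolve_left fun e => hrS ⟨hr, e, hne.1, hne.2⟩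
  obtain ⟨x, hx⟩ : h.S.Nonempty := Set.nonempty_of_ncard_ne_zero (by rw [h.ncard_S]; norm_num)
  obtain ⟨f, hf, ho, -⟩ := h.exists_five
  have hf5 : f ^ 5 = 1 := ho ▸ pow_orderOf_eq_one f
  have hf1 : f ≠ 1 := fun e => by rw [e, orderOf_one] at ho; omega
  set y := f * x * f⁻¹
  have hy : y ∈ h.S := h.S_conj hf hx
  have hyx := h.five_moves hf hf5 hf1 hx
  push Not at hyx
  set R := Q ⊓ Subgroup.centralizer ({r} : Set G)
  have hsub : h.S ∪ {1, z, r, r * z, r * x, r * x * z, r * y} ⊆ (R : Set G) := by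
    have hxm : x ∈ R := ⟨hx.1, mem_cent.mpr (hc x hx).symm⟩
    have hym : y ∈ R := ⟨hy.1, mem_cent.mpr (hc y hy).symm⟩
    have hrm : r ∈ R := ⟨hr, mem_cent.mpr rfl⟩
    have hzm : z ∈ R := ⟨h.es.mem, mem_cent.mpr (h.es.comm r hr).symm⟩
    rintro v (hv | rfl | rfl | rfl | rfl | rfl | rfl | rfl)
    · exact ⟨hv.1, mem_cent.mpr (hc v hv).symm⟩
    exacts [one_mem _, hzm, hrm, mul_mem hrm hzm, mul_mem hrm hxm, mul_mem (mul_mem hrm hxm) hzm, mul_mem hrm hym]
  have sq4 : ∀ p ∈ h.S, r * p * (r * p) = z := fun p hp => by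
    rw [show r * p * (r * p) = r * (p * r) * p by group, ← hc p hp, ← mul_assoc, hrr, mul_assoc, hp.2.1, mul_one]
  have hzr : z * r = r * z := (h.es.comm r hr).symm
  have hxz : x * z = z * x := h.es.comm x hx.1
  have hnS : ∀ v ∈ ({1, z, r, r * z, r * x, r * x * z, r * y} : Set G), v ∉ h.S := by
    rintro v (rfl | rfl | rfl | rfl | rfl | rfl | rfl) ⟨-, hv, h1, h2⟩
    · exact h1 rfl
    · exact h2 rfl
    · exact h.es.ne (hrr.symm.trans hv)
    · rw [show r * z * (r * z) = r * (z * r) * z by group, hzr, ← mul_assoc, hrr, mul_assoc, h.zz, mul_one] at hv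
      exact h.es.ne hv
    · exact h.es.ne ((sq4 x hx).symm.trans hv)
    · have e : r * x * z * (r * x * z) = r * x * (r * x) * (z * z) := by
        have hc2 : Commute z (r * x) := Commute.mul_right hzr hxz.symm
        calc r * x * z * (r * x * z) = r * x * (z * (r * x)) * z := by group
          _ = r * x * (r * x * z) * z := by rw [hc2.eq]
          _ = _ := by group
      rw [e, h.zz, mul_one, sq4 x hx] at hv
      exact h.es.ne hv
    · exact h.es.ne ((sq4 y hy).symm.trans hv)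
  have hseven : ({1, z, r, r * z, r * x, r * x * z, r * y} : Set G).ncard = 7 := by
    have hrz : r * z ≠ 1 := fun e => hne.2 (by rw [eq_inv_of_mul_eq_one_left e, inv_eq_of_mul_eq_one_right h.zz])
    have hrzz : r * z ≠ z := fun e => hne.1 (mul_eq_right.mp e)
    have hrzr : r * z ≠ r := fun e => h.es.ne (mul_eq_left.mp e)
    have hy1 : ∀ p, r * p = 1 → p = r⁻¹ := fun p e => eq_inv_of_mul_eq_one_right e
    have hri : r⁻¹ = r * z := inv_eq_of_mul_eq_one_right (by rw [← mul_assoc, hrr, h.zz])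
    have hpne : ∀ p ∈ h.S, p ≠ r * z ∧ p ≠ r := fun p hp =>
      ⟨fun e => hnS (r * z) (by simp) (e ▸ hp), fun e => hnS r (by simp) (e ▸ hp)⟩
    have hxzS := h.S_mul_z hx
    have k : ∀ p ∈ h.S, r * p ≠ 1 ∧ r * p ≠ z ∧ r * p ≠ r ∧ r * p ≠ r * z := fun p hp =>
      ⟨fun e => (hpne p hp).1 ((hy1 p e).trans hri), fun e => (hpne p hp).2 (mul_left_cancel (e.trans hrr.symm)),
        fun e => hp.2.2.1 (mul_eq_left.mp e), fun e => hp.2.2.2 (mul_left_cancel e)⟩
    obtain ⟨a1, a2, a3, a4⟩ := k x hx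
    obtain ⟨b1, b2, b3, b4⟩ := k _ hxzS
    obtain ⟨c1, c2, c3, c4⟩ := k y hy
    rw [mul_assoc r x z]
    rw [Set.ncard_insert_of_notMem, Set.ncard_insert_of_notMem, Set.ncard_insert_of_notMem,
      Set.ncard_insert_of_notMem, Set.ncard_insert_of_notMem, Set.ncard_pair]
    · exact fun e => hyx.2 (mul_left_cancel e).symm
    · rintro (e | e)
      · exact h.es.ne (mul_eq_left.mp (mul_left_cancel e).symm)
      · exact hyx.1 (mul_left_cancel e).symm
    · rintro (e | e | e)
      exacts [a4 e.symm, b4 e.symm, c4 e.symm]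
    · rintro (e | e | e | e)
      exacts [hrzr e.symm, a3 e.symm, b3 e.symm, c3 e.symm]
    · rintro (e | e | e | e | e)
      exacts [hne.2 e.symm, hrzz e.symm, a2 e.symm, b2 e.symm, c2 e.symm]
    · rintro (e | e | e | e | e | e)
      exacts [h.es.ne e.symm, hne.1 e.symm, hrz e.symm, a1 e.symm, b1 e.symm, c1 e.symm]
  have hle := Set.ncard_le_ncard hsub (Set.toFinite _)
  rw [Set.ncard_union_eq (Set.disjoint_right.mpr hnS) (Set.toFinite _) (Set.toFinite _), h.ncard_S, hseven,
    ← Nat.card_coe_set_eq] at hle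
  have hdvd : Nat.card ↥R ∣ 32 := h.card ▸ Subgroup.card_dvd_of_le inf_le_left
  have h32 : Nat.card ↥R = 32 := by
    obtain ⟨k, hk, e⟩ := (Nat.dvd_prime_pow Nat.prime_two).mp (show Nat.card ↥R ∣ 2 ^ 5 from hdvd)
    have hle' : 17 ≤ Nat.card ↥R := hle
    rw [e] at hle' ⊢
    interval_cases k <;> first | rfl | norm_num at hle'
  have hRQ : R = Q := Subgroup.eq_of_le_of_card_ge inf_le_left (by rw [h32, h.card])
  rcases h.es.cen r fun q hq => (mem_cent.mp (hRQ ▸ hq : q ∈ R).2).symm with e | e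
  · exact hne.1 e
  · exact hne.2 e

end JT

end CfsgLib.J3Type
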