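import Cfsg.Agent.Lib.J3Type.UniqueAct
import Cfsg.Agent.Lib.J3Type.UniqueCent
import Cfsg.Agent.Lib.CosetEnum.J3U.Data

/-!
Groups of `J₃` type: the relators of the presentation hold.
-/

set_option autoImplicit false
set_option linter.unusedSectionVars false
set_option maxRecDepth 100000

namespace CfsgLib.J3Type

open Cfsg CfsgLargeExtra Equiv CfsgLib.U34
open CfsgLib.HallJankoType (orb mem_cent conj_fix_iff ncard_orb orderOf_conj' conj_sq)
open Singer (Cyc s)
open UniqueModel (rootEl torus mat twist val mul frob gen ev)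
open Cfsg.Agent.S2286 (wEl)

universe u

local notation "SL" => Matrix.SpecialLinearGroup (Fin 2) C

/-- The segments between the occurrences of `x` in the relators. -/
def segs : List (List ℕ) :=
  [[1, 2, 1, 2, 1, 2, 1, 2, 1, 2], [1],
   [0, 1, 0, 1, 2, 1, 2, 1, 0, 1, 0, 1, 0], [0, 1, 0, 1, 0, 1, 2, 1, 2, 1, 0, 1, 0],
   [0, 2, 1, 0, 2], [2, 1, 2, 1, 2, 1, 0, 1, 0, 1, 0, 1, 2, 1, 2, 1, 2],
   [2], [2, 1, 2, 1, 2, 1, 2, 1, 2, 1, 2],
   [0, 1, 2, 1, 0, 1, 2, 1, 0, 1, 2, 1, 2, 1],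
   [2, 1, 0, 1, 0, 1, 0, 1, 0, 1, 2, 1, 0, 1, 2, 1, 0, 1, 0, 1, 2, 1],
   [0, 1, 0, 1, 0, 1, 0, 1, 0, 1, 0, 1, 0], [1, 0, 2, 1, 2, 1, 0, 1, 0, 1, 0, 1, 2, 1, 0, 2, 1]]

/-- The values of the segments. -/
def segVals : List (SL × Bool) :=
  [(1, true), (rootEl 1, false), (torus ^ 5, false), (torus ^ 10, false),
   (rootEl (C.mk' 8), false), (rootEl (C.mk' 14), false),
   (mat 1 0 7 1, true), (mat 1 0 7 1, false), (torus ^ 6, false), (torus ^ 12, false),
   (torus ^ 6 * wEl, false), (wEl * torus ^ 12, false)]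

theorem segs_ev : segs.map ev = segVals ∧ (segs.all fun l => l.all fun i => decide (i < 3)) = true := by
  decide +kernel

theorem rels_eq : CfsgLib.CosetEnum.J3U.rels =
    [[0, 0], [1, 1], [2, 2], [3, 3]] ++
      [(List.replicate 17 [0, 1]).flatten, [0, 2, 0, 2], (List.replicate 10 [1, 2]).flatten,
        [0, 1, 0, 1, 0, 2, 1, 0, 1, 0, 2, 1, 2, 1, 2]] ++
      ([[0, 0], [1, 1], [2, 3], [4, 5], [6, 6, 6, 7], List.replicate 5 8, List.replicate 3 9, [10, 11, 10, 11]].map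
        fun l => (l.map fun j => 3 :: segs.getD j []).flatten) := by
  decide +kernel

theorem small_rels : ∀ r ∈ ([(List.replicate 17 [0, 1]).flatten, [0, 2, 0, 2], (List.replicate 10 [1, 2]).flatten,
    [0, 1, 0, 1, 0, 2, 1, 0, 1, 0, 2, 1, 2, 1, 2]] : List (List ℕ)), ev r = (1, false) ∧ ∀ i ∈ r, i < 3 := by
  decide +kernel

theorem act_values : actX (C.mk' 8) = C.mk' 14 ∧
    (let g := fun v => actX (SLSixteen.σ ^ 6 * v); g (g (g 1)) ≠ 1) := by decide +kernel

theorem torus_six_mul : ∀ v : C, torus ^ 6 * rootEl v * (torus ^ 6)⁻¹ = rootEl (SLSixteen.σ ^ 6 * v) := by decide +kernel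

theorem model_more : mat 1 0 7 1 * twist (mat 1 0 7 1) = 1 ∧ rootEl 1 * wEl * torus ^ 5 ≠ 1 := by decide +kernel

variable {G : Type u} [Group G] [Finite G] {z : G} {Q : Subgroup G} {pm : G → Perm (Fin 5)}
  {A : Subgroup G} {o a u w : G} {ψ : SL →* G}

/-- The four generators. -/
def genTau (ψ : SL →* G) (u x : G) : ℕ → G
  | 0 => val ψ u (gen 0)
  | 1 => val ψ u (gen 1)
  | 2 => val ψ u (gen 2)
  | 3 => x
  | _ => 1

theorem genTau_small (ψ : SL →* G) (u x : G) : ∀ i, i < 3 → genTau ψ u x i = val ψ u (gen i) := by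
  intro i hi
  interval_cases i <;> rfl

theorem UniqueModel.Lift.genTau_sq (L : UniqueModel.Lift A o a u w ψ) {x : G} (hx : x * x = 1) (i : ℕ) :
    genTau ψ u x i * genTau ψ u x i = 1 := by
  rcases i with _ | _ | _ | _ | i
  · exact L.val_gen_sq 0
  · exact L.val_gen_sq 1
  · exact L.val_gen_sq 2
  · exact hx
  · exact one_mul 1

theorem UniqueModel.Lift.prod_block (L : UniqueModel.Lift A o a u w ψ) (x : G) (l : List ℕ) (hl : ∀ j ∈ l, j < 12) :
    (((l.map fun j => 3 :: segs.getD j []).flatten).map (genTau ψ u x)).prod =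
      (l.map fun j => x * val ψ u (segVals.getD j (1, false))).prod := by
  induction l with
  | nil => rfl
  | cons j l ih =>
    have hj : j < segs.length := hl j List.mem_cons_self
    have hj' : j < segVals.length := hl j List.mem_cons_self
    rw [List.map_cons, List.flatten_cons, List.map_append, List.prod_append,
      ih fun k hk => hl k (List.mem_cons_of_mem _ hk), List.map_cons, List.prod_cons, List.map_cons, List.prod_cons]
    congr 2
    rw [List.getD_eq_getElem _ _ hj, List.getD_eq_getElem _ _ hj',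
      L.val_ev _ (genTau_small ψ u x) _ fun i hi => of_decide_eq_true
        (List.all_eq_true.mp (List.all_eq_true.mp segs_ev.2 _ (List.getElem_mem hj)) i hi)]
    congr 1
    rw [show segVals[j] = (segs.map ev)[j]'(by simpa using hj) by simp only [segs_ev.1], List.getElem_map]

/-- A group of `J₃` type satisfies the relators. -/
theorem exists_relators (h : JT z Q pm) (hone : OneClass G) (hs : SixType G) (L : UniqueModel.Lift A o a u w ψ)
    (S : Sixteen A) (hu : u ∉ A) :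
    ∃ x : G, x * x = 1 ∧ ∀ r ∈ CfsgLib.CosetEnum.J3U.rels, (r.map (genTau ψ u x)).prod = 1 := by
  have hu1 : u ≠ 1 := fun e1 => hu (e1 ▸ one_mem _)
  obtain ⟨Qu, pu, hU⟩ := h.atInv hone L.uu hu1
  obtain ⟨x, hx, hxa, hxe, hact⟩ := L.exists_x hU S hu
  have hxx : x * x = 1 := hx.2.1
  have hxi : x⁻¹ = x := inv_eq_of_mul_eq_one_right hxx
  have hui := L.hui
  have hxu : x * u = u * x := hU.es.comm x hx.1
  refine ⟨x, hxx, ?_⟩
  obtain ⟨m1, m2, m3, m4, m5, m6, m7, m8, m9, m10⟩ := model_facts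
  have v5 : ∀ k : ℕ, ψ (torus ^ k) = o ^ k := fun k => by rw [map_pow, L.tor]
  have hau : a * u = u * a := L.ua.symm
  have hwu : w * u = u * w := L.uw
  have hww : w * w = 1 := by
    have key : wEl * wEl = (1 : SL) := by decide +kernel
    rw [← L.weyl, ← map_mul, key, map_one]
  have hwi : w⁻¹ = w := inv_eq_of_mul_eq_one_right hww
  set e := o ^ 5 with he
  set f := o ^ 6 with hf
  have oo : ∀ k l : ℕ, (o ^ k) * (o ^ l) = o ^ l * o ^ k := fun k l => (Commute.pow_pow_self o k l).eq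
  have ord : ∀ k, 0 < k → k < 15 → o ^ k ≠ 1 := fun k hk hk' e1 => by
    have := L.cyc.inj k 0 hk' (by norm_num) (by simp [s, e1])
    omega
  haveI : Fact (Nat.Prime 3) := ⟨Nat.prime_three⟩
  have oe : orderOf e = 3 := orderOf_eq_prime L.e_three (ord 5 (by norm_num) (by norm_num))
  have hf5 : f ^ 5 = 1 := by
    rw [hf, ← pow_mul, show 6 * 5 = 15 * 2 by norm_num, pow_mul, L.cyc.pow, one_pow]
  have hf1 : f ≠ 1 := ord 6 (by norm_num) (by norm_num)
  have hufu : u * f * u⁻¹ = f⁻¹ := by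
    rw [hf, ← conj_pow, L.uo, ← pow_mul, eq_comm]
    refine inv_eq_of_mul_eq_one_right ?_
    rw [← pow_add, show 6 + 4 * 6 = 15 * 2 by norm_num, pow_mul, L.cyc.pow, one_pow]
  have hfe : f * e = e * f := oo 6 5
  have hwo : ∀ k : ℕ, w * o ^ k * w⁻¹ = (o ^ k)⁻¹ := fun k => by
    have key : wEl * torus * wEl⁻¹ = torus⁻¹ := by decide +kernel
    rw [← conj_pow, ← L.weyl, ← L.tor, ← map_inv, ← map_mul, ← map_mul, key, map_inv, L.tor, inv_pow]
  obtain ⟨K1, K2⟩ := hs.cent_relations hU hone (d := e) (f := f) (x := x)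
    (y := w * x * w⁻¹) L.e_comm oe hfe hxe.symm hf5 hf1 hufu hxx hx.2.2.1 hxu hx.2.2.2
  have hxf : (x * f) ^ 5 = 1 ∧ (x * f ^ 2) ^ 3 = 1 := by
    refine K1.resolve_right fun e3 => act_values.2 (L.root_inj ?_)
    have step : ∀ v : C, (x * f) * ψ (rootEl v) * (x * f)⁻¹ = ψ (rootEl (actX (SLSixteen.σ ^ 6 * v))) := fun v => by
      rw [mul_inv_rev, hxi, hf, ← v5,
        show x * ψ (torus ^ 6) * ψ (rootEl v) * ((ψ (torus ^ 6))⁻¹ * x) =
          x * (ψ (torus ^ 6) * ψ (rootEl v) * (ψ (torus ^ 6))⁻¹) * x by group,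
        ← map_inv, ← map_mul, ← map_mul, torus_six_mul, hact]
    rw [← step, ← step, ← step]
    calc x * f * (x * f * (x * f * ψ (rootEl 1) * (x * f)⁻¹) * (x * f)⁻¹) * (x * f)⁻¹
        = (x * f) ^ 3 * ψ (rootEl 1) * ((x * f) ^ 3)⁻¹ := by simp only [pow_three, mul_inv_rev, mul_assoc]
      _ = ψ (rootEl 1) := by rw [e3, one_mul, inv_one, mul_one]
  set y := w * x * w⁻¹ with hy
  have hyy : y * y = 1 := by rw [hy, show w * x * w⁻¹ * (w * x * w⁻¹) = w * (x * x) * w⁻¹ by group, hxx, mul_one, mul_inv_cancel]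
  have hyu : y * u = u * y := (Commute.mul_left (Commute.mul_left hwu hxu) (Commute.inv_left hwu)).eq
  have hye : e * y = y * e := by
    have h1 : e = (w * e * w⁻¹)⁻¹ := by rw [he, hwo, inv_inv]
    rw [h1]
    refine (Commute.inv_left ?_).eq
    exact conj_comm hxe
  have hyne : y ≠ u := fun e1 => hx.2.2.2 (by
    calc x = w⁻¹ * y * w := by rw [hy]; group
      _ = u := by rw [e1, mul_assoc, ← hwu, inv_mul_cancel_left])
  have hy1 : y ≠ 1 := fun e1 => hx.2.2.1 (conj_eq_one_iff.mp e1)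
  have hxy : x ≠ y := fun e1 => by
    have hwx : w * x * w⁻¹ = x := e1.symm
    refine hU.five_moves (g := a * w * e) ?_ ?_ ?_ hx (Or.inl ?_)
    · exact Commute.mul_left (Commute.mul_left hau hwu) L.e_comm
    · rw [he, ← L.root_one', ← L.weyl, ← v5, ← map_mul, ← map_mul, ← map_pow, m9, map_one]
    · rw [he, ← L.root_one', ← L.weyl, ← v5, ← map_mul, ← map_mul]
      exact fun e2 => model_more.2 (L.inj (by rw [e2, map_one]))
    · calc a * w * e * x * (a * w * e)⁻¹ = a * (w * (e * x * e⁻¹) * w⁻¹) * a⁻¹ := by group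
        _ = x := by rw [conj_fix_iff.mpr hxe, hwx, conj_fix_iff.mpr hxa]
  have conjy : ∀ k n : ℕ, (x * (f ^ k)⁻¹) ^ n = 1 → (y * f ^ k) ^ n = 1 := fun k n e1 => by
    have hfk : f ^ k = w * (f ^ k)⁻¹ * w⁻¹ := by
      rw [hf, ← pow_mul, show w * (o ^ (6 * k))⁻¹ * w⁻¹ = (w * o ^ (6 * k) * w⁻¹)⁻¹ by group, hwo, inv_inv]
    rw [hfk, hy, show w * x * w⁻¹ * (w * (f ^ k)⁻¹ * w⁻¹) = w * (x * (f ^ k)⁻¹) * w⁻¹ by group, conj_pow, e1,
      mul_one, mul_inv_cancel]
  have flipu : ∀ k n : ℕ, (x * f ^ k) ^ n = 1 → (x * (f ^ k)⁻¹) ^ n = 1 := fun k n e1 => by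
    have hfk : (f ^ k)⁻¹ = u * f ^ k * u⁻¹ := by rw [← inv_pow, ← hufu, conj_pow]
    rw [hfk, show x * (u * f ^ k * u⁻¹) = u * (u⁻¹ * x * u * f ^ k) * u⁻¹ by group,
      show u⁻¹ * x * u = x by rw [mul_assoc, hxu, inv_mul_cancel_left], conj_pow, e1, mul_one, mul_inv_cancel]
  have hr16 := K2 hxf hye.symm hyy hy1 hyu hyne hxy
    (by simpa using conjy 1 5 (flipu 1 5 (by simpa using hxf.1))) (conjy 2 3 (flipu 2 3 hxf.2))
  have hsq : x * val ψ u (mat 1 0 7 1, true) * (x * val ψ u (mat 1 0 7 1, true)) *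
      (x * val ψ u (mat 1 0 7 1, true) * (x * val ψ u (mat 1 0 7 1, false))) = 1 := by
    set t := val ψ u (mat 1 0 7 1, true) with ht
    have hlast : val ψ u (mat 1 0 7 1, false) = t * u := by
      rw [ht]
      show ψ _ * 1 = ψ _ * u * u
      rw [mul_assoc, L.uu]
    have htt : t * t = 1 := by
      rw [ht, ← L.val_mul, show mul (mat 1 0 7 1, true) (mat 1 0 7 1, true) = (1, false) by
        simp only [UniqueModel.mul, ↓reduceIte, model_more.1, bne_self_eq_false]]
      simp [val]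
    have hti : t⁻¹ = t := inv_eq_of_mul_eq_one_right htt
    have hm : ψ (mat 1 0 7 1) * u = u * ψ (mat 1 0 7 1) := ((L.u_comm_iff _).mpr m8).symm
    have htu : t * u = u * t := (Commute.mul_left (show Commute (ψ (mat 1 0 7 1)) u from hm) (Commute.refl u)).eq
    set y' := t * x * t⁻¹ with hy'
    have hy'S : y' ∈ hU.S := hU.S_conj htu hx
    have hne : ¬ (y' = x ∨ y' = x * u) := fun hc => by
      have hm' : ψ (mat 1 0 7 1) * x * (ψ (mat 1 0 7 1))⁻¹ = y' := by
        have hxui : u * x * u⁻¹ = x := conj_fix_iff.mpr hxu.symm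
        rw [hy', show t = ψ (mat 1 0 7 1) * u from rfl]
        calc ψ (mat 1 0 7 1) * x * (ψ (mat 1 0 7 1))⁻¹ = ψ (mat 1 0 7 1) * (u * x * u⁻¹) * (ψ (mat 1 0 7 1))⁻¹ := by
              rw [hxui]
          _ = _ := by group
      refine hU.five_moves (g := a * ψ (mat 1 0 7 1)) (Commute.mul_left hau hm) ?_ ?_ hx ?_
      · rw [← L.root_one', ← map_mul, ← map_pow, m5, map_one]
      · rw [← L.root_one', ← map_mul]
        exact fun e2 => m6 (L.inj (by rw [e2, map_one]))
      · rw [show a * ψ (mat 1 0 7 1) * x * (a * ψ (mat 1 0 7 1))⁻¹ =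
          a * (ψ (mat 1 0 7 1) * x * (ψ (mat 1 0 7 1))⁻¹) * a⁻¹ by group, hm']
        rcases hc with e1 | e1 <;> rw [e1]
        · exact Or.inl (conj_fix_iff.mpr hxa)
        · exact Or.inr (by rw [show a * (x * u) * a⁻¹ = a * x * a⁻¹ * (a * u * a⁻¹) by group,
            conj_fix_iff.mpr hxa, conj_fix_iff.mpr hau])
    rcases hU.es.conj_cases hy'S.1 hx.1 with e1 | e1
    · exfalso
      rcases hU.ea hx hy'S.1 hy'S.2.1 (conj_fix_iff.mp e1) with e2 | e2 | e2 | e2
      · exact hy'S.2.2.1 e2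
      · exact hy'S.2.2.2 e2
      · exact hne (Or.inl e2)
      · exact hne (Or.inr (by rw [e2, hxu]))
    · rw [inv_eq_of_mul_eq_one_right hy'S.2.1] at e1
      rw [hlast]
      calc x * t * (x * t) * (x * t * (x * (t * u))) = x * (t * x * t) * x * (t * x * t) * u := by group
        _ = x * y' * x * y' * u := by rw [hy', hti]
        _ = x * (y' * x * y') * u := by group
        _ = (x * x) * (u * u) := by rw [e1]; group
        _ = 1 := by rw [hxx, L.uu, mul_one]
  intro r hr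
  rw [rels_eq, List.mem_append, List.mem_append] at hr
  rcases hr with (hr | hr) | hr
  · have sq := L.genTau_sq hxx
    fin_cases hr <;> simp [sq]
  · obtain ⟨e1, e2⟩ := small_rels r hr
    rw [L.val_ev _ (genTau_small ψ u x) r e2, e1]
    simp [val]
  · obtain ⟨l, hl, rfl⟩ := List.mem_map.mp hr
    have hlt : ∀ l ∈ ([[0, 0], [1, 1], [2, 3], [4, 5], [6, 6, 6, 7], List.replicate 5 8, List.replicate 3 9,
        [10, 11, 10, 11]] : List (List ℕ)), ∀ j ∈ l, j < 12 := by decide +kernel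
    rw [L.prod_block x l (hlt l hl)]
    fin_cases hl
    · show x * (ψ 1 * u) * (x * (ψ 1 * u) * 1) = 1
      rw [map_one, one_mul, mul_one, hxu, show u * x * (u * x) = u * (x * u) * x by group, hxu, ← mul_assoc, L.uu,
        one_mul, hxx]
    · show x * (ψ (rootEl 1) * 1) * (x * (ψ (rootEl 1) * 1) * 1) = 1
      rw [L.root_one', mul_one, mul_one, show x * a * (x * a) = x * (a * x) * a by group, hxa, ← mul_assoc, hxx,
        one_mul, L.cyc.sq a L.cyc.mem]
    · show x * (ψ (torus ^ 5) * 1) * (x * (ψ (torus ^ 10) * 1) * 1) = 1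
      rw [v5, v5, mul_one, mul_one, mul_one, show x * o ^ 5 * (x * o ^ 10) = x * (o ^ 5 * x) * o ^ 10 by group,
        show o ^ 5 * x = x * o ^ 5 from hxe, ← mul_assoc, hxx, one_mul, ← pow_add, L.cyc.pow]
    · show x * (ψ (rootEl (C.mk' 8)) * 1) * (x * (ψ (rootEl (C.mk' 14)) * 1) * 1) = 1
      rw [mul_one, mul_one, mul_one, ← mul_assoc, hact, act_values.1, L.cyc.sq _ (L.root_mem _)]
    · show x * val ψ u (mat 1 0 7 1, true) * (x * val ψ u (mat 1 0 7 1, true) *
        (x * val ψ u (mat 1 0 7 1, true) * (x * val ψ u (mat 1 0 7 1, false) * 1))) = 1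
      rw [mul_one, ← mul_assoc]
      exact hsq
    · show (List.replicate 5 8 |>.map fun j => x * val ψ u (segVals.getD j (1, false))).prod = 1
      rw [List.map_replicate, List.prod_replicate]
      show (x * (ψ (torus ^ 6) * 1)) ^ 5 = 1
      rw [v5, mul_one]
      exact hxf.1
    · show (List.replicate 3 9 |>.map fun j => x * val ψ u (segVals.getD j (1, false))).prod = 1
      rw [List.map_replicate, List.prod_replicate]
      show (x * (ψ (torus ^ 12) * 1)) ^ 3 = 1
      rw [v5, mul_one, show 12 = 6 * 2 by norm_num, pow_mul]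
      exact hxf.2
    · show x * (ψ (torus ^ 6 * wEl) * 1) * (x * (ψ (wEl * torus ^ 12) * 1) *
        (x * (ψ (torus ^ 6 * wEl) * 1) * (x * (ψ (wEl * torus ^ 12) * 1) * 1))) = 1
      rw [map_mul, map_mul, v5, v5, L.weyl]
      simp only [mul_one]
      have hwf : w * (o ^ 12) = (o ^ 12)⁻¹ * w := by rw [← hwo]; group
      have e2 : o ^ 6 * w * (x * (w * o ^ 12)) = f * y * f ^ 2 := by
        rw [hy, hf, ← pow_mul, hwi, show 6 * 2 = 12 by norm_num]; group
      calc x * (o ^ 6 * w) * (x * (w * o ^ 12) * (x * (o ^ 6 * w) * (x * (w * o ^ 12))))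
          = x * (o ^ 6 * w * (x * (w * o ^ 12))) * (x * (o ^ 6 * w * (x * (w * o ^ 12)))) := by group
        _ = (x * f * y * f ^ 2) ^ 2 := by rw [e2, pow_two (x * f * y * f ^ 2)]; simp only [mul_assoc]
        _ = 1 := hr16

end CfsgLib.J3Type
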