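import Cfsg.Agent.Lib.J3Type.UniquePairs
import Cfsg.Agent.Lib.J3Type.UniqueModel
import Cfsg.Agent.Lib.J3Type.SixteenNormal

/-!
Groups of `J₃` type: the involution `x` of `O₂(C(u))` fixed by `A₄` and its action on `A`.
-/

set_option autoImplicit false
set_option linter.unusedSectionVars false
set_option maxRecDepth 100000

namespace CfsgLib.J3Type

open Cfsg CfsgLargeExtra Equiv CfsgLib.U34
open CfsgLib.HallJankoType (orb mem_cent conj_fix_iff ncard_orb orderOf_conj' IsInv5 conj_sq)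
open Singer (Cyc s)
open SLSixteen (rootFun rootFun_mem rootFun_add rootFun_one rootFun_pow rootFun_shift)
open UniqueModel (rootEl torus mat twist val mul frob)
open Cfsg.Agent.S2286 (wEl)

universe u

local notation "SL" => Matrix.SpecialLinearGroup (Fin 2) C

/-- The action of `x` on the coordinates of `A`. -/
def actX (v : C) : C := v + C.mk' 7 * (v + frob v)

/-- The coordinate `σ`. -/
def σc : C := SLSixteen.σ

theorem model_facts : (torus ^ 5 * rootEl 1) ^ 3 = 1 ∧ torus ^ 5 * rootEl 1 * (torus ^ 5)⁻¹ = rootEl (C.mk' 6) ∧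
    torus ^ 5 * rootEl (C.mk' 6) * (torus ^ 5)⁻¹ = rootEl (C.mk' 7) ∧
    rootEl 1 * rootEl (C.mk' 6) * rootEl (C.mk' 7) = 1 ∧
    (rootEl 1 * mat 1 0 7 1) ^ 5 = 1 ∧ rootEl 1 * mat 1 0 7 1 ≠ 1 ∧ mat 1 0 7 1 * mat 1 0 7 1 = 1 ∧
    twist (mat 1 0 7 1) = mat 1 0 7 1 ∧ (rootEl 1 * wEl * torus ^ 5) ^ 5 = 1 ∧ rootEl 1 * wEl * torus ^ 5 ≠ 1 := by
  decide +kernel

theorem field_F : ∀ v : C, frob v = v → v = 0 ∨ v = 1 ∨ v = C.mk' 6 ∨ v = C.mk' 7 := by decide +kernel

theorem field_trace : ∀ c : C, frob c = c → ∃ v : C, v + frob v = c := by decide +kernel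

theorem pm5_orders : ∀ g : Perm (Fin 5), Perm.sign g = 1 → g * g * (g * g) = 1 → g * g = 1 := by decide +kernel

set_option synthInstance.maxHeartbeats 400000 in
set_option synthInstance.maxSize 2000 in
theorem pm5_four : ∀ σ : Perm (Fin 5), σ * σ = 1 → σ ≠ 1 → Perm.sign σ = 1 → ∀ σ' : Perm (Fin 5), σ' * σ' = 1 →
    σ' ≠ 1 → Perm.sign σ' = 1 → σ * σ' = σ' * σ → σ ≠ σ' → ∀ τ : Perm (Fin 5), Perm.sign τ = 1 → τ * τ = 1 →
      (τ * σ * τ = σ ∨ τ * σ * τ = σ' ∨ τ * σ * τ = σ * σ') →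
      (τ * σ' * τ = σ ∨ τ * σ' * τ = σ' ∨ τ * σ' * τ = σ * σ') → τ = 1 ∨ τ = σ ∨ τ = σ' ∨ τ = σ * σ' := by
  decide +kernel

variable {G : Type u} [Group G] [Finite G] {Qu : Subgroup G} {pu : G → Perm (Fin 5)}
  {A : Subgroup G} {o a u w : G} {ψ : SL →* G}

namespace UniqueModel.Lift

variable (L : UniqueModel.Lift A o a u w ψ)
include L

theorem hui : u⁻¹ = u := inv_eq_of_mul_eq_one_right L.uu

theorem u_comm_iff (g : SL) : u * ψ g = ψ g * u ↔ twist g = g := by
  rw [← conj_fix_iff, L.twist_conj]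
  exact ⟨fun e => L.inj e, fun e => by rw [e]⟩

theorem e_comm : o ^ 5 * u = u * o ^ 5 := by
  refine (conj_fix_iff.mp ?_).symm
  rw [← conj_pow, L.uo, ← pow_mul, show 4 * 5 = 15 + 5 by norm_num, pow_add, L.cyc.pow, one_mul]

theorem e_three : (o ^ 5) ^ 3 = 1 := by rw [← pow_mul, L.cyc.pow]

theorem root_mem (v : C) : ψ (rootEl v) ∈ A := by rw [L.root]; exact rootFun_mem L.cyc v

theorem exists_root {g : G} (hg : g ∈ A) : ∃ v : C, g = ψ (rootEl v) := by
  by_cases h1 : g = 1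
  · exact ⟨0, by rw [h1, rootEl, ofAdd_zero, map_one, map_one]⟩
  obtain ⟨k, -, e⟩ := L.cyc.surj g hg h1
  exact ⟨SLSixteen.σ ^ k, by rw [L.root, rootFun_pow L.cyc L.four, e]⟩

theorem root_inj {v v' : C} (e : ψ (rootEl v) = ψ (rootEl v')) : v = v' := by
  have h1 := congrArg (fun m : SL => (m : Matrix (Fin 2) (Fin 2) C) 0 1) (L.inj e)
  simpa [rootEl, Cfsg.Agent.S2286.coe_xHom] using h1

theorem root_add (v v' : C) : ψ (rootEl (v + v')) = ψ (rootEl v) * ψ (rootEl v') := by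
  rw [← map_mul, rootEl, rootEl, rootEl, ← map_mul]; rfl

theorem root_u (v : C) : u * ψ (rootEl v) * u⁻¹ = ψ (rootEl (frob v)) := by
  rw [L.twist_conj]
  congr 1
  have key : ∀ v : C, twist (rootEl v) = rootEl (frob v) := by decide +kernel
  exact key v

/-- The second element of the four group. -/
theorem root_six : ψ (rootEl (C.mk' 6)) = o ^ 5 * a * (o ^ 5)⁻¹ := by
  rw [← model_facts.2.1, map_mul, map_mul, map_inv, map_pow, L.tor, L.root_one']

theorem root_seven : ψ (rootEl (C.mk' 7)) = o ^ 5 * (o ^ 5 * a * (o ^ 5)⁻¹) * (o ^ 5)⁻¹ := by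
  rw [← model_facts.2.2.1, map_mul, map_mul, map_inv, map_pow, L.tor, L.root_six]

theorem abc : a * (o ^ 5 * a * (o ^ 5)⁻¹) * (o ^ 5 * (o ^ 5 * a * (o ^ 5)⁻¹) * (o ^ 5)⁻¹) = 1 := by
  rw [← L.root_seven, ← L.root_six, ← L.root_one', ← map_mul, ← map_mul, model_facts.2.2.2.1, map_one]

theorem b_comm : o ^ 5 * a * (o ^ 5)⁻¹ * u = u * (o ^ 5 * a * (o ^ 5)⁻¹) := by
  have h6 : frob (C.mk' 6) = C.mk' 6 := by decide +kernel
  rw [← L.root_six]
  have := L.root_u (C.mk' 6)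
  rw [h6] at this
  exact (conj_fix_iff.mp this).symm

variable (hU : JT u Qu pu)
include hU

/-- The pair fixed by the four group, and its uniqueness. -/
theorem exists_x₀ : ∃ x, x ∈ hU.S ∧ a * x = x * a ∧ o ^ 5 * x = x * o ^ 5 ∧
    (∀ q ∈ Qu, q * a = a * q → q * (o ^ 5 * a * (o ^ 5)⁻¹) = o ^ 5 * a * (o ^ 5)⁻¹ * q →
      q = 1 ∨ q = u ∨ q = x ∨ q = x * u) := by
  classical
  set Cu := Subgroup.centralizer ({u} : Set G)
  obtain ⟨π, idx, hidx, hπ⟩ := hU.exists_action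
  set b := o ^ 5 * a * (o ^ 5)⁻¹ with hb
  have haC : a ∈ Cu := mem_cent.mpr L.ua.symm
  have heC : o ^ 5 ∈ Cu := mem_cent.mpr L.e_comm
  have hmC : ψ (mat 1 0 7 1) ∈ Cu := mem_cent.mpr ((L.u_comm_iff _).mpr model_facts.2.2.2.2.2.2.2.1).symm
  set A' : ↥Cu := ⟨a, haC⟩
  set E' : ↥Cu := ⟨o ^ 5, heC⟩
  set M' : ↥Cu := ⟨ψ (mat 1 0 7 1), hmC⟩
  have haa : a * a = 1 := L.cyc.sq a L.cyc.mem
  have hai : a⁻¹ = a := inv_eq_of_mul_eq_one_right haa
  have hσ : π A' * π A' = 1 := by rw [← map_mul, show A' * A' = 1 from Subtype.ext haa, map_one]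
  have hτ : π E' * π E' * π E' = 1 := by
    rw [← map_mul, ← map_mul, show E' * E' * E' = 1 from Subtype.ext (by
      show o ^ 5 * o ^ 5 * o ^ 5 = 1
      rw [← pow_add, ← pow_add, L.cyc.pow]), map_one]
  have hστ : π E' * π A' * (π E' * π A' * (π E' * π A')) = 1 := by
    simp only [← map_mul]
    rw [show E' * A' * (E' * A' * (E' * A')) = 1 from Subtype.ext (by
      show o ^ 5 * a * (o ^ 5 * a * (o ^ 5 * a)) = 1
      have e := congrArg ψ model_facts.1
      rw [map_pow, map_mul, map_pow, L.tor, L.root_one', map_one, pow_succ', pow_two] at e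
      exact e), map_one]
  obtain ⟨⟨i, hiA, hiE⟩, huniq⟩ := five_points _ hσ _ hτ hστ
  obtain ⟨x, hx, rfl⟩ := hidx i
  have hxe : o ^ 5 * x = x * o ^ 5 := by
    refine conj_fix_iff.mp (((hπ x hx x hx E').mp hiE).resolve_right fun e => ?_)
    have hu' : o ^ 5 * u * (o ^ 5)⁻¹ = u := conj_fix_iff.mpr L.e_comm
    have e' : o ^ 5 * x * (o ^ 5)⁻¹ = x * u := e
    have e2 : o ^ 5 * (x * u) * (o ^ 5)⁻¹ = x := by
      rw [show o ^ 5 * (x * u) * (o ^ 5)⁻¹ = o ^ 5 * x * (o ^ 5)⁻¹ * (o ^ 5 * u * (o ^ 5)⁻¹) by group, e', hu',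
        mul_assoc, L.uu, mul_one]
    have e3 : o ^ 5 * (o ^ 5 * (o ^ 5 * x * (o ^ 5)⁻¹) * (o ^ 5)⁻¹) * (o ^ 5)⁻¹ = x * u := by rw [e', e2, e']
    have h3 : (o ^ 5) ^ 3 = 1 := L.e_three
    rw [show o ^ 5 * (o ^ 5 * (o ^ 5 * x * (o ^ 5)⁻¹) * (o ^ 5)⁻¹) * (o ^ 5)⁻¹ =
      (o ^ 5) ^ 3 * x * ((o ^ 5) ^ 3)⁻¹ by simp only [pow_three, mul_inv_rev, mul_assoc], h3, one_mul, inv_one, mul_one] at e3
    exact hU.es.ne (mul_eq_left.mp e3.symm)
  have hxa : a * x = x * a := by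
    refine conj_fix_iff.mp (((hπ x hx x hx A').mp hiA).resolve_right fun e => ?_)
    have e' : a * x * a⁻¹ = x * u := e
    have hei : (o ^ 5)⁻¹ * x * o ^ 5 = x := by rw [mul_assoc, ← hxe, inv_mul_cancel_left]
    have conjE : ∀ g : G, g * x * g⁻¹ = x * u → o ^ 5 * g * (o ^ 5)⁻¹ * x * (o ^ 5 * g * (o ^ 5)⁻¹)⁻¹ = x * u :=
      fun g hg => by
        calc o ^ 5 * g * (o ^ 5)⁻¹ * x * (o ^ 5 * g * (o ^ 5)⁻¹)⁻¹ =
            o ^ 5 * (g * ((o ^ 5)⁻¹ * x * o ^ 5) * g⁻¹) * (o ^ 5)⁻¹ := by group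
          _ = o ^ 5 * x * (o ^ 5)⁻¹ * (o ^ 5 * u * (o ^ 5)⁻¹) := by rw [hei, hg]; group
          _ = x * u := by rw [conj_fix_iff.mpr hxe, conj_fix_iff.mpr L.e_comm]
    have hbx := conjE a e'
    have hcx := conjE _ hbx
    have hflip : ∀ g : G, g * u = u * g → g * x * g⁻¹ = x * u → g * (x * u) * g⁻¹ = x := fun g hg hgx => by
      rw [show g * (x * u) * g⁻¹ = g * x * g⁻¹ * (g * u * g⁻¹) by group, hgx, conj_fix_iff.mpr hg, mul_assoc, L.uu,
        mul_one]
    have habc := L.abc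
    have : x = x * u := by
      calc x = a * b * (o ^ 5 * b * (o ^ 5)⁻¹) * x * (a * b * (o ^ 5 * b * (o ^ 5)⁻¹))⁻¹ := by
            rw [show a * b * (o ^ 5 * b * (o ^ 5)⁻¹) = 1 from habc]; group
        _ = a * (b * (o ^ 5 * b * (o ^ 5)⁻¹ * x * (o ^ 5 * b * (o ^ 5)⁻¹)⁻¹) * b⁻¹) * a⁻¹ := by group
        _ = x * u := by rw [hcx, hflip b L.b_comm hbx, e']
    exact hU.es.ne (mul_eq_left.mp this.symm)
  have hne1 : π A' ≠ 1 := by
    intro e
    have h5 : (A' * M') ^ 5 = 1 := Subtype.ext (by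
      rw [SubgroupClass.coe_pow]
      show (a * ψ (mat 1 0 7 1)) ^ 5 = 1
      rw [← L.root_one', ← map_mul, ← map_pow, model_facts.2.2.2.2.1, map_one])
    have h2 : π (A' * M') * π (A' * M') = 1 := by
      rw [map_mul, e, one_mul, ← map_mul, show M' * M' = 1 from Subtype.ext (by
        show ψ (mat 1 0 7 1) * ψ (mat 1 0 7 1) = 1
        rw [← map_mul, model_facts.2.2.2.2.2.2.1, map_one]), map_one]
    have h1 : π (A' * M') = 1 := by
      have h5' : π (A' * M') ^ 5 = 1 := by rw [← map_pow, h5, map_one]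
      rwa [pow_succ, show 4 = 2 * 2 from rfl, pow_mul, pow_two (π (A' * M')), h2, one_pow, one_mul] at h5'
    refine hU.five_moves (g := a * ψ (mat 1 0 7 1)) (Commute.mul_left L.ua.symm (mem_cent.mp hmC)) ?_ ?_ hx ?_
    · rw [← L.root_one', ← map_mul, ← map_pow, model_facts.2.2.2.2.1, map_one]
    · rw [← L.root_one', ← map_mul]
      exact fun e1 => model_facts.2.2.2.2.2.1 (L.inj (by rw [e1, map_one]))
    · exact (hπ x hx x hx (A' * M')).mp (by rw [h1]; rfl)
  have hBeq : π E' * π A' * (π E')⁻¹ = π ⟨b, mem_cent.mpr L.b_comm⟩ := by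
    rw [← map_inv, ← map_mul, ← map_mul]; rfl
  have hiB : (π E' * π A' * (π E')⁻¹) (idx x) = idx x := by
    rw [Perm.mul_apply, Perm.mul_apply, Perm.inv_eq_iff_eq.mpr hiE.symm, hiA, hiE]
  have huniq' := huniq hne1 (idx x) hiA hiB
  have uniq : ∀ p ∈ hU.S, p * a = a * p → p * b = b * p → p = x ∨ p = x * u := by
    intro p hp hpa hpb
    have e : idx x = idx p := (huniq' (idx p)).1 ⟨(hπ p hp p hp A').mpr (Or.inl (conj_fix_iff.mpr hpa.symm)), by
      rw [hBeq]; exact (hπ p hp p hp _).mpr (Or.inl (conj_fix_iff.mpr hpb.symm))⟩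
    rcases (hπ x hx p hp 1).mp (by rw [map_one]; exact e) with e1 | e1
    · simp only [Subgroup.coe_one, one_mul, inv_one, mul_one] at e1
      exact Or.inl e1.symm
    · simp only [Subgroup.coe_one, one_mul, inv_one, mul_one] at e1
      exact Or.inr (by rw [e1, mul_assoc, L.uu, mul_one])
  refine ⟨x, hx, hxa, hxe, fun q hq hqa hqb => ?_⟩
  by_cases hq1 : q = 1
  · exact Or.inl hq1
  by_cases hqu : q = u
  · exact Or.inr (Or.inl hqu)
  by_cases hqq : q * q = 1
  · exact Or.inr (Or.inr (uniq q ⟨hq, hqq, hq1, hqu⟩ hqa hqb))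
  have hqq' : q * q = u := (hU.es.sq q hq).resolve_left hqq
  have hxb : x * b = b * x :=
    (Commute.mul_right (Commute.mul_right hxe.symm hxa.symm) (Commute.inv_right hxe.symm)).eq
  have hxx : x * x = 1 := hx.2.1
  have hxu : x * u = u * x := hU.es.comm x hx.1
  rcases hU.es.conj_cases hq hx.1 with e | e
  swap
  · exfalso
    have eq1 : q * x = x * u * q := mul_inv_eq_iff_eq_mul.mp e
    have hsq : q * x * (q * x) = 1 := by
      calc q * x * (q * x) = (q * x) * q * x := by group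
        _ = x * u * (q * q) * x := by rw [eq1]; group
        _ = x * (u * u) * x := by rw [hqq']; group
        _ = 1 := by rw [L.uu, mul_one, hxx]
    have hq1' : q * x ≠ 1 := fun e1 => hqq (by
      rw [eq_inv_of_mul_eq_one_left e1, inv_eq_of_mul_eq_one_right hxx, hxx])
    have hqu' : q * x ≠ u := fun e1 => hqq (by
      have : q = u * x := by rw [← e1, mul_assoc, hxx, mul_one]
      rw [this, show u * x * (u * x) = u * (x * u) * x by group, hxu, ← mul_assoc, L.uu, one_mul, hxx])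
    rcases uniq _ ⟨mul_mem hq hx.1, hsq, hq1', hqu'⟩ (Commute.mul_left hqa hxa.symm) (Commute.mul_left hqb hxb) with
      e1 | e1
    · exact hq1 (mul_eq_right.mp e1)
    · refine hqu ?_
      rw [hxu] at e1
      exact mul_right_cancel e1
  have hqx : q * x = x * q := conj_fix_iff.mp e
  -- the other four pairs are permuted transitively by the four group
  have step : ∀ c : G, c * q = q * c → c * u = u * c → ∀ p : G, q * p = p * q →
      q * (c * p * c⁻¹) = c * p * c⁻¹ * q := fun c hcq _ p hp =>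
    (Commute.mul_right (Commute.mul_right hcq.symm hp) (Commute.inv_right hcq.symm)).eq
  have spread : ∀ p ∈ hU.S, idx p ≠ idx x → q * p = p * q → ∀ p' ∈ hU.S, q * p' = p' * q := by
    intro p hp hpne hqp p' hp'
    have fin : ∀ c : ↥Cu, π c (idx p) = idx p' → (c : G) * q = q * (c : G) → q * p' = p' * q := by
      intro c hc hcq
      have hcp := step _ hcq (mem_cent.mp c.2) p hqp
      rcases (hπ p hp p' hp' c).mp hc with e1 | e1
      · rwa [e1] at hcp
      · rw [e1] at hcp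
        have hu' : q * u = u * q := hU.es.comm q hq
        calc q * p' = q * (p' * u) * u := by rw [mul_assoc, mul_assoc, L.uu, mul_one]
          _ = p' * u * q * u := by rw [hcp]
          _ = p' * q * (u * u) := by rw [mul_assoc p' u q, ← hu']; group
          _ = p' * q := by rw [L.uu, mul_one]
    by_cases hpp' : idx p' = idx x
    · rcases (hπ x hx p' hp' 1).mp (by rw [map_one]; exact hpp'.symm) with e1 | e1 <;>
        simp only [Subgroup.coe_one, one_mul, inv_one, mul_one] at e1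
      · rw [← e1]; exact hqx
      · have : p' = x * u := by rw [e1, mul_assoc, L.uu, mul_one]
        rw [this]
        exact (Commute.mul_right (show Commute q x from hqx) (hU.es.comm q hq)).eq
    rcases (huniq' (idx p)).2 (idx p') hpne hpp' with e1 | e1 | e1 | e1
    · exact fin 1 (by rw [map_one]; exact e1.symm) (by simp)
    · exact fin A' e1.symm hqa.symm
    · exact fin ⟨b, mem_cent.mpr L.b_comm⟩ (by rw [← hBeq]; exact e1.symm) hqb.symm
    · exact fin (A' * ⟨b, mem_cent.mpr L.b_comm⟩) (by rw [map_mul, ← hBeq]; exact e1.symm)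
        (Commute.mul_left (show Commute a q from hqa.symm) hqb.symm).eq
  by_cases hall : ∃ p ∈ hU.S, idx p ≠ idx x ∧ q * p = p * q
  · obtain ⟨p, hp, h1, h2⟩ := hall
    rcases hU.central_of_comm_S hq (spread p hp h1 h2) with e1 | e1
    · exact absurd e1 hq1
    · exact absurd e1 hqu
  push Not at hall
  rcases hU.central_of_comm_S (r := q * x) (mul_mem hq hx.1) (fun p hp => by
    by_cases hpx : idx p = idx x
    · rcases (hπ x hx p hp 1).mp (by rw [map_one]; exact hpx.symm) with e1 | e1 <;>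
        simp only [Subgroup.coe_one, one_mul, inv_one, mul_one] at e1
      · rw [← e1]; exact (Commute.mul_left (show Commute q x from hqx) (Commute.refl x)).eq
      · have : p = x * u := by rw [e1, mul_assoc, L.uu, mul_one]
        rw [this]
        exact (Commute.mul_left (Commute.mul_right (show Commute q x from hqx) (hU.es.comm q hq))
          (Commute.mul_right (Commute.refl x) hxu)).eq
    have hqp : q * p * q⁻¹ = p * u :=
      (hU.es.conj_cases hq hp.1).resolve_left fun e1 => hall p hp hpx (conj_fix_iff.mp e1)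
    have hxp : x * p * x⁻¹ = p * u := by
      refine (hU.es.conj_cases hx.1 hp.1).resolve_left fun e1 => ?_
      rcases hU.ea hx hp.1 hp.2.1 (conj_fix_iff.mp e1).symm with e2 | e2 | e2 | e2
      · exact hp.2.2.1 e2
      · exact hp.2.2.2 e2
      · exact hpx (by rw [e2])
      · refine hpx ((hπ x hx p hp 1).mpr (Or.inr ?_) |>.symm.trans (by rw [map_one]; rfl))
        simp only [Subgroup.coe_one, one_mul, inv_one, mul_one]
        rw [e2, ← hxu, mul_assoc, L.uu, mul_one]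
    refine conj_fix_iff.mp ?_
    rw [show q * x * p * (q * x)⁻¹ = q * (x * p * x⁻¹) * q⁻¹ by group, hxp,
      show q * (p * u) * q⁻¹ = q * p * q⁻¹ * (q * u * q⁻¹) by group, hqp, conj_fix_iff.mpr (hU.es.comm q hq),
      mul_assoc, L.uu, mul_one]) with e1 | e1
  · right; right; left; rw [eq_inv_of_mul_eq_one_left e1, inv_eq_of_mul_eq_one_right hxx]
  · right; right; right; rw [hxu, ← e1, mul_assoc, hxx, mul_one]

theorem pu_facts (hu : u ∉ A) : IsInv5 (pu a) ∧ IsInv5 (pu (o ^ 5 * a * (o ^ 5)⁻¹)) ∧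
    pu a ≠ pu (o ^ 5 * a * (o ^ 5)⁻¹) ∧ ∀ g ∈ Qu, g ∈ A → g * u = u * g → g = 1 := by
  set b := o ^ 5 * a * (o ^ 5)⁻¹ with hb
  have hbA : b ∈ A := by rw [hb, ← L.root_six]; exact L.root_mem _
  have haQ : a ∉ Qu := by
    intro hq
    have hS : a ∈ hU.S := ⟨hq, L.cyc.sq a L.cyc.mem, L.cyc.ne, fun e1 => hu (e1 ▸ L.cyc.mem)⟩
    rcases hU.ea hS (hU.nor_mem L.e_comm hq) (L.cyc.sq b hbA) (L.cyc.comm hbA L.cyc.mem) with e1 | e1 | e1 | e1
    · exact L.cyc.ne (conj_eq_one_iff.mp e1)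
    · exact hu (e1 ▸ hbA)
    · have h0 : s o a 5 = s o a 0 := e1.trans L.cyc.s_zero.symm
      exact absurd (L.cyc.inj 5 0 (by norm_num) (by norm_num) h0) (by norm_num)
    · refine hu ?_
      have := mul_mem hbA L.cyc.mem
      rwa [hb, e1, mul_assoc, L.cyc.sq a L.cyc.mem, mul_one] at this
  have conjQ : ∀ g : G, o ^ 5 * g * (o ^ 5)⁻¹ ∈ Qu → g ∈ Qu := fun g hg => (hU.nor_mem_iff L.e_comm).mp hg
  have hbQ : b ∉ Qu := fun hq => haQ (conjQ a hq)
  have hcQ : o ^ 5 * b * (o ^ 5)⁻¹ ∉ Qu := fun hq => hbQ (conjQ b hq)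
  have haz : a * u = u * a := L.ua.symm
  have hbz : b * u = u * b := L.b_comm
  refine ⟨hU.pm_T ⟨haz, L.cyc.sq a L.cyc.mem, haQ⟩, hU.pm_T ⟨hbz, L.cyc.sq b hbA, hbQ⟩, fun e1 => ?_, fun g hg hgA hgu => ?_⟩
  · have hab : a * b ∈ Qu := by
      refine (hU.pm_ker _ (Commute.mul_left haz hbz)).mp ?_
      rw [hU.pm_mul _ _ haz hbz, ← e1, ← hU.pm_mul _ _ haz haz, L.cyc.sq a L.cyc.mem, hU.pm_one]
    refine hcQ ?_
    have habc := L.abc
    rw [eq_inv_of_mul_eq_one_right habc]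
    exact inv_mem hab
  · obtain ⟨v, rfl⟩ := L.exists_root hgA
    have hv : frob v = v := L.root_inj (by rw [← L.root_u v, conj_fix_iff.mpr hgu.symm])
    rcases field_F v hv with rfl | rfl | rfl | rfl
    · rw [rootEl, ofAdd_zero, map_one, map_one]
    · rw [L.root_one'] at hg; exact absurd hg haQ
    · rw [L.root_six] at hg; exact absurd hg hbQ
    · rw [L.root_seven] at hg; exact absurd hg hcQ

end UniqueModel.Lift

end CfsgLib.J3Type
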